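import Cfsg.Agent.Helper46.Amalgam
import Cfsg.Agent.Lib.Cores

set_option autoImplicit false

namespace Cfsg.Agent.Helper46

open Cfsg

section CharP

variable {G : Type*} [Group G] {p : ℕ}

theorem conj_mem_centralizer_of_mem_normalizer {R : Subgroup G} {g n : G}
    (hg : g ∈ Subgroup.normalizer (R : Set G)) (hn : n ∈ Subgroup.centralizer (R : Set G)) :
    g * n * g⁻¹ ∈ Subgroup.centralizer (R : Set G) := by
  rw [Subgroup.mem_centralizer_iff] at hn ⊢
  intro r hr
  have hr' : g⁻¹ * r * g ∈ R := by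
    have := (Subgroup.mem_normalizer_iff.1 (inv_mem hg) r).1 hr
    simpa using this
  have := hn _ hr'
  calc r * (g * n * g⁻¹) = g * ((g⁻¹ * r * g) * n) * g⁻¹ := by group
    _ = g * (n * (g⁻¹ * r * g)) * g⁻¹ := by rw [this]
    _ = g * n * g⁻¹ * r := by group

/-- If `x` commutes with `c = q⁻¹ (x q x⁻¹)` then `xⁿ q x⁻ⁿ = q cⁿ`. -/
theorem stab_pow {x q : G} (hc : Commute x (q⁻¹ * (x * q * x⁻¹))) (n : ℕ) :
    x ^ n * q * (x ^ n)⁻¹ = q * (q⁻¹ * (x * q * x⁻¹)) ^ n := by
  induction n with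
  | zero => simp
  | succ k ih =>
    have hxq : x * q * x⁻¹ = q * (q⁻¹ * (x * q * x⁻¹)) := by group
    have hck : x * (q⁻¹ * (x * q * x⁻¹)) ^ k * x⁻¹ = (q⁻¹ * (x * q * x⁻¹)) ^ k := by
      rw [(hc.pow_right k).eq, mul_inv_cancel_right]
    calc x ^ (k+1) * q * (x ^ (k+1))⁻¹ = x * (x ^ k * q * (x ^ k)⁻¹) * x⁻¹ := by
          rw [pow_succ']; group
      _ = x * (q * (q⁻¹ * (x * q * x⁻¹)) ^ k) * x⁻¹ := by rw [ih]
      _ = (x * q * x⁻¹) * (x * (q⁻¹ * (x * q * x⁻¹)) ^ k * x⁻¹) := by group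
      _ = q * (q⁻¹ * (x * q * x⁻¹)) ^ (k+1) := by
          rw [hck, pow_succ', ← mul_assoc q, ← hxq]

theorem eq_one_of_mem_pgroup_of_coprime [Fact p.Prime] {R : Subgroup G} (hR : IsPGroup p R) {x : G}
    (hx : x ∈ R) (hxp : (orderOf x).Coprime p) : x = 1 := by
  obtain ⟨k, hk⟩ := (IsPGroup.iff_orderOf.1 hR) ⟨x, hx⟩
  rw [Subgroup.orderOf_mk] at hk
  rw [hk] at hxp
  rcases Nat.eq_zero_or_pos k with rfl | hk0
  · rw [pow_zero] at hk; exact orderOf_eq_one_iff.1 hk
  · exfalso
    have := Nat.Coprime.eq_one_of_dvd hxp.symm (dvd_pow_self p hk0.ne')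
    exact (Fact.out : p.Prime).one_lt.ne' this

/-- A `p'`-element stabilizing the chain `q R ⊇ R ⊇ 1` (with `R` a `p`-group) centralizes `q`. -/
theorem centralizes_of_stab [Fact p.Prime] {x q : G} {R : Subgroup G} (hR : IsPGroup p R)
    (hx : (orderOf x).Coprime p) (hc : q⁻¹ * (x * q * x⁻¹) ∈ R)
    (hcomm : x ∈ Subgroup.centralizer (R : Set G)) : x * q * x⁻¹ = q := by
  have hcm : Commute x (q⁻¹ * (x * q * x⁻¹)) :=
    ((Subgroup.mem_centralizer_iff.1 hcomm) _ hc).symm
  have h1 := stab_pow hcm (orderOf x)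
  rw [pow_orderOf_eq_one, one_mul, inv_one, mul_one] at h1
  have h2 : (q⁻¹ * (x * q * x⁻¹)) ^ orderOf x = 1 := by
    have := congrArg (fun t => q⁻¹ * t) h1
    simpa using this.symm
  have h3 : (orderOf (q⁻¹ * (x * q * x⁻¹))).Coprime p :=
    Nat.Coprime.coprime_dvd_left (orderOf_dvd_of_pow_eq_one h2) hx
  have h4 := eq_one_of_mem_pgroup_of_coprime hR hc h3
  have := congrArg (fun t => q * t) h4
  simpa using this

/-- A subgroup of `H` normalized by `H` without nontrivial `p'`-elements lies in `O_p(H)`. -/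
theorem le_pCoreOf_of_no_p'_elements [Fact p.Prime] {C H : Subgroup G} [Finite H] (hCH : C ≤ H)
    (hnorm : H ≤ Subgroup.normalizer (C : Set G))
    (htriv : ∀ x ∈ C, (orderOf x).Coprime p → x = 1) : C ≤ pCoreOf p H := by
  apply le_pCoreOf hCH ?_ hnorm
  haveI : Finite C := finite_of_le hCH
  have hcard : Nat.card C = p ^ (Nat.card C).primeFactorsList.length := by
    apply Nat.eq_prime_pow_of_unique_prime_dvd Nat.card_pos.ne'
    intro d hd hdvd
    by_contra hne
    haveI := Fact.mk hd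
    obtain ⟨x, hx⟩ := exists_prime_orderOf_dvd_card' d hdvd
    have h1 : (x : G) = 1 := htriv x x.2 (by
      rw [Subgroup.orderOf_coe, hx]
      exact (Nat.coprime_primes hd Fact.out).2 hne)
    have h2 : x = 1 := Subtype.ext h1
    rw [h2, orderOf_one] at hx
    exact hd.one_lt.ne' hx.symm
  exact IsPGroup.of_card hcard

/-- If `C_G(O_p(G)) ≤ O_p(G)` and `H ⊴ G` then `C_H(O_p(H)) ≤ O_p(H)`. -/
theorem charp_inherit_normal [Finite G] [Fact p.Prime]
    (hchar : Subgroup.centralizer (pCore p G : Set G) ≤ pCore p G) (H : Subgroup G)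
    (hH : H.Normal) :
    H ⊓ Subgroup.centralizer (pCoreOf p H : Set G) ≤ pCoreOf p H := by
  have hQp : IsPGroup p (pCore p G) := pCore_isPGroup
  have hQn : (pCore p G).Normal := inferInstance
  apply le_pCoreOf_of_no_p'_elements inf_le_left
  · apply le_normalizer_of_conj_mem
    intro g hg n hn
    rw [Subgroup.mem_inf] at hn ⊢
    exact ⟨hH.conj_mem n hn.1 g,
      conj_mem_centralizer_of_mem_normalizer (pCoreOf_normalized H hg) hn.2⟩
  · intro x hx hxp
    rw [Subgroup.mem_inf] at hx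
    have h1 : pCore p G ⊓ H ≤ pCoreOf p H := by
      apply le_pCoreOf inf_le_right (hQp.to_le inf_le_left)
      haveI : (pCore p G ⊓ H).Normal := inferInstance
      exact Subgroup.le_normalizer_of_normal
    have hxQ : x ∈ Subgroup.centralizer (pCore p G : Set G) := by
      rw [Subgroup.mem_centralizer_iff]
      intro q hq
      have hcR : q⁻¹ * (x * q * x⁻¹) ∈ pCoreOf p H := by
        apply h1
        rw [Subgroup.mem_inf]
        constructor
        · exact mul_mem (inv_mem hq) (hQn.conj_mem q hq x)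
        · have : q⁻¹ * (x * q * x⁻¹) = (q⁻¹ * x * q⁻¹⁻¹) * x⁻¹ := by group
          rw [this]
          exact mul_mem (hH.conj_mem x hx.1 q⁻¹) (inv_mem hx.1)
      have h2 := centralizes_of_stab (pCoreOf_isPGroup H) hxp hcR hx.2
      have := congrArg (fun t => t * x) h2
      simpa using this.symm
    exact eq_one_of_mem_pgroup_of_coprime hQp (hchar hxQ) hxp

/-- If `C_G(O_p(G)) ≤ O_p(G)` and `O^p(H) ⊴ G` then `C_H(O_p(H)) ≤ O_p(H)`. -/
theorem charp_inherit_residual [Finite G] [Fact p.Prime]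
    (hchar : Subgroup.centralizer (pCore p G : Set G) ≤ pCore p G) (H : Subgroup G)
    (hK : ((pResidual p ↥H).map H.subtype).Normal) :
    H ⊓ Subgroup.centralizer (pCoreOf p H : Set G) ≤ pCoreOf p H := by
  have hKH : (pResidual p ↥H).map H.subtype ≤ H := Subgroup.map_subtype_le _
  have hA := charp_inherit_normal hchar _ hK
  have hKcore : pCoreOf p ((pResidual p ↥H).map H.subtype) ≤ pCoreOf p H := by
    apply le_pCoreOf ((pCoreOf_le _).trans hKH) (pCoreOf_isPGroup _)
    haveI : (pCoreOf p ((pResidual p ↥H).map H.subtype)).Normal := by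
      unfold pCoreOf
      haveI := Cfsg.Agent.Lib.pCore_characteristic (G := ↥((pResidual p ↥H).map H.subtype)) p
      haveI := hK
      infer_instance
    exact Subgroup.le_normalizer_of_normal
  apply le_pCoreOf_of_no_p'_elements inf_le_left
  · apply le_normalizer_of_conj_mem
    intro g hg n hn
    rw [Subgroup.mem_inf] at hn ⊢
    exact ⟨mul_mem (mul_mem hg hn.1) (inv_mem hg),
      conj_mem_centralizer_of_mem_normalizer (pCoreOf_normalized H hg) hn.2⟩
  · intro x hx hxp
    rw [Subgroup.mem_inf] at hx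
    have hxK : x ∈ (pResidual p ↥H).map H.subtype :=
      ⟨⟨x, hx.1⟩, Cfsg.Agent.Lib.mem_pResidual_of_coprime (by rwa [Subgroup.orderOf_mk]), rfl⟩
    have hx2 : x ∈ (pResidual p ↥H).map H.subtype ⊓
        Subgroup.centralizer (pCoreOf p ((pResidual p ↥H).map H.subtype) : Set G) :=
      Subgroup.mem_inf.2 ⟨hxK, Subgroup.centralizer_le hKcore hx.2⟩
    exact eq_one_of_mem_pgroup_of_coprime (pCoreOf_isPGroup _) (hA hx2) hxp

/-- Transfer from the ambient form to the subtype form. -/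
theorem centralizer_pCore_le_of_ambient {H : Subgroup G}
    (h : H ⊓ Subgroup.centralizer (pCoreOf p H : Set G) ≤ pCoreOf p H) :
    Subgroup.centralizer (pCore p ↥H : Set ↥H) ≤ pCore p ↥H := by
  intro x hx
  have hx' : (x : G) ∈ H ⊓ Subgroup.centralizer (pCoreOf p H : Set G) := by
    rw [Subgroup.mem_inf]
    refine ⟨x.2, ?_⟩
    rw [Subgroup.mem_centralizer_iff]
    rintro _ ⟨y, hy, rfl⟩
    have := (Subgroup.mem_centralizer_iff.1 hx) y hy
    exact congrArg Subtype.val this
  obtain ⟨y, hy, hyx⟩ := h hx'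
  have : y = x := Subtype.ext hyx
  rwa [← this]

end CharP

end Cfsg.Agent.Helper46
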