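import Cfsg.Prelude.Def_Amalgam

set_option autoImplicit false

namespace Cfsg.Agent.Helper46

open Cfsg

section PCore

variable {G : Type*} [Group G] {p : ℕ}

/-- A normal `p`-subgroup lies in every Sylow `p`-subgroup. -/
theorem normal_pgroup_le_sylow [Fact p.Prime] [Finite (Sylow p G)] {N : Subgroup G} (hN : N.Normal)
    (hp : IsPGroup p N) (P : Sylow p G) : N ≤ (P : Subgroup G) := by
  obtain ⟨Q, hQ⟩ := hp.exists_le_sylow
  obtain ⟨g, rfl⟩ := MulAction.exists_smul_eq G Q P
  intro n hn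
  rw [Sylow.coe_subgroup_smul, Subgroup.mem_pointwise_smul_iff_inv_smul_mem]
  apply hQ
  have := hN.conj_mem n hn g⁻¹
  simpa [MulAut.smul_def, MulAut.conj_apply] using this

theorem pCore_le_sylow [Fact p.Prime] [Finite (Sylow p G)] (P : Sylow p G) :
    pCore p G ≤ (P : Subgroup G) := by
  unfold pCore
  apply sSup_le
  rintro N ⟨hN, hp⟩
  exact normal_pgroup_le_sylow hN hp P

theorem pCore_isPGroup [Fact p.Prime] [Finite (Sylow p G)] : IsPGroup p (pCore p G) := by
  obtain ⟨P⟩ : Nonempty (Sylow p G) := inferInstance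
  exact P.isPGroup'.to_le (pCore_le_sylow P)

theorem le_pCore {N : Subgroup G} (hN : N.Normal) (hp : IsPGroup p N) : N ≤ pCore p G :=
  le_sSup ⟨hN, hp⟩

theorem pCore_map_equiv [Fact p.Prime] {A B : Type*} [Group A] [Group B] [Finite A] (e : A ≃* B) :
    (pCore p A).map e.toMonoidHom = pCore p B := by
  have : Finite B := Finite.of_equiv A e.toEquiv
  apply le_antisymm
  · apply le_pCore
    · exact Subgroup.Normal.map inferInstance _ e.surjective
    · exact (pCore_isPGroup (G := A)).map _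
  · have h : (pCore p B).map e.symm.toMonoidHom ≤ pCore p A := by
      apply le_pCore
      · exact Subgroup.Normal.map inferInstance _ e.symm.surjective
      · exact (pCore_isPGroup (G := B)).map _
    intro b hb
    refine ⟨e.symm b, h ⟨b, hb, rfl⟩, ?_⟩
    simp

end PCore

section SylIn

variable {X : Type*} [Group X] {p : ℕ}

/-- `P` is (the image in `X` of) a Sylow `p`-subgroup of the subgroup `H`. -/
def IsSylIn (p : ℕ) (P H : Subgroup X) : Prop :=
  ∃ S : Sylow p ↥H, (S : Subgroup ↥H).map H.subtype = P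

theorem IsSylIn.le {P H : Subgroup X} (h : IsSylIn p P H) : P ≤ H := by
  obtain ⟨S, rfl⟩ := h
  exact Subgroup.map_subtype_le _

theorem IsSylIn.isPGroup {P H : Subgroup X} (h : IsSylIn p P H) : IsPGroup p P := by
  obtain ⟨S, rfl⟩ := h
  exact S.isPGroup'.map _

theorem IsSylIn.card [Fact p.Prime] {P H : Subgroup X} [Finite H] (h : IsSylIn p P H) :
    Nat.card P = p ^ (Nat.card H).factorization p := by
  obtain ⟨S, rfl⟩ := h
  rw [Subgroup.card_map_of_injective H.subtype_injective]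
  exact S.card_eq_multiplicity

theorem isSylIn_of_card [Fact p.Prime] {P H : Subgroup X} [Finite H] (hP : P ≤ H)
    (hc : Nat.card P = p ^ (Nat.card H).factorization p) : IsSylIn p P H := by
  have hc' : Nat.card (P.subgroupOf H) = p ^ (Nat.card H).factorization p := by
    rw [← hc, ← Subgroup.card_map_of_injective H.subtype_injective, Subgroup.map_subgroupOf_eq_of_le hP]
  refine ⟨Sylow.ofCard (P.subgroupOf H) hc', ?_⟩
  show (P.subgroupOf H).map H.subtype = P
  exact Subgroup.map_subgroupOf_eq_of_le hP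

theorem IsSylIn.conj [Fact p.Prime] {P H : Subgroup X} [Finite H] (h : IsSylIn p P H) {g : X}
    (hg : g ∈ H) : IsSylIn p (P.map (MulAut.conj g).toMonoidHom) H := by
  apply isSylIn_of_card
  · rintro _ ⟨x, hx, rfl⟩
    simp only [MulEquiv.coe_toMonoidHom, MulAut.conj_apply]
    exact mul_mem (mul_mem hg (h.le hx)) (inv_mem hg)
  · rw [Subgroup.card_map_of_injective (MulAut.conj g).injective]
    exact h.card

theorem IsSylIn.exists_conj [Fact p.Prime] {P P' H : Subgroup X} [Finite H] (h : IsSylIn p P H)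
    (h' : IsSylIn p P' H) : ∃ g ∈ H, P' = P.map (MulAut.conj g).toMonoidHom := by
  obtain ⟨S, rfl⟩ := h
  obtain ⟨S', rfl⟩ := h'
  obtain ⟨g, rfl⟩ := MulAction.exists_smul_eq H S S'
  refine ⟨g, g.2, ?_⟩
  ext x
  constructor
  · rintro ⟨y, hy, rfl⟩
    rw [SetLike.mem_coe, Sylow.coe_subgroup_smul, Subgroup.mem_pointwise_smul_iff_inv_smul_mem] at hy
    refine ⟨(g : X)⁻¹ * y * g, ⟨g⁻¹ * y * g, ?_, by simp⟩, ?_⟩
    · simp only [MulAut.smul_def, MulAut.conj_apply, map_inv, MulAut.inv_apply, MulAut.conj_symm_apply] at hy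
      exact hy
    · simp [MulAut.conj_apply, mul_assoc]
  · rintro ⟨_, ⟨y, hy, rfl⟩, rfl⟩
    refine ⟨g * y * g⁻¹, ?_, by simp [MulAut.conj_apply]⟩
    rw [SetLike.mem_coe, Sylow.coe_subgroup_smul, Subgroup.mem_pointwise_smul_iff_inv_smul_mem]
    have hy' : y ∈ (S : Subgroup H) := hy
    simpa [MulAut.smul_def, MulAut.conj_apply, mul_assoc] using hy'

theorem IsSylIn.exists_of_pgroup {Q H : Subgroup X} (hQ : Q ≤ H) (hp : IsPGroup p Q) :
    ∃ P, IsSylIn p P H ∧ Q ≤ P := by
  have hp' : IsPGroup p (Q.subgroupOf H) := hp.comap_of_injective _ H.subtype_injective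
  obtain ⟨S, hS⟩ := hp'.exists_le_sylow
  refine ⟨_, ⟨S, rfl⟩, ?_⟩
  intro q hq
  exact ⟨⟨q, hQ hq⟩, hS (by simpa [Subgroup.mem_subgroupOf] using hq), rfl⟩

/-- A `p`-subgroup of `H` normalized by `H` lies in every Sylow `p`-subgroup of `H`. -/
theorem IsSylIn.normal_le [Fact p.Prime] {N P H : Subgroup X} [Finite H] (h : IsSylIn p P H)
    (hN : N ≤ H) (hp : IsPGroup p N) (hnorm : H ≤ Subgroup.normalizer (N : Set X)) : N ≤ P := by
  obtain ⟨P', hP', hNP'⟩ := IsSylIn.exists_of_pgroup hN hp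
  obtain ⟨g, hg, rfl⟩ := hP'.exists_conj h
  intro n hn
  have hg' : g⁻¹ ∈ Subgroup.normalizer (N : Set X) := inv_mem (hnorm hg)
  have := (Subgroup.mem_normalizer_iff.1 hg' n).1 hn
  refine ⟨g⁻¹ * n * g⁻¹⁻¹, hNP' this, ?_⟩
  simp [MulAut.conj_apply, mul_assoc]

theorem IsSylIn.of_le [Fact p.Prime] {P K H : Subgroup X} [Finite H] (hKH : K ≤ H)
    (hv : (Nat.card K).factorization p = (Nat.card H).factorization p) (h : IsSylIn p P K) :
    IsSylIn p P H := by
  have : Finite K := Finite.of_injective (Subgroup.inclusion hKH) (Subgroup.inclusion_injective hKH)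
  apply isSylIn_of_card (h.le.trans hKH)
  rw [← hv]; exact h.card

/-- Frattini argument: if `R ≤ H` is normalized by `H` and `P` is Sylow in `R`, then every element of
`H` is a product of an element of `R` and an element of `H` normalizing `P`. -/
theorem IsSylIn.frattini [Fact p.Prime] {P R H : Subgroup X} [Finite R] (h : IsSylIn p P R)
    (hRH : R ≤ H) (hnorm : H ≤ Subgroup.normalizer (R : Set X)) {g : X} (hg : g ∈ H) :
    ∃ r ∈ R, ∃ n ∈ H ⊓ Subgroup.normalizer (P : Set X), g = r * n := by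
  have hconj : IsSylIn p (P.map (MulAut.conj g).toMonoidHom) R := by
    apply isSylIn_of_card
    · rintro _ ⟨x, hx, rfl⟩
      simp only [MulEquiv.coe_toMonoidHom, MulAut.conj_apply]
      exact (Subgroup.mem_normalizer_iff.1 (hnorm hg) x).1 (h.le hx)
    · rw [Subgroup.card_map_of_injective (MulAut.conj g).injective]
      exact h.card
  obtain ⟨r, hr, hr'⟩ := h.exists_conj hconj
  refine ⟨r, hr, r⁻¹ * g, ?_, by group⟩
  rw [Subgroup.mem_inf]
  refine ⟨mul_mem (inv_mem (hRH hr)) hg, ?_⟩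
  -- r⁻¹ g normalizes P
  have key : ∀ x, x ∈ P → (r⁻¹ * g) * x * (r⁻¹ * g)⁻¹ ∈ P := by
    intro x hx
    have h1 : g * x * g⁻¹ ∈ P.map (MulAut.conj g).toMonoidHom := ⟨x, hx, by simp [MulAut.conj_apply]⟩
    rw [hr'] at h1
    obtain ⟨y, hy, hy'⟩ := h1
    simp only [MulEquiv.coe_toMonoidHom, MulAut.conj_apply] at hy'
    have : (r⁻¹ * g) * x * (r⁻¹ * g)⁻¹ = y := by
      have : r⁻¹ * (g * x * g⁻¹) * r = y := by rw [← hy']; group
      rw [← this]; group
    rw [this]; exact hy
  -- a map of a finite group into itself that is injective is surjective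
  have : Finite P := Finite.of_injective (Subgroup.inclusion h.le) (Subgroup.inclusion_injective h.le)
  rw [Subgroup.mem_normalizer_iff]
  intro x
  refine ⟨key x, ?_⟩
  intro hx
  -- use bijectivity of conjugation on the finite set P
  let f : P → P := fun y => ⟨(r⁻¹ * g) * y * (r⁻¹ * g)⁻¹, key y y.2⟩
  have hf : Function.Injective f := by
    intro a b hab
    have := congrArg Subtype.val hab
    simp only [f] at this
    ext
    simpa using this
  obtain ⟨y, hy⟩ := (Finite.injective_iff_surjective.1 hf) ⟨_, hx⟩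
  have := congrArg Subtype.val hy
  simp only [f] at this
  have hxy : x = y := by
    have h2 : (r⁻¹ * g) * y * (r⁻¹ * g)⁻¹ = (r⁻¹ * g) * x * (r⁻¹ * g)⁻¹ := this
    have := mul_left_cancel (mul_right_cancel h2)
    exact this.symm
  rw [hxy]; exact y.2

end SylIn

section PCoreOf

variable {X : Type*} [Group X] {p : ℕ}

theorem pCoreOf_le (H : Subgroup X) : pCoreOf p H ≤ H := Subgroup.map_subtype_le _

theorem pCoreOf_isPGroup [Fact p.Prime] (H : Subgroup X) [Finite H] : IsPGroup p (pCoreOf p H) :=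
  (pCore_isPGroup (G := H)).map _

theorem pCoreOf_normalized (H : Subgroup X) : H ≤ Subgroup.normalizer (pCoreOf p H : Set X) := by
  intro h hh
  have hn : (pCore p H).Normal := inferInstance
  have key : ∀ g : X, g ∈ H → ∀ x, x ∈ pCoreOf p H → g * x * g⁻¹ ∈ pCoreOf p H := by
    rintro g hg _ ⟨x, hx, rfl⟩
    exact ⟨⟨g, hg⟩ * x * ⟨g, hg⟩⁻¹, hn.conj_mem x hx ⟨g, hg⟩, by simp⟩
  rw [Subgroup.mem_normalizer_iff]
  intro x
  refine ⟨key h hh x, fun hx => ?_⟩
  have := key h⁻¹ (inv_mem hh) _ hx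
  simpa [mul_assoc] using this

theorem le_pCoreOf {N H : Subgroup X} (hN : N ≤ H) (hp : IsPGroup p N)
    (hnorm : H ≤ Subgroup.normalizer (N : Set X)) : N ≤ pCoreOf p H := by
  have h1 : (N.subgroupOf H).Normal := by
    constructor
    intro n hn g
    rw [Subgroup.mem_subgroupOf] at hn ⊢
    have := (Subgroup.mem_normalizer_iff.1 (hnorm g.2) n).1 hn
    simpa using this
  have h2 : IsPGroup p (N.subgroupOf H) := hp.comap_of_injective _ H.subtype_injective
  intro n hn
  exact ⟨⟨n, hN hn⟩, le_pCore h1 h2 (by simpa [Subgroup.mem_subgroupOf] using hn), rfl⟩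

theorem IsSylIn.pCoreOf_le [Fact p.Prime] {P H : Subgroup X} [Finite H] (h : IsSylIn p P H) :
    pCoreOf p H ≤ P :=
  h.normal_le (Cfsg.Agent.Helper46.pCoreOf_le H) (pCoreOf_isPGroup H) (pCoreOf_normalized H)

end PCoreOf

end Cfsg.Agent.Helper46
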