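import Mathlib

set_option autoImplicit false

/-!
# Dickson project: basic 2×2 matrix computations in `SL₂(E)`
-/

namespace Cfsg.Agent.Helper46.Dk

open Matrix

variable {E : Type*} [Field E]

local notation "SL2" => Matrix.SpecialLinearGroup (Fin 2) E

theorem det' (g : SL2) : g.1 0 0 * g.1 1 1 - g.1 0 1 * g.1 1 0 = 1 := by
  have := g.2
  rwa [Matrix.det_fin_two] at this

theorem ext' {g h : SL2} (h00 : g.1 0 0 = h.1 0 0) (h01 : g.1 0 1 = h.1 0 1)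
    (h10 : g.1 1 0 = h.1 1 0) (h11 : g.1 1 1 = h.1 1 1) : g = h := by
  apply Subtype.ext
  ext i j
  fin_cases i <;> fin_cases j <;> assumption

theorem mul_00 (g h : SL2) : (g * h).1 0 0 = g.1 0 0 * h.1 0 0 + g.1 0 1 * h.1 1 0 := by
  show (g.1 * h.1) 0 0 = _
  rw [Matrix.mul_apply, Fin.sum_univ_two]
theorem mul_01 (g h : SL2) : (g * h).1 0 1 = g.1 0 0 * h.1 0 1 + g.1 0 1 * h.1 1 1 := by
  show (g.1 * h.1) 0 1 = _
  rw [Matrix.mul_apply, Fin.sum_univ_two]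
theorem mul_10 (g h : SL2) : (g * h).1 1 0 = g.1 1 0 * h.1 0 0 + g.1 1 1 * h.1 1 0 := by
  show (g.1 * h.1) 1 0 = _
  rw [Matrix.mul_apply, Fin.sum_univ_two]
theorem mul_11 (g h : SL2) : (g * h).1 1 1 = g.1 1 0 * h.1 0 1 + g.1 1 1 * h.1 1 1 := by
  show (g.1 * h.1) 1 1 = _
  rw [Matrix.mul_apply, Fin.sum_univ_two]

theorem inv_00 (g : SL2) : (g⁻¹).1 0 0 = g.1 1 1 := by
  rw [Matrix.SpecialLinearGroup.coe_inv, Matrix.adjugate_fin_two]; rfl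
theorem inv_01 (g : SL2) : (g⁻¹).1 0 1 = - g.1 0 1 := by
  rw [Matrix.SpecialLinearGroup.coe_inv, Matrix.adjugate_fin_two]; rfl
theorem inv_10 (g : SL2) : (g⁻¹).1 1 0 = - g.1 1 0 := by
  rw [Matrix.SpecialLinearGroup.coe_inv, Matrix.adjugate_fin_two]; rfl
theorem inv_11 (g : SL2) : (g⁻¹).1 1 1 = g.1 0 0 := by
  rw [Matrix.SpecialLinearGroup.coe_inv, Matrix.adjugate_fin_two]; rfl

theorem one_00 : (1 : SL2).1 0 0 = 1 := by simp
theorem one_01 : (1 : SL2).1 0 1 = 0 := by simp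
theorem one_10 : (1 : SL2).1 1 0 = 0 := by simp
theorem one_11 : (1 : SL2).1 1 1 = 1 := by simp

/-- Build an element of `SL₂` from its entries. -/
def mk4 (a b c d : E) (h : a * d - b * c = 1) : SL2 :=
  ⟨!![a, b; c, d], by rw [Matrix.det_fin_two_of]; exact h⟩

@[simp] theorem mk4_00 (a b c d : E) (h : a * d - b * c = 1) : (mk4 a b c d h).1 0 0 = a := rfl
@[simp] theorem mk4_01 (a b c d : E) (h : a * d - b * c = 1) : (mk4 a b c d h).1 0 1 = b := rfl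
@[simp] theorem mk4_10 (a b c d : E) (h : a * d - b * c = 1) : (mk4 a b c d h).1 1 0 = c := rfl
@[simp] theorem mk4_11 (a b c d : E) (h : a * d - b * c = 1) : (mk4 a b c d h).1 1 1 = d := rfl

/-- upper unitriangular -/
def uU (a : E) : SL2 := mk4 1 a 0 1 (by ring)
/-- lower unitriangular -/
def vV (b : E) : SL2 := mk4 1 0 b 1 (by ring)
/-- diagonal -/
def dD (c : Eˣ) : SL2 := mk4 (c : E) 0 0 ((c⁻¹ : Eˣ) : E) (by simp)
/-- the Weyl element -/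
def wW : SL2 := mk4 0 1 (-1) 0 (by ring)

/-- entries of a conjugate `g x g⁻¹` -/
theorem conj_00 (g x : SL2) : (g * x * g⁻¹).1 0 0 =
    (g.1 0 0 * x.1 0 0 + g.1 0 1 * x.1 1 0) * g.1 1 1 - (g.1 0 0 * x.1 0 1 + g.1 0 1 * x.1 1 1) * g.1 1 0 := by
  rw [mul_00, mul_00, mul_01, inv_00, inv_10]; ring
theorem conj_01 (g x : SL2) : (g * x * g⁻¹).1 0 1 =
    -(g.1 0 0 * x.1 0 0 + g.1 0 1 * x.1 1 0) * g.1 0 1 + (g.1 0 0 * x.1 0 1 + g.1 0 1 * x.1 1 1) * g.1 0 0 := by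
  rw [mul_01, mul_00, mul_01, inv_01, inv_11]; ring
theorem conj_10 (g x : SL2) : (g * x * g⁻¹).1 1 0 =
    (g.1 1 0 * x.1 0 0 + g.1 1 1 * x.1 1 0) * g.1 1 1 - (g.1 1 0 * x.1 0 1 + g.1 1 1 * x.1 1 1) * g.1 1 0 := by
  rw [mul_10, mul_10, mul_11, inv_00, inv_10]; ring
theorem conj_11 (g x : SL2) : (g * x * g⁻¹).1 1 1 =
    -(g.1 1 0 * x.1 0 0 + g.1 1 1 * x.1 1 0) * g.1 0 1 + (g.1 1 0 * x.1 0 1 + g.1 1 1 * x.1 1 1) * g.1 0 0 := by
  rw [mul_11, mul_10, mul_11, inv_01, inv_11]; ring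

/-- Borel subgroup: upper triangular matrices. -/
def BB : Subgroup SL2 where
  carrier := {g | g.1 1 0 = 0}
  mul_mem' := by
    intro a b ha hb
    simp only [Set.mem_ofPred_eq] at *
    rw [mul_10, ha, hb]; ring
  one_mem' := by simp
  inv_mem' := by
    intro a ha
    simp only [Set.mem_ofPred_eq] at *
    rw [inv_10, ha]; ring

theorem mem_BB (g : SL2) : g ∈ (BB : Subgroup SL2) ↔ g.1 1 0 = 0 := Iff.rfl

/-- `±U`: upper triangular with equal diagonal entries. -/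
def PU : Subgroup SL2 where
  carrier := {g | g.1 1 0 = 0 ∧ g.1 0 0 = g.1 1 1}
  mul_mem' := by
    rintro a b ⟨ha, ha'⟩ ⟨hb, hb'⟩
    simp only [Set.mem_ofPred_eq] at *
    refine ⟨by rw [mul_10, ha, hb]; ring, ?_⟩
    rw [mul_00, mul_11, ha, hb, ha', hb']; ring
  one_mem' := by simp
  inv_mem' := by
    rintro a ⟨ha, ha'⟩
    simp only [Set.mem_ofPred_eq] at *
    exact ⟨by rw [inv_10, ha]; ring, by rw [inv_00, inv_11, ha']⟩

theorem mem_PU (g : SL2) : g ∈ (PU : Subgroup SL2) ↔ g.1 1 0 = 0 ∧ g.1 0 0 = g.1 1 1 := Iff.rfl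

/-- `U`: upper unitriangular matrices. -/
def UU : Subgroup SL2 where
  carrier := {g | g.1 1 0 = 0 ∧ g.1 0 0 = 1 ∧ g.1 1 1 = 1}
  mul_mem' := by
    rintro a b ⟨ha, ha', ha''⟩ ⟨hb, hb', hb''⟩
    simp only [Set.mem_ofPred_eq] at *
    refine ⟨by rw [mul_10, ha, hb]; ring, ?_, ?_⟩
    · rw [mul_00, ha', hb', hb]; ring
    · rw [mul_11, ha, ha'', hb'']; ring
  one_mem' := by simp
  inv_mem' := by
    rintro a ⟨ha, ha', ha''⟩
    simp only [Set.mem_ofPred_eq] at *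
    exact ⟨by rw [inv_10, ha]; ring, by rw [inv_00, ha''], by rw [inv_11, ha']⟩

theorem mem_UU (g : SL2) : g ∈ (UU : Subgroup SL2) ↔ g.1 1 0 = 0 ∧ g.1 0 0 = 1 ∧ g.1 1 1 = 1 :=
  Iff.rfl

/-- `D`: diagonal matrices. -/
def DD : Subgroup SL2 where
  carrier := {g | g.1 1 0 = 0 ∧ g.1 0 1 = 0}
  mul_mem' := by
    rintro a b ⟨ha, ha'⟩ ⟨hb, hb'⟩
    simp only [Set.mem_ofPred_eq] at *
    exact ⟨by rw [mul_10, ha, hb]; ring, by rw [mul_01, ha', hb']; ring⟩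
  one_mem' := by simp
  inv_mem' := by
    rintro a ⟨ha, ha'⟩
    simp only [Set.mem_ofPred_eq] at *
    exact ⟨by rw [inv_10, ha]; ring, by rw [inv_01, ha']; ring⟩

theorem mem_DD (g : SL2) : g ∈ (DD : Subgroup SL2) ↔ g.1 1 0 = 0 ∧ g.1 0 1 = 0 := Iff.rfl

theorem UU_le_PU : (UU : Subgroup SL2) ≤ PU := fun g hg => ⟨hg.1, by rw [hg.2.1, hg.2.2]⟩
theorem PU_le_BB : (PU : Subgroup SL2) ≤ BB := fun _ hg => hg.1
theorem DD_le_BB : (DD : Subgroup SL2) ≤ BB := fun _ hg => hg.1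

/-- An anti-diagonal element. -/
def IsAnti (g : SL2) : Prop := g.1 0 0 = 0 ∧ g.1 1 1 = 0

theorem uU_mem_UU (a : E) : uU a ∈ (UU : Subgroup SL2) := ⟨rfl, rfl, rfl⟩
theorem dD_mem_DD (c : Eˣ) : dD c ∈ (DD : Subgroup SL2) := ⟨rfl, rfl⟩

/-- trace -/
def tr (g : SL2) : E := g.1 0 0 + g.1 1 1

theorem tr_conj (g x : SL2) : tr (g * x * g⁻¹) = tr x := by
  unfold tr
  rw [conj_00, conj_11]
  have := det' g
  linear_combination (x.1 0 0 + x.1 1 1) * this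

/-- `(tr x)² - 4 = (x₀₀ - x₁₁)² + 4 x₀₁ x₁₀`. -/
theorem tr_sq_sub_four (x : SL2) :
    (tr x) ^ 2 - 4 = (x.1 0 0 - x.1 1 1) ^ 2 + 4 * x.1 0 1 * x.1 1 0 := by
  unfold tr
  have := det' x
  linear_combination 4 * this

end Cfsg.Agent.Helper46.Dk
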