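import Mathlib
import Cfsg.Agent.Helper46.DkMat

set_option autoImplicit false

/-!
# Dickson project: conjugation to triangular / diagonal form, centralizers and normalizers
-/

namespace Cfsg.Agent.Helper46.Dk

open Matrix

variable {E : Type*} [Field E]

local notation "SL2" => Matrix.SpecialLinearGroup (Fin 2) E

/-- Over an algebraically closed field every element of `SL₂` is conjugate into the Borel subgroup. -/
theorem exists_conj_mem_BB [IsAlgClosed E] (g : SL2) : ∃ c : SL2, c * g * c⁻¹ ∈ (BB : Subgroup SL2) := by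
  by_cases hγ : g.1 1 0 = 0
  · exact ⟨1, by simpa [mem_BB] using hγ⟩
  · -- find a root t of γ t² + (δ - α) t - β = 0
    obtain ⟨t, ht⟩ : ∃ t : E, g.1 1 0 * t ^ 2 + (g.1 1 1 - g.1 0 0) * t + (- g.1 0 1) = 0 := by
      have hdeg : (Polynomial.C (g.1 1 0) * Polynomial.X ^ 2 + Polynomial.C (g.1 1 1 - g.1 0 0) * Polynomial.X
          + Polynomial.C (- g.1 0 1) : Polynomial E).degree = 2 := Polynomial.degree_quadratic hγ
      obtain ⟨t, ht⟩ := IsAlgClosed.exists_root _ (by rw [hdeg]; norm_num)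
      refine ⟨t, ?_⟩
      simpa [Polynomial.IsRoot, Polynomial.eval_add, Polynomial.eval_mul, Polynomial.eval_pow] using ht
    refine ⟨mk4 0 1 (-1) t (by ring), ?_⟩
    rw [mem_BB, conj_10]
    simp only [mk4_00, mk4_01, mk4_10, mk4_11]
    linear_combination ht

/-- An upper triangular element with distinct diagonal entries is `U`-conjugate to a diagonal one. -/
theorem exists_conj_mem_DD {g : SL2} (hg : g ∈ (BB : Subgroup SL2)) (hne : g.1 0 0 ≠ g.1 1 1) :
    ∃ u : SL2, u ∈ (UU : Subgroup SL2) ∧ u * g * u⁻¹ ∈ (DD : Subgroup SL2) ∧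
      (u * g * u⁻¹).1 0 0 = g.1 0 0 ∧ (u * g * u⁻¹).1 1 1 = g.1 1 1 := by
  rw [mem_BB] at hg
  have hd : g.1 0 0 - g.1 1 1 ≠ 0 := sub_ne_zero.2 hne
  refine ⟨uU (g.1 0 1 / (g.1 0 0 - g.1 1 1)), uU_mem_UU _, ⟨?_, ?_⟩, ?_, ?_⟩
  · rw [conj_10]; simp [uU, hg]
  · rw [conj_01]; simp only [uU, mk4_00, mk4_01, mk4_10, mk4_11, hg]
    field_simp
    ring
  · rw [conj_00]; simp [uU, hg]
  · rw [conj_11]; simp [uU, hg]

/-- elements of `±U` have diagonal entry `±1` -/
theorem PU_diag_sq {g : SL2} (hg : g ∈ (PU : Subgroup SL2)) : (g.1 0 0) ^ 2 = 1 := by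
  have := det' g
  rw [hg.1, ← hg.2] at this
  linear_combination this

/-- Centralizer of a non-central element of `±U`. -/
theorem mem_PU_of_commute {x h : SL2} (hx : x ∈ (PU : Subgroup SL2)) (hx1 : x.1 0 1 ≠ 0)
    (hc : h * x = x * h) : h ∈ (PU : Subgroup SL2) := by
  have h00 : (h * x).1 0 0 = (x * h).1 0 0 := by rw [hc]
  have h01 : (h * x).1 0 1 = (x * h).1 0 1 := by rw [hc]
  rw [mul_00, mul_00, hx.1] at h00
  rw [mul_01, mul_01] at h01
  have e1 : h.1 1 0 = 0 := by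
    have : x.1 0 1 * h.1 1 0 = 0 := by linear_combination -h00
    exact (mul_eq_zero.1 this).resolve_left hx1
  refine ⟨e1, ?_⟩
  have : x.1 0 1 * (h.1 0 0 - h.1 1 1) = 0 := by
    rw [hx.2] at h01
    linear_combination h01
  exact sub_eq_zero.1 ((mul_eq_zero.1 this).resolve_left hx1)

/-- Centralizer of a diagonal element with distinct entries. -/
theorem mem_DD_of_commute {x h : SL2} (hx : x ∈ (DD : Subgroup SL2)) (hne : x.1 0 0 ≠ x.1 1 1)
    (hc : h * x = x * h) : h ∈ (DD : Subgroup SL2) := by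
  have h10 : (h * x).1 1 0 = (x * h).1 1 0 := by rw [hc]
  have h01 : (h * x).1 0 1 = (x * h).1 0 1 := by rw [hc]
  rw [mul_10, mul_10, hx.1] at h10
  rw [mul_01, mul_01, hx.2] at h01
  have hd : x.1 0 0 - x.1 1 1 ≠ 0 := sub_ne_zero.2 hne
  constructor
  · have : h.1 1 0 * (x.1 0 0 - x.1 1 1) = 0 := by linear_combination h10
    exact (mul_eq_zero.1 this).resolve_right hd
  · have : h.1 0 1 * (x.1 0 0 - x.1 1 1) = 0 := by linear_combination -h01
    exact (mul_eq_zero.1 this).resolve_right hd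

/-- diagonal elements commute -/
theorem DD_commute {x y : SL2} (hx : x ∈ (DD : Subgroup SL2)) (hy : y ∈ (DD : Subgroup SL2)) :
    x * y = y * x := by
  apply ext'
  · rw [mul_00, mul_00, hx.2, hy.2]; ring
  · rw [mul_01, mul_01, hx.2, hy.2]; ring
  · rw [mul_10, mul_10, hx.1, hy.1]; ring
  · rw [mul_11, mul_11, hx.1, hy.1]; ring

/-- elements of `±U` commute -/
theorem PU_commute {x y : SL2} (hx : x ∈ (PU : Subgroup SL2)) (hy : y ∈ (PU : Subgroup SL2)) :
    x * y = y * x := by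
  apply ext'
  · rw [mul_00, mul_00, hx.1, hy.1]; ring
  · rw [mul_01, mul_01, ← hx.2, ← hy.2]; ring
  · rw [mul_10, mul_10, hx.1, hy.1]; ring
  · rw [mul_11, mul_11, hx.1, hy.1]; ring

/-- If a conjugate of a non-central element of `±U` is upper triangular, the conjugator is. -/
theorem mem_BB_of_conj_PU {x g : SL2} (hx : x ∈ (PU : Subgroup SL2)) (hx1 : x.1 0 1 ≠ 0)
    (hc : g * x * g⁻¹ ∈ (BB : Subgroup SL2)) : g ∈ (BB : Subgroup SL2) := by
  rw [mem_BB, conj_10, hx.1, hx.2] at hc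
  rw [mem_BB]
  have : x.1 0 1 * (g.1 1 0) ^ 2 = 0 := by linear_combination -hc
  rcases mul_eq_zero.1 this with h | h
  · exact absurd h hx1
  · exact pow_eq_zero_iff (two_ne_zero) |>.1 h

/-- If a conjugate of a regular diagonal element is upper triangular: `g₁₀ = 0` or `g₁₁ = 0`. -/
theorem of_conj_DD_mem_BB {x g : SL2} (hx : x ∈ (DD : Subgroup SL2)) (hne : x.1 0 0 ≠ x.1 1 1)
    (hc : g * x * g⁻¹ ∈ (BB : Subgroup SL2)) : g.1 1 0 = 0 ∨ g.1 1 1 = 0 := by
  rw [mem_BB, conj_10, hx.1, hx.2] at hc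
  have hd : x.1 0 0 - x.1 1 1 ≠ 0 := sub_ne_zero.2 hne
  have : g.1 1 0 * g.1 1 1 * (x.1 0 0 - x.1 1 1) = 0 := by linear_combination hc
  rcases mul_eq_zero.1 this with h | h
  · exact mul_eq_zero.1 h
  · exact absurd h hd

/-- If a conjugate of a regular diagonal element is diagonal, the conjugator is diagonal or
anti-diagonal. -/
theorem of_conj_DD_mem_DD {x g : SL2} (hx : x ∈ (DD : Subgroup SL2)) (hne : x.1 0 0 ≠ x.1 1 1)
    (hc : g * x * g⁻¹ ∈ (DD : Subgroup SL2)) : g ∈ (DD : Subgroup SL2) ∨ IsAnti g := by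
  have h10 := hc.1
  have h01 := hc.2
  rw [conj_10, hx.1, hx.2] at h10
  rw [conj_01, hx.1, hx.2] at h01
  have hd : x.1 0 0 - x.1 1 1 ≠ 0 := sub_ne_zero.2 hne
  have e1 : g.1 1 0 * g.1 1 1 = 0 := by
    have : g.1 1 0 * g.1 1 1 * (x.1 0 0 - x.1 1 1) = 0 := by linear_combination h10
    exact (mul_eq_zero.1 this).resolve_right hd
  have e2 : g.1 0 0 * g.1 0 1 = 0 := by
    have : g.1 0 0 * g.1 0 1 * (x.1 0 0 - x.1 1 1) = 0 := by linear_combination -h01
    exact (mul_eq_zero.1 this).resolve_right hd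
  have hdet := det' g
  rcases mul_eq_zero.1 e1 with h | h
  · -- g₁₀ = 0, so g₀₀ g₁₁ = 1, so g₀₀ ≠ 0, so g₀₁ = 0
    left
    refine ⟨h, ?_⟩
    rw [h] at hdet
    have h00 : g.1 0 0 ≠ 0 := by
      intro h0; rw [h0] at hdet; simp at hdet
    exact (mul_eq_zero.1 e2).resolve_left h00
  · -- g₁₁ = 0, so g₀₁ g₁₀ = -1, so g₀₁ ≠ 0, so g₀₀ = 0
    right
    refine ⟨?_, h⟩
    rw [h] at hdet
    have h01' : g.1 0 1 ≠ 0 := by
      intro h0; rw [h0] at hdet; simp at hdet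
    exact (mul_eq_zero.1 e2).resolve_right h01'

/-- anti-diagonal elements invert diagonal ones -/
theorem anti_conj_DD {x g : SL2} (hx : x ∈ (DD : Subgroup SL2)) (hg : IsAnti g) :
    g * x * g⁻¹ = x⁻¹ := by
  have hdet := det' g
  rw [hg.1, hg.2] at hdet
  apply ext'
  · rw [conj_00, inv_00]; simp only [hg.1, hg.2, hx.1, hx.2]; linear_combination (x.1 1 1) * hdet
  · rw [conj_01, inv_01]; simp only [hg.1, hg.2, hx.1, hx.2]; ring
  · rw [conj_10, inv_10]; simp only [hg.1, hg.2, hx.1, hx.2]; ring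
  · rw [conj_11, inv_11]; simp only [hg.1, hg.2, hx.1, hx.2]; linear_combination (x.1 0 0) * hdet

/-- anti-diagonal elements square to `-1` (as entries) -/
theorem anti_sq {g : SL2} (hg : IsAnti g) :
    (g * g).1 0 0 = -1 ∧ (g * g).1 0 1 = 0 ∧ (g * g).1 1 0 = 0 ∧ (g * g).1 1 1 = -1 := by
  have hdet := det' g
  rw [hg.1, hg.2] at hdet
  refine ⟨?_, ?_, ?_, ?_⟩
  · rw [mul_00, hg.1]; linear_combination -hdet
  · rw [mul_01, hg.1, hg.2]; ring
  · rw [mul_10, hg.1, hg.2]; ring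
  · rw [mul_11, hg.2]; linear_combination -hdet

/-- product of two anti-diagonal elements is diagonal -/
theorem anti_mul_anti {g h : SL2} (hg : IsAnti g) (hh : IsAnti h) : g * h ∈ (DD : Subgroup SL2) := by
  constructor
  · rw [mul_10, hh.1, hg.2]; ring
  · rw [mul_01, hg.1, hh.2]; ring

theorem anti_inv {g : SL2} (hg : IsAnti g) : IsAnti g⁻¹ := ⟨by rw [inv_00, hg.2], by rw [inv_11, hg.1]⟩

/-- Borel elements normalise `±U` and `U`. -/
theorem conj_PU_of_BB {x g : SL2} (hx : x ∈ (PU : Subgroup SL2)) (hg : g ∈ (BB : Subgroup SL2)) :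
    g * x * g⁻¹ ∈ (PU : Subgroup SL2) := by
  rw [mem_BB] at hg
  have hdet := det' g
  rw [hg] at hdet
  constructor
  · rw [conj_10, hg, hx.1]; ring
  · rw [conj_00, conj_11, hg, hx.1, hx.2]; ring

theorem conj_UU_of_BB {x g : SL2} (hx : x ∈ (UU : Subgroup SL2)) (hg : g ∈ (BB : Subgroup SL2)) :
    g * x * g⁻¹ ∈ (UU : Subgroup SL2) := by
  rw [mem_BB] at hg
  have hdet := det' g
  rw [hg] at hdet
  refine ⟨?_, ?_, ?_⟩
  · rw [conj_10, hg, hx.1]; ring
  · rw [conj_00, hg, hx.1, hx.2.1]; linear_combination hdet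
  · rw [conj_11, hg, hx.1, hx.2.2]; linear_combination hdet

/-- the action of a Borel element on `U`: the `01` entry is scaled by `g₀₀²`. -/
theorem conj_UU_entry {x g : SL2} (hx : x ∈ (UU : Subgroup SL2)) (hg : g ∈ (BB : Subgroup SL2)) :
    (g * x * g⁻¹).1 0 1 = (g.1 0 0) ^ 2 * x.1 0 1 := by
  rw [mem_BB] at hg
  rw [conj_01, hx.1, hx.2.1, hx.2.2]; ring

/-- central elements of `SL₂` in entries -/
theorem mem_center_iff' (g : SL2) :
    g ∈ Subgroup.center SL2 ↔ g.1 0 1 = 0 ∧ g.1 1 0 = 0 ∧ g.1 0 0 = g.1 1 1 := by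
  rw [Matrix.SpecialLinearGroup.mem_center_iff]
  constructor
  · rintro ⟨r, -, hr⟩
    have h01 := congrFun (congrFun hr 0) 1
    have h10 := congrFun (congrFun hr 1) 0
    have h00 := congrFun (congrFun hr 0) 0
    have h11 := congrFun (congrFun hr 1) 1
    simp at h01 h10 h00 h11
    exact ⟨h01.symm, h10.symm, by rw [← h00, ← h11]⟩
  · rintro ⟨h01, h10, h00⟩
    refine ⟨g.1 0 0, ?_, ?_⟩
    · have hdet := det' g
      rw [h01, h10, ← h00] at hdet
      simp only [Fintype.card_fin]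
      linear_combination hdet
    · ext i j
      fin_cases i <;> fin_cases j <;> simp [h01, h10, h00]

theorem center_le_PU : Subgroup.center SL2 ≤ (PU : Subgroup SL2) := by
  intro g hg
  rw [mem_center_iff'] at hg
  exact ⟨hg.2.1, hg.2.2⟩

theorem center_le_DD : Subgroup.center SL2 ≤ (DD : Subgroup SL2) := by
  intro g hg
  rw [mem_center_iff'] at hg
  exact ⟨hg.2.1, hg.1⟩

/-- `±U ∩ D = Z`. -/
theorem mem_center_of_PU_DD {g : SL2} (h1 : g ∈ (PU : Subgroup SL2)) (h2 : g ∈ (DD : Subgroup SL2)) :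
    g ∈ Subgroup.center SL2 := by
  rw [mem_center_iff']; exact ⟨h2.2, h1.1, h1.2⟩

/-- a non-central element of `±U` has non-zero `01` entry -/
theorem PU_entry_ne_zero {g : SL2} (h1 : g ∈ (PU : Subgroup SL2)) (h2 : g ∉ Subgroup.center SL2) :
    g.1 0 1 ≠ 0 := by
  intro h0
  exact h2 ((mem_center_iff' g).2 ⟨h0, h1.1, h1.2⟩)

/-- a non-central diagonal element has distinct diagonal entries -/
theorem DD_entry_ne {g : SL2} (h1 : g ∈ (DD : Subgroup SL2)) (h2 : g ∉ Subgroup.center SL2) :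
    g.1 0 0 ≠ g.1 1 1 := by
  intro h0
  exact h2 ((mem_center_iff' g).2 ⟨h1.2, h1.1, h0⟩)

/-- trace criterion in the Borel subgroup -/
theorem BB_tr_sq {g : SL2} (hg : g ∈ (BB : Subgroup SL2)) :
    (tr g) ^ 2 - 4 = (g.1 0 0 - g.1 1 1) ^ 2 := by
  rw [tr_sq_sub_four, (mem_BB g).1 hg]; ring

end Cfsg.Agent.Helper46.Dk
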