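import Mathlib

set_option autoImplicit false

/-!
# Dickson project: a divisibility consequence of Burnside's lemma
-/

namespace Cfsg.Agent.Helper46.Dk

open scoped BigOperators

/-- If the elements of `K` fix everything and the elements outside `K` fix exactly the point `x₀`,
then `|G|` divides `|K| |X| + (|G| - |K|)`. -/
theorem card_dvd_of_fixed {G X : Type*} [Group G] [MulAction G X] [Finite G] [Finite X]
    (K : Set G) (hK : ∀ g ∈ K, ∀ x : X, g • x = x) (x₀ : X)
    (h1 : ∀ g, g ∉ K → ∀ x : X, g • x = x ↔ x = x₀) :
    Nat.card G ∣ K.ncard * Nat.card X + (Nat.card G - K.ncard) := by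
  classical
  haveI := Fintype.ofFinite G
  haveI := Fintype.ofFinite X
  haveI : Fintype (Quotient (MulAction.orbitRel G X)) := Fintype.ofFinite _
  have hB := MulAction.sum_card_fixedBy_eq_card_orbits_mul_card_group G X
  have hterm : ∀ g : G, Fintype.card (MulAction.fixedBy X g) =
      if g ∈ K then Nat.card X else 1 := by
    intro g
    split_ifs with hg
    · rw [Nat.card_eq_fintype_card]
      exact Fintype.card_congr (Equiv.subtypeUnivEquiv (fun x => hK g hg x))
    · rw [Fintype.card_eq_one_iff]
      refine ⟨⟨x₀, (h1 g hg x₀).2 rfl⟩, ?_⟩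
      rintro ⟨y, hy⟩
      exact Subtype.ext ((h1 g hg y).1 hy)
  have hsum : ∑ g : G, Fintype.card (MulAction.fixedBy X g) =
      K.ncard * Nat.card X + (Nat.card G - K.ncard) := by
    rw [Finset.sum_congr rfl (fun g _ => hterm g), Finset.sum_ite, Finset.sum_const,
      Finset.sum_const, smul_eq_mul, smul_eq_mul, mul_one]
    have hc1 : (Finset.univ.filter (fun g : G => g ∈ K)).card = K.ncard := by
      rw [Set.ncard_eq_toFinset_card' K]
      congr 1
      ext g; simp
    have hc2 : (Finset.univ.filter (fun g : G => g ∉ K)).card = Nat.card G - K.ncard := by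
      have := Finset.card_filter_add_card_filter_not (s := (Finset.univ : Finset G)) (fun g : G => g ∈ K)
      rw [hc1, Finset.card_univ, ← Nat.card_eq_fintype_card] at this
      omega
    rw [hc1, hc2]
  rw [← hsum, hB, Nat.card_eq_fintype_card]
  exact dvd_mul_left _ _

end Cfsg.Agent.Helper46.Dk
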