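import Mathlib

set_option autoImplicit false

/-!
# Groups in which centralizers of non-central elements are abelian: the partition into
class-unions of maximal abelian subgroups (used for the Dickson class equation).
-/

namespace Cfsg.Agent.Helper46

/-- `Z` is central and the centralizer of every element outside `Z` is commutative. -/
structure IsCA {Γ : Type*} [Group Γ] (Z : Subgroup Γ) : Prop where
  central : Z ≤ Subgroup.center Γ
  comm : ∀ x : Γ, x ∉ Z → ∀ y z : Γ, Commute y x → Commute z x → Commute y z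

namespace IsCA

variable {Γ : Type*} [Group Γ] {Z : Subgroup Γ}

theorem commute_of_mem (h : IsCA Z) {z : Γ} (hz : z ∈ Z) (x : Γ) : Commute z x :=
  (Subgroup.mem_center_iff.1 (h.central hz) x).symm

theorem le_centralizer (h : IsCA Z) (x : Γ) : Z ≤ Subgroup.centralizer {x} := by
  intro z hz
  rw [Subgroup.mem_centralizer_singleton_iff]
  exact (h.commute_of_mem hz x).eq

theorem centralizer_eq (h : IsCA Z) {x y : Γ} (hx : x ∉ Z) (hy : y ∉ Z) (hxy : Commute x y) :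
    Subgroup.centralizer {x} = Subgroup.centralizer {y} := by
  ext z
  rw [Subgroup.mem_centralizer_singleton_iff, Subgroup.mem_centralizer_singleton_iff]
  constructor
  · intro hz
    have hzx : Commute z x := hz
    exact (h.comm x hx z y hzx hxy.symm).eq
  · intro hz
    have hzy : Commute z y := hz
    exact (h.comm y hy z x hzy hxy).eq

theorem conj_not_mem (h : IsCA Z) {x : Γ} (hx : x ∉ Z) (g : Γ) : g * x * g⁻¹ ∉ Z := by
  intro hm
  apply hx
  have hc := h.commute_of_mem hm g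
  have : g * x * g⁻¹ = x := by
    have h1 : g * x * g⁻¹ * g = g * (g * x * g⁻¹) := hc.eq
    have h2 : g * x = g * (g * x * g⁻¹) := by rw [← h1]; group
    exact (mul_left_cancel h2).symm
  rw [← this]; exact hm

/-- The class-union of `x`: elements outside `Z` commuting with some conjugate of `x`. -/
def classUnion (Z : Subgroup Γ) (x : Γ) : Set Γ :=
  {t | t ∉ Z ∧ ∃ g : Γ, Commute t (g * x * g⁻¹)}

theorem mem_classUnion_self {x : Γ} (hx : x ∉ Z) : x ∈ classUnion Z x :=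
  ⟨hx, 1, by simp⟩

theorem classUnion_eq_of_mem (h : IsCA Z) {x y : Γ} (hx : x ∉ Z)
    (hy : y ∈ classUnion Z x) : classUnion Z y = classUnion Z x := by
  obtain ⟨hyZ, g, hg⟩ := hy
  have hgx : g * x * g⁻¹ ∉ Z := h.conj_not_mem hx g
  ext t
  constructor
  · rintro ⟨htZ, k, hk⟩
    refine ⟨htZ, k * g, ?_⟩
    -- t commutes with k y k⁻¹, and k y k⁻¹ commutes with k g x g⁻¹ k⁻¹
    have hky : k * y * k⁻¹ ∉ Z := h.conj_not_mem hyZ k
    have h2 : Commute (k * (g * x * g⁻¹) * k⁻¹) (k * y * k⁻¹) := by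
      have := hg.symm
      unfold Commute SemiconjBy at this ⊢
      calc k * (g * x * g⁻¹) * k⁻¹ * (k * y * k⁻¹) = k * ((g * x * g⁻¹) * y) * k⁻¹ := by group
        _ = k * (y * (g * x * g⁻¹)) * k⁻¹ := by rw [this]
        _ = k * y * k⁻¹ * (k * (g * x * g⁻¹) * k⁻¹) := by group
    have h3 := h.comm (k * y * k⁻¹) hky t (k * (g * x * g⁻¹) * k⁻¹) hk h2
    have e : k * g * x * (k * g)⁻¹ = k * (g * x * g⁻¹) * k⁻¹ := by group
    rw [e]; exact h3
  · rintro ⟨htZ, k, hk⟩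
    refine ⟨htZ, k * g⁻¹, ?_⟩
    have hkx : k * x * k⁻¹ ∉ Z := h.conj_not_mem hx k
    have h2 : Commute (k * g⁻¹ * y * (k * g⁻¹)⁻¹) (k * x * k⁻¹) := by
      have := hg
      unfold Commute SemiconjBy at this ⊢
      calc k * g⁻¹ * y * (k * g⁻¹)⁻¹ * (k * x * k⁻¹)
          = k * g⁻¹ * (y * (g * x * g⁻¹)) * g * k⁻¹ := by group
        _ = k * g⁻¹ * ((g * x * g⁻¹) * y) * g * k⁻¹ := by rw [this]
        _ = k * x * k⁻¹ * (k * g⁻¹ * y * (k * g⁻¹)⁻¹) := by group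
    exact h.comm (k * x * k⁻¹) hkx t _ hk h2

theorem classUnion_disjoint_or_eq (h : IsCA Z) {x y : Γ} (hx : x ∉ Z) (hy : y ∉ Z) :
    classUnion Z x = classUnion Z y ∨ Disjoint (classUnion Z x) (classUnion Z y) := by
  by_cases hd : Disjoint (classUnion Z x) (classUnion Z y)
  · exact Or.inr hd
  · left
    rw [Set.not_disjoint_iff] at hd
    obtain ⟨t, htx, hty⟩ := hd
    rw [← h.classUnion_eq_of_mem hx htx, ← h.classUnion_eq_of_mem hy hty]

/-- conjugation transports centralizers -/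
theorem mem_centralizer_conj_iff (x n z : Γ) :
    z ∈ Subgroup.centralizer ({n * x * n⁻¹} : Set Γ) ↔
      n⁻¹ * z * n ∈ Subgroup.centralizer ({x} : Set Γ) := by
  rw [Subgroup.mem_centralizer_singleton_iff, Subgroup.mem_centralizer_singleton_iff]
  constructor
  · intro hc
    calc n⁻¹ * z * n * x = n⁻¹ * (z * (n * x * n⁻¹)) * n := by group
      _ = n⁻¹ * ((n * x * n⁻¹) * z) * n := by rw [hc]
      _ = x * (n⁻¹ * z * n) := by group
  · intro hc
    calc z * (n * x * n⁻¹) = n * ((n⁻¹ * z * n) * x) * n⁻¹ := by group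
      _ = n * (x * (n⁻¹ * z * n)) * n⁻¹ := by rw [hc]
      _ = n * x * n⁻¹ * z := by group

/-- If `y, y' ∈ C(x) ∖ Z` and `y = n⁻¹ y' n` then `n` normalizes `C(x)`. -/
theorem mem_normalizer_of_conj (h : IsCA Z) {x y y' n : Γ} (hx : x ∉ Z)
    (hy : y ∈ Subgroup.centralizer ({x} : Set Γ)) (hyZ : y ∉ Z)
    (hy' : y' ∈ Subgroup.centralizer ({x} : Set Γ)) (hy'Z : y' ∉ Z)
    (hn : y = n⁻¹ * y' * n) :
    n ∈ Subgroup.normalizer ((Subgroup.centralizer ({x} : Set Γ) : Subgroup Γ) : Set Γ) := by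
  have hcy : Commute x y := by
    rw [Subgroup.mem_centralizer_singleton_iff] at hy; exact hy.symm
  have hcy' : Commute x y' := by
    rw [Subgroup.mem_centralizer_singleton_iff] at hy'; exact hy'.symm
  have e1 : Subgroup.centralizer ({x} : Set Γ) = Subgroup.centralizer {y} :=
    h.centralizer_eq hx hyZ hcy
  have e2 : Subgroup.centralizer ({x} : Set Γ) = Subgroup.centralizer {y'} :=
    h.centralizer_eq hx hy'Z hcy'
  rw [Subgroup.mem_normalizer_iff]
  intro z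
  -- z ∈ C(y') ↔ n z n⁻¹ ∈ C(y') ... use y' = n y n⁻¹
  have hy'n : y' = n * y * n⁻¹ := by rw [hn]; group
  constructor
  · intro hz
    rw [e2, hy'n, mem_centralizer_conj_iff, ← e1]
    have : n⁻¹ * (n * z * n⁻¹) * n = z := by group
    rw [this]; exact hz
  · intro hz
    rw [e2, hy'n, mem_centralizer_conj_iff, ← e1] at hz
    have : n⁻¹ * (n * z * n⁻¹) * n = z := by group
    rw [this] at hz; exact hz

theorem card_diff_aux [Finite Γ] (h : IsCA Z) (x : Γ) :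
    Nat.card {y : Γ // y ∈ Subgroup.centralizer ({x} : Set Γ) ∧ y ∉ Z} =
      Nat.card (Subgroup.centralizer ({x} : Set Γ)) - Nat.card Z := by
  have hsub : (Z : Set Γ) ⊆ (Subgroup.centralizer ({x} : Set Γ) : Set Γ) := h.le_centralizer x
  have h1 : Nat.card {y : Γ // y ∈ Subgroup.centralizer ({x} : Set Γ) ∧ y ∉ Z} =
      ((Subgroup.centralizer ({x} : Set Γ) : Set Γ) \ (Z : Set Γ)).ncard := by
    rw [← Nat.card_coe_set_eq]
    rfl
  rw [h1, Set.ncard_sdiff hsub (Set.toFinite _), ← Nat.card_coe_set_eq,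
    ← Nat.card_coe_set_eq]
  rfl

/-- The size of a class-union: `|cu(x)| · |N(C(x))| = |Γ| · (|C(x)| - |Z|)`. -/
theorem card_classUnion [Finite Γ] (h : IsCA Z) {x : Γ} (hx : x ∉ Z) :
    Nat.card (classUnion Z x) *
      Nat.card (Subgroup.normalizer ((Subgroup.centralizer ({x} : Set Γ) : Subgroup Γ) : Set Γ)) =
    Nat.card Γ * (Nat.card (Subgroup.centralizer ({x} : Set Γ)) - Nat.card Z) := by
  classical
  rw [← h.card_diff_aux x, ← Nat.card_prod, ← Nat.card_prod]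
  -- choice of conjugator
  have hex : ∀ t : classUnion Z x, ∃ g : Γ, Commute (t : Γ) (g * x * g⁻¹) := fun t => t.2.2
  let g₀ : classUnion Z x → Γ := fun t => Classical.choose (hex t)
  have hg₀ : ∀ t : classUnion Z x, Commute (t : Γ) (g₀ t * x * (g₀ t)⁻¹) :=
    fun t => Classical.choose_spec (hex t)
  -- g₀⁻¹ t g₀ ∈ C(x) \ Z
  have hmem : ∀ t : classUnion Z x,
      (g₀ t)⁻¹ * (t : Γ) * g₀ t ∈ Subgroup.centralizer ({x} : Set Γ) := by
    intro t
    rw [← mem_centralizer_conj_iff]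
    rw [Subgroup.mem_centralizer_singleton_iff]
    exact (hg₀ t).eq
  have hnotZ : ∀ (t : classUnion Z x) (k : Γ), k⁻¹ * (t : Γ) * k ∉ Z := by
    intro t k
    have := h.conj_not_mem t.2.1 k⁻¹
    simpa using this
  have hf : ∀ (t : classUnion Z x) (n : Subgroup.normalizer
      ((Subgroup.centralizer ({x} : Set Γ) : Subgroup Γ) : Set Γ)),
      (g₀ t * (n : Γ))⁻¹ * (t : Γ) * (g₀ t * (n : Γ)) ∈ Subgroup.centralizer ({x} : Set Γ) := by
    intro t n
    have h1 := hmem t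
    have e : (g₀ t * (n : Γ))⁻¹ * (t : Γ) * (g₀ t * (n : Γ)) =
        (n : Γ)⁻¹ * ((g₀ t)⁻¹ * (t : Γ) * g₀ t) * ((n : Γ)⁻¹)⁻¹ := by group
    rw [e]
    have hninv : ((n : Γ))⁻¹ ∈ Subgroup.normalizer
        ((Subgroup.centralizer ({x} : Set Γ) : Subgroup Γ) : Set Γ) := inv_mem n.2
    rw [Subgroup.mem_normalizer_iff] at hninv
    exact (hninv _).1 h1
  have hb1 : ∀ (g : Γ) (y : {y : Γ // y ∈ Subgroup.centralizer ({x} : Set Γ) ∧ y ∉ Z}),
      g * (y : Γ) * g⁻¹ ∈ classUnion Z x := by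
    intro g y
    refine ⟨h.conj_not_mem y.2.2 g, g, ?_⟩
    have hy := y.2.1
    rw [Subgroup.mem_centralizer_singleton_iff] at hy
    unfold Commute SemiconjBy
    calc g * (y : Γ) * g⁻¹ * (g * x * g⁻¹) = g * ((y : Γ) * x) * g⁻¹ := by group
      _ = g * (x * (y : Γ)) * g⁻¹ := by rw [hy]
      _ = g * x * g⁻¹ * (g * (y : Γ) * g⁻¹) := by group
  have hb2 : ∀ (g : Γ) (y : {y : Γ // y ∈ Subgroup.centralizer ({x} : Set Γ) ∧ y ∉ Z}),
      (g₀ ⟨g * (y : Γ) * g⁻¹, hb1 g y⟩)⁻¹ * g ∈ Subgroup.normalizer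
        ((Subgroup.centralizer ({x} : Set Γ) : Subgroup Γ) : Set Γ) := by
    intro g y
    set t : classUnion Z x := ⟨g * (y : Γ) * g⁻¹, hb1 g y⟩ with ht
    have hy' := hmem t
    have hy'Z := hnotZ t (g₀ t)
    apply h.mem_normalizer_of_conj hx y.2.1 y.2.2 hy' hy'Z
    show (y : Γ) = ((g₀ t)⁻¹ * g)⁻¹ * ((g₀ t)⁻¹ * (g * (y : Γ) * g⁻¹) * g₀ t) * ((g₀ t)⁻¹ * g)
    group
  refine Nat.card_congr
    { toFun := fun tn => (g₀ tn.1 * (tn.2 : Γ),
        ⟨(g₀ tn.1 * (tn.2 : Γ))⁻¹ * (tn.1 : Γ) * (g₀ tn.1 * (tn.2 : Γ)), hf tn.1 tn.2, hnotZ _ _⟩)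
      invFun := fun gy => (⟨gy.1 * (gy.2 : Γ) * gy.1⁻¹, hb1 gy.1 gy.2⟩,
        ⟨(g₀ ⟨gy.1 * (gy.2 : Γ) * gy.1⁻¹, hb1 gy.1 gy.2⟩)⁻¹ * gy.1, hb2 gy.1 gy.2⟩)
      left_inv := ?_
      right_inv := ?_ }
  · rintro ⟨t, n⟩
    have e1 : g₀ t * (n : Γ) * ((g₀ t * (n : Γ))⁻¹ * (t : Γ) * (g₀ t * (n : Γ))) * (g₀ t * (n : Γ))⁻¹ = (t : Γ) := by
      group
    have e2 : (⟨g₀ t * (n : Γ) * ((g₀ t * (n : Γ))⁻¹ * (t : Γ) * (g₀ t * (n : Γ))) * (g₀ t * (n : Γ))⁻¹, by
        rw [e1]; exact t.2⟩ : classUnion Z x) = t := Subtype.ext e1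
    apply Prod.ext
    · exact e2
    · apply Subtype.ext
      show (g₀ _)⁻¹ * (g₀ t * (n : Γ)) = (n : Γ)
      rw [e2]; group
  · rintro ⟨g, y⟩
    apply Prod.ext
    · show g₀ _ * ((g₀ _)⁻¹ * g) = g
      group
    · apply Subtype.ext
      show (g₀ _ * ((g₀ _)⁻¹ * g))⁻¹ * (g * (y : Γ) * g⁻¹) * (g₀ _ * ((g₀ _)⁻¹ * g)) = (y : Γ)
      group

theorem classUnion_subset (x : Γ) : classUnion Z x ⊆ {t | t ∉ Z} := fun _ ht => ht.1

end IsCA

end Cfsg.Agent.Helper46
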