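import Mathlib

set_option autoImplicit false

/-!
# Dickson project: the pure arithmetic of the class equation
-/

namespace Cfsg.Agent.Helper46.DkArith

/-- a class datum `(a, e, f)` : `a` conjugates, `e = |C/Z|`, `f = |N(C):C| ∈ {1,2}`, `a e f = g` -/
def Good (g : ℕ) (t : ℕ × ℕ × ℕ) : Prop :=
  2 ≤ t.2.1 ∧ 1 ≤ t.1 ∧ t.1 * t.2.1 * t.2.2 = g ∧ (t.2.2 = 1 ∨ t.2.2 = 2)

/-- the number of elements (modulo `Z`) in a class-union -/
def wt (t : ℕ × ℕ × ℕ) : ℕ := t.1 * (t.2.1 - 1)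

theorem wt_eq {a e f : ℕ} (he : 2 ≤ e) : wt (a, e, f) + a = a * e := by
  unfold wt
  obtain ⟨e', rfl⟩ : ∃ e', e = e' + 1 := ⟨e - 1, by omega⟩
  simp only [Nat.add_sub_cancel]
  ring

theorem three_aux (g a₁ a₂ a₃ e₂ e₃ : ℕ) (h1 : g = 4 * a₁) (h2 : g = 2 * (a₂ * e₂))
    (h3 : g = 2 * (a₃ * e₃)) (he2 : 2 ≤ e₂) (he3 : 2 ≤ e₃)
    (hs : g + 2 = 2 * (a₁ + a₂ + a₃)) (ha2 : 1 ≤ a₂) (ha3 : 1 ≤ a₃) :
    a₂ = 1 ∨ a₃ = 1 ∨ (g = 12 ∧ e₂ = 3 ∧ e₃ = 3 ∧ a₂ = 2) ∨
      (g = 24 ∧ ((e₂ = 3 ∧ e₃ = 4) ∨ (e₂ = 4 ∧ e₃ = 3))) ∨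
      (g = 60 ∧ ((e₂ = 3 ∧ e₃ = 5) ∨ (e₂ = 5 ∧ e₃ = 3))) := by
  have hsum : a₂ + a₃ = a₁ + 1 := by omega
  have hp2 : a₂ * e₂ = 2 * a₁ := by omega
  have hp3 : a₃ * e₃ = 2 * a₁ := by omega
  -- key step: one of e₂, e₃ is ≤ 3
  have key : ∀ (b c eb ec : ℕ), b * eb = 2 * a₁ → c * ec = 2 * a₁ → b + c = a₁ + 1 → 2 ≤ eb →
      2 ≤ ec → 1 ≤ b → 1 ≤ c → eb ≤ 3 →
      b = 1 ∨ c = 1 ∨ (a₁ = 3 ∧ eb = 3 ∧ ec = 3 ∧ b = 2) ∨ (a₁ = 6 ∧ eb = 3 ∧ ec = 4) ∨
        (a₁ = 15 ∧ eb = 3 ∧ ec = 5) := by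
    intro b c eb ec hb hc hbc heb hec hb1 hc1 heb3
    have : eb = 2 ∨ eb = 3 := by omega
    rcases this with rfl | rfl
    · right; left; omega
    · -- 3 b = 2 a₁, b + c = a₁ + 1, c ec = 2 a₁
      have h6 : ec < 6 := by
        by_contra hge
        have hge' : 6 ≤ ec := Nat.le_of_not_lt hge
        have : c * 6 ≤ c * ec := Nat.mul_le_mul_left c hge'
        omega
      interval_cases ec
      · omega
      · omega
      · omega
      · omega
  by_cases h23 : e₂ ≤ 3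
  · rcases key a₂ a₃ e₂ e₃ hp2 hp3 hsum he2 he3 ha2 ha3 h23 with h | h | h | h | h
    · left; exact h
    · right; left; exact h
    · right; right; left; omega
    · right; right; right; left; omega
    · right; right; right; right; omega
  · by_cases h33 : e₃ ≤ 3
    · rcases key a₃ a₂ e₃ e₂ hp3 hp2 (by omega) he3 he2 ha3 ha2 h33 with h | h | h | h | h
      · right; left; exact h
      · left; exact h
      · right; right; left; omega
      · right; right; right; left; omega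
      · right; right; right; right; omega
    · exfalso
      have h23' : 4 ≤ e₂ := by omega
      have h33' : 4 ≤ e₃ := by omega
      have ha : a₂ * 4 ≤ a₂ * e₂ := Nat.mul_le_mul_left a₂ h23'
      have hb : a₃ * 4 ≤ a₃ * e₃ := Nat.mul_le_mul_left a₃ h33'
      omega


theorem good_bounds {g : ℕ} {t : ℕ × ℕ × ℕ} (ht : Good g t) :
    g ≤ 4 * wt t ∧ (t.2.2 = 1 → g ≤ 2 * wt t) ∧ wt t + t.1 = t.1 * t.2.1 ∧
      2 * t.1 ≤ t.1 * t.2.1 := by
  obtain ⟨a, e, f⟩ := t
  obtain ⟨he, ha, hg, hf⟩ := ht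
  simp only at he ha hg hf ⊢
  have hw := wt_eq (a := a) (f := f) he
  have h2 : a * 2 ≤ a * e := Nat.mul_le_mul_left a he
  refine ⟨?_, ?_, hw, by omega⟩
  · rcases hf with rfl | rfl
    · rw [mul_one] at hg; omega
    · omega
  · intro hf1
    rw [hf1, mul_one] at hg; omega

theorem arith_one {g a e f : ℕ} (h : Good g (a, e, f)) (hs : wt (a, e, f) + 1 = g) :
    a = 1 ∧ f = 1 := by
  obtain ⟨-, -, hw, h2⟩ := good_bounds h
  obtain ⟨he, ha, hg, hf⟩ := h
  simp only at he ha hg hf hw h2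
  rcases hf with rfl | rfl
  · rw [mul_one] at hg; constructor <;> omega
  · exfalso; omega

theorem arith_two {g a₁ e₁ f₁ a₂ e₂ f₂ : ℕ} (h₁ : Good g (a₁, e₁, f₁)) (h₂ : Good g (a₂, e₂, f₂))
    (hs : wt (a₁, e₁, f₁) + wt (a₂, e₂, f₂) + 1 = g) :
    (a₁ = 1 ∧ f₁ = 2) ∨ (a₂ = 1 ∧ f₂ = 2) ∨
      (g = 12 ∧ (a₁, e₁, f₁) = (4, 3, 1)) ∨ (g = 12 ∧ (a₂, e₂, f₂) = (4, 3, 1)) := by
  obtain ⟨-, -, hw1, h21⟩ := good_bounds h₁
  obtain ⟨-, -, hw2, h22⟩ := good_bounds h₂
  obtain ⟨he1, ha1, hg1, hf1⟩ := h₁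
  obtain ⟨he2, ha2, hg2, hf2⟩ := h₂
  simp only at he1 ha1 hg1 hf1 hw1 h21 he2 ha2 hg2 hf2 hw2 h22
  -- the mixed case
  have mixed : ∀ (a b ea eb : ℕ), 2 ≤ ea → 2 ≤ eb → 1 ≤ a → 1 ≤ b → a * ea = g →
      b * eb * 2 = g → b * eb + 1 = a + b →
      b = 1 ∨ (g = 12 ∧ a = 4 ∧ ea = 3) := by
    intro a b ea eb hea heb ha hb hga hgb hsum
    have hb2 : b * 2 ≤ b * eb := Nat.mul_le_mul_left b heb
    have hea4 : ea < 4 := by
      by_contra hge
      have hge' : 4 ≤ ea := Nat.le_of_not_lt hge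
      have : a * 4 ≤ a * ea := Nat.mul_le_mul_left a hge'
      omega
    have : ea = 2 ∨ ea = 3 := by omega
    rcases this with rfl | rfl
    · left; omega
    · right
      have heb3 : eb < 3 := by
        by_contra hge
        have hge' : 3 ≤ eb := Nat.le_of_not_lt hge
        have : b * 3 ≤ b * eb := Nat.mul_le_mul_left b hge'
        omega
      have : eb = 2 := by omega
      subst this
      omega
  rcases hf1 with rfl | rfl <;> rcases hf2 with rfl | rfl
  · exfalso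
    rw [mul_one] at hg1 hg2
    omega
  · rw [mul_one] at hg1
    rcases mixed a₁ a₂ e₁ e₂ he1 he2 ha1 ha2 hg1 hg2 (by omega) with h | ⟨h, h', h''⟩
    · right; left; exact ⟨h, rfl⟩
    · right; right; left; exact ⟨h, by rw [h', h'']⟩
  · rw [mul_one] at hg2
    rcases mixed a₂ a₁ e₂ e₁ he2 he1 ha2 ha1 hg2 hg1 (by omega) with h | ⟨h, h', h''⟩
    · left; exact ⟨h, rfl⟩
    · right; right; right; exact ⟨h, by rw [h', h'']⟩
  · exfalso; omega

theorem arith_three {g a₁ e₁ f₁ a₂ e₂ f₂ a₃ e₃ f₃ : ℕ} (h₁ : Good g (a₁, e₁, f₁))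
    (h₂ : Good g (a₂, e₂, f₂)) (h₃ : Good g (a₃, e₃, f₃))
    (hs : wt (a₁, e₁, f₁) + wt (a₂, e₂, f₂) + wt (a₃, e₃, f₃) + 1 = g) :
    (f₁ = 2 ∧ f₂ = 2 ∧ f₃ = 2) ∧
    ((a₁ = 1 ∨ a₂ = 1 ∨ a₃ = 1) ∨
      (g = 12 ∧ ((a₁, e₁) = (2, 3) ∨ (a₂, e₂) = (2, 3) ∨ (a₃, e₃) = (2, 3))) ∨
      (g = 24 ∧ (e₁ = 2 ∨ e₁ = 3 ∨ e₁ = 4) ∧ (e₂ = 2 ∨ e₂ = 3 ∨ e₂ = 4) ∧
        (e₃ = 2 ∨ e₃ = 3 ∨ e₃ = 4)) ∨
      (g = 60 ∧ (e₁ = 2 ∨ e₁ = 3 ∨ e₁ = 5) ∧ (e₂ = 2 ∨ e₂ = 3 ∨ e₂ = 5) ∧
        (e₃ = 2 ∨ e₃ = 3 ∨ e₃ = 5))) := by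
  obtain ⟨hb1, hc1, hw1, h21⟩ := good_bounds h₁
  obtain ⟨hb2, hc2, hw2, h22⟩ := good_bounds h₂
  obtain ⟨hb3, hc3, hw3, h23⟩ := good_bounds h₃
  obtain ⟨he1, ha1, hg1, hf1⟩ := h₁
  obtain ⟨he2, ha2, hg2, hf2⟩ := h₂
  obtain ⟨he3, ha3, hg3, hf3⟩ := h₃
  simp only at he1 ha1 hg1 hf1 hw1 h21 he2 ha2 hg2 hf2 hw2 h22 he3 ha3 hg3 hf3 hw3 h23 hc1 hc2 hc3
  have hf1' : f₁ = 2 := by
    rcases hf1 with h | h
    · have := hc1 h; omega
    · exact h
  have hf2' : f₂ = 2 := by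
    rcases hf2 with h | h
    · have := hc2 h; omega
    · exact h
  have hf3' : f₃ = 2 := by
    rcases hf3 with h | h
    · have := hc3 h; omega
    · exact h
  subst hf1' hf2' hf3'
  refine ⟨⟨rfl, rfl, rfl⟩, ?_⟩
  have hsum : g + 2 = 2 * (a₁ + a₂ + a₃) := by omega
  -- some e is 2
  have hex : e₁ = 2 ∨ e₂ = 2 ∨ e₃ = 2 := by
    by_contra hne
    have h1 : 3 ≤ e₁ := by omega
    have h2 : 3 ≤ e₂ := by omega
    have h3 : 3 ≤ e₃ := by omega
    have := Nat.mul_le_mul_left a₁ h1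
    have := Nat.mul_le_mul_left a₂ h2
    have := Nat.mul_le_mul_left a₃ h3
    omega
  rcases hex with rfl | rfl | rfl
  · rcases three_aux g a₁ a₂ a₃ e₂ e₃ (by omega) (by omega) (by omega) he2 he3 hsum ha2 ha3
      with h | h | h | h | h
    · left; right; left; exact h
    · left; right; right; exact h
    · right; left; refine ⟨h.1, Or.inr (Or.inl ?_)⟩; rw [h.2.2.2, h.2.1]
    · right; right; left; refine ⟨h.1, Or.inl rfl, ?_⟩; omega
    · right; right; right; refine ⟨h.1, Or.inl rfl, ?_⟩; omega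
  · rcases three_aux g a₂ a₁ a₃ e₁ e₃ (by omega) (by omega) (by omega) he1 he3 (by omega) ha1 ha3
      with h | h | h | h | h
    · left; left; exact h
    · left; right; right; exact h
    · right; left; refine ⟨h.1, Or.inl ?_⟩; rw [h.2.2.2, h.2.1]
    · right; right; left; refine ⟨h.1, ?_, Or.inl rfl, ?_⟩ <;> omega
    · right; right; right; refine ⟨h.1, ?_, Or.inl rfl, ?_⟩ <;> omega
  · rcases three_aux g a₃ a₁ a₂ e₁ e₂ (by omega) (by omega) (by omega) he1 he2 (by omega) ha1 ha2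
      with h | h | h | h | h
    · left; left; exact h
    · left; right; left; exact h
    · right; left; refine ⟨h.1, Or.inl ?_⟩; rw [h.2.2.2, h.2.1]
    · right; right; left; refine ⟨h.1, ?_, ?_, Or.inl rfl⟩ <;> omega
    · right; right; right; refine ⟨h.1, ?_, ?_, Or.inl rfl⟩ <;> omega


theorem sum_wt_ge {g : ℕ} (L : List (ℕ × ℕ × ℕ)) (hL : ∀ t ∈ L, Good g t) :
    L.length * g ≤ 4 * (L.map wt).sum := by
  induction L with
  | nil => simp
  | cons t L ih =>
    have h1 := (good_bounds (hL t (List.mem_cons_self ..))).1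
    have h2 := ih (fun s hs => hL s (List.mem_cons_of_mem _ hs))
    simp only [List.length_cons, List.map_cons, List.sum_cons]
    nlinarith

/-- The arithmetic of the class equation when all classes are of torus type. -/
theorem arithSS (g : ℕ) (hg : 1 ≤ g) (L : List (ℕ × ℕ × ℕ)) (hL : ∀ t ∈ L, Good g t)
    (hsum : (L.map wt).sum + 1 = g) :
    (L = [] ∧ g = 1) ∨ (∃ t ∈ L, t.1 = 1 ∧ t.2.2 = 1) ∨ (∃ t ∈ L, t.1 = 1 ∧ t.2.2 = 2) ∨
    (g = 12 ∧ ∃ t ∈ L, t = (4, 3, 1)) ∨ (g = 12 ∧ ∃ t ∈ L, t.1 = 2 ∧ t.2.1 = 3 ∧ t.2.2 = 2) ∨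
    (g = 24 ∧ ∀ t ∈ L, t.2.2 = 2 ∧ (t.2.1 = 2 ∨ t.2.1 = 3 ∨ t.2.1 = 4)) ∨
    (g = 60 ∧ ∀ t ∈ L, t.2.2 = 2 ∧ (t.2.1 = 2 ∨ t.2.1 = 3 ∨ t.2.1 = 5)) := by
  match L, hL, hsum with
  | [], _, hsum =>
    left; simp at hsum; exact ⟨rfl, hsum.symm⟩
  | [(a, e, f)], hL, hsum =>
    right; left
    have h := hL (a, e, f) (by simp)
    simp only [List.map_cons, List.map_nil, List.sum_cons, List.sum_nil, add_zero] at hsum
    exact ⟨(a, e, f), by simp, arith_one h hsum⟩
  | [(a₁, e₁, f₁), (a₂, e₂, f₂)], hL, hsum =>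
    have h₁ := hL (a₁, e₁, f₁) (by simp)
    have h₂ := hL (a₂, e₂, f₂) (by simp)
    simp only [List.map_cons, List.map_nil, List.sum_cons, List.sum_nil, add_zero] at hsum
    rcases arith_two h₁ h₂ (by omega) with h | h | h | h
    · right; right; left; exact ⟨(a₁, e₁, f₁), by simp, h⟩
    · right; right; left; exact ⟨(a₂, e₂, f₂), by simp, h⟩
    · right; right; right; left; exact ⟨h.1, (a₁, e₁, f₁), by simp, h.2⟩
    · right; right; right; left; exact ⟨h.1, (a₂, e₂, f₂), by simp, h.2⟩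
  | [(a₁, e₁, f₁), (a₂, e₂, f₂), (a₃, e₃, f₃)], hL, hsum =>
    have h₁ := hL (a₁, e₁, f₁) (by simp)
    have h₂ := hL (a₂, e₂, f₂) (by simp)
    have h₃ := hL (a₃, e₃, f₃) (by simp)
    simp only [List.map_cons, List.map_nil, List.sum_cons, List.sum_nil, add_zero] at hsum
    obtain ⟨⟨hf1, hf2, hf3⟩, h⟩ := arith_three h₁ h₂ h₃ (by omega)
    rcases h with (h | h | h) | h | h | h
    · right; right; left; exact ⟨(a₁, e₁, f₁), by simp, h, hf1⟩
    · right; right; left; exact ⟨(a₂, e₂, f₂), by simp, h, hf2⟩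
    · right; right; left; exact ⟨(a₃, e₃, f₃), by simp, h, hf3⟩
    · right; right; right; right; left
      refine ⟨h.1, ?_⟩
      rcases h.2 with h' | h' | h'
      · refine ⟨(a₁, e₁, f₁), by simp, ?_⟩
        simp only [Prod.mk.injEq] at h'
        exact ⟨h'.1, h'.2, hf1⟩
      · refine ⟨(a₂, e₂, f₂), by simp, ?_⟩
        simp only [Prod.mk.injEq] at h'
        exact ⟨h'.1, h'.2, hf2⟩
      · refine ⟨(a₃, e₃, f₃), by simp, ?_⟩
        simp only [Prod.mk.injEq] at h'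
        exact ⟨h'.1, h'.2, hf3⟩
    · right; right; right; right; right; left
      refine ⟨h.1, ?_⟩
      intro t ht
      simp only [List.mem_cons, List.not_mem_nil, or_false] at ht
      rcases ht with rfl | rfl | rfl
      · exact ⟨hf1, h.2.1⟩
      · exact ⟨hf2, h.2.2.1⟩
      · exact ⟨hf3, h.2.2.2⟩
    · right; right; right; right; right; right
      refine ⟨h.1, ?_⟩
      intro t ht
      simp only [List.mem_cons, List.not_mem_nil, or_false] at ht
      rcases ht with rfl | rfl | rfl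
      · exact ⟨hf1, h.2.1⟩
      · exact ⟨hf2, h.2.2.1⟩
      · exact ⟨hf3, h.2.2.2⟩
  | t₁ :: t₂ :: t₃ :: t₄ :: L, hL, hsum =>
    exfalso
    have := sum_wt_ge (g := g) (t₁ :: t₂ :: t₃ :: t₄ :: L) hL
    simp only [List.length_cons] at this
    have h4 : 4 * g ≤ (L.length + 1 + 1 + 1 + 1) * g := Nat.mul_le_mul_right g (by omega)
    omega


theorem nt_aux (q k m e : ℕ) (hq : 3 ≤ q) (hk : 2 ≤ k) (hkq : k ∣ q - 1) (hm : 1 ≤ m)
    (h : e * (1 + m * (q - 2)) = (1 + m * q) * k) :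
    (m = 1 ∧ (k = q - 1 ∨ 2 * k = q - 1)) ∨ (q = 3 ∧ k = 2 ∧ m = 3 ∧ e = 5) := by
  obtain ⟨r, rfl⟩ : ∃ r, q = r + 2 := ⟨q - 2, by omega⟩
  simp only [Nat.add_sub_cancel] at h
  have hr : 1 ≤ r := by omega
  have hkq' : k ∣ r + 1 := by
    have : r + 2 - 1 = r + 1 := by omega
    rwa [this] at hkq
  set D := 1 + m * r with hD
  have h1 : (1 + m * (r + 2)) * k = D * k + 2 * m * k := by rw [hD]; ring
  have hdvd : D ∣ 2 * m * k := by
    have h2 : D ∣ D * k + 2 * m * k := by rw [← h1, ← h]; exact dvd_mul_left _ _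
    exact (Nat.dvd_add_right (dvd_mul_right D k)).1 h2
  have hcop : Nat.Coprime D m := by
    rw [hD]
    have : Nat.Coprime (1 + m * r) m := by
      rw [Nat.coprime_comm]
      have := Nat.coprime_one_right m
      rw [Nat.coprime_add_mul_left_right]
      exact this
    exact this
  have hdvd2 : D ∣ 2 * k := by
    have : D ∣ m * (2 * k) := by
      have e1 : 2 * m * k = m * (2 * k) := by ring
      rwa [e1] at hdvd
    exact hcop.dvd_of_dvd_mul_left this
  have hkpos : 0 < k := by omega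
  have hDle : D ≤ 2 * k := Nat.le_of_dvd (by omega) hdvd2
  have hkle : k ≤ r + 1 := Nat.le_of_dvd (by omega) hkq'
  -- m r + 1 ≤ 2 (r+1)
  have hmr : m * r + 1 ≤ 2 * r + 2 := by rw [hD] at hDle; omega
  have hm3 : m ≤ 3 := by
    by_contra hgt
    have : 4 ≤ m := by omega
    have : 4 * r ≤ m * r := Nat.mul_le_mul_right r this
    omega
  interval_cases m
  · -- m = 1
    left
    refine ⟨rfl, ?_⟩
    obtain ⟨c, hc⟩ := hkq'
    have hD1 : D = r + 1 := by rw [hD]; ring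
    rw [hD1, hc] at hdvd2
    have hc2 : c ∣ 2 := by
      have : k * c ∣ k * 2 := by rwa [mul_comm 2 k] at hdvd2
      exact (Nat.mul_dvd_mul_iff_left hkpos).1 this
    have : c = 1 ∨ c = 2 := by
      have := Nat.le_of_dvd (by norm_num) hc2
      interval_cases c
      · simp at hc2
      · left; rfl
      · right; rfl
    rcases this with rfl | rfl
    · left; omega
    · right; omega
  · -- m = 2
    exfalso
    have hD2 : D = 2 * r + 1 := by rw [hD]; ring
    obtain ⟨c, hc⟩ := hdvd2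
    rw [hD2] at hc
    -- 2k = (2r+1) c, k ≤ r+1
    have hc1 : c = 1 := by
      by_contra hne
      have hc0 : c ≠ 0 := by rintro rfl; omega
      have : 2 ≤ c := by omega
      have : (2 * r + 1) * 2 ≤ (2 * r + 1) * c := Nat.mul_le_mul_left _ this
      omega
    subst hc1
    omega
  · -- m = 3
    right
    have hr1 : r = 1 := by omega
    subst hr1
    have hD3 : D = 4 := by rw [hD]
    rw [hD3] at hdvd2 h
    have hk2 : k = 2 := by omega
    subst hk2
    refine ⟨rfl, rfl, rfl, ?_⟩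
    omega

theorem sum_wt_ge_of_mem {g : ℕ} (L : List (ℕ × ℕ × ℕ)) (hL : ∀ t ∈ L, Good g t)
    (hne : L ≠ []) : g ≤ 4 * (L.map wt).sum := by
  have h := sum_wt_ge L hL
  have h1 : 1 ≤ L.length := by
    rcases L with _ | ⟨t, L⟩
    · exact absurd rfl hne
    · simp
  have : 1 * g ≤ L.length * g := Nat.mul_le_mul_right g h1
  omega

theorem sum_wt_ge_of_two {g : ℕ} (t₁ t₂ : ℕ × ℕ × ℕ) (L : List (ℕ × ℕ × ℕ))
    (hL : ∀ t ∈ t₁ :: t₂ :: L, Good g t) : 2 * g ≤ 4 * ((t₁ :: t₂ :: L).map wt).sum := by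
  have h := sum_wt_ge (t₁ :: t₂ :: L) hL
  simp only [List.length_cons] at h
  have : 2 * g ≤ (L.length + 1 + 1) * g := Nat.mul_le_mul_right g (by omega)
  omega

/-- The arithmetic of the class equation when there is a class of unipotent type:
`q = |Q|`, `k = |N(Q) : Z Q|`, `N = 1 + m q` the number of conjugates. -/
theorem arithUni (q k m : ℕ) (hq : 2 ≤ q) (hk : 1 ≤ k) (hkq : k ∣ q - 1)
    (L : List (ℕ × ℕ × ℕ)) (hL : ∀ t ∈ L, Good ((1 + m * q) * q * k) t)
    (hsum : (L.map wt).sum + (1 + m * q) * (q - 1) + 1 = (1 + m * q) * q * k)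
    (hK : 2 ≤ k → ∃ t ∈ L, t.2.1 = k ∧ (t.2.2 = 2 → 1 ≤ m)) :
    m = 0 ∨ (q = 2 ∧ k = 1 ∧ ∃ t ∈ L, t.1 = 1 ∧ t.2.2 = 2) ∨ (q = 3 ∧ k = 1 ∧ m = 1) ∨
    (2 ≤ k ∧ m = 1 ∧ (k = q - 1 ∨ 2 * k = q - 1) ∧ ∀ t ∈ L, t.2.2 = 2) ∨
    (q = 3 ∧ k = 2 ∧ m = 3 ∧ ∀ t ∈ L, t.2.2 = 2 ∧ (t.2.1 = 2 ∨ t.2.1 = 5)) := by
  by_cases hm0 : m = 0
  · left; exact hm0
  right
  have hm1 : 1 ≤ m := Nat.one_le_iff_ne_zero.2 hm0
  set N := 1 + m * q with hN
  have hNq : N * (q - 1) + N = N * q := by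
    obtain ⟨r, rfl⟩ : ∃ r, q = r + 1 := ⟨q - 1, by omega⟩
    simp only [Nat.add_sub_cancel]; ring
  have hmq : q ≤ m * q := Nat.le_mul_of_pos_left q hm1
  have hN3 : q + 1 ≤ N := by omega
  have hNq2 : N * 2 ≤ N * q := Nat.mul_le_mul_left N hq
  rcases Nat.lt_or_ge k 2 with hk2 | hk2
  · -- k = 1
    have hk1 : k = 1 := by omega
    subst hk1
    rw [mul_one] at hsum hL
    have hsum' : (L.map wt).sum + 1 = N := by omega
    match L, hL, hsum' with
    | [], _, hs => simp at hs; omega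
    | t₁ :: t₂ :: L, hL, hs =>
      exfalso
      have := sum_wt_ge_of_two t₁ t₂ L hL
      omega
    | [(a, e, f)], hL, hs =>
      have h := hL (a, e, f) (by simp)
      simp only [List.map_cons, List.map_nil, List.sum_cons, List.sum_nil, add_zero] at hs
      obtain ⟨hb, hc, hw, h2⟩ := good_bounds h
      obtain ⟨he, ha, hg, hf⟩ := h
      simp only at he ha hg hf hw h2 hc
      have hf2 : f = 2 := by
        rcases hf with h | h
        · have := hc h; omega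
        · exact h
      subst hf2
      have hq3 : q ≤ 3 := by
        by_contra hgt
        have : N * 4 ≤ N * q := Nat.mul_le_mul_left N (by omega)
        omega
      have : q = 2 ∨ q = 3 := by omega
      rcases this with rfl | rfl
      · left
        refine ⟨rfl, rfl, (a, e, 2), by simp, ?_, rfl⟩
        show a = 1
        omega
      · right; left
        refine ⟨rfl, rfl, ?_⟩
        have he3 : e < 3 := by
          by_contra hge
          have : a * 3 ≤ a * e := Nat.mul_le_mul_left a (by omega)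
          omega
        have he2 : e = 2 := by omega
        subst he2
        omega
  · -- k ≥ 2
    right; right
    obtain ⟨tK, htK, hek, hfm⟩ := hK hk2
    obtain ⟨r, rfl⟩ : ∃ r, q = r + 2 := by
      refine ⟨q - 2, ?_⟩
      have : k ≤ q - 1 := Nat.le_of_dvd (by
        by_contra h0
        have : q - 1 = 0 := by omega
        rw [this] at hkq
        omega) hkq
      omega
    have hr : 1 ≤ r := by
      have : k ≤ r + 2 - 1 := Nat.le_of_dvd (by omega) hkq
      omega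
    have hperm := List.perm_cons_erase htK
    have hsumP : (L.map wt).sum = wt tK + ((L.erase tK).map wt).sum := by
      rw [(hperm.map wt).sum_eq]; simp
    have hL2 : ∀ t ∈ L.erase tK, Good (N * (r + 2) * k) t :=
      fun t ht => hL t (List.mem_of_mem_erase ht)
    have hgK := hL tK htK
    obtain ⟨a, e, f⟩ := tK
    simp only at hek hfm
    subst hek
    obtain ⟨-, -, hw, h2⟩ := good_bounds hgK
    obtain ⟨he, ha, hg, hf⟩ := hgK
    simp only at he ha hg hf hw h2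
    have hNqk2 : N * (r + 2) * 2 ≤ N * (r + 2) * e := Nat.mul_le_mul_left _ hk2
    have hNq3 : N * 3 ≤ N * (r + 2) := Nat.mul_le_mul_left N (by omega)
    have hafe : a * f = N * (r + 2) := by
      have h1 : (a * f) * e = (N * (r + 2)) * e := by rw [← hg]; ring
      exact Nat.eq_of_mul_eq_mul_right (by omega) h1
    rcases hf with rfl | rfl
    · -- f = 1 : impossible since m ≠ 0
      exfalso
      rw [mul_one] at hafe
      rw [mul_one] at hg
      have hs2 : ((L.erase (a, e, 1)).map wt).sum + 1 = N := by omega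
      have hne : L.erase (a, e, 1) ≠ [] := by
        intro h0
        rw [h0] at hs2
        simp at hs2
        omega
      have := sum_wt_ge_of_mem _ hL2 hne
      omega
    · -- f = 2
      have hs2 : 2 * ((L.erase (a, e, 2)).map wt).sum + N * (r + 2) + 2 =
          N * (r + 2) * e + 2 * N := by omega
      match hL2e : L.erase (a, e, 2), hL2, hs2 with
      | [], _, hs => simp at hs; omega
      | t₁ :: t₂ :: L', hL', hs =>
        exfalso
        have := sum_wt_ge_of_two t₁ t₂ L' hL'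
        omega
      | [(a₁, e₁, f₁)], hL', hs =>
        have h := hL' (a₁, e₁, f₁) (by simp)
        simp only [List.map_cons, List.map_nil, List.sum_cons, List.sum_nil, add_zero] at hs
        obtain ⟨hb, hc, hw₁, h2₁⟩ := good_bounds h
        obtain ⟨he₁, ha₁, hg₁, hf₁⟩ := h
        simp only at he₁ ha₁ hg₁ hf₁ hw₁ h2₁ hc
        have hf2 : f₁ = 2 := by
          rcases hf₁ with h | h
          · have := hc h; omega
          · exact h
        subst hf2
        have h2a : 2 * a₁ + 2 * N = N * (r + 2) + 2 := by omega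
        -- e₁ * (N q - 2 N + 2) = N q k
        have hmain : e₁ * (1 + m * (r + 2 - 2)) = (1 + m * (r + 2)) * e := by
          simp only [Nat.add_sub_cancel]
          have h3 : e₁ * (2 * a₁) = N * (r + 2) * e := by rw [← hg₁]; ring
          have h4 : 2 * a₁ = (r + 2) * (1 + m * r) := by
            have : 2 * a₁ + 2 * N = (r + 2) * (1 + m * r) + 2 * N := by
              rw [h2a, hN]; ring
            omega
          rw [h4] at h3
          have h5 : (r + 2) * (e₁ * (1 + m * r)) = (r + 2) * ((1 + m * (r + 2)) * e) := by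
            rw [← hN]
            calc (r + 2) * (e₁ * (1 + m * r)) = e₁ * ((r + 2) * (1 + m * r)) := by ring
              _ = N * (r + 2) * e := h3
              _ = (r + 2) * (N * e) := by ring
          exact Nat.eq_of_mul_eq_mul_left (by omega) h5
        rcases nt_aux (r + 2) e m e₁ (by omega) hk2 hkq hm1 hmain with ⟨hm, hkk⟩ | ⟨hq3, hk, hm, he5⟩
        · left
          refine ⟨hk2, hm, hkk, ?_⟩
          intro t ht
          have ht' : t ∈ (a, e, 2) :: L.erase (a, e, 2) := hperm.mem_iff.1 ht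
          rw [hL2e] at ht'
          simp only [List.mem_cons, List.not_mem_nil, or_false] at ht'
          rcases ht' with rfl | rfl <;> rfl
        · right
          refine ⟨hq3, hk, hm, ?_⟩
          intro t ht
          have ht' : t ∈ (a, e, 2) :: L.erase (a, e, 2) := hperm.mem_iff.1 ht
          rw [hL2e] at ht'
          simp only [List.mem_cons, List.not_mem_nil, or_false] at ht'
          rcases ht' with rfl | rfl
          · exact ⟨rfl, Or.inl hk⟩
          · exact ⟨rfl, Or.inr he5⟩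

end Cfsg.Agent.Helper46.DkArith
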