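import Mathlib
import Cfsg.Agent.Helper46.CAPart
import Cfsg.Agent.Helper46.DkArith

set_option autoImplicit false

/-!
# Dickson project: class data of a CA-group and the numerical consequences of the class equation
-/

namespace Cfsg.Agent.Helper46
namespace IsCA

open DkArith

variable {Γ : Type*} [Group Γ] {Z : Subgroup Γ}

/-- centralizer of an element -/
abbrev Cx (x : Γ) : Subgroup Γ := Subgroup.centralizer ({x} : Set Γ)

/-- normalizer of the centralizer of an element -/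
abbrev Nx (x : Γ) : Subgroup Γ := Subgroup.normalizer ((Cx x : Subgroup Γ) : Set Γ)

/-- `|C(x) : Z|` -/
noncomputable def eOf (Z : Subgroup Γ) (x : Γ) : ℕ := Nat.card (Cx x) / Nat.card Z

/-- `|N(C(x)) : C(x)|` -/
noncomputable def fOf (x : Γ) : ℕ := Nat.card (Nx x) / Nat.card (Cx x)

/-- `|Γ : N(C(x))|` -/
noncomputable def aOf (x : Γ) : ℕ := Nat.card Γ / Nat.card (Nx x)

/-- the class datum of an element -/
noncomputable def datum (Z : Subgroup Γ) (x : Γ) : ℕ × ℕ × ℕ := (aOf x, eOf Z x, fOf x)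

/-- `|Γ : Z|` -/
noncomputable def gOf (Z : Subgroup Γ) : ℕ := Nat.card Γ / Nat.card Z

theorem self_mem_Cx (x : Γ) : x ∈ Cx x := Subgroup.mem_centralizer_singleton_iff.2 rfl

theorem card_Cx [Finite Γ] (h : IsCA Z) {x : Γ} (hx : x ∉ Z) :
    Nat.card (Cx x) = Nat.card Z * eOf Z x ∧ 2 ≤ eOf Z x := by
  have hle : Z ≤ Cx x := h.le_centralizer x
  have hdvd : Nat.card Z ∣ Nat.card (Cx x) := Subgroup.card_dvd_of_le hle
  have h1 : Nat.card (Cx x) = Nat.card Z * eOf Z x := (Nat.mul_div_cancel' hdvd).symm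
  refine ⟨h1, ?_⟩
  have hzpos : 0 < Nat.card Z := Nat.card_pos
  have hcpos : 0 < Nat.card (Cx x) := Nat.card_pos
  by_contra hlt
  have he : eOf Z x = 0 ∨ eOf Z x = 1 := by omega
  rcases he with he | he
  · rw [he, mul_zero] at h1; omega
  · rw [he, mul_one] at h1
    have : Z = Cx x := Subgroup.eq_of_le_of_card_ge hle (by rw [h1])
    apply hx; rw [this]; exact self_mem_Cx x

theorem card_Nx [Finite Γ] (x : Γ) :
    Nat.card (Nx x) = Nat.card (Cx x) * fOf x ∧ 1 ≤ fOf x := by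
  have hle : Cx x ≤ Nx x := Subgroup.le_normalizer
  have hdvd : Nat.card (Cx x) ∣ Nat.card (Nx x) := Subgroup.card_dvd_of_le hle
  have h1 : Nat.card (Nx x) = Nat.card (Cx x) * fOf x := (Nat.mul_div_cancel' hdvd).symm
  refine ⟨h1, ?_⟩
  have hpos : 0 < Nat.card (Nx x) := Nat.card_pos
  by_contra hlt
  have he : fOf x = 0 := by omega
  rw [he, mul_zero] at h1; omega

theorem card_top [Finite Γ] (x : Γ) :
    Nat.card Γ = Nat.card (Nx x) * aOf x ∧ 1 ≤ aOf x := by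
  have hdvd : Nat.card (Nx x) ∣ Nat.card Γ := Subgroup.card_subgroup_dvd_card _
  have h1 : Nat.card Γ = Nat.card (Nx x) * aOf x := (Nat.mul_div_cancel' hdvd).symm
  refine ⟨h1, ?_⟩
  have hpos : 0 < Nat.card Γ := Nat.card_pos
  by_contra hlt
  have he : aOf x = 0 := by omega
  rw [he, mul_zero] at h1; omega

theorem card_eq_gOf [Finite Γ] (Z : Subgroup Γ) : Nat.card Γ = Nat.card Z * gOf Z :=
  (Nat.mul_div_cancel' (Subgroup.card_subgroup_dvd_card Z)).symm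

theorem good_datum [Finite Γ] (h : IsCA Z) {x : Γ} (hx : x ∉ Z) (hf : fOf x = 1 ∨ fOf x = 2) :
    Good (gOf Z) (datum Z x) := by
  obtain ⟨h1, he⟩ := h.card_Cx hx
  obtain ⟨h2, -⟩ := card_Nx x
  obtain ⟨h3, ha⟩ := card_top x
  refine ⟨he, ha, ?_, hf⟩
  show aOf x * eOf Z x * fOf x = gOf Z
  have hz : 0 < Nat.card Z := Nat.card_pos
  have h4 := card_eq_gOf Z
  rw [h3, h2, h1] at h4
  have : Nat.card Z * (aOf x * eOf Z x * fOf x) = Nat.card Z * gOf Z := by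
    rw [← h4]; ring
  exact Nat.eq_of_mul_eq_mul_left hz this

theorem datum_mul [Finite Γ] (h : IsCA Z) {x : Γ} (hx : x ∉ Z) :
    aOf x * eOf Z x * fOf x = gOf Z := by
  obtain ⟨h1, he⟩ := h.card_Cx hx
  obtain ⟨h2, -⟩ := card_Nx x
  obtain ⟨h3, ha⟩ := card_top x
  have hz : 0 < Nat.card Z := Nat.card_pos
  have h4 := card_eq_gOf Z
  rw [h3, h2, h1] at h4
  have : Nat.card Z * (aOf x * eOf Z x * fOf x) = Nat.card Z * gOf Z := by
    rw [← h4]; ring
  exact Nat.eq_of_mul_eq_mul_left hz this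

theorem ncard_classUnion [Finite Γ] (h : IsCA Z) {x : Γ} (hx : x ∉ Z) :
    (classUnion Z x).ncard = Nat.card Z * wt (datum Z x) := by
  obtain ⟨h1, he⟩ := h.card_Cx hx
  obtain ⟨h2, hf⟩ := card_Nx x
  obtain ⟨h3, ha⟩ := card_top x
  have hcu := h.card_classUnion hx
  rw [Nat.card_coe_set_eq] at hcu
  have hN : 0 < Nat.card (Nx x) := Nat.card_pos
  have hw : wt (datum Z x) + aOf x = aOf x * eOf Z x := wt_eq he
  have : (classUnion Z x).ncard * Nat.card (Nx x) =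
      (Nat.card Z * wt (datum Z x)) * Nat.card (Nx x) := by
    rw [hcu, h3, h1]
    have e1 : Nat.card Z * eOf Z x - Nat.card Z = Nat.card Z * (eOf Z x - 1) := by
      rw [Nat.mul_sub, mul_one]
    rw [e1]
    show _ = Nat.card Z * (aOf x * (eOf Z x - 1)) * Nat.card (Nx x)
    ring
  exact Nat.eq_of_mul_eq_mul_right hN this

/-! ### saturated sets and representatives -/

/-- a set of non-central elements closed under taking class-unions -/
def Sat (Z : Subgroup Γ) (T : Set Γ) : Prop := ∀ x ∈ T, x ∉ Z ∧ classUnion Z x ⊆ T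

theorem sat_compl (h : IsCA Z) : Sat Z {t : Γ | t ∉ Z} := fun x hx => ⟨hx, classUnion_subset x⟩

theorem sat_diff (h : IsCA Z) {T : Set Γ} (hT : Sat Z T) {x : Γ} (hx : x ∉ Z) :
    Sat Z (T \ classUnion Z x) := by
  intro y hy
  obtain ⟨hyZ, hsub⟩ := hT y hy.1
  refine ⟨hyZ, ?_⟩
  intro t ht
  refine ⟨hsub ht, ?_⟩
  intro htx
  rcases h.classUnion_disjoint_or_eq hx hyZ with heq | hdisj
  · apply hy.2
    rw [heq]
    exact mem_classUnion_self hyZ
  · exact Set.disjoint_left.1 hdisj htx ht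

theorem exists_reps [Finite Γ] (h : IsCA Z) : ∀ (n : ℕ) (T : Set Γ), Sat Z T → T.ncard = n →
    ∃ l : List Γ, (∀ x ∈ l, x ∈ T) ∧ (∀ t ∈ T, ∃ x ∈ l, t ∈ classUnion Z x) ∧
      T.ncard = (l.map (fun x => (classUnion Z x).ncard)).sum := by
  intro n
  induction n using Nat.strong_induction_on with
  | _ n ih =>
    intro T hT hn
    by_cases hne : T.Nonempty
    · obtain ⟨x, hx⟩ := hne
      obtain ⟨hxZ, hsub⟩ := hT x hx
      have hfin : (classUnion Z x).Finite := Set.toFinite _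
      have hcard : (T \ classUnion Z x).ncard = T.ncard - (classUnion Z x).ncard :=
        Set.ncard_sdiff hsub hfin
      have hle : (classUnion Z x).ncard ≤ T.ncard := Set.ncard_le_ncard hsub (Set.toFinite _)
      have hpos : 0 < (classUnion Z x).ncard := by
        rw [Set.ncard_pos hfin]
        exact ⟨x, mem_classUnion_self hxZ⟩
      obtain ⟨l, hl1, hl2, hl3⟩ := ih (T \ classUnion Z x).ncard (by omega) _
        (h.sat_diff hT hxZ) rfl
      refine ⟨x :: l, ?_, ?_, ?_⟩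
      · intro y hy
        rcases List.mem_cons.1 hy with rfl | hy
        · exact hx
        · exact (hl1 y hy).1
      · intro t ht
        by_cases htx : t ∈ classUnion Z x
        · exact ⟨x, by simp, htx⟩
        · obtain ⟨y, hy, hty⟩ := hl2 t ⟨ht, htx⟩
          exact ⟨y, List.mem_cons_of_mem _ hy, hty⟩
      · simp only [List.map_cons, List.sum_cons]
        rw [← hl3]; omega
    · rw [Set.not_nonempty_iff_eq_empty] at hne
      refine ⟨[], by simp, ?_, ?_⟩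
      · intro t ht; rw [hne] at ht; exact absurd ht (Set.notMem_empty t)
      · rw [hne]; simp

/-! ### invariance of the datum -/

theorem card_Cx_conj (x g : Γ) : Nat.card (Cx (g * x * g⁻¹)) = Nat.card (Cx x) := by
  symm
  refine Nat.card_congr ((MulAut.conj g).toEquiv.subtypeEquiv ?_)
  intro y
  show y ∈ Cx x ↔ g * y * g⁻¹ ∈ Cx (g * x * g⁻¹)
  rw [mem_centralizer_conj_iff]
  have : g⁻¹ * (g * y * g⁻¹) * g = y := by group
  rw [this]

theorem mem_Nx_conj_iff (x g y : Γ) : g * y * g⁻¹ ∈ Nx (g * x * g⁻¹) ↔ y ∈ Nx x := by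
  rw [Subgroup.mem_normalizer_iff, Subgroup.mem_normalizer_iff]
  constructor
  · intro hy c
    have h1 := hy (g * c * g⁻¹)
    rw [mem_centralizer_conj_iff, mem_centralizer_conj_iff] at h1
    have e1 : g⁻¹ * (g * c * g⁻¹) * g = c := by group
    have e2 : g⁻¹ * (g * y * g⁻¹ * (g * c * g⁻¹) * (g * y * g⁻¹)⁻¹) * g = y * c * y⁻¹ := by group
    rw [e1, e2] at h1
    exact h1
  · intro hy c
    rw [mem_centralizer_conj_iff, mem_centralizer_conj_iff]
    have h1 := hy (g⁻¹ * c * g)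
    have e2 : g⁻¹ * (g * y * g⁻¹ * c * (g * y * g⁻¹)⁻¹) * g = y * (g⁻¹ * c * g) * y⁻¹ := by group
    rw [e2]
    exact h1

theorem card_Nx_conj (x g : Γ) : Nat.card (Nx (g * x * g⁻¹)) = Nat.card (Nx x) := by
  symm
  refine Nat.card_congr ((MulAut.conj g).toEquiv.subtypeEquiv ?_)
  intro y
  show y ∈ Nx x ↔ g * y * g⁻¹ ∈ Nx (g * x * g⁻¹)
  rw [mem_Nx_conj_iff]

theorem datum_conj (x g : Γ) : datum Z (g * x * g⁻¹) = datum Z x := by
  unfold datum aOf eOf fOf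
  rw [card_Cx_conj, card_Nx_conj]

theorem Cx_eq_of_mem_classUnion (h : IsCA Z) {x t : Γ} (hx : x ∉ Z) (ht : t ∈ classUnion Z x) :
    ∃ g : Γ, Cx t = Cx (g * x * g⁻¹) := by
  obtain ⟨htZ, g, hg⟩ := ht
  exact ⟨g, h.centralizer_eq htZ (h.conj_not_mem hx g) hg⟩

theorem datum_eq_of_mem (h : IsCA Z) {x t : Γ} (hx : x ∉ Z) (ht : t ∈ classUnion Z x) :
    datum Z t = datum Z x := by
  obtain ⟨g, hg⟩ := h.Cx_eq_of_mem_classUnion hx ht
  rw [← datum_conj (Z := Z) x g]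
  unfold datum aOf eOf fOf Nx
  rw [hg]


/-! ### the numerical theorems -/

theorem ncard_compl_Z [Finite Γ] (Z : Subgroup Γ) :
    ({t : Γ | t ∉ Z} : Set Γ).ncard + Nat.card Z = Nat.card Γ := by
  have h1 := Set.ncard_add_ncard_compl ((Z : Set Γ))
  have h2 : ((Z : Set Γ))ᶜ = {t : Γ | t ∉ Z} := by ext t; simp
  rw [h2] at h1
  have h3 : ((Z : Set Γ)).ncard = Nat.card Z := by
    rw [← Nat.card_coe_set_eq]; rfl
  omega

theorem sum_reps [Finite Γ] (h : IsCA Z) (l : List Γ) (hl : ∀ x ∈ l, x ∉ Z) :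
    (l.map (fun x => (classUnion Z x).ncard)).sum =
      Nat.card Z * ((l.map (datum Z)).map wt).sum := by
  induction l with
  | nil => simp
  | cons x l ih =>
    simp only [List.map_cons, List.sum_cons]
    rw [ih (fun y hy => hl y (List.mem_cons_of_mem _ hy)),
      h.ncard_classUnion (hl x (List.mem_cons_self ..))]
    ring

theorem top_of_a_one [Finite Γ] {x : Γ} (ha : aOf x = 1) : Nx x = ⊤ := by
  have h := (card_top x).1
  rw [ha, mul_one] at h
  exact (Subgroup.card_eq_iff_eq_top _).1 h.symm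

theorem Cx_top_of_a_f_one [Finite Γ] {x : Γ} (ha : aOf x = 1) (hf : fOf x = 1) : Cx x = ⊤ := by
  have h := (card_top x).1
  have h2 := (card_Nx x).1
  rw [ha, mul_one] at h
  rw [hf, mul_one] at h2
  exact (Subgroup.card_eq_iff_eq_top _).1 (by rw [← h2, ← h])

/-- The class equation when all classes have `f ≤ 2`. -/
theorem numSS [Finite Γ] (h : IsCA Z) (hf : ∀ x : Γ, x ∉ Z → fOf x = 1 ∨ fOf x = 2) :
    Z = ⊤ ∨ (∃ x, x ∉ Z ∧ Cx x = ⊤) ∨ (∃ x, x ∉ Z ∧ Nx x = ⊤ ∧ fOf x = 2) ∨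
    (gOf Z = 12 ∧ ∃ x, x ∉ Z ∧ datum Z x = (4, 3, 1)) ∨
    (gOf Z = 12 ∧ ∃ x, x ∉ Z ∧ aOf x = 2 ∧ eOf Z x = 3 ∧ fOf x = 2) ∨
    (gOf Z = 24 ∧ ∀ x, x ∉ Z → fOf x = 2 ∧ (eOf Z x = 2 ∨ eOf Z x = 3 ∨ eOf Z x = 4)) ∨
    (gOf Z = 60 ∧ ∀ x, x ∉ Z → fOf x = 2 ∧ (eOf Z x = 2 ∨ eOf Z x = 3 ∨ eOf Z x = 5)) := by
  obtain ⟨l, hl1, hl2, hl3⟩ := h.exists_reps _ {t : Γ | t ∉ Z} h.sat_compl rfl
  have hlZ : ∀ x ∈ l, x ∉ Z := hl1
  rw [h.sum_reps l hlZ] at hl3
  have hz : 0 < Nat.card Z := Nat.card_pos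
  have hgpos : 1 ≤ gOf Z := by
    have := card_eq_gOf Z
    have hpos : 0 < Nat.card Γ := Nat.card_pos
    by_contra h0
    have h00 : gOf Z = 0 := by omega
    rw [h00, mul_zero] at this
    omega
  have hsum : ((l.map (datum Z)).map wt).sum + 1 = gOf Z := by
    have h1 := ncard_compl_Z Z
    rw [hl3, card_eq_gOf Z] at h1
    have : Nat.card Z * (((l.map (datum Z)).map wt).sum + 1) = Nat.card Z * gOf Z := by
      rw [← h1]; ring
    exact Nat.eq_of_mul_eq_mul_left hz this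
  have hgood : ∀ t ∈ l.map (datum Z), Good (gOf Z) t := by
    intro t ht
    obtain ⟨x, hx, rfl⟩ := List.mem_map.1 ht
    exact h.good_datum (hlZ x hx) (hf x (hlZ x hx))
  have hall : ∀ x : Γ, x ∉ Z → datum Z x ∈ l.map (datum Z) := by
    intro x hx
    obtain ⟨y, hy, hxy⟩ := hl2 x hx
    rw [h.datum_eq_of_mem (hlZ y hy) hxy]
    exact List.mem_map.2 ⟨y, hy, rfl⟩
  rcases arithSS (gOf Z) hgpos _ hgood hsum with h1 | h1 | h1 | h1 | h1 | h1 | h1
  · left
    have := card_eq_gOf Z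
    rw [h1.2, mul_one] at this
    exact (Subgroup.card_eq_iff_eq_top _).1 this.symm
  · right; left
    obtain ⟨t, ht, ha, hf1⟩ := h1
    obtain ⟨x, hx, rfl⟩ := List.mem_map.1 ht
    exact ⟨x, hlZ x hx, Cx_top_of_a_f_one ha hf1⟩
  · right; right; left
    obtain ⟨t, ht, ha, hf1⟩ := h1
    obtain ⟨x, hx, rfl⟩ := List.mem_map.1 ht
    exact ⟨x, hlZ x hx, top_of_a_one ha, hf1⟩
  · right; right; right; left
    obtain ⟨hg, t, ht, hte⟩ := h1
    obtain ⟨x, hx, rfl⟩ := List.mem_map.1 ht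
    exact ⟨hg, x, hlZ x hx, hte⟩
  · right; right; right; right; left
    obtain ⟨hg, t, ht, hte⟩ := h1
    obtain ⟨x, hx, rfl⟩ := List.mem_map.1 ht
    exact ⟨hg, x, hlZ x hx, hte⟩
  · right; right; right; right; right; left
    exact ⟨h1.1, fun x hx => h1.2 _ (hall x hx)⟩
  · right; right; right; right; right; right
    exact ⟨h1.1, fun x hx => h1.2 _ (hall x hx)⟩

/-- The class equation when there is a distinguished class (of unipotent type). -/
theorem numUni [Finite Γ] (h : IsCA Z) {x₀ : Γ} (hx₀ : x₀ ∉ Z) (q k m : ℕ)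
    (hq : eOf Z x₀ = q) (hk : fOf x₀ = k) (ha : aOf x₀ = 1 + m * q) (hkq : k ∣ q - 1)
    (hf : ∀ x : Γ, x ∉ Z → x ∉ classUnion Z x₀ → fOf x = 1 ∨ fOf x = 2)
    (hK : 2 ≤ k → ∃ y : Γ, y ∉ Z ∧ y ∉ classUnion Z x₀ ∧ eOf Z y = k ∧ (fOf y = 2 → 1 ≤ m)) :
    m = 0 ∨
    (q = 2 ∧ k = 1 ∧ ∃ x, x ∉ Z ∧ Nx x = ⊤ ∧ fOf x = 2 ∧ x ∉ classUnion Z x₀) ∨
    (q = 3 ∧ k = 1 ∧ m = 1) ∨
    (2 ≤ k ∧ m = 1 ∧ (k = q - 1 ∨ 2 * k = q - 1) ∧
      ∀ x, x ∉ Z → x ∉ classUnion Z x₀ → fOf x = 2) ∨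
    (q = 3 ∧ k = 2 ∧ m = 3 ∧
      ∀ x, x ∉ Z → x ∉ classUnion Z x₀ → fOf x = 2 ∧ (eOf Z x = 2 ∨ eOf Z x = 5)) := by
  have hsat : Sat Z ({t : Γ | t ∉ Z} \ classUnion Z x₀) := h.sat_diff h.sat_compl hx₀
  obtain ⟨l, hl1, hl2, hl3⟩ := h.exists_reps _ _ hsat rfl
  have hlZ : ∀ x ∈ l, x ∉ Z := fun x hx => (hl1 x hx).1
  have hlU : ∀ x ∈ l, x ∉ classUnion Z x₀ := fun x hx => (hl1 x hx).2
  rw [h.sum_reps l hlZ] at hl3
  have hz : 0 < Nat.card Z := Nat.card_pos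
  have hq2 : 2 ≤ q := hq ▸ (h.card_Cx hx₀).2
  have hk1 : 1 ≤ k := hk ▸ (card_Nx x₀).2
  have hg : gOf Z = (1 + m * q) * q * k := by
    rw [← h.datum_mul hx₀, hq, hk, ha]
  have hcu : (classUnion Z x₀).ncard = Nat.card Z * ((1 + m * q) * (q - 1)) := by
    rw [h.ncard_classUnion hx₀]
    show Nat.card Z * (aOf x₀ * (eOf Z x₀ - 1)) = _
    rw [ha, hq]
  have hsum : ((l.map (datum Z)).map wt).sum + (1 + m * q) * (q - 1) + 1 =
      (1 + m * q) * q * k := by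
    have h1 := ncard_compl_Z Z
    have h2 : ({t : Γ | t ∉ Z} \ classUnion Z x₀).ncard =
        ({t : Γ | t ∉ Z} : Set Γ).ncard - (classUnion Z x₀).ncard :=
      Set.ncard_sdiff (classUnion_subset x₀) (Set.toFinite _)
    have h3 : (classUnion Z x₀).ncard ≤ ({t : Γ | t ∉ Z} : Set Γ).ncard :=
      Set.ncard_le_ncard (classUnion_subset x₀) (Set.toFinite _)
    rw [hl3, hcu] at h2
    rw [hcu] at h3
    rw [card_eq_gOf Z, hg] at h1
    have : Nat.card Z * (((l.map (datum Z)).map wt).sum + (1 + m * q) * (q - 1) + 1) =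
        Nat.card Z * ((1 + m * q) * q * k) := by
      rw [← h1]
      have : ({t : Γ | t ∉ Z} : Set Γ).ncard =
          Nat.card Z * ((l.map (datum Z)).map wt).sum + Nat.card Z * ((1 + m * q) * (q - 1)) := by
        omega
      rw [this]; ring
    exact Nat.eq_of_mul_eq_mul_left hz this
  have hgood : ∀ t ∈ l.map (datum Z), Good ((1 + m * q) * q * k) t := by
    intro t ht
    obtain ⟨x, hx, rfl⟩ := List.mem_map.1 ht
    rw [← hg]
    exact h.good_datum (hlZ x hx) (hf x (hlZ x hx) (hlU x hx))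
  have hall : ∀ x : Γ, x ∉ Z → x ∉ classUnion Z x₀ → datum Z x ∈ l.map (datum Z) := by
    intro x hx hxU
    obtain ⟨y, hy, hxy⟩ := hl2 x ⟨hx, hxU⟩
    rw [h.datum_eq_of_mem (hlZ y hy) hxy]
    exact List.mem_map.2 ⟨y, hy, rfl⟩
  have hK' : 2 ≤ k → ∃ t ∈ l.map (datum Z), t.2.1 = k ∧ (t.2.2 = 2 → 1 ≤ m) := by
    intro hk2
    obtain ⟨y, hyZ, hyU, hye, hyf⟩ := hK hk2
    exact ⟨datum Z y, hall y hyZ hyU, hye, hyf⟩
  rcases arithUni q k m hq2 hk1 hkq _ hgood hsum hK' with h1 | h1 | h1 | h1 | h1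
  · left; exact h1
  · right; left
    obtain ⟨hq', hk', t, ht, hta, htf⟩ := h1
    obtain ⟨x, hx, rfl⟩ := List.mem_map.1 ht
    exact ⟨hq', hk', x, hlZ x hx, top_of_a_one hta, htf, hlU x hx⟩
  · right; right; left; exact h1
  · right; right; right; left
    obtain ⟨h2, hm, hkk, hall2⟩ := h1
    exact ⟨h2, hm, hkk, fun x hx hxU => hall2 _ (hall x hx hxU)⟩
  · right; right; right; right
    obtain ⟨h3, h2, hm, hall2⟩ := h1
    exact ⟨h3, h2, hm, fun x hx hxU => hall2 _ (hall x hx hxU)⟩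

end IsCA
end Cfsg.Agent.Helper46
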