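import Mathlib
import Cfsg.Agent.Helper46.DkGeom
import Cfsg.Agent.Helper46.CAPart
import Cfsg.Agent.Helper42.SL2Cent

set_option autoImplicit false

/-!
# Dickson project: a finite group with a faithful representation in `SL₂(E)`:
CA-property, types of elements, centralizers and normalizers.
-/

namespace Cfsg.Agent.Helper46.Dk

open Matrix

variable {E : Type*} [Field E]

local notation "SL2" => Matrix.SpecialLinearGroup (Fin 2) E

/-- two elements commuting with a non-central element of `SL₂` commute -/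
theorem sl2_commute_of_commute {A g h : SL2} (hA : A ∉ Subgroup.center SL2)
    (hg : g * A = A * g) (hh : h * A = A * h) : g * h = h * g := by
  have hns : Cfsg.Agent.Helper42.IsNonScalarMat A.1 := by
    intro hs
    exact hA ((mem_center_iff' A).2 hs)
  have hg' : g.1 * A.1 = A.1 * g.1 := by
    have := congrArg Subtype.val hg
    simpa using this
  obtain ⟨x, y, hxy⟩ := Cfsg.Agent.Helper42.exists_lin_of_comm A.1 g.1 hns hg'
  have c00 : (h * A).1 0 0 = (A * h).1 0 0 := by rw [hh]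
  have c01 : (h * A).1 0 1 = (A * h).1 0 1 := by rw [hh]
  have c10 : (h * A).1 1 0 = (A * h).1 1 0 := by rw [hh]
  have c11 : (h * A).1 1 1 = (A * h).1 1 1 := by rw [hh]
  rw [mul_00, mul_00] at c00
  rw [mul_01, mul_01] at c01
  rw [mul_10, mul_10] at c10
  rw [mul_11, mul_11] at c11
  have e00 : g.1 0 0 = x + y * A.1 0 0 := by rw [hxy]; rfl
  have e01 : g.1 0 1 = y * A.1 0 1 := by rw [hxy]; rfl
  have e10 : g.1 1 0 = y * A.1 1 0 := by rw [hxy]; rfl
  have e11 : g.1 1 1 = x + y * A.1 1 1 := by rw [hxy]; rfl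
  apply ext'
  · rw [mul_00, mul_00, e00, e01, e10]; linear_combination (-y) * c00
  · rw [mul_01, mul_01, e00, e01, e11]; linear_combination (-y) * c01
  · rw [mul_10, mul_10, e00, e10, e11]; linear_combination (-y) * c10
  · rw [mul_11, mul_11, e01, e10, e11]; linear_combination (-y) * c11

variable {Γ : Type*} [Group Γ] (ρ : Γ →* Matrix.SpecialLinearGroup (Fin 2) E)

/-- the elements mapped to the centre of `SL₂` -/
def Zr : Subgroup Γ := (Subgroup.center SL2).comap ρ

theorem mem_Zr (x : Γ) : x ∈ Zr ρ ↔ ρ x ∈ Subgroup.center SL2 := Iff.rfl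

theorem isCA (hinj : Function.Injective ρ) : IsCA (Zr ρ) where
  central := by
    intro z hz
    rw [Subgroup.mem_center_iff]
    intro g
    apply hinj
    rw [map_mul, map_mul]
    exact (Subgroup.mem_center_iff.1 hz (ρ g))
  comm := by
    intro x hx y z hy hz
    apply hinj
    rw [map_mul, map_mul]
    apply sl2_commute_of_commute hx
    · rw [← map_mul, ← map_mul, hy.eq]
    · rw [← map_mul, ← map_mul, hz.eq]

/-- semisimple type: `tr² ≠ 4` -/
def IsSS (x : Γ) : Prop := (tr (ρ x)) ^ 2 ≠ 4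

/-- (±)unipotent type: non-central with `tr² = 4` -/
def IsUni (x : Γ) : Prop := x ∉ Zr ρ ∧ (tr (ρ x)) ^ 2 = 4

/-- conjugating a representation -/
def conjRep (c : SL2) : Γ →* SL2 := (MulAut.conj c).toMonoidHom.comp ρ

@[simp] theorem conjRep_apply (c : SL2) (x : Γ) : conjRep ρ c x = c * ρ x * c⁻¹ := rfl

theorem conjRep_injective (c : SL2) (hinj : Function.Injective ρ) :
    Function.Injective (conjRep ρ c) := by
  intro a b hab
  apply hinj
  simp only [conjRep_apply] at hab
  have h1 : c * ρ a = c * ρ b := mul_right_cancel hab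
  exact mul_left_cancel h1

theorem Zr_conjRep (c : SL2) : Zr (conjRep ρ c) = Zr ρ := by
  ext x
  rw [mem_Zr, mem_Zr, conjRep_apply]
  constructor
  · intro h
    have : ρ x = c⁻¹ * (c * ρ x * c⁻¹) * c := by group
    rw [this]
    have hn : (Subgroup.center SL2).Normal := inferInstance
    have := hn.conj_mem _ h c⁻¹
    simpa using this
  · intro h
    have hn : (Subgroup.center SL2).Normal := inferInstance
    exact hn.conj_mem _ h c

theorem isSS_conjRep (c : SL2) (x : Γ) : IsSS (conjRep ρ c) x ↔ IsSS ρ x := by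
  unfold IsSS
  rw [conjRep_apply, tr_conj]

theorem isUni_conjRep (c : SL2) (x : Γ) : IsUni (conjRep ρ c) x ↔ IsUni ρ x := by
  unfold IsUni
  rw [Zr_conjRep, conjRep_apply, tr_conj]

theorem isSS_not_mem_Zr {x : Γ} (hx : IsSS ρ x) : x ∉ Zr ρ := by
  intro hz
  rw [mem_Zr, mem_center_iff'] at hz
  apply hx
  have := tr_sq_sub_four (ρ x)
  rw [hz.1, hz.2.2] at this
  linear_combination this

theorem isSS_or_isUni {x : Γ} (hx : x ∉ Zr ρ) : IsSS ρ x ∨ IsUni ρ x := by
  by_cases h : (tr (ρ x)) ^ 2 = 4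
  · exact Or.inr ⟨hx, h⟩
  · exact Or.inl h

/-- standard position of a semisimple-type element -/
theorem exists_conj_SS [IsAlgClosed E] {x : Γ} (hx : IsSS ρ x) :
    ∃ c : SL2, conjRep ρ c x ∈ (DD : Subgroup SL2) ∧
      (conjRep ρ c x).1 0 0 ≠ (conjRep ρ c x).1 1 1 := by
  obtain ⟨c, hc⟩ := exists_conj_mem_BB (ρ x)
  have hne : (c * ρ x * c⁻¹).1 0 0 ≠ (c * ρ x * c⁻¹).1 1 1 := by
    intro he
    apply hx
    have h1 := BB_tr_sq hc
    rw [tr_conj, he] at h1
    linear_combination h1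
  obtain ⟨u, -, hu, h00, h11⟩ := exists_conj_mem_DD hc hne
  refine ⟨u * c, ?_, ?_⟩
  · rw [conjRep_apply]
    have : u * c * ρ x * (u * c)⁻¹ = u * (c * ρ x * c⁻¹) * u⁻¹ := by group
    rw [this]; exact hu
  · rw [conjRep_apply]
    have : u * c * ρ x * (u * c)⁻¹ = u * (c * ρ x * c⁻¹) * u⁻¹ := by group
    rw [this, h00, h11]; exact hne

/-- standard position of a unipotent-type element -/
theorem exists_conj_Uni [IsAlgClosed E] {x : Γ} (hx : IsUni ρ x) :
    ∃ c : SL2, conjRep ρ c x ∈ (PU : Subgroup SL2) ∧ (conjRep ρ c x).1 0 1 ≠ 0 := by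
  obtain ⟨c, hc⟩ := exists_conj_mem_BB (ρ x)
  have heq : (c * ρ x * c⁻¹).1 0 0 = (c * ρ x * c⁻¹).1 1 1 := by
    have h1 := BB_tr_sq hc
    rw [tr_conj, hx.2] at h1
    have : ((c * ρ x * c⁻¹).1 0 0 - (c * ρ x * c⁻¹).1 1 1) ^ 2 = 0 := by rw [← h1]; ring
    exact sub_eq_zero.1 (pow_eq_zero_iff (two_ne_zero) |>.1 this)
  have hPU : c * ρ x * c⁻¹ ∈ (PU : Subgroup SL2) := ⟨hc, heq⟩
  refine ⟨c, hPU, ?_⟩
  apply PU_entry_ne_zero hPU
  have := hx.1
  rw [← Zr_conjRep ρ c, mem_Zr] at this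
  exact this

section Cent

variable {ρ}

theorem centralizer_eq_comap_DD (hinj : Function.Injective ρ) {x : Γ}
    (hx : ρ x ∈ (DD : Subgroup SL2)) (hne : (ρ x).1 0 0 ≠ (ρ x).1 1 1) :
    Subgroup.centralizer ({x} : Set Γ) = (DD : Subgroup SL2).comap ρ := by
  ext y
  rw [Subgroup.mem_centralizer_singleton_iff, Subgroup.mem_comap]
  constructor
  · intro h
    apply mem_DD_of_commute hx hne
    rw [← map_mul, ← map_mul, h]
  · intro h
    apply hinj
    rw [map_mul, map_mul]
    exact DD_commute h hx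

theorem centralizer_eq_comap_PU (hinj : Function.Injective ρ) {x : Γ}
    (hx : ρ x ∈ (PU : Subgroup SL2)) (h01 : (ρ x).1 0 1 ≠ 0) :
    Subgroup.centralizer ({x} : Set Γ) = (PU : Subgroup SL2).comap ρ := by
  ext y
  rw [Subgroup.mem_centralizer_singleton_iff, Subgroup.mem_comap]
  constructor
  · intro h
    apply mem_PU_of_commute hx h01
    rw [← map_mul, ← map_mul, h]
  · intro h
    apply hinj
    rw [map_mul, map_mul]
    exact PU_commute h hx

/-- normalizer of a torus -/
theorem normalizer_torus (hinj : Function.Injective ρ) {x : Γ}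
    (hx : ρ x ∈ (DD : Subgroup SL2)) (hne : (ρ x).1 0 0 ≠ (ρ x).1 1 1) {g : Γ}
    (hg : g ∈ Subgroup.normalizer ((Subgroup.centralizer ({x} : Set Γ) : Subgroup Γ) : Set Γ)) :
    ρ g ∈ (DD : Subgroup SL2) ∨ IsAnti (ρ g) := by
  rw [Subgroup.mem_normalizer_iff] at hg
  have hxx : x ∈ Subgroup.centralizer ({x} : Set Γ) := by
    rw [Subgroup.mem_centralizer_singleton_iff]
  have h1 := (hg x).1 hxx
  rw [centralizer_eq_comap_DD hinj hx hne, Subgroup.mem_comap, map_mul, map_mul, map_inv] at h1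
  exact of_conj_DD_mem_DD hx hne h1

theorem mem_normalizer_torus_of_anti (hinj : Function.Injective ρ) {x : Γ}
    (hx : ρ x ∈ (DD : Subgroup SL2)) (hne : (ρ x).1 0 0 ≠ (ρ x).1 1 1) {g : Γ}
    (hg : IsAnti (ρ g)) :
    g ∈ Subgroup.normalizer ((Subgroup.centralizer ({x} : Set Γ) : Subgroup Γ) : Set Γ) := by
  rw [Subgroup.mem_normalizer_iff]
  intro y
  rw [centralizer_eq_comap_DD hinj hx hne, Subgroup.mem_comap, Subgroup.mem_comap, map_mul,
    map_mul, map_inv]
  constructor
  · intro hy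
    rw [anti_conj_DD hy hg]
    exact inv_mem hy
  · intro hy
    have h2 := anti_conj_DD hy (anti_inv hg)
    have : ρ y = (ρ g)⁻¹ * (ρ g * ρ y * (ρ g)⁻¹) * ((ρ g)⁻¹)⁻¹ := by group
    rw [this, h2]
    exact inv_mem hy

/-- normalizer of the centralizer of a unipotent-type element -/
theorem normalizer_uni (hinj : Function.Injective ρ) {x : Γ}
    (hx : ρ x ∈ (PU : Subgroup SL2)) (h01 : (ρ x).1 0 1 ≠ 0) :
    Subgroup.normalizer ((Subgroup.centralizer ({x} : Set Γ) : Subgroup Γ) : Set Γ) =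
      (BB : Subgroup SL2).comap ρ := by
  ext g
  rw [Subgroup.mem_comap]
  constructor
  · intro hg
    rw [Subgroup.mem_normalizer_iff] at hg
    have hxx : x ∈ Subgroup.centralizer ({x} : Set Γ) := by
      rw [Subgroup.mem_centralizer_singleton_iff]
    have h1 := (hg x).1 hxx
    rw [centralizer_eq_comap_PU hinj hx h01, Subgroup.mem_comap, map_mul, map_mul, map_inv] at h1
    exact mem_BB_of_conj_PU hx h01 (PU_le_BB h1)
  · intro hg
    rw [Subgroup.mem_normalizer_iff]
    intro y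
    rw [centralizer_eq_comap_PU hinj hx h01, Subgroup.mem_comap, Subgroup.mem_comap, map_mul,
      map_mul, map_inv]
    constructor
    · intro hy
      exact conj_PU_of_BB hy hg
    · intro hy
      have h2 := conj_PU_of_BB hy (inv_mem hg)
      have : ρ y = (ρ g)⁻¹ * (ρ g * ρ y * (ρ g)⁻¹) * ((ρ g)⁻¹)⁻¹ := by group
      rw [this]; exact h2

end Cent

end Cfsg.Agent.Helper46.Dk
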