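import Mathlib
import Cfsg.Agent.Helper46.DkRep
import Cfsg.Agent.Helper46.CANum

set_option autoImplicit false

/-!
# Dickson project: classes of torus type have `f ≤ 2`
-/

namespace Cfsg.Agent.Helper46.Dk

open Matrix Cfsg.Agent.Helper46.IsCA

theorem card_eq_two_mul_of_coset {Γ : Type*} [Group Γ] [Finite Γ] (H K : Subgroup Γ) (hle : H ≤ K)
    (w : Γ) (hwK : w ∈ K) (hw : w ∉ H) (h : ∀ g ∈ K, g ∉ H → w⁻¹ * g ∈ H) :
    Nat.card K = 2 * Nat.card H := by
  have hset : (K : Set Γ) = (H : Set Γ) ∪ (fun c => w * c) '' (H : Set Γ) := by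
    ext g
    constructor
    · intro hg
      by_cases hgH : g ∈ H
      · exact Or.inl hgH
      · right
        exact ⟨w⁻¹ * g, h g hg hgH, by simp⟩
    · rintro (hg | ⟨c, hc, rfl⟩)
      · exact hle hg
      · exact K.mul_mem hwK (hle hc)
  have hdisj : Disjoint (H : Set Γ) ((fun c => w * c) '' (H : Set Γ)) := by
    rw [Set.disjoint_left]
    rintro g hg ⟨c, hc, rfl⟩
    apply hw
    have : w = (w * c) * c⁻¹ := by group
    rw [this]
    exact H.mul_mem hg (H.inv_mem hc)
  have h1 : Nat.card K = (K : Set Γ).ncard := by rw [← Nat.card_coe_set_eq]; rfl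
  have h2 : Nat.card H = (H : Set Γ).ncard := by rw [← Nat.card_coe_set_eq]; rfl
  rw [h1, hset, Set.ncard_union_eq hdisj (Set.toFinite _) (Set.toFinite _),
    Set.ncard_image_of_injective _ (mul_right_injective w), ← h2]
  ring

variable {E : Type*} [Field E]

local notation "SL2" => Matrix.SpecialLinearGroup (Fin 2) E

variable {Γ : Type*} [Group Γ] {ρ : Γ →* Matrix.SpecialLinearGroup (Fin 2) E}

/-- in the diagonal frame: normalizer elements outside the torus multiply into the torus -/
theorem fOf_of_DD [Finite Γ] (hinj : Function.Injective ρ) {x : Γ}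
    (hx : ρ x ∈ (DD : Subgroup SL2)) (hne : (ρ x).1 0 0 ≠ (ρ x).1 1 1) :
    fOf x = 1 ∨ fOf x = 2 := by
  have hpos : 0 < Nat.card (Cx x) := Nat.card_pos
  by_cases hN : Nx x ≤ Cx x
  · left
    have : Nx x = Cx x := le_antisymm hN Subgroup.le_normalizer
    unfold fOf
    rw [this]
    exact Nat.div_self hpos
  · right
    obtain ⟨w, hwN, hwC⟩ := SetLike.not_le_iff_exists.1 hN
    have hCeq := centralizer_eq_comap_DD hinj hx hne
    have hw_anti : IsAnti (ρ w) := by
      rcases normalizer_torus hinj hx hne hwN with h | h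
      · exfalso; apply hwC; show w ∈ Subgroup.centralizer ({x} : Set Γ); rw [hCeq]; exact h
      · exact h
    have hcard : Nat.card (Nx x) = 2 * Nat.card (Cx x) := by
      apply card_eq_two_mul_of_coset (Cx x) (Nx x) Subgroup.le_normalizer w hwN hwC
      intro g hg hgC
      have hg_anti : IsAnti (ρ g) := by
        rcases normalizer_torus hinj hx hne hg with h | h
        · exfalso; apply hgC; show g ∈ Subgroup.centralizer ({x} : Set Γ); rw [hCeq]; exact h
        · exact h
      show w⁻¹ * g ∈ Subgroup.centralizer ({x} : Set Γ)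
      rw [hCeq, Subgroup.mem_comap, map_mul, map_inv]
      exact anti_mul_anti (anti_inv hw_anti) hg_anti
    unfold fOf
    rw [hcard]
    exact Nat.mul_div_cancel _ hpos

/-- classes of torus type have `f ≤ 2` -/
theorem fOf_SS [IsAlgClosed E] [Finite Γ] (hinj : Function.Injective ρ) {x : Γ}
    (hx : IsSS ρ x) : fOf x = 1 ∨ fOf x = 2 := by
  obtain ⟨c, hc, hne⟩ := exists_conj_SS ρ hx
  exact fOf_of_DD (conjRep_injective ρ c hinj) hc hne

/-- elements of the normalizer of a torus outside the torus square into the centre -/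
theorem sq_mem_Zr_of_SS [IsAlgClosed E] (hinj : Function.Injective ρ) {x y : Γ}
    (hx : IsSS ρ x) (hy : y ∈ Nx x) (hyC : y ∉ Cx x) : y * y ∈ Zr ρ := by
  obtain ⟨c, hc, hne⟩ := exists_conj_SS ρ hx
  have hinj' := conjRep_injective ρ c hinj
  have hCeq := centralizer_eq_comap_DD hinj' hc hne
  rcases normalizer_torus hinj' hc hne hy with h | h
  · exfalso; apply hyC; show y ∈ Subgroup.centralizer ({x} : Set Γ); rw [hCeq]; exact h
  · rw [← Zr_conjRep ρ c, mem_Zr, map_mul, mem_center_iff']
    obtain ⟨h00, h01, h10, h11⟩ := anti_sq h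
    exact ⟨h01, h10, by rw [h00, h11]⟩

/-- elements of the normalizer of a torus outside the torus invert the torus -/
theorem conj_inv_of_SS [IsAlgClosed E] (hinj : Function.Injective ρ) {x y t : Γ}
    (hx : IsSS ρ x) (hy : y ∈ Nx x) (hyC : y ∉ Cx x) (ht : t ∈ Cx x) : y * t * y⁻¹ = t⁻¹ := by
  obtain ⟨c, hc, hne⟩ := exists_conj_SS ρ hx
  have hinj' := conjRep_injective ρ c hinj
  have hCeq := centralizer_eq_comap_DD hinj' hc hne
  rcases normalizer_torus hinj' hc hne hy with h | h
  · exfalso; apply hyC; show y ∈ Subgroup.centralizer ({x} : Set Γ); rw [hCeq]; exact h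
  · apply hinj'
    rw [map_mul, map_mul, map_inv, map_inv]
    have ht' : conjRep ρ c t ∈ (DD : Subgroup SL2) := by
      have : t ∈ Subgroup.centralizer ({x} : Set Γ) := ht
      rw [hCeq] at this
      exact this
    exact anti_conj_DD ht' h

end Cfsg.Agent.Helper46.Dk
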