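import Mathlib
import Cfsg.Agent.Helper46.DkGeom

set_option autoImplicit false

/-!
# Dickson project: more matrix lemmas (powers in `±U`, the diagonal character of the Borel group)
-/

namespace Cfsg.Agent.Helper46.Dk

open Matrix

variable {E : Type*} [Field E]

local notation "SL2" => Matrix.SpecialLinearGroup (Fin 2) E

theorem BB_diag_mul {g : SL2} (hg : g ∈ (BB : Subgroup SL2)) : g.1 0 0 * g.1 1 1 = 1 := by
  have := det' g
  rw [(mem_BB g).1 hg] at this
  linear_combination this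

theorem PU_pow_entries {A : SL2} (hA : A ∈ (PU : Subgroup SL2)) (n : ℕ) :
    (A ^ n).1 1 0 = 0 ∧ (A ^ n).1 0 0 = (A.1 0 0) ^ n ∧ (A ^ n).1 1 1 = (A.1 0 0) ^ n ∧
      A.1 0 0 * (A ^ n).1 0 1 = n * (A.1 0 0) ^ n * A.1 0 1 := by
  induction n with
  | zero => simp
  | succ n ih =>
    obtain ⟨h10, h00, h11, h01⟩ := ih
    rw [pow_succ]
    refine ⟨?_, ?_, ?_, ?_⟩
    · rw [mul_10, h10, h11, hA.1]; ring
    · rw [mul_00, h00, hA.1]; ring
    · rw [mul_11, h10, h11, ← hA.2]; ring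
    · rw [mul_01, h00, ← hA.2]
      push_cast
      linear_combination (A.1 0 0) * h01

theorem pow_char_eq_self_of_sq (p : ℕ) [Fact p.Prime] [CharP E p] {ε : E} (hε : ε ^ 2 = 1) :
    ε ^ p = ε := by
  have h1 : ε = 1 ∨ ε = -1 := by
    have : (ε - 1) * (ε + 1) = 0 := by linear_combination hε
    rcases mul_eq_zero.1 this with h | h
    · left; exact sub_eq_zero.1 h
    · right; exact eq_neg_of_add_eq_zero_left h
  rcases h1 with rfl | rfl
  · simp
  · rcases (Fact.out : p.Prime).eq_two_or_odd' with h2 | hodd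
    · subst h2
      have h20 : (2 : E) = 0 := by
        have := CharP.cast_eq_zero E 2
        exact_mod_cast this
      have : (-1 : E) = 1 := by linear_combination -h20
      rw [this]; simp
    · exact hodd.neg_one_pow

/-- the `p`-th power of an element of `±U` is central, with the same diagonal entry -/
theorem PU_pow_char (p : ℕ) [Fact p.Prime] [CharP E p] {A : SL2} (hA : A ∈ (PU : Subgroup SL2)) :
    (A ^ p).1 1 0 = 0 ∧ (A ^ p).1 0 1 = 0 ∧ (A ^ p).1 0 0 = A.1 0 0 ∧ (A ^ p).1 1 1 = A.1 0 0 := by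
  obtain ⟨h10, h00, h11, h01⟩ := PU_pow_entries hA p
  have hε := PU_diag_sq hA
  have hεp := pow_char_eq_self_of_sq p hε
  have hne : A.1 0 0 ≠ 0 := by
    intro h0; rw [h0] at hε; simp at hε
  refine ⟨h10, ?_, by rw [h00, hεp], by rw [h11, hεp]⟩
  have hp0 : ((p : ℕ) : E) = 0 := CharP.cast_eq_zero E p
  rw [hp0] at h01
  have : A.1 0 0 * (A ^ p).1 0 1 = 0 := by rw [h01]; ring
  exact (mul_eq_zero.1 this).resolve_left hne

theorem UU_pow_char (p : ℕ) [Fact p.Prime] [CharP E p] {A : SL2} (hA : A ∈ (UU : Subgroup SL2)) :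
    A ^ p = 1 := by
  obtain ⟨h10, h01, h00, h11⟩ := PU_pow_char p (UU_le_PU hA)
  apply ext'
  · rw [h00, hA.2.1, one_00]
  · rw [h01, one_01]
  · rw [h10, one_10]
  · rw [h11, hA.2.1, one_11]

/-- the diagonal character of the Borel subgroup -/
def chiBB : ↥(BB : Subgroup SL2) →* Eˣ where
  toFun g := Units.mkOfMulEqOne (g.1.1 0 0) (g.1.1 1 1) (BB_diag_mul g.2)
  map_one' := by
    apply Units.ext
    show (1 : SL2).1 0 0 = 1
    exact one_00
  map_mul' := by
    intro a b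
    apply Units.ext
    show (a.1 * b.1).1 0 0 = a.1.1 0 0 * b.1.1 0 0
    rw [mul_00, (mem_BB b.1).1 b.2]; ring

@[simp] theorem chiBB_val (g : ↥(BB : Subgroup SL2)) : ((chiBB g : Eˣ) : E) = g.1.1 0 0 := rfl

theorem mem_UU_of_BB_of_eq_one {g : SL2} (hg : g ∈ (BB : Subgroup SL2)) (h1 : g.1 0 0 = 1) :
    g ∈ (UU : Subgroup SL2) := by
  have := BB_diag_mul hg
  rw [h1, one_mul] at this
  exact ⟨hg, h1, this⟩

/-- conjugation by `U` does not change the diagonal of an upper triangular matrix -/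
theorem conj_UU_diag {u g : SL2} (hu : u ∈ (UU : Subgroup SL2)) (hg : g ∈ (BB : Subgroup SL2)) :
    (u * g * u⁻¹).1 0 0 = g.1 0 0 ∧ (u * g * u⁻¹).1 1 1 = g.1 1 1 ∧
      (u * g * u⁻¹).1 1 0 = 0 := by
  rw [conj_00, conj_11, conj_10, hu.1, hu.2.1, hu.2.2, (mem_BB g).1 hg]
  refine ⟨by ring, by ring, by ring⟩

/-- an element of the Borel subgroup with `tr² = 4` lies in `±U` -/
theorem mem_PU_of_BB_of_tr {g : SL2} (hg : g ∈ (BB : Subgroup SL2)) (ht : (tr g) ^ 2 = 4) :
    g ∈ (PU : Subgroup SL2) := by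
  refine ⟨hg, ?_⟩
  have h := BB_tr_sq hg
  rw [ht] at h
  have : (g.1 0 0 - g.1 1 1) ^ 2 = 0 := by rw [← h]; ring
  exact sub_eq_zero.1 (pow_eq_zero_iff two_ne_zero |>.1 this)

/-- elements of `±U` have `tr² = 4` -/
theorem tr_sq_of_PU {g : SL2} (hg : g ∈ (PU : Subgroup SL2)) : (tr g) ^ 2 = 4 := by
  have h := BB_tr_sq (PU_le_BB hg)
  rw [hg.2] at h
  linear_combination h

/-- an upper unitriangular matrix commuting with a regular upper triangular one is trivial -/
theorem UU_commute_BB_regular {u x : SL2} (hu : u ∈ (UU : Subgroup SL2))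
    (hx : x ∈ (BB : Subgroup SL2)) (hne : x.1 0 0 ≠ x.1 1 1) (hc : u * x = x * u) : u = 1 := by
  have h01 : (u * x).1 0 1 = (x * u).1 0 1 := by rw [hc]
  rw [mul_01, mul_01, hu.2.1, hu.2.2] at h01
  have hd : x.1 0 0 - x.1 1 1 ≠ 0 := sub_ne_zero.2 hne
  have : u.1 0 1 * (x.1 0 0 - x.1 1 1) = 0 := by linear_combination -h01
  have h0 : u.1 0 1 = 0 := (mul_eq_zero.1 this).resolve_right hd
  apply ext'
  · rw [hu.2.1, one_00]
  · rw [h0, one_01]
  · rw [hu.1, one_10]
  · rw [hu.2.2, one_11]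

/-- a diagonal matrix with `00` entry `1` is trivial -/
theorem DD_eq_one {g : SL2} (hg : g ∈ (DD : Subgroup SL2)) (h1 : g.1 0 0 = 1) : g = 1 := by
  have := BB_diag_mul (DD_le_BB hg)
  rw [h1, one_mul] at this
  apply ext'
  · rw [h1, one_00]
  · rw [hg.2, one_01]
  · rw [hg.1, one_10]
  · rw [this, one_11]

end Cfsg.Agent.Helper46.Dk
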