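import Mathlib
import Cfsg.Agent.Helper46.DkSS
import Cfsg.Agent.Helper46.DkUniMat
import Cfsg.Agent.Helper46.DkAct

set_option autoImplicit false

/-!
# Dickson project: the structure around a class of unipotent type
-/

namespace Cfsg.Agent.Helper46.Dk

open Matrix Cfsg.Agent.Helper46.IsCA

variable {E : Type*} [Field E]

local notation "SL2" => Matrix.SpecialLinearGroup (Fin 2) E

variable {Γ : Type*} [Group Γ] (ρ : Γ →* Matrix.SpecialLinearGroup (Fin 2) E)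

/-- preimage of the Borel subgroup -/
def Bg : Subgroup Γ := (BB : Subgroup SL2).comap ρ
/-- preimage of `±U` -/
def Pg : Subgroup Γ := (PU : Subgroup SL2).comap ρ
/-- preimage of `U` -/
def Qg : Subgroup Γ := (UU : Subgroup SL2).comap ρ
/-- preimage of the diagonal subgroup -/
def Dg : Subgroup Γ := (DD : Subgroup SL2).comap ρ

theorem mem_Bg (g : Γ) : g ∈ Bg ρ ↔ ρ g ∈ (BB : Subgroup SL2) := Iff.rfl
theorem mem_Pg (g : Γ) : g ∈ Pg ρ ↔ ρ g ∈ (PU : Subgroup SL2) := Iff.rfl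
theorem mem_Qg (g : Γ) : g ∈ Qg ρ ↔ ρ g ∈ (UU : Subgroup SL2) := Iff.rfl
theorem mem_Dg (g : Γ) : g ∈ Dg ρ ↔ ρ g ∈ (DD : Subgroup SL2) := Iff.rfl

theorem Qg_le_Pg : Qg ρ ≤ Pg ρ := fun _ h => UU_le_PU h
theorem Pg_le_Bg : Pg ρ ≤ Bg ρ := fun _ h => PU_le_BB h
theorem Dg_le_Bg : Dg ρ ≤ Bg ρ := fun _ h => DD_le_BB h
theorem Zr_le_Pg : Zr ρ ≤ Pg ρ := fun _ h => center_le_PU h
theorem Zr_le_Dg : Zr ρ ≤ Dg ρ := fun _ h => center_le_DD h

variable {ρ}

theorem Zr_inf_Qg (hinj : Function.Injective ρ) {g : Γ} (hz : g ∈ Zr ρ) (hq : g ∈ Qg ρ) :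
    g = 1 := by
  apply hinj
  rw [map_one]
  rw [mem_Zr, mem_center_iff'] at hz
  rw [mem_Qg] at hq
  apply ext'
  · rw [hq.2.1, one_00]
  · rw [hz.1, one_01]
  · rw [hq.1, one_10]
  · rw [hq.2.2, one_11]

/-- decomposition `±U = Z × U` inside `Γ` -/
theorem exists_Z_Q_decomp (p : ℕ) [Fact p.Prime] [CharP E p] {g : Γ} (hg : g ∈ Pg ρ) :
    ∃ ζ ∈ Zr ρ, ∃ u ∈ Qg ρ, g = ζ * u := by
  rw [mem_Pg] at hg
  obtain ⟨h10, h01, h00, h11⟩ := PU_pow_char p hg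
  have hζ : g ^ p ∈ Zr ρ := by
    rw [mem_Zr, map_pow, mem_center_iff']
    exact ⟨h01, h10, by rw [h00, h11]⟩
  have hε := PU_diag_sq hg
  refine ⟨g ^ p, hζ, (g ^ p)⁻¹ * g, ?_, by group⟩
  rw [mem_Qg, map_mul, map_inv, map_pow]
  refine ⟨?_, ?_, ?_⟩
  · rw [mul_10, inv_10, inv_11, h10, hg.1]; ring
  · rw [mul_00, inv_00, inv_01, h11, h01, hg.1]
    linear_combination hε
  · rw [mul_11, inv_10, inv_11, h10, h00, ← hg.2]
    linear_combination hε

theorem card_Pg [Finite Γ] (hinj : Function.Injective ρ) (p : ℕ) [Fact p.Prime] [CharP E p] :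
    Nat.card (Pg ρ) = Nat.card (Zr ρ) * Nat.card (Qg ρ) := by
  rw [← Nat.card_prod]
  symm
  let f : (Zr ρ) × (Qg ρ) → Pg ρ := fun zu =>
    ⟨zu.1.1 * zu.2.1, (Pg ρ).mul_mem (Zr_le_Pg ρ zu.1.2) (Qg_le_Pg ρ zu.2.2)⟩
  apply Nat.card_eq_of_bijective f
  constructor
  · rintro ⟨⟨ζ, hζ⟩, ⟨u, hu⟩⟩ ⟨⟨ζ', hζ'⟩, ⟨u', hu'⟩⟩ h
    have h' : ζ * u = ζ' * u' := congrArg Subtype.val h
    have h1 : ζ'⁻¹ * ζ = u' * u⁻¹ := by
      have : ζ'⁻¹ * (ζ * u) * u⁻¹ = ζ'⁻¹ * (ζ' * u') * u⁻¹ := by rw [h']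
      have e1 : ζ'⁻¹ * (ζ * u) * u⁻¹ = ζ'⁻¹ * ζ := by group
      have e2 : ζ'⁻¹ * (ζ' * u') * u⁻¹ = u' * u⁻¹ := by group
      rw [e1, e2] at this; exact this
    have h2 : ζ'⁻¹ * ζ = 1 := by
      apply Zr_inf_Qg hinj ((Zr ρ).mul_mem ((Zr ρ).inv_mem hζ') hζ)
      rw [h1]; exact (Qg ρ).mul_mem hu' ((Qg ρ).inv_mem hu)
    have hζζ : ζ = ζ' := by
      have : ζ = ζ' * (ζ'⁻¹ * ζ) := by group
      rw [this, h2, mul_one]
    subst hζζ
    have huu : u = u' := mul_left_cancel h'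
    subst huu
    rfl
  · rintro ⟨g, hg⟩
    obtain ⟨ζ, hζ, u, hu, rfl⟩ := exists_Z_Q_decomp p hg
    exact ⟨(⟨ζ, hζ⟩, ⟨u, hu⟩), rfl⟩


variable (ρ)

/-- the diagonal character on the preimage of the Borel subgroup -/
def chiG : ↥(Bg ρ) →* Eˣ := chiBB.comp (ρ.subgroupComap (BB : Subgroup SL2))

/-- the image of the diagonal character -/
def Tg : Subgroup Eˣ := (chiG ρ).range

variable {ρ}

theorem chiG_val (g : ↥(Bg ρ)) : ((chiG ρ g : Eˣ) : E) = (ρ g.1).1 0 0 := rfl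

theorem mem_Tg_of_mem_Bg {g : Γ} (hg : g ∈ Bg ρ) :
    Units.mkOfMulEqOne ((ρ g).1 0 0) ((ρ g).1 1 1) (BB_diag_mul hg) ∈ Tg ρ :=
  ⟨⟨g, hg⟩, Units.ext rfl⟩

theorem chiG_ker (g : ↥(Bg ρ)) : g ∈ (chiG ρ).ker ↔ g.1 ∈ Qg ρ := by
  rw [MonoidHom.mem_ker, mem_Qg]
  constructor
  · intro h
    have h1 : (ρ g.1).1 0 0 = 1 := by
      have := congrArg (fun u : Eˣ => (u : E)) h
      simpa [chiG_val] using this
    exact mem_UU_of_BB_of_eq_one g.2 h1
  · intro h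
    apply Units.ext
    rw [chiG_val]
    exact h.2.1

theorem card_Bg [Finite Γ] : Nat.card (Bg ρ) = Nat.card (Qg ρ) * Nat.card (Tg ρ) := by
  have h1 := (chiG ρ).ker.card_mul_index
  rw [Subgroup.index_ker] at h1
  have h2 : Nat.card (chiG ρ).ker = Nat.card (Qg ρ) := by
    have hle : Qg ρ ≤ Bg ρ := (Qg_le_Pg ρ).trans (Pg_le_Bg ρ)
    have : (chiG ρ).ker = (Qg ρ).subgroupOf (Bg ρ) := by
      ext g
      rw [chiG_ker, Subgroup.mem_subgroupOf]
    rw [this]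
    exact Nat.card_congr (Subgroup.subgroupOfEquivOfLe hle).toEquiv
  rw [h2] at h1
  exact h1.symm

instance [Finite Γ] : Finite (Tg ρ) := by
  unfold Tg
  exact Finite.of_surjective _ (chiG ρ).rangeRestrict_surjective

theorem Tg_finite [Finite Γ] : Finite (Tg ρ) := inferInstance


/-- the standard frame of a class of unipotent type -/
structure UniFrame (ρ : Γ →* Matrix.SpecialLinearGroup (Fin 2) E) (x₀ : Γ) : Prop where
  inj : Function.Injective ρ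
  mem : ρ x₀ ∈ (PU : Subgroup SL2)
  ne : (ρ x₀).1 0 1 ≠ 0

namespace UniFrame

variable {x₀ : Γ}

theorem Cx_eq (h : UniFrame ρ x₀) : Cx x₀ = Pg ρ := centralizer_eq_comap_PU h.inj h.mem h.ne

theorem Nx_eq (h : UniFrame ρ x₀) : Nx x₀ = Bg ρ := normalizer_uni h.inj h.mem h.ne

theorem not_mem_Zr (h : UniFrame ρ x₀) : x₀ ∉ Zr ρ := by
  intro hz
  rw [mem_Zr, mem_center_iff'] at hz
  exact h.ne hz.1

theorem eOf_eq [Finite Γ] (h : UniFrame ρ x₀) (p : ℕ) [Fact p.Prime] [CharP E p] :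
    eOf (Zr ρ) x₀ = Nat.card (Qg ρ) := by
  have h1 := ((isCA ρ h.inj).card_Cx h.not_mem_Zr).1
  rw [h.Cx_eq, card_Pg h.inj p] at h1
  exact (Nat.eq_of_mul_eq_mul_left Nat.card_pos h1).symm

theorem card_Tg [Finite Γ] (h : UniFrame ρ x₀) (p : ℕ) [Fact p.Prime] [CharP E p] :
    Nat.card (Tg ρ) = Nat.card (Zr ρ) * fOf x₀ := by
  have h1 := (card_Nx x₀).1
  rw [h.Nx_eq, h.Cx_eq, card_Pg h.inj p, card_Bg] at h1
  have : Nat.card (Qg ρ) * Nat.card (Tg ρ) = Nat.card (Qg ρ) * (Nat.card (Zr ρ) * fOf x₀) := by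
    rw [h1]; ring
  exact Nat.eq_of_mul_eq_mul_left Nat.card_pos this

/-- a non-central element of `±U ∩ Γ` only commutes with elements of `±U` -/
theorem mem_Pg_of_commute (h : UniFrame ρ x₀) {u b : Γ} (hu : u ∈ Pg ρ) (huZ : u ∉ Zr ρ)
    (hc : b * u = u * b) : b ∈ Pg ρ := by
  rw [mem_Pg] at hu ⊢
  have h01 : (ρ u).1 0 1 ≠ 0 := PU_entry_ne_zero hu huZ
  apply mem_PU_of_commute hu h01
  rw [← map_mul, ← map_mul, hc]

end UniFrame

/-- the conjugation action of a subgroup on a subgroup it normalizes -/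
@[reducible] def conjAct (B Q : Subgroup Γ) (hBQ : ∀ b ∈ B, ∀ u ∈ Q, b * u * b⁻¹ ∈ Q) : MulAction ↥B ↥Q where
  smul b u := ⟨b.1 * u.1 * b.1⁻¹, hBQ b.1 b.2 u.1 u.2⟩
  one_smul u := Subtype.ext (by show (1 : Γ) * u.1 * (1 : Γ)⁻¹ = u.1; group)
  mul_smul a b u := Subtype.ext (by
    show (a.1 * b.1) * u.1 * (a.1 * b.1)⁻¹ = a.1 * (b.1 * u.1 * b.1⁻¹) * a.1⁻¹
    group)

theorem ncard_subtype_mem (B P : Subgroup Γ) (hle : P ≤ B) :
    ({b : ↥B | b.1 ∈ P} : Set ↥B).ncard = Nat.card P := by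
  have h1 : ({b : ↥B | b.1 ∈ P} : Set ↥B) = ((P.subgroupOf B : Subgroup ↥B) : Set ↥B) := by
    ext b; rw [Set.mem_ofPred_eq, SetLike.mem_coe, Subgroup.mem_subgroupOf]
  rw [h1, ← Nat.card_coe_set_eq]
  exact Nat.card_congr (Subgroup.subgroupOfEquivOfLe hle).toEquiv

namespace UniFrame

variable {x₀ : Γ}

theorem Bg_normalizes_Qg {b u : Γ} (hb : b ∈ Bg ρ) (hu : u ∈ Qg ρ) : b * u * b⁻¹ ∈ Qg ρ := by
  rw [mem_Qg, map_mul, map_mul, map_inv]
  exact conj_UU_of_BB hu hb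

/-- `k ∣ q - 1` -/
theorem fOf_dvd [Finite Γ] (h : UniFrame ρ x₀) (p : ℕ) [Fact p.Prime] [CharP E p] :
    fOf x₀ ∣ Nat.card (Qg ρ) - 1 := by
  letI := conjAct (Bg ρ) (Qg ρ) (fun b hb u hu => Bg_normalizes_Qg hb hu)
  have key := card_dvd_of_fixed (G := ↥(Bg ρ)) (X := ↥(Qg ρ)) {b : ↥(Bg ρ) | b.1 ∈ Pg ρ}
    (by
      intro b hb u
      apply Subtype.ext
      show b.1 * u.1 * b.1⁻¹ = u.1
      have hb' : ρ b.1 ∈ (PU : Subgroup SL2) := hb
      have hu' : ρ u.1 ∈ (PU : Subgroup SL2) := UU_le_PU u.2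
      have hc : b.1 * u.1 = u.1 * b.1 := by
        apply h.inj
        rw [map_mul, map_mul]
        exact PU_commute hb' hu'
      rw [hc]; group)
    (1 : ↥(Qg ρ))
    (by
      intro b hb u
      constructor
      · intro hfix
        by_contra hu1
        apply hb
        have hfix' : b.1 * u.1 * b.1⁻¹ = u.1 := congrArg Subtype.val hfix
        have huZ : u.1 ∉ Zr ρ := by
          intro hz
          apply hu1
          exact Subtype.ext (Zr_inf_Qg h.inj hz u.2)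
        apply h.mem_Pg_of_commute (Qg_le_Pg ρ u.2) huZ
        have : b.1 * u.1 = (b.1 * u.1 * b.1⁻¹) * b.1 := by group
        rw [this, hfix']
      · rintro rfl
        apply Subtype.ext
        show b.1 * (1 : Γ) * b.1⁻¹ = 1
        group)
  rw [ncard_subtype_mem _ _ (Pg_le_Bg ρ), card_Bg, h.card_Tg p, card_Pg h.inj p] at key
  set z := Nat.card (Zr ρ) with hz
  set q := Nat.card (Qg ρ) with hq
  set k := fOf x₀ with hk
  have hzpos : 0 < z := Nat.card_pos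
  have hqpos : 0 < q := Nat.card_pos
  have hkpos : 1 ≤ k := (card_Nx x₀).2
  -- z q k ∣ z q q + (z q k - z q)
  have h1 : z * q * q + (q * (z * k) - z * q) = z * q * (q - 1 + k) := by
    have e1 : q * (z * k) = z * q * k := by ring
    rw [e1]
    have e2 : z * q * k - z * q = z * q * (k - 1) := by
      rw [Nat.mul_sub, mul_one]
    rw [e2, ← Nat.mul_add]
    congr 1
    omega
  rw [h1] at key
  have e3 : q * (z * k) = z * q * k := by ring
  rw [e3] at key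
  have h2 : k ∣ q - 1 + k := (Nat.mul_dvd_mul_iff_left (Nat.mul_pos hzpos hqpos)).1 key
  exact (Nat.dvd_add_left (dvd_refl k)).1 h2

end UniFrame


namespace UniFrame

variable {x₀ : Γ}

theorem aOf_eq_index [Finite Γ] (h : UniFrame ρ x₀) : aOf x₀ = (Bg ρ).index := by
  have h1 := (card_top x₀).1
  rw [h.Nx_eq] at h1
  have h2 := (Bg ρ).card_mul_index
  have : Nat.card (Bg ρ) * aOf x₀ = Nat.card (Bg ρ) * (Bg ρ).index := by rw [← h1, h2]
  exact Nat.eq_of_mul_eq_mul_left Nat.card_pos this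

/-- a non-central element of `±U ∩ Γ` fixes exactly one coset of the Borel subgroup -/
theorem smul_coset_eq_iff (h : UniFrame ρ x₀) {u : Γ} (hu : u ∈ Pg ρ) (huZ : u ∉ Zr ρ) (g : Γ) :
    u • (g : Γ ⧸ Bg ρ) = (g : Γ ⧸ Bg ρ) ↔ (g : Γ ⧸ Bg ρ) = ((1 : Γ) : Γ ⧸ Bg ρ) := by
  rw [MulAction.Quotient.smul_mk, QuotientGroup.eq, QuotientGroup.eq]
  have h01 : (ρ u).1 0 1 ≠ 0 := PU_entry_ne_zero hu huZ
  constructor
  · intro hfix
    have h1 : (ρ g)⁻¹ * ρ u * ((ρ g)⁻¹)⁻¹ ∈ (BB : Subgroup SL2) := by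
      have : (u • g)⁻¹ * g ∈ Bg ρ := hfix
      have h2 : ((u • g)⁻¹ * g)⁻¹ ∈ Bg ρ := (Bg ρ).inv_mem this
      have e : ((u • g)⁻¹ * g)⁻¹ = g⁻¹ * u * g := by
        rw [smul_eq_mul]; group
      rw [e, mem_Bg, map_mul, map_mul, map_inv] at h2
      rw [inv_inv]; exact h2
    have h3 := mem_BB_of_conj_PU hu h01 h1
    have h4 : g⁻¹ ∈ Bg ρ := by rw [mem_Bg, map_inv]; exact h3
    have : g⁻¹ * 1 = g⁻¹ := mul_one _
    rw [this]; exact h4
  · intro hg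
    have hg' : g⁻¹ ∈ Bg ρ := by
      have : g⁻¹ * 1 = g⁻¹ := mul_one _
      rw [this] at hg; exact hg
    have hgB : g ∈ Bg ρ := by
      have := (Bg ρ).inv_mem hg'
      rwa [inv_inv] at this
    rw [smul_eq_mul]
    exact (Bg ρ).mul_mem ((Bg ρ).inv_mem ((Bg ρ).mul_mem (Pg_le_Bg ρ hu) hgB)) hgB

/-- `q ∣ N - 1` -/
theorem card_Qg_dvd [Finite Γ] (h : UniFrame ρ x₀) (p : ℕ) [Fact p.Prime] [CharP E p] :
    Nat.card (Qg ρ) ∣ aOf x₀ - 1 := by
  have key := card_dvd_of_fixed (G := ↥(Pg ρ)) (X := Γ ⧸ Bg ρ) {u : ↥(Pg ρ) | u.1 ∈ Zr ρ}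
    (by
      intro u hu x
      induction x using QuotientGroup.induction_on with
      | H g =>
        show (u.1 • (g : Γ ⧸ Bg ρ)) = (g : Γ ⧸ Bg ρ)
        rw [MulAction.Quotient.smul_mk, QuotientGroup.eq]
        have hu' : u.1 ∈ Zr ρ := hu
        have hcen := (isCA ρ h.inj).commute_of_mem hu' g
        have e : (u.1 • g)⁻¹ * g = u.1⁻¹ := by
          rw [smul_eq_mul, hcen.eq]; group
        rw [e]
        exact (Bg ρ).inv_mem (Pg_le_Bg ρ u.2))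
    ((1 : Γ) : Γ ⧸ Bg ρ)
    (by
      intro u hu x
      induction x using QuotientGroup.induction_on with
      | H g =>
        show (u.1 • (g : Γ ⧸ Bg ρ)) = (g : Γ ⧸ Bg ρ) ↔ _
        exact h.smul_coset_eq_iff u.2 hu g)
  rw [ncard_subtype_mem _ _ (Zr_le_Pg ρ), card_Pg h.inj p] at key
  have hN : Nat.card (Γ ⧸ Bg ρ) = aOf x₀ := by
    rw [h.aOf_eq_index, Subgroup.index_eq_card]
  rw [hN] at key
  set z := Nat.card (Zr ρ) with hz
  set q := Nat.card (Qg ρ) with hq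
  set N := aOf x₀ with hNdef
  have hzpos : 0 < z := Nat.card_pos
  have hqpos : 0 < q := Nat.card_pos
  have hNpos : 1 ≤ N := (card_top x₀).2
  have h1 : z * N + (z * q - z) = z * (N - 1 + q) := by
    have e2 : z * q - z = z * (q - 1) := by rw [Nat.mul_sub, mul_one]
    rw [e2, ← Nat.mul_add]
    congr 1
    omega
  rw [h1] at key
  have h2 : q ∣ N - 1 + q := (Nat.mul_dvd_mul_iff_left hzpos).1 key
  exact (Nat.dvd_add_left (dvd_refl q)).1 h2

end UniFrame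


theorem isPGroup_Qg (hinj : Function.Injective ρ) (p : ℕ) [Fact p.Prime] [CharP E p] :
    IsPGroup p (Qg ρ) := by
  intro u
  refine ⟨1, ?_⟩
  rw [pow_one]
  apply Subtype.ext
  apply hinj
  rw [Subgroup.coe_pow, map_pow, Subgroup.coe_one, map_one]
  exact UU_pow_char p u.2

theorem Bg_conjRep_of_BB {c : SL2} (hc : c ∈ (BB : Subgroup SL2)) : Bg (conjRep ρ c) = Bg ρ := by
  ext g
  rw [mem_Bg, mem_Bg, conjRep_apply]
  constructor
  · intro h
    have : ρ g = c⁻¹ * (c * ρ g * c⁻¹) * c := by group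
    rw [this]
    exact (BB : Subgroup SL2).mul_mem ((BB : Subgroup SL2).mul_mem
      ((BB : Subgroup SL2).inv_mem hc) h) hc
  · intro h
    exact (BB : Subgroup SL2).mul_mem ((BB : Subgroup SL2).mul_mem hc h)
      ((BB : Subgroup SL2).inv_mem hc)

namespace UniFrame

variable {x₀ : Γ}

theorem Qg_ne_bot (h : UniFrame ρ x₀) (p : ℕ) [Fact p.Prime] [CharP E p] :
    ∃ u ∈ Qg ρ, u ≠ 1 := by
  obtain ⟨ζ, hζ, u, hu, hx⟩ := exists_Z_Q_decomp p (show x₀ ∈ Pg ρ from h.mem)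
  refine ⟨u, hu, ?_⟩
  rintro rfl
  apply h.not_mem_Zr
  rw [hx, mul_one]; exact hζ

theorem prime_dvd_card_Qg [Finite Γ] (h : UniFrame ρ x₀) (p : ℕ) [Fact p.Prime] [CharP E p] :
    p ∣ Nat.card (Qg ρ) := by
  rcases (isPGroup_Qg h.inj p).card_eq_or_dvd with h1 | h1
  · exfalso
    obtain ⟨u, hu, hu1⟩ := h.Qg_ne_bot p
    have : Subsingleton (Qg ρ) := (Nat.card_eq_one_iff_unique.1 h1).1
    apply hu1
    have := Subsingleton.elim (⟨u, hu⟩ : Qg ρ) 1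
    exact congrArg Subtype.val this
  · exact h1

theorem not_dvd_aOf [Finite Γ] (h : UniFrame ρ x₀) (p : ℕ) [Fact p.Prime] [CharP E p] :
    ¬ p ∣ aOf x₀ := by
  intro hp
  have h1 := (h.prime_dvd_card_Qg p).trans (h.card_Qg_dvd p)
  have hN : 1 ≤ aOf x₀ := (card_top x₀).2
  have : p ∣ 1 := by
    have e : aOf x₀ = (aOf x₀ - 1) + 1 := by omega
    rw [e] at hp
    exact (Nat.dvd_add_right h1).1 hp
  exact (Fact.out : p.Prime).one_lt.ne' (Nat.dvd_one.1 this)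

/-- every element of unipotent type lies in the class-union of `x₀` -/
theorem uni_mem_classUnion [Finite Γ] [IsAlgClosed E] (h : UniFrame ρ x₀) (p : ℕ) [Fact p.Prime]
    [CharP E p] {x : Γ} (hx : IsUni ρ x) : x ∈ classUnion (Zr ρ) x₀ := by
  obtain ⟨c, hc, hc01⟩ := exists_conj_Uni ρ hx
  have hinj' := conjRep_injective ρ c h.inj
  have hP := isPGroup_Qg hinj' p
  have hnd : ¬ p ∣ Nat.card (Γ ⧸ Bg ρ) := by
    rw [← Subgroup.index_eq_card, ← h.aOf_eq_index]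
    exact h.not_dvd_aOf p
  obtain ⟨y, hy⟩ := hP.nonempty_fixed_point_of_prime_not_dvd_card (Γ ⧸ Bg ρ) hnd
  induction y using QuotientGroup.induction_on with
  | H g =>
    rw [MulAction.mem_fixedPoints] at hy
    obtain ⟨ζ, hζ, u, hu, hxd⟩ := exists_Z_Q_decomp p (show x ∈ Pg (conjRep ρ c) from hc)
    rw [Zr_conjRep] at hζ
    have hfix : g⁻¹ * u * g ∈ Bg ρ := by
      have h1 := hy ⟨u, hu⟩
      have h2 : u • (g : Γ ⧸ Bg ρ) = (g : Γ ⧸ Bg ρ) := h1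
      rw [MulAction.Quotient.smul_mk, QuotientGroup.eq] at h2
      have h3 := (Bg ρ).inv_mem h2
      have e : ((u • g)⁻¹ * g)⁻¹ = g⁻¹ * u * g := by rw [smul_eq_mul]; group
      rwa [e] at h3
    have hxB : g⁻¹ * x * g ∈ Bg ρ := by
      have hcen := (isCA ρ h.inj).commute_of_mem hζ (g⁻¹)
      have e : g⁻¹ * x * g = ζ * (g⁻¹ * u * g) := by
        rw [hxd]
        calc g⁻¹ * (ζ * u) * g = (g⁻¹ * ζ) * u * g := by group
          _ = (ζ * g⁻¹) * u * g := by rw [hcen.eq]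
          _ = ζ * (g⁻¹ * u * g) := by group
      rw [e]
      exact (Bg ρ).mul_mem (Pg_le_Bg ρ (Zr_le_Pg ρ hζ)) hfix
    have hxP : g⁻¹ * x * g ∈ Pg ρ := by
      rw [mem_Pg]
      apply mem_PU_of_BB_of_tr hxB
      rw [map_mul, map_mul, map_inv]
      have := tr_conj (ρ g)⁻¹ (ρ x)
      rw [inv_inv] at this
      rw [this]
      exact hx.2
    refine ⟨hx.1, g, ?_⟩
    have hcomm : (g⁻¹ * x * g) * x₀ = x₀ * (g⁻¹ * x * g) := by
      have : g⁻¹ * x * g ∈ Cx x₀ := by rw [h.Cx_eq]; exact hxP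
      exact Subgroup.mem_centralizer_singleton_iff.1 this
    show x * (g * x₀ * g⁻¹) = (g * x₀ * g⁻¹) * x
    calc x * (g * x₀ * g⁻¹) = g * ((g⁻¹ * x * g) * x₀) * g⁻¹ := by group
      _ = g * (x₀ * (g⁻¹ * x * g)) * g⁻¹ := by rw [hcomm]
      _ = (g * x₀ * g⁻¹) * x := by group

/-- elements of the class-union of `x₀` are of unipotent type -/
theorem isUni_of_mem_classUnion (h : UniFrame ρ x₀) {x : Γ} (hx : x ∈ classUnion (Zr ρ) x₀) :
    IsUni ρ x := by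
  obtain ⟨hxZ, g, hg⟩ := hx
  refine ⟨hxZ, ?_⟩
  have h1 : g⁻¹ * x * g ∈ Cx x₀ := by
    rw [Subgroup.mem_centralizer_singleton_iff]
    have hg' : x * (g * x₀ * g⁻¹) = (g * x₀ * g⁻¹) * x := hg
    calc g⁻¹ * x * g * x₀ = g⁻¹ * (x * (g * x₀ * g⁻¹)) * g := by group
      _ = g⁻¹ * ((g * x₀ * g⁻¹) * x) * g := by rw [hg']
      _ = x₀ * (g⁻¹ * x * g) := by group
  rw [h.Cx_eq, mem_Pg, map_mul, map_mul, map_inv] at h1
  have h2 := tr_sq_of_PU h1
  have := tr_conj (ρ g)⁻¹ (ρ x)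
  rw [inv_inv] at this
  rw [this] at h2
  exact h2

end UniFrame


namespace UniFrame

variable {x₀ : Γ}

theorem conj_UU (h : UniFrame ρ x₀) {u : SL2} (hu : u ∈ (UU : Subgroup SL2)) :
    UniFrame (conjRep ρ u) x₀ := by
  have hmem : conjRep ρ u x₀ ∈ (PU : Subgroup SL2) := by
    rw [conjRep_apply]
    exact conj_PU_of_BB h.mem (PU_le_BB (UU_le_PU hu))
  refine ⟨conjRep_injective ρ u h.inj, hmem, ?_⟩
  apply PU_entry_ne_zero hmem
  have := h.not_mem_Zr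
  rw [← Zr_conjRep ρ u, mem_Zr] at this
  exact this

/-- the torus in the Borel subgroup: a frame in which it is diagonal -/
theorem exists_torus [Finite Γ] (h : UniFrame ρ x₀) (p : ℕ) [Fact p.Prime] [CharP E p]
    (hk : 2 ≤ fOf x₀) :
    ∃ u : SL2, u ∈ (UU : Subgroup SL2) ∧ ∃ y₀ : Γ, conjRep ρ u y₀ ∈ (DD : Subgroup SL2) ∧
      (conjRep ρ u y₀).1 0 0 ≠ (conjRep ρ u y₀).1 1 1 ∧
      Nat.card (Dg (conjRep ρ u)) = Nat.card (Zr ρ) * fOf x₀ := by
  obtain ⟨t₀, ht₀⟩ := IsCyclic.exists_generator (α := Tg ρ)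
  obtain ⟨y, hy⟩ := t₀.2
  have hord : orderOf t₀ = Nat.card (Tg ρ) := orderOf_eq_card_of_forall_mem_zpowers ht₀
  have hord' : orderOf (t₀.1 : Eˣ) = Nat.card (Tg ρ) := by rw [← hord, Subgroup.orderOf_coe]
  have hT := h.card_Tg p
  have hzpos : 0 < Nat.card (Zr ρ) := Nat.card_pos
  have hyB : y.1 ∈ Bg ρ := y.2
  have hval : ((t₀.1 : Eˣ) : E) = (ρ y.1).1 0 0 := by rw [← hy]; rfl
  -- regularity
  have hne : (ρ y.1).1 0 0 ≠ (ρ y.1).1 1 1 := by
    intro heq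
    have hyP : ρ y.1 ∈ (PU : Subgroup SL2) := ⟨hyB, heq⟩
    have hsq : (t₀.1 : Eˣ) ^ 2 = 1 := by
      apply Units.ext
      rw [Units.val_pow_eq_pow_val, hval, Units.val_one]
      exact PU_diag_sq hyP
    have hdvd : orderOf (t₀.1 : Eˣ) ∣ 2 := orderOf_dvd_of_pow_eq_one hsq
    have hle : Nat.card (Tg ρ) ≤ 2 := by rw [← hord']; exact Nat.le_of_dvd (by norm_num) hdvd
    have hz1 : Nat.card (Zr ρ) = 1 := by
      rw [hT] at hle
      by_contra hne1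
      have : 2 ≤ Nat.card (Zr ρ) := by omega
      have : 2 * 2 ≤ Nat.card (Zr ρ) * fOf x₀ := Nat.mul_le_mul this hk
      omega
    have hT2 : Nat.card (Tg ρ) = 2 := by
      rw [hT, hz1, one_mul] at hle ⊢; omega
    have ht1 : (t₀.1 : Eˣ) ≠ 1 := by
      intro h1
      rw [h1, orderOf_one] at hord'
      omega
    apply ht1
    apply Units.ext
    rw [hval, Units.val_one]
    obtain ⟨h10, h01, h00, h11⟩ := PU_pow_char p hyP
    have hζ : y.1 ^ p ∈ Zr ρ := by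
      rw [mem_Zr, map_pow, mem_center_iff']
      exact ⟨h01, h10, by rw [h00, h11]⟩
    have : Subsingleton (Zr ρ) := (Nat.card_eq_one_iff_unique.1 hz1).1
    have hone : y.1 ^ p = 1 := by
      have := Subsingleton.elim (⟨y.1 ^ p, hζ⟩ : Zr ρ) 1
      exact congrArg Subtype.val this
    rw [← h00, ← map_pow, hone, map_one, one_00]
  obtain ⟨u, huU, huD, h00, h11⟩ := exists_conj_mem_DD hyB hne
  refine ⟨u, huU, y.1, ?_, ?_, ?_⟩
  · rw [conjRep_apply]; exact huD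
  · rw [conjRep_apply, h00, h11]; exact hne
  · rw [← hT]
    have hBeq : Bg (conjRep ρ u) = Bg ρ := Bg_conjRep_of_BB (PU_le_BB (UU_le_PU huU))
    have hDB : ∀ g : Dg (conjRep ρ u), g.1 ∈ Bg ρ := by
      intro g
      rw [← hBeq]
      exact Dg_le_Bg _ g.2
    apply le_antisymm
    · -- injection into `T`
      let f : Dg (conjRep ρ u) → Tg ρ := fun g =>
        ⟨Units.mkOfMulEqOne ((ρ g.1).1 0 0) ((ρ g.1).1 1 1) (BB_diag_mul (hDB g)),
          mem_Tg_of_mem_Bg (hDB g)⟩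
      apply Nat.card_le_card_of_injective f
      intro g g' hfg
      have h1 : (ρ g.1).1 0 0 = (ρ g'.1).1 0 0 := by
        have := congrArg (fun t : Tg ρ => ((t.1 : Eˣ) : E)) hfg
        exact this
      have hg := g.2
      have hg' := g'.2
      rw [mem_Dg, conjRep_apply] at hg hg'
      have e1 := (conj_UU_diag huU (hDB g)).1
      have e2 := (conj_UU_diag huU (hDB g')).1
      have h2 : (u * ρ g.1 * u⁻¹).1 0 0 = (u * ρ g'.1 * u⁻¹).1 0 0 := by rw [e1, e2, h1]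
      have h3 : (u * ρ g'.1 * u⁻¹)⁻¹ * (u * ρ g.1 * u⁻¹) = 1 := by
        apply DD_eq_one ((DD : Subgroup SL2).mul_mem ((DD : Subgroup SL2).inv_mem hg') hg)
        rw [mul_00, inv_00, inv_01, hg'.2, h2]
        have := BB_diag_mul (DD_le_BB hg')
        linear_combination this
      have h4 : u * ρ g.1 * u⁻¹ = u * ρ g'.1 * u⁻¹ := by
        have := mul_eq_one_iff_eq_inv.1 h3
        exact (inv_injective this).symm
      have h5 : ρ g.1 = ρ g'.1 := mul_left_cancel (mul_right_cancel h4)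
      exact Subtype.ext (h.inj h5)
    · have hyD : y.1 ∈ Dg (conjRep ρ u) := by rw [mem_Dg, conjRep_apply]; exact huD
      have h1 : Subgroup.zpowers y.1 ≤ Dg (conjRep ρ u) := by
        rw [Subgroup.zpowers_le]; exact hyD
      have h2 := Subgroup.card_le_of_le h1
      rw [Nat.card_zpowers] at h2
      have h3 : orderOf (t₀.1 : Eˣ) ∣ orderOf y := by
        rw [← hy]; exact orderOf_map_dvd _ _
      rw [Subgroup.orderOf_coe] at h2
      have h4 : orderOf y ≠ 0 := (orderOf_pos y).ne'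
      have h5 := Nat.le_of_dvd (Nat.pos_of_ne_zero h4) h3
      rw [hord'] at h5
      omega

end UniFrame

end Cfsg.Agent.Helper46.Dk
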