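import Mathlib
import Cfsg.Agent.Helper46.DkUni

set_option autoImplicit false

/-!
# Dickson project: the numerical case distinction for a finite subgroup of `SL₂(E)`
-/

namespace Cfsg.Agent.Helper46.Dk

open Matrix Cfsg.Agent.Helper46.IsCA

variable {E : Type*} [Field E]

local notation "SL2" => Matrix.SpecialLinearGroup (Fin 2) E

variable {Γ : Type*} [Group Γ] {ρ : Γ →* Matrix.SpecialLinearGroup (Fin 2) E}

theorem isSS_of_DD_regular {x : Γ} (hx : ρ x ∈ (DD : Subgroup SL2))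
    (hne : (ρ x).1 0 0 ≠ (ρ x).1 1 1) : IsSS ρ x := by
  unfold IsSS
  intro h4
  have h := BB_tr_sq (DD_le_BB hx)
  rw [h4] at h
  have : ((ρ x).1 0 0 - (ρ x).1 1 1) ^ 2 = 0 := by rw [← h]; ring
  exact hne (sub_eq_zero.1 (pow_eq_zero_iff two_ne_zero |>.1 this))

theorem not_anti_of_BB {g : SL2} (hg : g ∈ (BB : Subgroup SL2)) : ¬ IsAnti g := by
  intro ha
  have := BB_diag_mul hg
  rw [ha.1, zero_mul] at this
  exact zero_ne_one this

/-- all non-central elements are of torus type: the numerical alternatives -/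
theorem num_SS [Finite Γ] [IsAlgClosed E] (hinj : Function.Injective ρ)
    (hall : ∀ x : Γ, x ∉ Zr ρ → IsSS ρ x) :
    Zr ρ = ⊤ ∨ (∃ x, x ∉ Zr ρ ∧ Cx x = ⊤) ∨ (∃ x, x ∉ Zr ρ ∧ Nx x = ⊤ ∧ fOf x = 2) ∨
    (gOf (Zr ρ) = 12 ∧ ∃ x, x ∉ Zr ρ ∧ datum (Zr ρ) x = (4, 3, 1)) ∨
    (gOf (Zr ρ) = 12 ∧ ∃ x, x ∉ Zr ρ ∧ aOf x = 2 ∧ eOf (Zr ρ) x = 3 ∧ fOf x = 2) ∨
    (gOf (Zr ρ) = 24 ∧ ∀ x, x ∉ Zr ρ →
      fOf x = 2 ∧ (eOf (Zr ρ) x = 2 ∨ eOf (Zr ρ) x = 3 ∨ eOf (Zr ρ) x = 4)) ∨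
    (gOf (Zr ρ) = 60 ∧ ∀ x, x ∉ Zr ρ →
      fOf x = 2 ∧ (eOf (Zr ρ) x = 2 ∨ eOf (Zr ρ) x = 3 ∨ eOf (Zr ρ) x = 5)) :=
  (isCA ρ hinj).numSS (fun x hx => fOf_SS hinj (hall x hx))

namespace UniFrame

variable {x₀ : Γ}

/-- there is a class of unipotent type: the numerical alternatives -/
theorem num [Finite Γ] [IsAlgClosed E] (h : UniFrame ρ x₀) (p : ℕ) [Fact p.Prime] [CharP E p] :
    ∃ m : ℕ, aOf x₀ = 1 + m * Nat.card (Qg ρ) ∧
    (m = 0 ∨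
    (Nat.card (Qg ρ) = 2 ∧ fOf x₀ = 1 ∧
      ∃ x, x ∉ Zr ρ ∧ Nx x = ⊤ ∧ fOf x = 2 ∧ x ∉ classUnion (Zr ρ) x₀) ∨
    (Nat.card (Qg ρ) = 3 ∧ fOf x₀ = 1 ∧ m = 1) ∨
    (2 ≤ fOf x₀ ∧ m = 1 ∧
      (fOf x₀ = Nat.card (Qg ρ) - 1 ∨ 2 * fOf x₀ = Nat.card (Qg ρ) - 1) ∧
      ∀ x, x ∉ Zr ρ → x ∉ classUnion (Zr ρ) x₀ → fOf x = 2) ∨
    (Nat.card (Qg ρ) = 3 ∧ fOf x₀ = 2 ∧ m = 3 ∧
      ∀ x, x ∉ Zr ρ → x ∉ classUnion (Zr ρ) x₀ →
        fOf x = 2 ∧ (eOf (Zr ρ) x = 2 ∨ eOf (Zr ρ) x = 5))) := by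
  have hCA := isCA ρ h.inj
  obtain ⟨m, hm⟩ := h.card_Qg_dvd p
  have hN1 : 1 ≤ aOf x₀ := (card_top x₀).2
  have ha : aOf x₀ = 1 + m * Nat.card (Qg ρ) := by
    rw [mul_comm m]; omega
  refine ⟨m, ha, ?_⟩
  apply hCA.numUni h.not_mem_Zr (Nat.card (Qg ρ)) (fOf x₀) m (h.eOf_eq p) rfl ha (h.fOf_dvd p)
  · -- all other classes are of torus type
    intro x hxZ hxU
    rcases isSS_or_isUni ρ hxZ with hss | huni
    · exact fOf_SS h.inj hss
    · exact absurd (h.uni_mem_classUnion p huni) hxU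
  · -- the torus of the Borel subgroup
    intro hk
    obtain ⟨u, huU, y₀, hyD, hyne, hcard⟩ := h.exists_torus p hk
    have hinj' := conjRep_injective ρ u h.inj
    have hss' : IsSS (conjRep ρ u) y₀ := isSS_of_DD_regular hyD hyne
    have hss : IsSS ρ y₀ := (isSS_conjRep ρ u y₀).1 hss'
    have hyZ : y₀ ∉ Zr ρ := isSS_not_mem_Zr ρ hss
    have hCeq := centralizer_eq_comap_DD hinj' hyD hyne
    refine ⟨y₀, hyZ, ?_, ?_, ?_⟩
    · intro hU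
      exact hss (h.isUni_of_mem_classUnion hU).2
    · have h1 := (hCA.card_Cx hyZ).1
      have h2 : Nat.card (Cx y₀) = Nat.card (Dg (conjRep ρ u)) := by
        show Nat.card (Subgroup.centralizer ({y₀} : Set Γ)) = _
        rw [hCeq]; rfl
      rw [h2, hcard] at h1
      exact (Nat.eq_of_mul_eq_mul_left Nat.card_pos h1).symm
    · intro hf2
      by_contra hm0
      have hm0' : m = 0 := by omega
      have ha1 : aOf x₀ = 1 := by rw [ha, hm0']; simp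
      have htop : Bg ρ = ⊤ := by rw [← h.Nx_eq]; exact top_of_a_one ha1
      have htop' : Bg (conjRep ρ u) = ⊤ := by
        rw [Bg_conjRep_of_BB (PU_le_BB (UU_le_PU huU))]; exact htop
      -- an element of the normalizer outside the torus
      have hNC : ¬ Nx y₀ ≤ Cx y₀ := by
        intro hle
        have : Nx y₀ = Cx y₀ := le_antisymm hle Subgroup.le_normalizer
        have h3 := (card_Nx y₀).1
        rw [this, hf2] at h3
        have : 0 < Nat.card (Cx y₀) := Nat.card_pos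
        omega
      obtain ⟨w, hwN, hwC⟩ := SetLike.not_le_iff_exists.1 hNC
      rcases normalizer_torus hinj' hyD hyne hwN with hw | hw
      · apply hwC
        show w ∈ Subgroup.centralizer ({y₀} : Set Γ)
        rw [hCeq]; exact hw
      · have hwB : w ∈ Bg (conjRep ρ u) := by rw [htop']; trivial
        exact not_anti_of_BB hwB hw

end UniFrame

end Cfsg.Agent.Helper46.Dk
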