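import Mathlib
import Cfsg.Agent.Helper46.DkNum

set_option autoImplicit false

/-!
# Dickson project: identification of the groups with `N = q + 1` (part 1: Bruhat decomposition)
-/

namespace Cfsg.Agent.Helper46.Dk

open Matrix Cfsg.Agent.Helper46.IsCA

variable {E : Type*} [Field E]

local notation "SL2" => Matrix.SpecialLinearGroup (Fin 2) E

variable {Γ : Type*} [Group Γ] {ρ : Γ →* Matrix.SpecialLinearGroup (Fin 2) E}

theorem anti_entries {w : SL2} (hw : IsAnti w) : w.1 0 1 * w.1 1 0 = -1 := by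
  have := det' w
  rw [hw.1, hw.2] at this
  linear_combination -this

theorem Dg_conjRep_of_DD {c : SL2} (hc : c ∈ (DD : Subgroup SL2)) : Dg (conjRep ρ c) = Dg ρ := by
  ext g
  rw [mem_Dg, mem_Dg, conjRep_apply]
  constructor
  · intro h
    have : ρ g = c⁻¹ * (c * ρ g * c⁻¹) * c := by group
    rw [this]
    exact (DD : Subgroup SL2).mul_mem ((DD : Subgroup SL2).mul_mem
      ((DD : Subgroup SL2).inv_mem hc) h) hc
  · intro h
    exact (DD : Subgroup SL2).mul_mem ((DD : Subgroup SL2).mul_mem hc h)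
      ((DD : Subgroup SL2).inv_mem hc)

theorem Qg_conjRep_of_BB {c : SL2} (hc : c ∈ (BB : Subgroup SL2)) : Qg (conjRep ρ c) = Qg ρ := by
  ext g
  rw [mem_Qg, mem_Qg, conjRep_apply]
  constructor
  · intro h
    have : ρ g = c⁻¹ * (c * ρ g * c⁻¹) * (c⁻¹)⁻¹ := by group
    rw [this]
    exact conj_UU_of_BB h ((BB : Subgroup SL2).inv_mem hc)
  · intro h
    exact conj_UU_of_BB h hc

theorem anti_conj_of_DD {c w : SL2} (hc : c ∈ (DD : Subgroup SL2)) (hw : IsAnti w) :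
    IsAnti (c * w * c⁻¹) := by
  constructor
  · rw [conj_00, hw.1, hw.2, hc.1, hc.2]; ring
  · rw [conj_11, hw.1, hw.2, hc.1, hc.2]; ring

namespace UniFrame

variable {x₀ : Γ}

theorem conj_BB (h : UniFrame ρ x₀) {c : SL2} (hc : c ∈ (BB : Subgroup SL2)) :
    UniFrame (conjRep ρ c) x₀ := by
  have hmem : conjRep ρ c x₀ ∈ (PU : Subgroup SL2) := by
    rw [conjRep_apply]
    exact conj_PU_of_BB h.mem hc
  refine ⟨conjRep_injective ρ c h.inj, hmem, ?_⟩
  apply PU_entry_ne_zero hmem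
  have := h.not_mem_Zr
  rw [← Zr_conjRep ρ c, mem_Zr] at this
  exact this

/-- the diagonal group maps onto the image of the diagonal character -/
theorem exists_Dg_of_mem_Bg [Finite Γ] (h : UniFrame ρ x₀)
    (hD : Nat.card (Dg ρ) = Nat.card (Tg ρ)) {b : Γ} (hb : b ∈ Bg ρ) :
    ∃ d ∈ Dg ρ, (ρ d).1 0 0 = (ρ b).1 0 0 := by
  let f : Dg ρ → Tg ρ := fun g =>
    ⟨Units.mkOfMulEqOne ((ρ g.1).1 0 0) ((ρ g.1).1 1 1) (BB_diag_mul (Dg_le_Bg ρ g.2)),
      mem_Tg_of_mem_Bg (Dg_le_Bg ρ g.2)⟩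
  have hfinj : Function.Injective f := by
    intro g g' hfg
    have h1 : (ρ g.1).1 0 0 = (ρ g'.1).1 0 0 := by
      have := congrArg (fun t : Tg ρ => ((t.1 : Eˣ) : E)) hfg
      exact this
    have hg := (mem_Dg ρ g.1).1 g.2
    have hg' := (mem_Dg ρ g'.1).1 g'.2
    have h3 : (ρ g'.1)⁻¹ * ρ g.1 = 1 := by
      apply DD_eq_one ((DD : Subgroup SL2).mul_mem ((DD : Subgroup SL2).inv_mem hg') hg)
      rw [mul_00, inv_00, inv_01, hg'.2, h1]
      have := BB_diag_mul (DD_le_BB hg')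
      linear_combination this
    have h4 : ρ g.1 = ρ g'.1 := by
      have h5 : (ρ g'.1)⁻¹ = (ρ g.1)⁻¹ := mul_eq_one_iff_eq_inv.1 h3
      exact (inv_injective h5).symm
    exact Subtype.ext (h.inj h4)
  have hfbij : Function.Bijective f := by
    rw [Nat.bijective_iff_injective_and_card]
    exact ⟨hfinj, hD⟩
  obtain ⟨d, hd⟩ := hfbij.2 ⟨_, mem_Tg_of_mem_Bg hb⟩
  refine ⟨d.1, d.2, ?_⟩
  have := congrArg (fun t : Tg ρ => ((t.1 : Eˣ) : E)) hd
  exact this

/-- `B = D Q` -/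
theorem exists_split [Finite Γ] (h : UniFrame ρ x₀)
    (hD : Nat.card (Dg ρ) = Nat.card (Tg ρ)) {b : Γ} (hb : b ∈ Bg ρ) :
    ∃ d ∈ Dg ρ, d⁻¹ * b ∈ Qg ρ ∧ (ρ d).1 0 0 = (ρ b).1 0 0 := by
  obtain ⟨d, hd, hdb⟩ := h.exists_Dg_of_mem_Bg hD hb
  refine ⟨d, hd, ?_, hdb⟩
  rw [mem_Qg, map_mul, map_inv]
  have hdD := (mem_Dg ρ d).1 hd
  apply mem_UU_of_BB_of_eq_one
    ((BB : Subgroup SL2).mul_mem ((BB : Subgroup SL2).inv_mem (DD_le_BB hdD)) hb)
  rw [mul_00, inv_00, inv_01, hdD.2, ← hdb]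
  have := BB_diag_mul (DD_le_BB hdD)
  linear_combination this

/-- Bruhat decomposition when the Borel subgroup has index `q + 1` -/
theorem bruhat [Finite Γ] (h : UniFrame ρ x₀) (hidx : aOf x₀ = 1 + Nat.card (Qg ρ)) {w₀ : Γ}
    (hw : IsAnti (ρ w₀)) {g : Γ} (hg : g ∉ Bg ρ) :
    ∃ u ∈ Qg ρ, (u * w₀)⁻¹ * g ∈ Bg ρ := by
  classical
  have hw₀B : w₀ ∉ Bg ρ := fun hB => not_anti_of_BB hB hw
  let f : Qg ρ → (Γ ⧸ Bg ρ) := fun u => ((u.1 * w₀ : Γ) : Γ ⧸ Bg ρ)
  have hfinj : Function.Injective f := by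
    intro u u' hf
    have h1 : ((u.1 * w₀ : Γ) : Γ ⧸ Bg ρ) = ((u'.1 * w₀ : Γ) : Γ ⧸ Bg ρ) := hf
    rw [QuotientGroup.eq] at h1
    -- w₀⁻¹ (u⁻¹ u') w₀ ∈ B
    have e : (u.1 * w₀)⁻¹ * (u'.1 * w₀) = w₀⁻¹ * (u.1⁻¹ * u'.1) * w₀ := by group
    rw [e, mem_Bg, map_mul, map_mul, map_inv] at h1
    have hv : u.1⁻¹ * u'.1 ∈ Qg ρ := (Qg ρ).mul_mem ((Qg ρ).inv_mem u.2) u'.2
    rw [mem_Qg] at hv
    have h10 := (mem_BB _).1 h1
    have hconj := conj_10 (ρ w₀)⁻¹ (ρ (u.1⁻¹ * u'.1))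
    rw [inv_inv] at hconj
    rw [hconj, inv_10, inv_11, hw.1, hv.1, hv.2.1, hv.2.2] at h10
    have hne : (ρ w₀).1 1 0 ≠ 0 := by
      intro h0
      have := anti_entries hw
      rw [h0, mul_zero] at this
      exact zero_ne_one (by linear_combination -this)
    have h01 : (ρ (u.1⁻¹ * u'.1)).1 0 1 = 0 := by
      have : (ρ (u.1⁻¹ * u'.1)).1 0 1 * ((ρ w₀).1 1 0) ^ 2 = 0 := by linear_combination -h10
      rcases mul_eq_zero.1 this with h' | h'
      · exact h'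
      · exact absurd (pow_eq_zero_iff two_ne_zero |>.1 h') hne
    have hone : u.1⁻¹ * u'.1 = 1 := by
      apply h.inj
      rw [map_one]
      apply ext'
      · rw [hv.2.1, one_00]
      · rw [h01, one_01]
      · rw [hv.1, one_10]
      · rw [hv.2.2, one_11]
    apply Subtype.ext
    have : u'.1 = u.1 * (u.1⁻¹ * u'.1) := by group
    rw [this, hone, mul_one]
  -- the image misses the trivial coset and has `q` elements
  have hmiss : ∀ u : Qg ρ, f u ≠ ((1 : Γ) : Γ ⧸ Bg ρ) := by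
    intro u hfu
    have h1 : ((u.1 * w₀ : Γ) : Γ ⧸ Bg ρ) = ((1 : Γ) : Γ ⧸ Bg ρ) := hfu
    rw [QuotientGroup.eq] at h1
    apply hw₀B
    have h2 : u.1 * w₀ ∈ Bg ρ := by
      have := (Bg ρ).inv_mem h1
      simpa using this
    have : w₀ = u.1⁻¹ * (u.1 * w₀) := by group
    rw [this]
    exact (Bg ρ).mul_mem ((Bg ρ).inv_mem ((Qg_le_Pg ρ).trans (Pg_le_Bg ρ) u.2)) h2
  have hcard : Nat.card (Γ ⧸ Bg ρ) = 1 + Nat.card (Qg ρ) := by
    rw [← Subgroup.index_eq_card, ← h.aOf_eq_index, hidx]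
  -- surjectivity onto the nontrivial cosets
  by_contra hcontra
  have hgmiss : ∀ u : Qg ρ, f u ≠ ((g : Γ) : Γ ⧸ Bg ρ) := by
    intro u hfu
    apply hcontra
    refine ⟨u.1, u.2, ?_⟩
    have h1 : ((u.1 * w₀ : Γ) : Γ ⧸ Bg ρ) = ((g : Γ) : Γ ⧸ Bg ρ) := hfu
    exact QuotientGroup.eq.1 h1
  have hg1 : ((g : Γ) : Γ ⧸ Bg ρ) ≠ ((1 : Γ) : Γ ⧸ Bg ρ) := by
    intro h1
    rw [QuotientGroup.eq] at h1
    apply hg
    have := (Bg ρ).inv_mem h1
    simpa using this
  -- count: q + 2 distinct cosets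
  let f' : Option (Option (Qg ρ)) → (Γ ⧸ Bg ρ) := fun o =>
    match o with
    | none => ((1 : Γ) : Γ ⧸ Bg ρ)
    | some none => ((g : Γ) : Γ ⧸ Bg ρ)
    | some (some u) => f u
  have hf'inj : Function.Injective f' := by
    intro a b hab
    match a, b, hab with
    | none, none, _ => rfl
    | none, some none, hab => exact absurd hab.symm hg1
    | none, some (some u), hab => exact absurd hab.symm (hmiss u)
    | some none, none, hab => exact absurd hab hg1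
    | some none, some none, _ => rfl
    | some none, some (some u), hab => exact absurd hab.symm (hgmiss u)
    | some (some u), none, hab => exact absurd hab (hmiss u)
    | some (some u), some none, hab => exact absurd hab (hgmiss u)
    | some (some u), some (some u'), hab => rw [hfinj hab]
  have hle := Nat.card_le_card_of_injective f' hf'inj
  rw [hcard] at hle
  have h2 : Nat.card (Option (Option (Qg ρ))) = Nat.card (Qg ρ) + 2 := by
    rw [Finite.card_option, Finite.card_option]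
  omega

end UniFrame

end Cfsg.Agent.Helper46.Dk
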