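import Mathlib
import Cfsg.Agent.Helper46.DkIdent

set_option autoImplicit false

/-!
# Dickson project: identification, part 2: the field of definition
-/

namespace Cfsg.Agent.Helper46.Dk

open Matrix Cfsg.Agent.Helper46.IsCA

variable {E : Type*} [Field E]

local notation "SL2" => Matrix.SpecialLinearGroup (Fin 2) E

variable {Γ : Type*} [Group Γ] {ρ : Γ →* Matrix.SpecialLinearGroup (Fin 2) E}

theorem uU_00 (a : E) : (uU a : SL2).1 0 0 = 1 := rfl
theorem uU_01 (a : E) : (uU a : SL2).1 0 1 = a := rfl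
theorem uU_10 (a : E) : (uU a : SL2).1 1 0 = 0 := rfl
theorem uU_11 (a : E) : (uU a : SL2).1 1 1 = 1 := rfl

theorem eq_uU_of_mem_UU {g : SL2} (hg : g ∈ (UU : Subgroup SL2)) : g = uU (g.1 0 1) := by
  apply ext'
  · rw [hg.2.1, uU_00]
  · rw [uU_01]
  · rw [hg.1, uU_10]
  · rw [hg.2.2, uU_11]

theorem uU_mul (a b : E) : (uU a : SL2) * uU b = uU (a + b) := by
  apply ext'
  · rw [mul_00]; simp only [uU_00, uU_01, uU_10]; ring
  · rw [mul_01]; simp only [uU_00, uU_01, uU_11]; ring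
  · rw [mul_10]; simp only [uU_00, uU_10, uU_11]; ring
  · rw [mul_11]; simp only [uU_01, uU_10, uU_11]; ring

theorem uU_zero : (uU 0 : SL2) = 1 := by
  apply ext'
  · rw [uU_00, one_00]
  · rw [uU_01, one_01]
  · rw [uU_10, one_10]
  · rw [uU_11, one_11]

theorem uU_inv (a : E) : (uU a : SL2)⁻¹ = uU (-a) := by
  apply ext'
  · rw [inv_00]; simp only [uU_00, uU_11]
  · rw [inv_01]; simp only [uU_01]
  · rw [inv_10]; simp only [uU_10]; ring
  · rw [inv_11]; simp only [uU_00, uU_11]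

theorem bruhat_entries {W U : SL2} (a : E) (hW : IsAnti W) (hU : U ∈ (UU : Subgroup SL2)) :
    ((U * W)⁻¹ * (W * uU a * W⁻¹)).1 1 0 = -(W.1 1 0) * (1 + U.1 0 1 * a * (W.1 1 0) ^ 2) ∧
    ((U * W)⁻¹ * (W * uU a * W⁻¹)).1 0 0 = -a * W.1 1 0 := by
  have hβγ := anti_entries hW
  have e : (U * W)⁻¹ * (W * uU a * W⁻¹) = W⁻¹ * (U⁻¹ * (W * (uU a * W⁻¹))) := by group
  rw [e]
  constructor
  · simp only [mul_00, mul_10, mul_11, inv_00, inv_01, inv_10, inv_11, hW.1, hW.2,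
      hU.1, hU.2.1, hU.2.2, uU_00, uU_01, uU_10, uU_11]
    linear_combination (W.1 1 0) * hβγ
  · simp only [mul_00, mul_10, mul_11, inv_00, inv_01, inv_10, inv_11, hW.1, hW.2,
      hU.1, hU.2.1, hU.2.2, uU_00, uU_01, uU_10, uU_11]
    linear_combination (a * W.1 1 0) * hβγ

/-- a normalized frame with a `BN`-pair like structure -/
structure BNFrame (ρ : Γ →* Matrix.SpecialLinearGroup (Fin 2) E) (w₀ : Γ) : Prop where
  inj : Function.Injective ρ
  anti : IsAnti (ρ w₀)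
  one_mem : ∃ u₁ : Γ, ρ u₁ = uU 1
  bruhat : ∀ g : Γ, g ∉ Bg ρ → ∃ u ∈ Qg ρ, (u * w₀)⁻¹ * g ∈ Bg ρ
  split : ∀ b ∈ Bg ρ, ∃ d ∈ Dg ρ, d⁻¹ * b ∈ Qg ρ ∧ (ρ d).1 0 0 = (ρ b).1 0 0

/-- the parameters of the unipotent elements -/
def setA (ρ : Γ →* Matrix.SpecialLinearGroup (Fin 2) E) : Set E := {a | ∃ g : Γ, ρ g = uU a}

/-- the parameters of the diagonal elements -/
def setT (ρ : Γ →* Matrix.SpecialLinearGroup (Fin 2) E) : Set E :=
  {t | ∃ d ∈ Dg ρ, (ρ d).1 0 0 = t}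

theorem mem_setA_of_mem_Qg {u : Γ} (hu : u ∈ Qg ρ) : (ρ u).1 0 1 ∈ setA ρ :=
  ⟨u, eq_uU_of_mem_UU hu⟩

theorem setA_zero : (0 : E) ∈ setA ρ := ⟨1, by rw [map_one, uU_zero]⟩

theorem setA_add {a b : E} (ha : a ∈ setA ρ) (hb : b ∈ setA ρ) : a + b ∈ setA ρ := by
  obtain ⟨g, hg⟩ := ha
  obtain ⟨g', hg'⟩ := hb
  exact ⟨g * g', by rw [map_mul, hg, hg', uU_mul]⟩

theorem setA_neg {a : E} (ha : a ∈ setA ρ) : -a ∈ setA ρ := by
  obtain ⟨g, hg⟩ := ha
  exact ⟨g⁻¹, by rw [map_inv, hg, uU_inv]⟩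

theorem setA_nsmul {a : E} (ha : a ∈ setA ρ) (n : ℕ) : (n : E) * a ∈ setA ρ := by
  induction n with
  | zero => simp only [Nat.cast_zero, zero_mul]; exact setA_zero
  | succ n ih =>
    have : ((n + 1 : ℕ) : E) * a = (n : E) * a + a := by push_cast; ring
    rw [this]
    exact setA_add ih ha

theorem setT_one : (1 : E) ∈ setT ρ := ⟨1, (Dg ρ).one_mem, by rw [map_one, one_00]⟩

theorem setT_mul {s t : E} (hs : s ∈ setT ρ) (ht : t ∈ setT ρ) : s * t ∈ setT ρ := by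
  obtain ⟨d, hd, hds⟩ := hs
  obtain ⟨d', hd', hdt⟩ := ht
  refine ⟨d * d', (Dg ρ).mul_mem hd hd', ?_⟩
  rw [map_mul, mul_00, ((mem_Dg ρ d').1 hd').1, hds, hdt]; ring

theorem setT_inv {t : E} (ht : t ∈ setT ρ) : t⁻¹ ∈ setT ρ := by
  obtain ⟨d, hd, hdt⟩ := ht
  refine ⟨d⁻¹, (Dg ρ).inv_mem hd, ?_⟩
  rw [map_inv, inv_00]
  have := BB_diag_mul (Dg_le_Bg ρ hd)
  rw [hdt] at this
  exact eq_inv_of_mul_eq_one_right this

theorem setT_ne_zero {t : E} (ht : t ∈ setT ρ) : t ≠ 0 := by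
  obtain ⟨d, hd, hdt⟩ := ht
  have := BB_diag_mul (Dg_le_Bg ρ hd)
  rw [hdt] at this
  intro h0
  rw [h0, zero_mul] at this
  exact zero_ne_one this

theorem setA_smul {t a : E} (ht : t ∈ setT ρ) (ha : a ∈ setA ρ) : t ^ 2 * a ∈ setA ρ := by
  obtain ⟨d, hd, hdt⟩ := ht
  obtain ⟨g, hg⟩ := ha
  have hgU : ρ g ∈ (UU : Subgroup SL2) := by rw [hg]; exact uU_mem_UU a
  have hmem : d * g * d⁻¹ ∈ Qg ρ := by
    rw [mem_Qg, map_mul, map_mul, map_inv]
    exact conj_UU_of_BB hgU (Dg_le_Bg ρ hd)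
  have := mem_setA_of_mem_Qg hmem
  rw [map_mul, map_mul, map_inv, conj_UU_entry hgU (Dg_le_Bg ρ hd), hdt, hg, uU_01] at this
  exact this

namespace BNFrame

variable {w₀ : Γ}

/-- the key computation -/
theorem key (h : BNFrame ρ w₀) {a : E} (ha : a ∈ setA ρ) (ha0 : a ≠ 0) :
    (-1 / (a * ((ρ w₀).1 1 0) ^ 2)) ∈ setA ρ ∧ (-a * (ρ w₀).1 1 0) ∈ setT ρ := by
  obtain ⟨ga, hga⟩ := ha
  have hγ : (ρ w₀).1 1 0 ≠ 0 := by
    intro h0
    have := anti_entries h.anti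
    rw [h0, mul_zero] at this
    exact zero_ne_one (by linear_combination -this)
  -- the conjugate is not in the Borel subgroup
  have hg : w₀ * ga * w₀⁻¹ ∉ Bg ρ := by
    rw [mem_Bg, map_mul, map_mul, map_inv, hga, mem_BB, conj_10]
    simp only [uU_00, uU_01, uU_10, uU_11, h.anti.2]
    intro h0
    have : a * ((ρ w₀).1 1 0) ^ 2 = 0 := by linear_combination -h0
    rcases mul_eq_zero.1 this with h' | h'
    · exact ha0 h'
    · exact hγ (pow_eq_zero_iff two_ne_zero |>.1 h')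
  obtain ⟨u, hu, hb⟩ := h.bruhat _ hg
  have hbB := hb
  rw [mem_Bg, map_mul, map_inv, map_mul, map_mul, map_mul, map_inv, hga] at hb
  obtain ⟨e10, e00⟩ := bruhat_entries a h.anti hu
  have h10 := (mem_BB _).1 hb
  rw [e10] at h10
  have hrel : 1 + (ρ u).1 0 1 * a * ((ρ w₀).1 1 0) ^ 2 = 0 := by
    rcases mul_eq_zero.1 h10 with h' | h'
    · exact absurd (neg_eq_zero.1 h') hγ
    · exact h'
  constructor
  · have hmem := mem_setA_of_mem_Qg hu
    have : (ρ u).1 0 1 = -1 / (a * ((ρ w₀).1 1 0) ^ 2) := by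
      have hne : a * ((ρ w₀).1 1 0) ^ 2 ≠ 0 := mul_ne_zero ha0 (pow_ne_zero 2 hγ)
      field_simp
      linear_combination hrel
    rw [← this]; exact hmem
  · obtain ⟨d, hd, -, hd00⟩ := h.split _ hbB
    refine ⟨d, hd, ?_⟩
    rw [hd00, map_mul, map_inv, map_mul, map_mul, map_mul, map_inv, hga, e00]

theorem gamma_ne_zero (h : BNFrame ρ w₀) : (ρ w₀).1 1 0 ≠ 0 := by
  intro h0
  have := anti_entries h.anti
  rw [h0, mul_zero] at this
  exact zero_ne_one (by linear_combination -this)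

theorem one_mem_setA (h : BNFrame ρ w₀) : (1 : E) ∈ setA ρ := h.one_mem

theorem neg_gamma_mem_setT (h : BNFrame ρ w₀) : (-(ρ w₀).1 1 0) ∈ setT ρ := by
  have := (h.key h.one_mem_setA one_ne_zero).2
  simpa using this

/-- `A ∖ 0 ⊆ T` -/
theorem setA_subset_setT (h : BNFrame ρ w₀) {a : E} (ha : a ∈ setA ρ) (ha0 : a ≠ 0) :
    a ∈ setT ρ := by
  have h1 := (h.key ha ha0).2
  have h2 := setT_inv h.neg_gamma_mem_setT
  have h3 := setT_mul h1 h2
  have hγ := h.gamma_ne_zero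
  have : -a * (ρ w₀).1 1 0 * (-(ρ w₀).1 1 0)⁻¹ = a := by
    field_simp
  rw [this] at h3
  exact h3

theorem setA_sq_mul (h : BNFrame ρ w₀) {a b : E} (ha : a ∈ setA ρ) (hb : b ∈ setA ρ) :
    a ^ 2 * b ∈ setA ρ := by
  by_cases ha0 : a = 0
  · rw [ha0]; simp only [ne_eq, OfNat.ofNat_ne_zero, not_false_eq_true, zero_pow, zero_mul]
    exact setA_zero
  · exact setA_smul (h.setA_subset_setT ha ha0) hb

theorem setA_inv (h : BNFrame ρ w₀) {a : E} (ha : a ∈ setA ρ) : a⁻¹ ∈ setA ρ := by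
  by_cases ha0 : a = 0
  · rw [ha0, _root_.inv_zero]; exact setA_zero
  · have h1 := (h.key ha ha0).1
    have h2 := setA_smul h.neg_gamma_mem_setT h1
    have hγ := h.gamma_ne_zero
    have : (-(ρ w₀).1 1 0) ^ 2 * (-1 / (a * ((ρ w₀).1 1 0) ^ 2)) = -a⁻¹ := by
      field_simp
    rw [this] at h2
    have := setA_neg h2
    rwa [neg_neg] at this

theorem setA_finite [Finite Γ] : (setA ρ).Finite := by
  apply Set.Finite.subset (Set.finite_range (fun g : Γ => (ρ g).1 0 1))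
  rintro a ⟨g, hg⟩
  exact ⟨g, by show (ρ g).1 0 1 = a; rw [hg, uU_01]⟩

theorem setA_mul [Finite Γ] (h : BNFrame ρ w₀) (p : ℕ) [Fact p.Prime] [CharP E p] {a b : E}
    (ha : a ∈ setA ρ) (hb : b ∈ setA ρ) : a * b ∈ setA ρ := by
  rcases (Fact.out : p.Prime).eq_two_or_odd' with h2 | hodd
  · -- characteristic two: every element of `A` is a square in `A`
    subst h2
    have hsq : ∀ c ∈ setA ρ, c ^ 2 ∈ setA ρ := by
      intro c hc
      have := h.setA_sq_mul hc h.one_mem_setA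
      rwa [mul_one] at this
    have hinj : Set.InjOn (fun c : E => c ^ 2) (setA ρ) := by
      intro c _ c' _ hcc
      have h20 : (2 : E) = 0 := by
        have := CharP.cast_eq_zero E 2
        exact_mod_cast this
      have hcc' : c ^ 2 = c' ^ 2 := hcc
      have : (c - c') ^ 2 = 0 := by
        have : (c - c') ^ 2 = c ^ 2 - 2 * c * c' + c' ^ 2 := by ring
        rw [this, h20, hcc']; ring_nf
        linear_combination (c' ^ 2) * h20
      exact sub_eq_zero.1 (pow_eq_zero_iff two_ne_zero |>.1 this)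
    have hmaps : Set.MapsTo (fun c : E => c ^ 2) (setA ρ) (setA ρ) := fun c hc => hsq c hc
    have hsurj : Set.SurjOn (fun c : E => c ^ 2) (setA ρ) (setA ρ) :=
      ((Set.Finite.injOn_iff_bijOn_of_mapsTo setA_finite hmaps).1 hinj).surjOn
    obtain ⟨c, hc, hca⟩ := hsurj ha
    have hca' : c ^ 2 = a := hca
    rw [← hca']
    exact h.setA_sq_mul hc hb
  · -- odd characteristic: polarization
    have h1 := h.setA_sq_mul (setA_add ha h.one_mem_setA) hb
    have h2 := h.setA_sq_mul ha hb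
    have h3 : 2 * (a * b) ∈ setA ρ := by
      have : 2 * (a * b) = (a + 1) ^ 2 * b + (-(a ^ 2 * b)) + (-b) := by ring
      rw [this]
      exact setA_add (setA_add h1 (setA_neg h2)) (setA_neg hb)
    obtain ⟨m, hm⟩ := hodd
    have h4 := setA_nsmul h3 (m + 1)
    have hp0 : ((p : ℕ) : E) = 0 := CharP.cast_eq_zero E p
    have : ((m + 1 : ℕ) : E) * (2 * (a * b)) = a * b := by
      have h5 : ((2 * m + 1 : ℕ) : E) = 0 := by rw [← hm]; exact hp0
      push_cast at h5 ⊢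
      linear_combination (a * b) * h5
    rw [this] at h4
    exact h4

/-- the field of definition -/
def fieldK [Finite Γ] (h : BNFrame ρ w₀) (p : ℕ) [Fact p.Prime] [CharP E p] : Subfield E where
  carrier := setA ρ
  mul_mem' := fun ha hb => h.setA_mul p ha hb
  one_mem' := h.one_mem_setA
  add_mem' := fun ha hb => setA_add ha hb
  zero_mem' := setA_zero
  neg_mem' := fun ha => setA_neg ha
  inv_mem' := fun _ ha => h.setA_inv ha

theorem mem_fieldK [Finite Γ] (h : BNFrame ρ w₀) (p : ℕ) [Fact p.Prime] [CharP E p] (a : E) :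
    a ∈ h.fieldK p ↔ a ∈ setA ρ := Iff.rfl

instance [Finite Γ] (h : BNFrame ρ w₀) (p : ℕ) [Fact p.Prime] [CharP E p] :
    Finite (h.fieldK p) := by
  have : Finite (setA ρ) := setA_finite.to_subtype
  exact this

end BNFrame

end Cfsg.Agent.Helper46.Dk
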