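import Mathlib
import Cfsg.Agent.Helper5.Card
import Cfsg.Agent.Helper5.PSL2

set_option autoImplicit false

namespace Cfsg.Agent.Helper46

open Matrix

/-- A finite field `K` with `|K|^m = |F|` (`m ≥ 1`) embeds into `F`. -/
theorem exists_ringHom_of_card_pow {K F : Type*} [Field K] [Fintype K] [Field F] [Fintype F]
    (m : ℕ) (hm : 1 ≤ m) (h : Fintype.card K ^ m = Fintype.card F) : Nonempty (K →+* F) := by
  obtain ⟨p, hp⟩ := CharP.exists K
  obtain ⟨n, hpp, hK⟩ := FiniteField.card K p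
  haveI : Fact p.Prime := ⟨hpp⟩
  have hF : Fintype.card F = p ^ ((n : ℕ) * m) := by rw [← h, hK, pow_mul]
  haveI : CharP F p := by
    have hpos : (n : ℕ) * m ≠ 0 := Nat.mul_ne_zero n.pos.ne' (by omega)
    exact charP_of_card_eq_prime_pow hF
  letI : Algebra (ZMod p) K := ZMod.algebra _ _
  letI : Algebra (ZMod p) F := ZMod.algebra _ _
  have h1 : p ^ Module.finrank (ZMod p) K = Fintype.card K := FiniteField.pow_finrank_eq_card p K
  have h2 : p ^ Module.finrank (ZMod p) F = Fintype.card F := FiniteField.pow_finrank_eq_card p F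
  have hfin : Module.finrank (ZMod p) F = Module.finrank (ZMod p) K * m := by
    apply Nat.pow_right_injective hpp.two_le
    show p ^ _ = p ^ _
    rw [h2, pow_mul, h1, h]
  obtain ⟨f⟩ := FiniteField.nonempty_algHom_of_finrank_dvd (F := ZMod p) (K := K) (L := F)
    (hfin ▸ dvd_mul_right _ _)
  exact ⟨f.toRingHom⟩


section PSLEmb
variable {K F : Type*} [Field K] [Field F]

/-- A 2×2 special linear matrix is central iff it is a scalar matrix. -/
theorem sl2_mem_center_iff_entries (A : SpecialLinearGroup (Fin 2) K) :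
    A ∈ Subgroup.center (SpecialLinearGroup (Fin 2) K) ↔
      A.1 0 1 = 0 ∧ A.1 1 0 = 0 ∧ A.1 0 0 = A.1 1 1 := by
  rw [Matrix.SpecialLinearGroup.mem_center_iff]
  constructor
  · rintro ⟨r, -, hr⟩
    have h01 := congrFun (congrFun hr 0) 1
    have h10 := congrFun (congrFun hr 1) 0
    have h00 := congrFun (congrFun hr 0) 0
    have h11 := congrFun (congrFun hr 1) 1
    simp at h01 h10 h00 h11
    exact ⟨h01.symm, h10.symm, by rw [← h00, ← h11]⟩
  · rintro ⟨h01, h10, h00⟩
    refine ⟨A.1 0 0, ?_, ?_⟩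
    · have hdet := A.2
      rw [Matrix.det_fin_two, h01, h10, ← h00] at hdet
      simp only [Fintype.card_fin]
      linear_combination hdet
    · ext i j
      fin_cases i <;> fin_cases j <;> simp [h01, h10, h00]

/-- The composite `SL₂(K) → SL₂(F) → PSL₂(F)` induced by a field embedding. -/
noncomputable def pslEmbHom (ι : K →+* F) :
    SpecialLinearGroup (Fin 2) K →* Matrix.ProjectiveSpecialLinearGroup (Fin 2) F :=
  (QuotientGroup.mk' (Subgroup.center (SpecialLinearGroup (Fin 2) F))).comp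
    (Matrix.SpecialLinearGroup.map ι)

theorem pslEmbHom_ker (ι : K →+* F) :
    (pslEmbHom ι).ker = Subgroup.center (SpecialLinearGroup (Fin 2) K) := by
  ext A
  rw [MonoidHom.mem_ker, pslEmbHom, MonoidHom.comp_apply, QuotientGroup.mk'_apply,
    QuotientGroup.eq_one_iff, sl2_mem_center_iff_entries, sl2_mem_center_iff_entries]
  have hinj := ι.injective
  have hc : ∀ i j, (Matrix.SpecialLinearGroup.map ι A).1 i j = ι (A.1 i j) := fun i j => rfl
  rw [hc, hc, hc, hc]
  constructor
  · rintro ⟨h1, h2, h3⟩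
    exact ⟨hinj (by rw [h1, map_zero]), hinj (by rw [h2, map_zero]), hinj h3⟩
  · rintro ⟨h1, h2, h3⟩
    exact ⟨by rw [h1, map_zero], by rw [h2, map_zero], by rw [h3]⟩

/-- `PSL₂(K)` embeds in `PSL₂(F)` for a subfield `K`. -/
theorem exists_psl_subgroup (ι : K →+* F) :
    ∃ H : Subgroup (Matrix.ProjectiveSpecialLinearGroup (Fin 2) F),
      Nonempty (H ≃* Matrix.ProjectiveSpecialLinearGroup (Fin 2) K) := by
  refine ⟨(pslEmbHom ι).range, ⟨?_⟩⟩
  exact ((QuotientGroup.quotientMulEquivOfEq (pslEmbHom_ker ι)).symm.trans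
    (QuotientGroup.quotientKerEquivRange (pslEmbHom ι))).symm

end PSLEmb


section PGLEmb
variable {K F : Type*} [Field K] [Field F]

/-- Two special linear matrices differing by a scalar factor agree in `PSL₂`. -/
theorem psl_mk_eq_of_smul (A B : SpecialLinearGroup (Fin 2) F) (c : F) (h : A.1 = c • B.1) :
    (QuotientGroup.mk' (Subgroup.center (SpecialLinearGroup (Fin 2) F))) A =
      (QuotientGroup.mk' (Subgroup.center (SpecialLinearGroup (Fin 2) F))) B := by
  have hc : c ^ 2 = 1 := by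
    have hA := A.2
    rw [h, Matrix.det_smul, B.2] at hA
    simpa using hA
  rw [QuotientGroup.mk'_apply, QuotientGroup.mk'_apply, QuotientGroup.eq,
    Matrix.SpecialLinearGroup.mem_center_iff]
  refine ⟨c, by simpa using hc, ?_⟩
  have hA1 : A⁻¹ * B = (B⁻¹ * A)⁻¹ := by group
  have hBA : (B⁻¹ * A).1 = Matrix.scalar (Fin 2) c := by
    have : (B⁻¹ * A).1 = (B⁻¹).1 * A.1 := rfl
    rw [this, h, Matrix.mul_smul]
    have h2 : (B⁻¹).1 * B.1 = 1 := by
      have : (B⁻¹ * B).1 = (B⁻¹).1 * B.1 := rfl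
      rw [← this, inv_mul_cancel]; rfl
    rw [h2]
    ext i j
    fin_cases i <;> fin_cases j <;> simp
  have hcc : c * c = 1 := by rw [← sq]; exact hc
  -- scalar c is its own inverse
  have hBAinv : B⁻¹ * A = (B⁻¹ * A)⁻¹ := by
    apply eq_inv_of_mul_eq_one_left
    apply Subtype.ext
    show (B⁻¹ * A).1 * (B⁻¹ * A).1 = 1
    rw [hBA]
    ext i j
    fin_cases i <;> fin_cases j <;> simp [hcc]
  rw [hA1, ← hBAinv, hBA]

variable (ι : K →+* F) (hsq : ∀ x : K, IsSquare (ι x))

/-- The chosen square root of `ι (det g)`. -/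
noncomputable def sqrtDet (g : GL (Fin 2) K) : F :=
  Classical.choose (hsq ((g : Matrix (Fin 2) (Fin 2) K).det))

theorem sqrtDet_mul_self (g : GL (Fin 2) K) :
    sqrtDet ι hsq g * sqrtDet ι hsq g = ι ((g : Matrix (Fin 2) (Fin 2) K).det) :=
  (Classical.choose_spec (hsq ((g : Matrix (Fin 2) (Fin 2) K).det))).symm

theorem gl_det_ne_zero (g : GL (Fin 2) K) : (g : Matrix (Fin 2) (Fin 2) K).det ≠ 0 := by
  have h := (Matrix.isUnit_iff_isUnit_det (g : Matrix (Fin 2) (Fin 2) K)).1 g.isUnit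
  exact h.ne_zero

theorem sqrtDet_ne_zero (g : GL (Fin 2) K) : sqrtDet ι hsq g ≠ 0 := by
  intro h0
  have h := sqrtDet_mul_self ι hsq g
  rw [h0, mul_zero] at h
  exact gl_det_ne_zero g (ι.injective (by rw [← h, map_zero]))

/-- The normalised image `s⁻¹ • ι(g)` in `SL₂(F)`. -/
noncomputable def normSL (g : GL (Fin 2) K) : SpecialLinearGroup (Fin 2) F :=
  ⟨(sqrtDet ι hsq g)⁻¹ • (g : Matrix (Fin 2) (Fin 2) K).map ι, by
    rw [Matrix.det_smul]
    have hdet : ((g : Matrix (Fin 2) (Fin 2) K).map ι).det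
        = ι ((g : Matrix (Fin 2) (Fin 2) K).det) := by
      have := (RingHom.map_det ι (g : Matrix (Fin 2) (Fin 2) K))
      rw [this]; rfl
    rw [hdet, ← sqrtDet_mul_self ι hsq g]
    have hne := sqrtDet_ne_zero ι hsq g
    simp only [Fintype.card_fin]
    field_simp⟩

theorem normSL_coe (g : GL (Fin 2) K) :
    (normSL ι hsq g).1 = (sqrtDet ι hsq g)⁻¹ • (g : Matrix (Fin 2) (Fin 2) K).map ι := rfl

/-- The homomorphism `GL₂(K) → PSL₂(F)`, `g ↦ ι(g)/√(det g)`. -/
noncomputable def pglEmbHom : GL (Fin 2) K →* Matrix.ProjectiveSpecialLinearGroup (Fin 2) F :=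
  MonoidHom.mk' (fun g => (QuotientGroup.mk' (Subgroup.center (SpecialLinearGroup (Fin 2) F)))
      (normSL ι hsq g)) (by
    intro g h
    rw [← map_mul]
    apply psl_mk_eq_of_smul _ _
      ((sqrtDet ι hsq (g * h))⁻¹ * (sqrtDet ι hsq g * sqrtDet ι hsq h))
    have hg := sqrtDet_ne_zero ι hsq g
    have hh := sqrtDet_ne_zero ι hsq h
    have hmul : (normSL ι hsq g * normSL ι hsq h).1 = (normSL ι hsq g).1 * (normSL ι hsq h).1 := rfl
    rw [hmul, normSL_coe, normSL_coe, normSL_coe, Matrix.smul_mul, Matrix.mul_smul, smul_smul,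
      smul_smul]
    have hgh : ((g * h : GL (Fin 2) K) : Matrix (Fin 2) (Fin 2) K).map ι
        = (g : Matrix (Fin 2) (Fin 2) K).map ι * (h : Matrix (Fin 2) (Fin 2) K).map ι := by
      rw [Units.val_mul, Matrix.map_mul]
    rw [hgh]
    congr 1
    field_simp)

theorem pglEmbHom_apply (g : GL (Fin 2) K) :
    pglEmbHom ι hsq g = (QuotientGroup.mk' (Subgroup.center (SpecialLinearGroup (Fin 2) F)))
      (normSL ι hsq g) := rfl

theorem pglEmbHom_ker : (pglEmbHom ι hsq).ker = Subgroup.center (GL (Fin 2) K) := by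
  ext g
  rw [MonoidHom.mem_ker, pglEmbHom_apply, QuotientGroup.mk'_apply, QuotientGroup.eq_one_iff,
    sl2_mem_center_iff_entries, Matrix.GeneralLinearGroup.center_eq_range_scalar]
  have hs := sqrtDet_ne_zero ι hsq g
  have hc : ∀ i j, (normSL ι hsq g).1 i j = (sqrtDet ι hsq g)⁻¹ * ι ((g : Matrix (Fin 2) (Fin 2) K) i j) :=
    fun i j => rfl
  rw [hc, hc, hc, hc]
  have hinj := ι.injective
  constructor
  · rintro ⟨h1, h2, h3⟩
    have h1' : (g : Matrix (Fin 2) (Fin 2) K) 0 1 = 0 := by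
      rcases mul_eq_zero.1 h1 with h | h
      · exact absurd h (inv_ne_zero hs)
      · exact hinj (by rw [h, map_zero])
    have h2' : (g : Matrix (Fin 2) (Fin 2) K) 1 0 = 0 := by
      rcases mul_eq_zero.1 h2 with h | h
      · exact absurd h (inv_ne_zero hs)
      · exact hinj (by rw [h, map_zero])
    have h3' : (g : Matrix (Fin 2) (Fin 2) K) 0 0 = (g : Matrix (Fin 2) (Fin 2) K) 1 1 :=
      hinj (mul_left_cancel₀ (inv_ne_zero hs) h3)
    have hdet := gl_det_ne_zero g
    rw [Matrix.det_fin_two, h1', h2', ← h3'] at hdet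
    have ha : (g : Matrix (Fin 2) (Fin 2) K) 0 0 ≠ 0 := by
      intro h0; apply hdet; rw [h0]; ring
    refine ⟨Units.mk0 _ ha, ?_⟩
    apply Units.ext
    ext i j
    fin_cases i <;> fin_cases j <;> simp [h1', h2', ← h3']
  · rintro ⟨u, rfl⟩
    simp
end PGLEmb


section PGLsub
variable {K F : Type*} [Field K] [Field F]

/-- If every element of `ι K` is a square in `F`, then `PGL₂(K)` embeds in `PSL₂(F)`. -/
theorem exists_pgl_subgroup (ι : K →+* F) (hsq : ∀ x : K, IsSquare (ι x)) :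
    ∃ H : Subgroup (Matrix.ProjectiveSpecialLinearGroup (Fin 2) F),
      Nonempty (H ≃* Matrix.ProjGenLinGroup (Fin 2) K) := by
  refine ⟨(pglEmbHom ι hsq).range, ⟨?_⟩⟩
  have e : GL (Fin 2) K ⧸ Subgroup.center (GL (Fin 2) K) ≃* (pglEmbHom ι hsq).range :=
    (QuotientGroup.quotientMulEquivOfEq (pglEmbHom_ker ι hsq)).symm.trans
      (QuotientGroup.quotientKerEquivRange (pglEmbHom ι hsq))
  exact e.symm

/-- Squares: if `|F| = |K|^m` with `m` even and `|F|` odd, every element of `ι K` is a square. -/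
theorem isSquare_of_even_degree [Fintype K] [Fintype F] (ι : K →+* F) (m : ℕ) (hm : Even m)
    (hodd : Odd (Fintype.card F)) (hK : Fintype.card K ^ m = Fintype.card F) (x : K) :
    IsSquare (ι x) := by
  by_cases hx : x = 0
  · rw [hx, map_zero]; exact ⟨0, by simp⟩
  have h2 : (2 : F) ≠ 0 := Cfsg.Agent.Helper5.two_ne_zero_of_odd_card hodd
  have hchar : ringChar F ≠ 2 := by
    intro h
    apply h2
    have := CharP.cast_eq_zero F (ringChar F)
    rw [h] at this
    exact_mod_cast this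
  have hιx : ι x ≠ 0 := fun h => hx (ι.injective (by rw [h, map_zero]))
  rw [FiniteField.isSquare_iff hchar hιx, ← map_pow]
  obtain ⟨j, rfl⟩ := hm
  -- k odd
  set k := Fintype.card K with hk
  have hkodd : Odd k := by
    rcases Nat.even_or_odd k with he | ho
    · exfalso
      have hj : j + j ≠ 0 := by
        intro h0
        rw [h0, pow_zero] at hK
        have : 1 < Fintype.card F := Fintype.one_lt_card
        omega
      have : Even (k ^ (j + j)) := (Nat.even_pow.2 ⟨he, hj⟩)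
      rw [hK] at this
      exact (Nat.not_even_iff_odd.2 hodd) this
    · exact ho
  obtain ⟨a, ha⟩ := hkodd
  have hdvd : k ^ 2 - 1 ∣ (k ^ 2) ^ j - 1 := Nat.sub_one_dvd_pow_sub_one (k ^ 2) j
  obtain ⟨S, hS⟩ := hdvd
  have hq : Fintype.card F = 1 + 4 * a * (a + 1) * S := by
    have h1 : (k ^ 2) ^ j = Fintype.card F := by rw [← hK, ← pow_mul, two_mul]
    have h2 : k ^ 2 - 1 = 4 * a * (a + 1) := by
      rw [ha]
      have : (2 * a + 1) ^ 2 = 4 * a * (a + 1) + 1 := by ring
      rw [this]; omega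
    have h3 : 1 ≤ (k ^ 2) ^ j := Nat.one_le_pow _ _ (by rw [ha]; positivity)
    rw [h2] at hS
    omega
  have hhalf : Fintype.card F / 2 = (k - 1) * ((a + 1) * S) := by
    rw [hq, ha]
    have : 1 + 4 * a * (a + 1) * S = 2 * (2 * a * (a + 1) * S) + 1 := by ring
    rw [this]
    have h4 : (2 * (2 * a * (a + 1) * S) + 1) / 2 = 2 * a * (a + 1) * S := by omega
    rw [h4]
    have : 2 * a + 1 - 1 = 2 * a := by omega
    rw [this]; ring
  rw [hhalf, pow_mul, FiniteField.pow_card_sub_one_eq_one x hx, one_pow, map_one]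

end PGLsub

section CardPGL
variable {K : Type*} [Field K] [Fintype K]

theorem card_PGL2 :
    Nat.card (Matrix.ProjGenLinGroup (Fin 2) K) = Fintype.card K * (Fintype.card K ^ 2 - 1) := by
  have h1 : Nat.card (GL (Fin 2) K) = Nat.card (GL (Fin 2) K ⧸ Subgroup.center (GL (Fin 2) K)) *
      Nat.card (Subgroup.center (GL (Fin 2) K)) :=
    Subgroup.card_eq_card_quotient_mul_card_subgroup _
  rw [Cfsg.Agent.Helper5.card_center_GL, Cfsg.Agent.Helper5.card_GL_eq_card_SL_mul,
    Cfsg.Agent.Helper5.card_SL2] at h1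
  have hk : 0 < Fintype.card K - 1 := by
    have : 1 < Fintype.card K := Fintype.one_lt_card
    omega
  exact (Nat.eq_of_mul_eq_mul_right hk h1).symm

end CardPGL

end Cfsg.Agent.Helper46
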