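import Mathlib
import Cfsg.Agent.Helper46.DkIdent2
import Cfsg.Agent.Helper46.SubfieldPSL

set_option autoImplicit false

/-!
# Dickson project: identification, part 3: rational matrices lie in the group
-/

namespace Cfsg.Agent.Helper46.Dk

open Matrix Cfsg.Agent.Helper46.IsCA

variable {E : Type*} [Field E]

local notation "SL2" => Matrix.SpecialLinearGroup (Fin 2) E

variable {Γ : Type*} [Group Γ] {ρ : Γ →* Matrix.SpecialLinearGroup (Fin 2) E}

namespace BNFrame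

variable {w₀ : Γ}

/-- upper triangular matrices with entries in `A` lie in the group -/
theorem mem_range_of_BB [Finite Γ] (h : BNFrame ρ w₀) (p : ℕ) [Fact p.Prime] [CharP E p]
    {M : SL2} (hM : M ∈ (BB : Subgroup SL2)) (h00 : M.1 0 0 ∈ setA ρ) (h01 : M.1 0 1 ∈ setA ρ) :
    ∃ γ : Γ, ρ γ = M := by
  have hdiag := BB_diag_mul hM
  have ht0 : M.1 0 0 ≠ 0 := by
    intro h0; rw [h0, zero_mul] at hdiag; exact zero_ne_one hdiag
  obtain ⟨d, hd, hd00⟩ := h.setA_subset_setT h00 ht0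
  have hdD := (mem_Dg ρ d).1 hd
  have hd11 : (ρ d).1 1 1 = (M.1 0 0)⁻¹ := by
    have := BB_diag_mul (DD_le_BB hdD)
    rw [hd00] at this
    exact eq_inv_of_mul_eq_one_right this
  have hU : (ρ d)⁻¹ * M ∈ (UU : Subgroup SL2) := by
    apply mem_UU_of_BB_of_eq_one
      ((BB : Subgroup SL2).mul_mem ((BB : Subgroup SL2).inv_mem (DD_le_BB hdD)) hM)
    rw [mul_00, inv_00, inv_01, hdD.2, hd11]
    field_simp
    ring
  have h01' : ((ρ d)⁻¹ * M).1 0 1 ∈ setA ρ := by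
    rw [mul_01, inv_00, inv_01, hdD.2, hd11]
    have : (M.1 0 0)⁻¹ * M.1 0 1 + -0 * M.1 1 1 = (M.1 0 0)⁻¹ * M.1 0 1 := by ring
    rw [this]
    exact (h.fieldK p).mul_mem ((h.fieldK p).inv_mem h00) h01
  obtain ⟨g, hg⟩ := h01'
  refine ⟨d * g, ?_⟩
  rw [map_mul, hg, ← eq_uU_of_mem_UU hU]
  group

/-- the standard Weyl element lies in the group -/
theorem exists_wstd (h : BNFrame ρ w₀) :
    ∃ γ : Γ, (ρ γ).1 0 0 = 0 ∧ (ρ γ).1 0 1 = 1 ∧ (ρ γ).1 1 0 = -1 ∧ (ρ γ).1 1 1 = 0 := by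
  obtain ⟨d, hd, hd00⟩ := h.neg_gamma_mem_setT
  have hdD := (mem_Dg ρ d).1 hd
  have hγ := h.gamma_ne_zero
  have hβγ := anti_entries h.anti
  have hd11 : (ρ d).1 1 1 = (-(ρ w₀).1 1 0)⁻¹ := by
    have := BB_diag_mul (DD_le_BB hdD)
    rw [hd00] at this
    exact eq_inv_of_mul_eq_one_right this
  refine ⟨d * w₀, ?_, ?_, ?_, ?_⟩
  · rw [map_mul, mul_00, h.anti.1, hdD.2]; ring
  · rw [map_mul, mul_01, h.anti.2, hd00]; linear_combination -hβγ
  · rw [map_mul, mul_10, hdD.1, hd11]; field_simp; ring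
  · rw [map_mul, mul_11, hdD.1, h.anti.2]; ring

/-- all matrices of `SL₂` with entries in `A` lie in the group -/
theorem mem_range_of_entries [Finite Γ] (h : BNFrame ρ w₀) (p : ℕ) [Fact p.Prime] [CharP E p]
    (M : SL2) (h00 : M.1 0 0 ∈ setA ρ) (h01 : M.1 0 1 ∈ setA ρ) (h10 : M.1 1 0 ∈ setA ρ)
    (h11 : M.1 1 1 ∈ setA ρ) : ∃ γ : Γ, ρ γ = M := by
  by_cases hc : M.1 1 0 = 0
  · exact h.mem_range_of_BB p hc h00 h01
  · obtain ⟨ws, w00, w01, w10, w11⟩ := h.exists_wstd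
    have hquot : M.1 0 0 / M.1 1 0 ∈ setA ρ := (h.fieldK p).div_mem h00 h10
    obtain ⟨gu, hgu⟩ := setA_neg hquot
    -- M' = ws⁻¹ * (uU(-a/c) * M) is upper triangular with entries in A
    have hM'B : (ρ ws)⁻¹ * (uU (-(M.1 0 0 / M.1 1 0)) * M) ∈ (BB : Subgroup SL2) := by
      rw [mem_BB, mul_10, inv_10, inv_11, mul_00, mul_10, w10, w00]
      simp only [uU_00, uU_01, uU_10, uU_11]
      field_simp
      ring
    have hM'00 : ((ρ ws)⁻¹ * (uU (-(M.1 0 0 / M.1 1 0)) * M)).1 0 0 ∈ setA ρ := by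
      rw [mul_00, inv_00, inv_01, mul_00, mul_10, w11, w01]
      simp only [uU_00, uU_01, uU_10, uU_11]
      have : 0 * (1 * M.1 0 0 + -(M.1 0 0 / M.1 1 0) * M.1 1 0) + -1 * (0 * M.1 0 0 + 1 * M.1 1 0)
          = -M.1 1 0 := by ring
      rw [this]
      exact setA_neg h10
    have hM'01 : ((ρ ws)⁻¹ * (uU (-(M.1 0 0 / M.1 1 0)) * M)).1 0 1 ∈ setA ρ := by
      rw [mul_01, inv_00, inv_01, mul_01, mul_11, w11, w01]
      simp only [uU_00, uU_01, uU_10, uU_11]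
      have : 0 * (1 * M.1 0 1 + -(M.1 0 0 / M.1 1 0) * M.1 1 1) + -1 * (0 * M.1 0 1 + 1 * M.1 1 1)
          = -M.1 1 1 := by ring
      rw [this]
      exact setA_neg h11
    obtain ⟨γ', hγ'⟩ := h.mem_range_of_BB p hM'B hM'00 hM'01
    refine ⟨gu⁻¹ * (ws * γ'), ?_⟩
    rw [map_mul, map_mul, map_inv, hγ', hgu]
    group

/-- every element of the field of definition is a trace -/
theorem exists_tr_eq [Finite Γ] (h : BNFrame ρ w₀) {a : E} (ha : a ∈ setA ρ) :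
    ∃ γ : Γ, tr (ρ γ) = a := by
  obtain ⟨ws, w00, w01, w10, w11⟩ := h.exists_wstd
  obtain ⟨g, hg⟩ := setA_neg ha
  refine ⟨g * ws, ?_⟩
  unfold tr
  rw [map_mul, mul_00, mul_11, hg, w00, w10, w01, w11]
  simp only [uU_00, uU_01, uU_10, uU_11]
  ring

end BNFrame

end Cfsg.Agent.Helper46.Dk
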