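import Mathlib
import Cfsg.Agent.Helper46.DkNum
import Cfsg.Agent.Helper45.Dihedral

set_option autoImplicit false

/-!
# Dickson project: recognition of cyclic and dihedral quotients
-/

namespace Cfsg.Agent.Helper46.Dk

open Matrix Cfsg.Agent.Helper46.IsCA

variable {E : Type*} [Field E]

local notation "SL2" => Matrix.SpecialLinearGroup (Fin 2) E

variable {Γ : Type*} [Group Γ] {ρ : Γ →* Matrix.SpecialLinearGroup (Fin 2) E}

instance Zr_normal : (Zr ρ).Normal := by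
  unfold Zr
  infer_instance

/-- the `00`-entry as a monoid homomorphism on the preimage of the diagonal group -/
def diagHom (ρ : Γ →* Matrix.SpecialLinearGroup (Fin 2) E) : ↥(Dg ρ) →* E where
  toFun g := (ρ g.1).1 0 0
  map_one' := by
    show (ρ (1 : Γ)).1 0 0 = 1
    rw [map_one, one_00]
  map_mul' := by
    intro a b
    show (ρ (a.1 * b.1)).1 0 0 = (ρ a.1).1 0 0 * (ρ b.1).1 0 0
    rw [map_mul, mul_00, ((mem_Dg ρ b.1).1 b.2).1]; ring

theorem diagHom_injective (hinj : Function.Injective ρ) : Function.Injective (diagHom ρ) := by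
  intro a b hab
  have h1 : (ρ a.1).1 0 0 = (ρ b.1).1 0 0 := hab
  have ha := (mem_Dg ρ a.1).1 a.2
  have hb := (mem_Dg ρ b.1).1 b.2
  have h3 : (ρ b.1)⁻¹ * ρ a.1 = 1 := by
    apply DD_eq_one ((DD : Subgroup SL2).mul_mem ((DD : Subgroup SL2).inv_mem hb) ha)
    rw [mul_00, inv_00, inv_01, hb.2, h1]
    have := BB_diag_mul (DD_le_BB hb)
    linear_combination this
  have h4 : ρ a.1 = ρ b.1 := by
    have := mul_eq_one_iff_eq_inv.1 h3
    have h5 : (ρ b.1)⁻¹ = (ρ a.1)⁻¹ := this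
    exact (inv_injective h5).symm
  exact Subtype.ext (hinj h4)

theorem isCyclic_Dg [Finite Γ] (hinj : Function.Injective ρ) : IsCyclic ↥(Dg ρ) :=
  isCyclic_of_injective_ringHom (diagHom ρ) (diagHom_injective hinj)

/-- no `p`-torsion in the diagonal group -/
theorem not_dvd_card_Dg [Finite Γ] (hinj : Function.Injective ρ) (p : ℕ) [Fact p.Prime]
    [CharP E p] : ¬ p ∣ Nat.card ↥(Dg ρ) := by
  intro hp
  obtain ⟨c, hc⟩ := exists_prime_orderOf_dvd_card' p hp
  have h1 : c ^ p = 1 := by rw [← hc]; exact pow_orderOf_eq_one c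
  have h2 : (diagHom ρ c) ^ p = 1 := by rw [← map_pow, h1, map_one]
  have h3 : diagHom ρ c = 1 := by
    have hfrob : (diagHom ρ c - 1) ^ p = 0 := by
      rw [sub_pow_char, h2]; simp
    have := pow_eq_zero_iff (Fact.out : p.Prime).ne_zero |>.1 hfrob
    exact sub_eq_zero.1 this
  have h4 : c = 1 := diagHom_injective hinj (by rw [h3, map_one])
  rw [h4, orderOf_one] at hc
  exact (Fact.out : p.Prime).one_lt.ne hc

section SS

variable [IsAlgClosed E]

/-- the centralizer of an element of torus type is the preimage of the diagonal group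
in a suitable frame -/
theorem exists_frame_SS (hinj : Function.Injective ρ) {x : Γ} (hx : IsSS ρ x) :
    ∃ c : SL2, Function.Injective (conjRep ρ c) ∧ Cx x = Dg (conjRep ρ c) := by
  obtain ⟨c, hc, hne⟩ := exists_conj_SS ρ hx
  have hinj' := conjRep_injective ρ c hinj
  exact ⟨c, hinj', centralizer_eq_comap_DD hinj' hc hne⟩

theorem isCyclic_Cx_of_SS [Finite Γ] (hinj : Function.Injective ρ) {x : Γ} (hx : IsSS ρ x) :
    IsCyclic ↥(Cx x) := by
  obtain ⟨c, hinj', hC⟩ := exists_frame_SS hinj hx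
  rw [hC]
  exact isCyclic_Dg hinj'

theorem not_dvd_card_Cx_of_SS [Finite Γ] (hinj : Function.Injective ρ) (p : ℕ) [Fact p.Prime]
    [CharP E p] {x : Γ} (hx : IsSS ρ x) : ¬ p ∣ Nat.card ↥(Cx x) := by
  obtain ⟨c, hinj', hC⟩ := exists_frame_SS hinj hx
  rw [hC]
  exact not_dvd_card_Dg hinj' p

/-- the product of two elements of the normalizer outside the torus lies in the torus -/
theorem mul_mem_Cx_of_SS (hinj : Function.Injective ρ) {x y y' : Γ} (hx : IsSS ρ x)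
    (hy : y ∈ Nx x) (hyC : y ∉ Cx x) (hy' : y' ∈ Nx x) (hyC' : y' ∉ Cx x) : y * y' ∈ Cx x := by
  obtain ⟨c, hc, hne⟩ := exists_conj_SS ρ hx
  have hinj' := conjRep_injective ρ c hinj
  have hCeq := centralizer_eq_comap_DD hinj' hc hne
  have ha : ∀ g : Γ, g ∈ Nx x → g ∉ Cx x → IsAnti (conjRep ρ c g) := by
    intro g hg hgC
    rcases normalizer_torus hinj' hc hne hg with h | h
    · exfalso; apply hgC; show g ∈ Subgroup.centralizer ({x} : Set Γ); rw [hCeq]; exact h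
    · exact h
  show y * y' ∈ Subgroup.centralizer ({x} : Set Γ)
  rw [hCeq, Subgroup.mem_comap, map_mul]
  exact anti_mul_anti (ha y hy hyC) (ha y' hy' hyC')

/-- **cyclic case** -/
theorem isCyclic_quotient_of_Cx_top [Finite Γ] (hinj : Function.Injective ρ) {x : Γ}
    (hx : IsSS ρ x) (htop : Cx x = ⊤) : IsCyclic (Γ ⧸ Zr ρ) := by
  haveI : IsCyclic ↥(Cx x) := isCyclic_Cx_of_SS hinj hx
  haveI : IsCyclic (↥(⊤ : Subgroup Γ)) := by rw [← htop]; infer_instance
  haveI : IsCyclic Γ := (Subgroup.topEquiv : ↥(⊤ : Subgroup Γ) ≃* Γ).isCyclic.1 inferInstance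
  exact isCyclic_of_surjective (QuotientGroup.mk' (Zr ρ)) (QuotientGroup.mk'_surjective _)

/-- **dihedral case** -/
theorem dihedral_of_Nx_top [Finite Γ] (hinj : Function.Injective ρ) (p : ℕ) [Fact p.Prime]
    [CharP E p] {x : Γ} (hx : IsSS ρ x) (htop : Nx x = ⊤) (hf : fOf x = 2) :
    ∃ (n : ℕ) (a : Γ ⧸ Zr ρ), orderOf a = n ∧ ¬ p ∣ n ∧
      Nonempty ((Γ ⧸ Zr ρ) ≃* DihedralGroup n) := by
  haveI : IsCyclic ↥(Cx x) := isCyclic_Cx_of_SS hinj hx
  obtain ⟨c₀, hc₀⟩ := IsCyclic.exists_generator (α := ↥(Cx x))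
  have hxZ : x ∉ Zr ρ := isSS_not_mem_Zr ρ hx
  have hZC : Zr ρ ≤ Cx x := (isCA ρ hinj).le_centralizer x
  -- an element outside the torus
  have hNC : ¬ Nx x ≤ Cx x := by
    intro hle
    have : Nx x = Cx x := le_antisymm hle Subgroup.le_normalizer
    have h3 := (card_Nx x).1
    rw [this, hf] at h3
    have : 0 < Nat.card (Cx x) := Nat.card_pos
    omega
  obtain ⟨w, hwN, hwC⟩ := SetLike.not_le_iff_exists.1 hNC
  have hallN : ∀ g : Γ, g ∈ Nx x := fun g => by rw [htop]; trivial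
  have hpow : ∀ γ : Γ, γ ∈ Cx x → ∃ k : ℤ, γ = c₀.1 ^ k := by
    intro γ hγ
    obtain ⟨k, hk⟩ := Subgroup.mem_zpowers_iff.1 (hc₀ ⟨γ, hγ⟩)
    refine ⟨k, ?_⟩
    have := congrArg Subtype.val hk
    rw [Subgroup.coe_zpow] at this
    exact this.symm
  set a : Γ ⧸ Zr ρ := QuotientGroup.mk c₀.1 with ha
  set X : Γ ⧸ Zr ρ := QuotientGroup.mk w with hX
  have hX2 : X * X = 1 := by
    rw [hX, ← QuotientGroup.mk_mul, QuotientGroup.eq_one_iff]
    exact sq_mem_Zr_of_SS hinj hx hwN hwC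
  have hrel : X * a * X⁻¹ = a⁻¹ := by
    rw [hX, ha, ← QuotientGroup.mk_inv, ← QuotientGroup.mk_mul, ← QuotientGroup.mk_mul,
      ← QuotientGroup.mk_inv, conj_inv_of_SS hinj hx hwN hwC c₀.2]
  have hXa : X ∉ Subgroup.zpowers a := by
    intro hmem
    obtain ⟨k, hk⟩ := Subgroup.mem_zpowers_iff.1 hmem
    rw [ha, hX, ← QuotientGroup.mk_zpow, QuotientGroup.eq] at hk
    apply hwC
    have h1 : (c₀.1 ^ k)⁻¹ * w ∈ Cx x := hZC hk
    have h2 : c₀.1 ^ k ∈ Cx x := (Cx x).zpow_mem c₀.2 k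
    have : w = c₀.1 ^ k * ((c₀.1 ^ k)⁻¹ * w) := by group
    rw [this]
    exact (Cx x).mul_mem h2 h1
  have hgen : ∀ g : Γ ⧸ Zr ρ, g ∈ Subgroup.zpowers a ∨ X * g ∈ Subgroup.zpowers a := by
    intro g
    induction g using QuotientGroup.induction_on with
    | H γ =>
      by_cases hγ : γ ∈ Cx x
      · left
        obtain ⟨k, hk⟩ := hpow γ hγ
        rw [Subgroup.mem_zpowers_iff]
        exact ⟨k, by rw [ha, ← QuotientGroup.mk_zpow, hk]⟩
      · right
        obtain ⟨k, hk⟩ := hpow (w * γ) (mul_mem_Cx_of_SS hinj hx hwN hwC (hallN γ) hγ)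
        rw [Subgroup.mem_zpowers_iff]
        exact ⟨k, by rw [ha, hX, ← QuotientGroup.mk_zpow, ← QuotientGroup.mk_mul, hk]⟩
  refine ⟨orderOf a, a, rfl, ?_, Cfsg.Agent.Helper45.nonempty_mulEquiv_dihedral (orderOf a) a X rfl
    hX2 hrel hXa hgen⟩
  intro hp
  apply not_dvd_card_Cx_of_SS hinj p hx
  have h1 : orderOf a ∣ orderOf c₀.1 := by
    rw [ha]
    exact orderOf_map_dvd (QuotientGroup.mk' (Zr ρ)) c₀.1
  have h2 : orderOf c₀.1 ∣ Nat.card ↥(Cx x) := by
    rw [Subgroup.orderOf_coe]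
    exact orderOf_dvd_natCard c₀
  exact hp.trans (h1.trans h2)

end SS

end Cfsg.Agent.Helper46.Dk
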