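import Mathlib
import Cfsg.Agent.Helper46.DkIdent3
import Cfsg.Agent.Helper46.DkRecog

set_option autoImplicit false

/-!
# Dickson project: identification, part 4: `PSL₂(K) ≤ Γ/Z ≤ PGL₂(K)`
-/

namespace Cfsg.Agent.Helper46.Dk

open Matrix Cfsg.Agent.Helper46.IsCA

variable {E : Type*} [Field E]

local notation "SL2" => Matrix.SpecialLinearGroup (Fin 2) E

variable {Γ : Type*} [Group Γ] {ρ : Γ →* Matrix.SpecialLinearGroup (Fin 2) E}

/-- rational over `K` up to a scalar -/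
def RatS (K : Subfield E) (X : SL2) : Prop :=
  ∃ (c : E) (M : Matrix (Fin 2) (Fin 2) K), X.1 = c • M.map K.subtype

theorem ratS_mul {K : Subfield E} {X Y : SL2} (hX : RatS K X) (hY : RatS K Y) :
    RatS K (X * Y) := by
  obtain ⟨c, M, hM⟩ := hX
  obtain ⟨c', M', hM'⟩ := hY
  refine ⟨c * c', M * M', ?_⟩
  show X.1 * Y.1 = _
  rw [hM, hM', Matrix.smul_mul, Matrix.mul_smul, smul_smul, Matrix.map_mul]

theorem ratS_of_entries (K : Subfield E) (X : SL2) (c : E) (m00 m01 m10 m11 : K)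
    (h00 : X.1 0 0 = c * m00) (h01 : X.1 0 1 = c * m01) (h10 : X.1 1 0 = c * m10)
    (h11 : X.1 1 1 = c * m11) : RatS K X := by
  refine ⟨c, !![m00, m01; m10, m11], ?_⟩
  ext i j
  fin_cases i <;> fin_cases j <;> simp [h00, h01, h10, h11]

theorem eq_or_eq_of_sandwich {G : Type*} [Group G] (P₀ H P : Subgroup G) [Finite P]
    (h1 : P₀ ≤ H) (h2 : H ≤ P) (d : ℕ) (hd : d = 1 ∨ d = 2)
    (hcard : Nat.card P = d * Nat.card P₀) : H = P₀ ∨ H = P := by
  haveI : Finite H := Finite.of_injective (Subgroup.inclusion h2) (Subgroup.inclusion_injective h2)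
  haveI : Finite P₀ := Finite.of_injective (Subgroup.inclusion h1) (Subgroup.inclusion_injective h1)
  obtain ⟨j, hj⟩ := Subgroup.card_dvd_of_le h1
  have h3 : Nat.card H ∣ Nat.card P := Subgroup.card_dvd_of_le h2
  have hpos : 0 < Nat.card P₀ := Nat.card_pos
  rw [hj, hcard, mul_comm (Nat.card P₀) j] at h3
  have hjd : j ∣ d := (Nat.mul_dvd_mul_iff_right hpos).1 h3
  have hj12 : j = 1 ∨ j = d := by
    rcases hd with rfl | rfl
    · left; exact Nat.dvd_one.1 hjd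
    · have := Nat.le_of_dvd (by norm_num) hjd
      have hj0 : j ≠ 0 := by
        rintro rfl
        rw [mul_zero] at hj
        have : 0 < Nat.card H := Nat.card_pos
        omega
      omega
  rcases hj12 with rfl | rfl
  · left
    rw [mul_one] at hj
    exact (Subgroup.eq_of_le_of_card_ge h1 (by rw [hj])).symm
  · right
    have : Nat.card H = Nat.card P := by rw [hj, hcard, mul_comm]
    exact Subgroup.eq_of_le_of_card_ge h2 (by rw [this])

namespace BNFrame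

variable {w₀ : Γ}

theorem sq_mem_setA_of_setT (h : BNFrame ρ w₀) {t : E} (ht : t ∈ setT ρ) : t ^ 2 ∈ setA ρ := by
  have := setA_smul ht h.one_mem_setA
  rwa [mul_one] at this

theorem ratS_all [Finite Γ] (h : BNFrame ρ w₀) (p : ℕ) [Fact p.Prime] [CharP E p] (γ : Γ) :
    RatS (h.fieldK p) (ρ γ) := by
  have hQ : ∀ u ∈ Qg ρ, RatS (h.fieldK p) (ρ u) := by
    intro u hu
    have hu' := (mem_Qg ρ u).1 hu
    apply ratS_of_entries (h.fieldK p) (ρ u) 1 1 ⟨(ρ u).1 0 1, mem_setA_of_mem_Qg hu⟩ 0 1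
    · rw [hu'.2.1]; simp
    · simp
    · rw [hu'.1]; simp
    · rw [hu'.2.2]; simp
  have hD : ∀ d ∈ Dg ρ, RatS (h.fieldK p) (ρ d) := by
    intro d hd
    have hd' := (mem_Dg ρ d).1 hd
    have ht : (ρ d).1 0 0 ∈ setT ρ := ⟨d, hd, rfl⟩
    have ht0 := setT_ne_zero ht
    have hdiag := BB_diag_mul (DD_le_BB hd')
    apply ratS_of_entries (h.fieldK p) (ρ d) ((ρ d).1 0 0)⁻¹
      ⟨((ρ d).1 0 0) ^ 2, h.sq_mem_setA_of_setT ht⟩ 0 0 1
    · show (ρ d).1 0 0 = ((ρ d).1 0 0)⁻¹ * ((ρ d).1 0 0) ^ 2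
      field_simp
    · rw [hd'.2]; simp
    · rw [hd'.1]; simp
    · show (ρ d).1 1 1 = ((ρ d).1 0 0)⁻¹ * ((1 : h.fieldK p) : E)
      rw [Subfield.coe_one, mul_one]
      exact eq_inv_of_mul_eq_one_right hdiag
  have hW : RatS (h.fieldK p) (ρ w₀) := by
    have hβγ := anti_entries h.anti
    have hγ2 : ((ρ w₀).1 1 0) ^ 2 ∈ setA ρ := by
      have := h.sq_mem_setA_of_setT h.neg_gamma_mem_setT
      rwa [neg_sq] at this
    apply ratS_of_entries (h.fieldK p) (ρ w₀) ((ρ w₀).1 0 1) 0 1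
      ⟨-((ρ w₀).1 1 0) ^ 2, setA_neg hγ2⟩ 0
    · rw [h.anti.1]; simp
    · simp
    · show (ρ w₀).1 1 0 = (ρ w₀).1 0 1 * (-((ρ w₀).1 1 0) ^ 2)
      linear_combination ((ρ w₀).1 1 0) * hβγ
    · rw [h.anti.2]; simp
  have hB : ∀ b ∈ Bg ρ, RatS (h.fieldK p) (ρ b) := by
    intro b hb
    obtain ⟨d, hd, hdb, -⟩ := h.split b hb
    have : b = d * (d⁻¹ * b) := by group
    rw [this, map_mul]
    exact ratS_mul (hD d hd) (hQ _ hdb)
  by_cases hγ : γ ∈ Bg ρ
  · exact hB γ hγ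
  · obtain ⟨u, hu, hb⟩ := h.bruhat γ hγ
    have : γ = u * w₀ * ((u * w₀)⁻¹ * γ) := by group
    rw [this, map_mul, map_mul]
    exact ratS_mul (ratS_mul (hQ u hu) hW) (hB _ hb)

end BNFrame

end Cfsg.Agent.Helper46.Dk
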