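import Mathlib
import Cfsg.Agent.Helper46.DkIdent4

set_option autoImplicit false

/-!
# Dickson project: identification, part 5: the isomorphism with `PSL₂(K)` or `PGL₂(K)`
-/

namespace Cfsg.Agent.Helper46.Dk

open Matrix Cfsg.Agent.Helper46.IsCA

variable {E : Type*} [Field E]

local notation "SL2" => Matrix.SpecialLinearGroup (Fin 2) E

variable {Γ : Type*} [Group Γ] {ρ : Γ →* Matrix.SpecialLinearGroup (Fin 2) E}

/-- the induced map `Γ/Z → PSL₂(E)` -/
noncomputable def rhoBar (ρ : Γ →* Matrix.SpecialLinearGroup (Fin 2) E) :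
    (Γ ⧸ Zr ρ) →* Matrix.ProjectiveSpecialLinearGroup (Fin 2) E :=
  QuotientGroup.lift (Zr ρ) ((QuotientGroup.mk' (Subgroup.center SL2)).comp ρ) (by
    intro ζ hζ
    rw [MonoidHom.mem_ker, MonoidHom.comp_apply, QuotientGroup.mk'_apply,
      QuotientGroup.eq_one_iff]
    exact hζ)

theorem rhoBar_mk (γ : Γ) :
    rhoBar ρ (QuotientGroup.mk γ) = QuotientGroup.mk' (Subgroup.center SL2) (ρ γ) := rfl

theorem rhoBar_injective : Function.Injective (rhoBar ρ) := by
  rw [injective_iff_map_eq_one]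
  intro c hc
  induction c using QuotientGroup.induction_on with
  | H γ =>
    rw [rhoBar_mk, QuotientGroup.mk'_apply, QuotientGroup.eq_one_iff] at hc
    exact (QuotientGroup.eq_one_iff γ).2 hc

namespace BNFrame

variable {w₀ : Γ}

theorem ident [Finite Γ] [IsAlgClosed E] (h : BNFrame ρ w₀) (p : ℕ) [Fact p.Prime] [CharP E p] :
    ∃ K : Subfield E, Finite K ∧ (∀ a ∈ K, ∃ γ : Γ, tr (ρ γ) = a) ∧
      (Nonempty ((Γ ⧸ Zr ρ) ≃* Matrix.ProjectiveSpecialLinearGroup (Fin 2) K) ∨
       Nonempty ((Γ ⧸ Zr ρ) ≃* Matrix.ProjGenLinGroup (Fin 2) K)) := by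
  classical
  refine ⟨h.fieldK p, inferInstance, fun a ha => h.exists_tr_eq ha, ?_⟩
  set K := h.fieldK p with hK
  haveI : Fintype K := Fintype.ofFinite K
  let ι : K →+* E := K.subtype
  have hsq : ∀ a : K, IsSquare (ι a) := by
    intro a
    obtain ⟨r, hr⟩ := IsAlgClosed.exists_pow_nat_eq (ι a) (n := 2) (by norm_num)
    exact ⟨r, by rw [← hr]; ring⟩
  let P₀ := (Cfsg.Agent.Helper46.pslEmbHom ι).range
  let P := (Cfsg.Agent.Helper46.pglEmbHom ι hsq).range
  have ePSL : Matrix.ProjectiveSpecialLinearGroup (Fin 2) K ≃* P₀ :=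
    (QuotientGroup.quotientMulEquivOfEq (Cfsg.Agent.Helper46.pslEmbHom_ker ι)).symm.trans
      (QuotientGroup.quotientKerEquivRange (Cfsg.Agent.Helper46.pslEmbHom ι))
  have ePGL : Matrix.ProjGenLinGroup (Fin 2) K ≃* P :=
    (QuotientGroup.quotientMulEquivOfEq (Cfsg.Agent.Helper46.pglEmbHom_ker ι hsq)).symm.trans
      (QuotientGroup.quotientKerEquivRange (Cfsg.Agent.Helper46.pglEmbHom ι hsq))
  -- P₀ ≤ range
  have h1 : P₀ ≤ (rhoBar ρ).range := by
    rintro _ ⟨M, rfl⟩
    obtain ⟨γ, hγ⟩ := h.mem_range_of_entries p (Matrix.SpecialLinearGroup.map ι M)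
      (M.1 0 0).2 (M.1 0 1).2 (M.1 1 0).2 (M.1 1 1).2
    refine ⟨QuotientGroup.mk γ, ?_⟩
    rw [rhoBar_mk, hγ]
    rfl
  -- range ≤ P
  have h2 : (rhoBar ρ).range ≤ P := by
    rintro _ ⟨c, rfl⟩
    induction c using QuotientGroup.induction_on with
    | H γ =>
      obtain ⟨c, M, hM⟩ := h.ratS_all p γ
      have hdet : (ρ γ).1.det = 1 := (ρ γ).2
      have hmapdet : (M.map ι).det = ι M.det := by
        have := RingHom.map_det ι M
        rw [this]; rfl
      rw [hM, Matrix.det_smul, hmapdet] at hdet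
      simp only [Fintype.card_fin] at hdet
      have hc0 : c ≠ 0 := by
        rintro rfl
        simp at hdet
      have hdetM : M.det ≠ 0 := by
        intro h0
        rw [h0, map_zero, mul_zero] at hdet
        exact zero_ne_one hdet
      let g : GL (Fin 2) K := Matrix.GeneralLinearGroup.mkOfDetNeZero M hdetM
      refine ⟨g, ?_⟩
      rw [Cfsg.Agent.Helper46.pglEmbHom_apply, rhoBar_mk]
      apply Cfsg.Agent.Helper46.psl_mk_eq_of_smul _ _
        ((Cfsg.Agent.Helper46.sqrtDet ι hsq g)⁻¹ * c⁻¹)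
      rw [Cfsg.Agent.Helper46.normSL_coe, hM, smul_smul]
      have : (Cfsg.Agent.Helper46.sqrtDet ι hsq g)⁻¹ * c⁻¹ * c =
          (Cfsg.Agent.Helper46.sqrtDet ι hsq g)⁻¹ := by
        field_simp
      rw [this]
      rfl
  -- cardinalities
  haveI : Finite (GL (Fin 2) K) := inferInstance
  haveI : Finite (Matrix.ProjGenLinGroup (Fin 2) K) :=
    Finite.of_surjective (QuotientGroup.mk' (Subgroup.center (GL (Fin 2) K)))
      (QuotientGroup.mk'_surjective _)
  haveI : Finite P := Finite.of_equiv _ ePGL.toEquiv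
  have hcP : Nat.card P = Fintype.card K * (Fintype.card K ^ 2 - 1) := by
    rw [← Nat.card_congr ePGL.toEquiv, Cfsg.Agent.Helper46.card_PGL2]
  have hcP₀ : Nat.card P₀ = Nat.card (Matrix.ProjectiveSpecialLinearGroup (Fin 2) K) :=
    (Nat.card_congr ePSL.toEquiv).symm
  have hmul := Cfsg.Agent.Helper5.card_PSL2_mul (F := K)
  have hd : Nat.card (Subgroup.center (Matrix.SpecialLinearGroup (Fin 2) K)) = 1 ∨
      Nat.card (Subgroup.center (Matrix.SpecialLinearGroup (Fin 2) K)) = 2 := by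
    by_cases h2 : (2 : K) = 0
    · left; exact Cfsg.Agent.Helper5.card_center_SL2_of_two_eq_zero h2
    · right; exact Cfsg.Agent.Helper5.card_center_SL2_of_two_ne_zero h2
  have hcard : Nat.card P =
      Nat.card (Subgroup.center (Matrix.SpecialLinearGroup (Fin 2) K)) * Nat.card P₀ := by
    rw [hcP, hcP₀, ← hmul, mul_comm]
  have eG : (Γ ⧸ Zr ρ) ≃* (rhoBar ρ).range := MonoidHom.ofInjective rhoBar_injective
  rcases eq_or_eq_of_sandwich P₀ (rhoBar ρ).range P h1 h2 _ hd hcard with heq | heq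
  · left
    exact ⟨(eG.trans (MulEquiv.subgroupCongr heq)).trans ePSL.symm⟩
  · right
    exact ⟨(eG.trans (MulEquiv.subgroupCongr heq)).trans ePGL.symm⟩

end BNFrame

end Cfsg.Agent.Helper46.Dk
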