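import Mathlib
import Cfsg.Agent.Helper46.DkIdent5
import Cfsg.Agent.Helper46.DkGeom

set_option autoImplicit false

/-!
# Dickson project: identification, part 6: traces in the `PSL₂(K)` case
-/

namespace Cfsg.Agent.Helper46.Dk

open Matrix Cfsg.Agent.Helper46.IsCA

variable {E : Type*} [Field E]

local notation "SL2" => Matrix.SpecialLinearGroup (Fin 2) E

variable {Γ : Type*} [Group Γ] {ρ : Γ →* Matrix.SpecialLinearGroup (Fin 2) E}

namespace BNFrame

variable {w₀ : Γ}

theorem ident' [Finite Γ] [IsAlgClosed E] (h : BNFrame ρ w₀) (p : ℕ) [Fact p.Prime] [CharP E p] :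
    ∃ K : Subfield E, Finite K ∧ (∀ a ∈ K, ∃ γ : Γ, tr (ρ γ) = a) ∧
      ((Nonempty ((Γ ⧸ Zr ρ) ≃* Matrix.ProjectiveSpecialLinearGroup (Fin 2) K) ∧
          ∀ γ : Γ, tr (ρ γ) ∈ K) ∨
       Nonempty ((Γ ⧸ Zr ρ) ≃* Matrix.ProjGenLinGroup (Fin 2) K)) := by
  classical
  refine ⟨h.fieldK p, inferInstance, fun a ha => h.exists_tr_eq ha, ?_⟩
  set K := h.fieldK p with hK
  haveI : Fintype K := Fintype.ofFinite K
  let ι : K →+* E := K.subtype
  have hsq : ∀ a : K, IsSquare (ι a) := by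
    intro a
    obtain ⟨r, hr⟩ := IsAlgClosed.exists_pow_nat_eq (ι a) (n := 2) (by norm_num)
    exact ⟨r, by rw [← hr]; ring⟩
  let P₀ := (Cfsg.Agent.Helper46.pslEmbHom ι).range
  let P := (Cfsg.Agent.Helper46.pglEmbHom ι hsq).range
  have ePSL : Matrix.ProjectiveSpecialLinearGroup (Fin 2) K ≃* P₀ :=
    (QuotientGroup.quotientMulEquivOfEq (Cfsg.Agent.Helper46.pslEmbHom_ker ι)).symm.trans
      (QuotientGroup.quotientKerEquivRange (Cfsg.Agent.Helper46.pslEmbHom ι))
  have ePGL : Matrix.ProjGenLinGroup (Fin 2) K ≃* P :=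
    (QuotientGroup.quotientMulEquivOfEq (Cfsg.Agent.Helper46.pglEmbHom_ker ι hsq)).symm.trans
      (QuotientGroup.quotientKerEquivRange (Cfsg.Agent.Helper46.pglEmbHom ι hsq))
  -- P₀ ≤ range
  have h1 : P₀ ≤ (rhoBar ρ).range := by
    rintro _ ⟨M, rfl⟩
    obtain ⟨γ, hγ⟩ := h.mem_range_of_entries p (Matrix.SpecialLinearGroup.map ι M)
      (M.1 0 0).2 (M.1 0 1).2 (M.1 1 0).2 (M.1 1 1).2
    refine ⟨QuotientGroup.mk γ, ?_⟩
    rw [rhoBar_mk, hγ]
    rfl
  -- range ≤ P
  have h2 : (rhoBar ρ).range ≤ P := by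
    rintro _ ⟨c, rfl⟩
    induction c using QuotientGroup.induction_on with
    | H γ =>
      obtain ⟨c, M, hM⟩ := h.ratS_all p γ
      have hdet : (ρ γ).1.det = 1 := (ρ γ).2
      have hmapdet : (M.map ι).det = ι M.det := by
        have := RingHom.map_det ι M
        rw [this]; rfl
      rw [hM, Matrix.det_smul, hmapdet] at hdet
      simp only [Fintype.card_fin] at hdet
      have hc0 : c ≠ 0 := by
        rintro rfl
        simp at hdet
      have hdetM : M.det ≠ 0 := by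
        intro h0
        rw [h0, map_zero, mul_zero] at hdet
        exact zero_ne_one hdet
      let g : GL (Fin 2) K := Matrix.GeneralLinearGroup.mkOfDetNeZero M hdetM
      refine ⟨g, ?_⟩
      rw [Cfsg.Agent.Helper46.pglEmbHom_apply, rhoBar_mk]
      apply Cfsg.Agent.Helper46.psl_mk_eq_of_smul _ _
        ((Cfsg.Agent.Helper46.sqrtDet ι hsq g)⁻¹ * c⁻¹)
      rw [Cfsg.Agent.Helper46.normSL_coe, hM, smul_smul]
      have : (Cfsg.Agent.Helper46.sqrtDet ι hsq g)⁻¹ * c⁻¹ * c =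
          (Cfsg.Agent.Helper46.sqrtDet ι hsq g)⁻¹ := by
        field_simp
      rw [this]
      rfl
  -- cardinalities
  haveI : Finite (GL (Fin 2) K) := inferInstance
  haveI : Finite (Matrix.ProjGenLinGroup (Fin 2) K) :=
    Finite.of_surjective (QuotientGroup.mk' (Subgroup.center (GL (Fin 2) K)))
      (QuotientGroup.mk'_surjective _)
  haveI : Finite P := Finite.of_equiv _ ePGL.toEquiv
  have hcP : Nat.card P = Fintype.card K * (Fintype.card K ^ 2 - 1) := by
    rw [← Nat.card_congr ePGL.toEquiv, Cfsg.Agent.Helper46.card_PGL2]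
  have hcP₀ : Nat.card P₀ = Nat.card (Matrix.ProjectiveSpecialLinearGroup (Fin 2) K) :=
    (Nat.card_congr ePSL.toEquiv).symm
  have hmul := Cfsg.Agent.Helper5.card_PSL2_mul (F := K)
  have hd : Nat.card (Subgroup.center (Matrix.SpecialLinearGroup (Fin 2) K)) = 1 ∨
      Nat.card (Subgroup.center (Matrix.SpecialLinearGroup (Fin 2) K)) = 2 := by
    by_cases h2 : (2 : K) = 0
    · left; exact Cfsg.Agent.Helper5.card_center_SL2_of_two_eq_zero h2
    · right; exact Cfsg.Agent.Helper5.card_center_SL2_of_two_ne_zero h2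
  have hcard : Nat.card P =
      Nat.card (Subgroup.center (Matrix.SpecialLinearGroup (Fin 2) K)) * Nat.card P₀ := by
    rw [hcP, hcP₀, ← hmul, mul_comm]
  have eG : (Γ ⧸ Zr ρ) ≃* (rhoBar ρ).range := MonoidHom.ofInjective rhoBar_injective
  rcases eq_or_eq_of_sandwich P₀ (rhoBar ρ).range P h1 h2 _ hd hcard with heq | heq
  · left
    refine ⟨⟨(eG.trans (MulEquiv.subgroupCongr heq)).trans ePSL.symm⟩, ?_⟩
    intro γ
    have hmem : rhoBar ρ (QuotientGroup.mk γ) ∈ (rhoBar ρ).range := ⟨_, rfl⟩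
    rw [heq] at hmem
    obtain ⟨M, hM⟩ := hmem
    rw [rhoBar_mk] at hM
    have hz : (Matrix.SpecialLinearGroup.map ι M)⁻¹ * ρ γ ∈ Subgroup.center SL2 :=
      QuotientGroup.eq.1 hM
    obtain ⟨z01, z10, z00⟩ := (mem_center_iff' _).1 hz
    set z := (Matrix.SpecialLinearGroup.map ι M)⁻¹ * ρ γ with hzdef
    have hγ : ρ γ = Matrix.SpecialLinearGroup.map ι M * z := by rw [hzdef]; group
    have hdz := det' z
    rw [z01, z10, ← z00] at hdz
    have hε : z.1 0 0 = 1 ∨ z.1 0 0 = -1 := by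
      have : (z.1 0 0 - 1) * (z.1 0 0 + 1) = 0 := by linear_combination hdz
      rcases mul_eq_zero.1 this with h' | h'
      · left; linear_combination h'
      · right; linear_combination h'
    have hεK : z.1 0 0 ∈ K := by
      rcases hε with h' | h'
      · rw [h']; exact K.one_mem
      · rw [h']; exact K.neg_mem K.one_mem
    have htr : tr (ρ γ) = z.1 0 0 * (ι (M.1 0 0) + ι (M.1 1 1)) := by
      unfold tr
      rw [hγ, mul_00, mul_11, z10, z01, ← z00]
      have e00 : (Matrix.SpecialLinearGroup.map ι M).1 0 0 = ι (M.1 0 0) := rfl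
      have e11 : (Matrix.SpecialLinearGroup.map ι M).1 1 1 = ι (M.1 1 1) := rfl
      rw [e00, e11]; ring
    rw [htr]
    exact K.mul_mem hεK (K.add_mem (M.1 0 0).2 (M.1 1 1).2)
  · right
    exact ⟨(eG.trans (MulEquiv.subgroupCongr heq)).trans ePGL.symm⟩

end BNFrame

end Cfsg.Agent.Helper46.Dk
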