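import Mathlib
import Cfsg.Agent.Helper46.CANum
import Cfsg.Agent.Helper5.PSL2
import Cfsg.Agent.S1012
import Cfsg.Agent.S0494

set_option autoImplicit false

/-!
# Dickson project: recognition of `A₄`, `S₄`, `A₅` from the class data
-/

namespace Cfsg.Agent.Helper46
namespace IsCA

open DkArith

variable {Γ : Type*} [Group Γ] {Z : Subgroup Γ}

theorem card_quotient_eq_gOf [Finite Γ] (Z : Subgroup Γ) : Nat.card (Γ ⧸ Z) = gOf Z := by
  have h1 := Z.card_eq_card_quotient_mul_card_subgroup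
  have h2 := card_eq_gOf Z
  rw [h1] at h2
  have hz : 0 < Nat.card Z := Nat.card_pos
  have : Nat.card Z * Nat.card (Γ ⧸ Z) = Nat.card Z * gOf Z := by rw [← h2]; ring
  exact Nat.eq_of_mul_eq_mul_left hz this

/-- `x ^ e(x) ∈ Z` -/
theorem pow_eOf_mem [Finite Γ] [Z.Normal] (h : IsCA Z) {x : Γ} (hx : x ∉ Z) :
    x ^ eOf Z x ∈ Z := by
  have hle : Z ≤ Cx x := h.le_centralizer x
  have h1 := (h.card_Cx hx).1
  have h2 := (Z.subgroupOf (Cx x)).card_eq_card_quotient_mul_card_subgroup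
  have h3 : Nat.card (Z.subgroupOf (Cx x)) = Nat.card Z :=
    Nat.card_congr (Subgroup.subgroupOfEquivOfLe hle).toEquiv
  rw [h3, h1] at h2
  have hz : 0 < Nat.card Z := Nat.card_pos
  have h4 : Nat.card (↥(Cx x) ⧸ Z.subgroupOf (Cx x)) = eOf Z x := by
    have : Nat.card Z * eOf Z x = Nat.card Z * Nat.card (↥(Cx x) ⧸ Z.subgroupOf (Cx x)) := by
      rw [h2]; ring
    exact (Nat.eq_of_mul_eq_mul_left hz this).symm
  have h5 : ((QuotientGroup.mk (⟨x, self_mem_Cx x⟩ : ↥(Cx x)) :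
      ↥(Cx x) ⧸ Z.subgroupOf (Cx x))) ^ eOf Z x = 1 := by
    rw [← h4]; exact pow_card_eq_one'
  rw [← QuotientGroup.mk_pow, QuotientGroup.eq_one_iff, Subgroup.mem_subgroupOf] at h5
  exact h5

theorem orderOf_mk_dvd [Finite Γ] [Z.Normal] (h : IsCA Z) {x : Γ} (hx : x ∉ Z) :
    orderOf (QuotientGroup.mk x : Γ ⧸ Z) ∣ eOf Z x := by
  apply orderOf_dvd_of_pow_eq_one
  rw [← QuotientGroup.mk_pow, QuotientGroup.eq_one_iff]
  exact h.pow_eOf_mem hx

/-- **`S₄`** -/
theorem recog_S4 [Finite Γ] [Z.Normal] (h : IsCA Z) (hg : gOf Z = 24)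
    (hall : ∀ x, x ∉ Z → (eOf Z x = 2 ∨ eOf Z x = 3 ∨ eOf Z x = 4)) :
    Nonempty ((Γ ⧸ Z) ≃* Equiv.Perm (Fin 4)) := by
  apply Cfsg.Agent.S1012.result
  · rw [card_quotient_eq_gOf, hg]
  · intro g
    induction g using QuotientGroup.induction_on with
    | H x =>
      by_cases hx : x ∈ Z
      · have : (QuotientGroup.mk x : Γ ⧸ Z) = 1 := (QuotientGroup.eq_one_iff x).2 hx
        rw [this, orderOf_one]; norm_num
      · have hd := h.orderOf_mk_dvd hx
        intro h6
        rw [h6] at hd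
        rcases hall x hx with he | he | he <;> rw [he] at hd <;> omega

/-- **`A₄`** -/
theorem recog_A4 [Finite Γ] [Z.Normal] (h : IsCA Z) (hg : gOf Z = 12) {x : Γ} (hx : x ∉ Z)
    (ha : aOf x = 4) (hf : fOf x = 1) :
    Nonempty ((Γ ⧸ Z) ≃* alternatingGroup (Fin 4)) := by
  classical
  haveI : Fintype (Γ ⧸ Cx x) := Fintype.ofFinite _
  have hNC : Nx x = Cx x := by
    have h2 := (card_Nx x).1
    rw [hf, mul_one] at h2
    exact (Subgroup.eq_of_le_of_card_ge Subgroup.le_normalizer (by rw [h2])).symm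
  have hidx : Nat.card (Γ ⧸ Cx x) = 4 := by
    have h1 := (card_top x).1
    rw [hNC, ha] at h1
    have h2 := (Cx x).card_eq_card_quotient_mul_card_subgroup
    rw [h1] at h2
    have hc : 0 < Nat.card (Cx x) := Nat.card_pos
    have : Nat.card (Cx x) * 4 = Nat.card (Cx x) * Nat.card (Γ ⧸ Cx x) := by rw [h2]; ring
    exact (Nat.eq_of_mul_eq_mul_left hc this).symm
  -- an element outside the normalizer
  have hne : ∃ g : Γ, g ∉ Nx x := by
    by_contra hall
    have htop : Nx x = ⊤ := by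
      rw [eq_top_iff]; intro g _
      by_contra hg'
      exact hall ⟨g, hg'⟩
    have h1 := (card_top x).1
    rw [htop, Subgroup.card_top, ha] at h1
    have : 0 < Nat.card Γ := Nat.card_pos
    omega
  obtain ⟨g₀, hg₀⟩ := hne
  let φ : Γ →* Equiv.Perm (Γ ⧸ Cx x) := MulAction.toPermHom Γ (Γ ⧸ Cx x)
  have hφ : ∀ γ g : Γ, φ γ (g : Γ ⧸ Cx x) = ((γ * g : Γ) : Γ ⧸ Cx x) := fun γ g => rfl
  have hZker : Z ≤ φ.ker := by
    intro ζ hζ
    rw [MonoidHom.mem_ker]
    ext c
    induction c using QuotientGroup.induction_on with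
    | H g =>
      rw [hφ, Equiv.Perm.coe_one, id_eq, QuotientGroup.eq]
      have hc := h.commute_of_mem hζ g
      have e : (ζ * g)⁻¹ * g = ζ⁻¹ := by rw [hc.eq]; group
      rw [e]
      exact (Cx x).inv_mem (h.le_centralizer x hζ)
  let ψ : (Γ ⧸ Z) →* Equiv.Perm (Γ ⧸ Cx x) := QuotientGroup.lift Z φ hZker
  have hψinj : Function.Injective ψ := by
    rw [injective_iff_map_eq_one]
    intro c hc
    induction c using QuotientGroup.induction_on with
    | H γ =>
      have hc' : φ γ = 1 := hc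
      rw [QuotientGroup.eq_one_iff]
      by_contra hγZ
      have hfix : ∀ g : Γ, g⁻¹ * γ * g ∈ Cx x := by
        intro g
        have h1 : φ γ (g : Γ ⧸ Cx x) = (g : Γ ⧸ Cx x) := by rw [hc']; rfl
        rw [hφ, QuotientGroup.eq] at h1
        have h2 := (Cx x).inv_mem h1
        have e : ((γ * g)⁻¹ * g)⁻¹ = g⁻¹ * γ * g := by group
        rwa [e] at h2
      have hγC : γ ∈ Cx x := by
        have := hfix 1
        simpa using this
      apply hg₀
      have hconjZ : g₀⁻¹ * γ * g₀ ∉ Z := by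
        have := h.conj_not_mem hγZ g₀⁻¹
        rwa [inv_inv] at this
      exact h.mem_normalizer_of_conj hx (hfix g₀) hconjZ hγC hγZ rfl
  have hcardG : Nat.card (Γ ⧸ Z) = 12 := by rw [card_quotient_eq_gOf, hg]
  have hcard : 2 * Nat.card (Γ ⧸ Z) = Nat.card (Equiv.Perm (Γ ⧸ Cx x)) := by
    rw [hcardG, Nat.card_eq_fintype_card, Fintype.card_perm, ← Nat.card_eq_fintype_card, hidx]
    rfl
  obtain ⟨e1⟩ := Cfsg.Agent.Helper5.equiv_alternating_of_injective ψ hψinj hcard
  have hcard4 : Fintype.card (Γ ⧸ Cx x) = Fintype.card (Fin 4) := by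
    rw [← Nat.card_eq_fintype_card, hidx]; simp
  let e2 : (Γ ⧸ Cx x) ≃ Fin 4 := Fintype.equivOfCardEq hcard4
  exact ⟨e1.trans (Equiv.altCongrHom e2)⟩


theorem arith_A5 : ∀ L : List ℕ, (∀ w ∈ L, w = 15 ∨ w = 20 ∨ w = 24) → (1 + L.sum) ∣ 60 →
    L.sum = 0 ∨ L.sum = 59 := by
  intro L hL hd
  match L, hL, hd with
  | [], _, _ => left; rfl
  | [a], hL, hd =>
    exfalso
    have ha := hL a (by simp)
    simp only [List.sum_cons, List.sum_nil, add_zero] at hd
    rcases ha with rfl | rfl | rfl <;> revert hd <;> decide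
  | [a, b], hL, hd =>
    exfalso
    have ha := hL a (by simp)
    have hb := hL b (by simp)
    simp only [List.sum_cons, List.sum_nil, add_zero] at hd
    rcases ha with rfl | rfl | rfl <;> rcases hb with rfl | rfl | rfl <;> revert hd <;> decide
  | [a, b, c], hL, hd =>
    have ha := hL a (by simp)
    have hb := hL b (by simp)
    have hc := hL c (by simp)
    simp only [List.sum_cons, List.sum_nil, add_zero] at hd ⊢
    rcases ha with rfl | rfl | rfl <;> rcases hb with rfl | rfl | rfl <;>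
      rcases hc with rfl | rfl | rfl <;> revert hd <;> decide
  | a :: b :: c :: d :: L, hL, hd =>
    exfalso
    have ha := hL a (by simp)
    have hb := hL b (by simp)
    have hc := hL c (by simp)
    have hd' := hL d (by simp)
    simp only [List.sum_cons] at hd
    have := Nat.le_of_dvd (by norm_num) hd
    omega

/-- in a quotient of prime order every element is a power of a given non-trivial one -/
theorem exists_zpow_mul_of_prime [Finite Γ] [Z.Normal] (h : IsCA Z) {x t : Γ} (hx : x ∉ Z)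
    (hp : (eOf Z x).Prime) (ht : t ∈ Cx x) : ∃ (k : ℤ) (ζ : Γ), ζ ∈ Z ∧ t = x ^ k * ζ := by
  have hle : Z ≤ Cx x := h.le_centralizer x
  have h1 := (h.card_Cx hx).1
  have h2 := (Z.subgroupOf (Cx x)).card_eq_card_quotient_mul_card_subgroup
  have h3 : Nat.card (Z.subgroupOf (Cx x)) = Nat.card Z :=
    Nat.card_congr (Subgroup.subgroupOfEquivOfLe hle).toEquiv
  rw [h3, h1] at h2
  have hz : 0 < Nat.card Z := Nat.card_pos
  have h4 : Nat.card (↥(Cx x) ⧸ Z.subgroupOf (Cx x)) = eOf Z x := by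
    have : Nat.card Z * eOf Z x = Nat.card Z * Nat.card (↥(Cx x) ⧸ Z.subgroupOf (Cx x)) := by
      rw [h2]; ring
    exact (Nat.eq_of_mul_eq_mul_left hz this).symm
  haveI : Fact (eOf Z x).Prime := ⟨hp⟩
  set X : ↥(Cx x) ⧸ Z.subgroupOf (Cx x) := QuotientGroup.mk (⟨x, self_mem_Cx x⟩ : ↥(Cx x))
    with hX
  have hX1 : X ≠ 1 := by
    intro h1'
    rw [hX, QuotientGroup.eq_one_iff, Subgroup.mem_subgroupOf] at h1'
    exact hx h1'
  have htop := zpowers_eq_top_of_prime_card h4 hX1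
  have hmem : (QuotientGroup.mk (⟨t, ht⟩ : ↥(Cx x)) : ↥(Cx x) ⧸ Z.subgroupOf (Cx x)) ∈
      Subgroup.zpowers X := by rw [htop]; trivial
  obtain ⟨k, hk⟩ := Subgroup.mem_zpowers_iff.1 hmem
  rw [hX, ← QuotientGroup.mk_zpow, QuotientGroup.eq, Subgroup.mem_subgroupOf] at hk
  refine ⟨k, (x ^ k)⁻¹ * t, ?_, by group⟩
  simpa using hk

/-- simplicity of the quotient in the `(2,3,5)` case -/
theorem normal_eq_of_235 [Finite Γ] [Z.Normal] (h : IsCA Z) (hg : gOf Z = 60)
    (hall : ∀ x, x ∉ Z → fOf x = 2 ∧ (eOf Z x = 2 ∨ eOf Z x = 3 ∨ eOf Z x = 5))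
    (M : Subgroup Γ) (hM : M.Normal) (hZM : Z ≤ M) : M = Z ∨ M = ⊤ := by
  have hprime : ∀ x, x ∉ Z → (eOf Z x).Prime := by
    intro x hx
    rcases (hall x hx).2 with he | he | he <;> rw [he] <;> norm_num
  have hsat : Sat Z {t : Γ | t ∈ M ∧ t ∉ Z} := by
    intro x hx
    refine ⟨hx.2, ?_⟩
    rintro t ⟨htZ, g, hg'⟩
    refine ⟨?_, htZ⟩
    have hx'M : g * x * g⁻¹ ∈ M := hM.conj_mem x hx.1 g
    have hx'Z : g * x * g⁻¹ ∉ Z := h.conj_not_mem hx.2 g
    have htC : t ∈ Cx (g * x * g⁻¹) := Subgroup.mem_centralizer_singleton_iff.2 hg'.eq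
    obtain ⟨k, ζ, hζ, rfl⟩ := h.exists_zpow_mul_of_prime hx'Z (hprime _ hx'Z) htC
    exact M.mul_mem (M.zpow_mem hx'M k) (hZM hζ)
  obtain ⟨l, hl1, hl2, hl3⟩ := h.exists_reps _ _ hsat rfl
  have hlZ : ∀ x ∈ l, x ∉ Z := fun x hx => (hl1 x hx).2
  rw [h.sum_reps l hlZ] at hl3
  -- the weights
  have hw : ∀ w ∈ (l.map (datum Z)).map wt, w = 15 ∨ w = 20 ∨ w = 24 := by
    intro w hw
    obtain ⟨t, ht, rfl⟩ := List.mem_map.1 hw
    obtain ⟨x, hx, rfl⟩ := List.mem_map.1 ht
    have hxZ := hlZ x hx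
    obtain ⟨hf, he⟩ := hall x hxZ
    have hmul := h.datum_mul hxZ
    rw [hg, hf] at hmul
    have hwt : wt (datum Z x) = aOf x * (eOf Z x - 1) := rfl
    rw [hwt]
    rcases he with he | he | he <;> rw [he] at hmul ⊢
    · left; omega
    · right; left; omega
    · right; right; omega
  -- cardinality of `M`
  have hMcard : Nat.card M = Nat.card Z * (1 + ((l.map (datum Z)).map wt).sum) := by
    have hset : (M : Set Γ) = (Z : Set Γ) ∪ {t : Γ | t ∈ M ∧ t ∉ Z} := by
      ext t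
      constructor
      · intro ht
        by_cases htZ : t ∈ Z
        · exact Or.inl htZ
        · exact Or.inr ⟨ht, htZ⟩
      · rintro (ht | ht)
        · exact hZM ht
        · exact ht.1
    have hdisj : Disjoint (Z : Set Γ) {t : Γ | t ∈ M ∧ t ∉ Z} := by
      rw [Set.disjoint_left]
      intro t ht ht'
      exact ht'.2 ht
    have e1 : Nat.card M = (M : Set Γ).ncard := by rw [← Nat.card_coe_set_eq]; rfl
    have e2 : Nat.card Z = (Z : Set Γ).ncard := by rw [← Nat.card_coe_set_eq]; rfl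
    rw [e1, hset, Set.ncard_union_eq hdisj (Set.toFinite _) (Set.toFinite _), hl3, ← e2]
    ring
  have hdvd : (1 + ((l.map (datum Z)).map wt).sum) ∣ 60 := by
    have h1 : Nat.card M ∣ Nat.card Γ := Subgroup.card_subgroup_dvd_card M
    rw [hMcard, card_eq_gOf Z, hg] at h1
    exact (Nat.mul_dvd_mul_iff_left Nat.card_pos).1 h1
  rcases arith_A5 _ hw hdvd with h0 | h59
  · left
    rw [h0, add_zero, mul_one] at hMcard
    exact (Subgroup.eq_of_le_of_card_ge hZM (by rw [hMcard])).symm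
  · right
    rw [h59] at hMcard
    have : Nat.card M = Nat.card Γ := by rw [hMcard, card_eq_gOf Z, hg]
    exact (Subgroup.card_eq_iff_eq_top M).1 this

/-- **`A₅`** -/
theorem recog_A5 [Finite Γ] [Z.Normal] (h : IsCA Z) (hg : gOf Z = 60)
    (hall : ∀ x, x ∉ Z → fOf x = 2 ∧ (eOf Z x = 2 ∨ eOf Z x = 3 ∨ eOf Z x = 5)) :
    Nonempty ((Γ ⧸ Z) ≃* alternatingGroup (Fin 5)) := by
  have hcard : Nat.card (Γ ⧸ Z) = 60 := by rw [card_quotient_eq_gOf, hg]
  haveI : Nontrivial (Γ ⧸ Z) := by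
    rw [← Finite.one_lt_card_iff_nontrivial, hcard]; norm_num
  haveI : IsSimpleGroup (Γ ⧸ Z) := by
    refine ⟨fun N hN => ?_⟩
    have hsurj : Function.Surjective (QuotientGroup.mk' Z) := QuotientGroup.mk'_surjective Z
    have hNmap : N = (N.comap (QuotientGroup.mk' Z)).map (QuotientGroup.mk' Z) :=
      (Subgroup.map_comap_eq_self_of_surjective hsurj N).symm
    have hZle : Z ≤ N.comap (QuotientGroup.mk' Z) := by
      intro ζ hζ
      rw [Subgroup.mem_comap]
      have : QuotientGroup.mk' Z ζ = 1 := (QuotientGroup.eq_one_iff ζ).2 hζ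
      rw [this]; exact N.one_mem
    rcases h.normal_eq_of_235 hg hall _ (hN.comap _) hZle with hM | hM
    · left
      rw [hNmap, hM, QuotientGroup.map_mk'_self]
    · right
      rw [hNmap, hM, Subgroup.map_top_of_surjective _ hsurj]
  exact Cfsg.Agent.S0494.result hcard

end IsCA
end Cfsg.Agent.Helper46
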