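import Mathlib
import Cfsg.Agent.Helper46.DkIdent5
import Cfsg.Agent.Helper46.DkRecog2

set_option autoImplicit false

/-!
# Dickson project: the classification of the finite subgroups of `SL₂(E)` modulo scalars,
`E` algebraically closed of characteristic `p`.
-/

namespace Cfsg.Agent.Helper46.Dk

open Matrix Cfsg.Agent.Helper46.IsCA

variable {E : Type*} [Field E]

local notation "SL2" => Matrix.SpecialLinearGroup (Fin 2) E

variable {Γ : Type*} [Group Γ] {ρ : Γ →* Matrix.SpecialLinearGroup (Fin 2) E}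

theorem conjRep_conjRep (ρ : Γ →* Matrix.SpecialLinearGroup (Fin 2) E) (c d : SL2) :
    conjRep (conjRep ρ c) d = conjRep ρ (d * c) := by
  ext x : 1
  rw [conjRep_apply, conjRep_apply, conjRep_apply]
  group

namespace UniFrame

variable {x₀ : Γ}

/-- the normalized frame in the case `N = q + 1` -/
theorem exists_BNFrame [Finite Γ] [IsAlgClosed E] (h : UniFrame ρ x₀) (p : ℕ) [Fact p.Prime]
    [CharP E p] (hidx : aOf x₀ = 1 + Nat.card (Qg ρ)) (hk : 2 ≤ fOf x₀)
    (hall : ∀ x, x ∉ Zr ρ → x ∉ classUnion (Zr ρ) x₀ → fOf x = 2) :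
    ∃ (c : SL2) (w₀ : Γ), BNFrame (conjRep ρ c) w₀ := by
  obtain ⟨u, huU, y₀, hyD, hyne, hcard⟩ := h.exists_torus p hk
  have huB : u ∈ (BB : Subgroup SL2) := PU_le_BB (UU_le_PU huU)
  have h2 : UniFrame (conjRep ρ u) x₀ := h.conj_UU huU
  have hinj2 := h2.inj
  -- the anti-diagonal element
  have hss2 : IsSS (conjRep ρ u) y₀ := isSS_of_DD_regular hyD hyne
  have hss : IsSS ρ y₀ := (isSS_conjRep ρ u y₀).1 hss2
  have hyZ : y₀ ∉ Zr ρ := isSS_not_mem_Zr ρ hss
  have hyU : y₀ ∉ classUnion (Zr ρ) x₀ := fun hU => hss (h.isUni_of_mem_classUnion hU).2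
  have hf2 := hall y₀ hyZ hyU
  have hCeq := centralizer_eq_comap_DD hinj2 hyD hyne
  have hNC : ¬ Nx y₀ ≤ Cx y₀ := by
    intro hle
    have : Nx y₀ = Cx y₀ := le_antisymm hle Subgroup.le_normalizer
    have h3 := (card_Nx y₀).1
    rw [this, hf2] at h3
    have : 0 < Nat.card (Cx y₀) := Nat.card_pos
    omega
  obtain ⟨w₀, hwN, hwC⟩ := SetLike.not_le_iff_exists.1 hNC
  have hw2 : IsAnti (conjRep ρ u w₀) := by
    rcases normalizer_torus hinj2 hyD hyne hwN with hw | hw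
    · exfalso; apply hwC
      show w₀ ∈ Subgroup.centralizer ({y₀} : Set Γ)
      rw [hCeq]; exact hw
    · exact hw
  -- normalization
  obtain ⟨u₁, hu₁, hu₁ne⟩ := h2.Qg_ne_bot p
  have hu₁' := (mem_Qg _ u₁).1 hu₁
  have ha₀ : (conjRep ρ u u₁).1 0 1 ≠ 0 := by
    intro h0
    apply hu₁ne
    apply hinj2
    rw [map_one]
    apply ext'
    · rw [hu₁'.2.1, one_00]
    · rw [h0, one_01]
    · rw [hu₁'.1, one_10]
    · rw [hu₁'.2.2, one_11]
  obtain ⟨s, hs⟩ := IsAlgClosed.exists_pow_nat_eq ((conjRep ρ u u₁).1 0 1)⁻¹ (n := 2) (by norm_num)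
  have hs0 : s ≠ 0 := by
    rintro rfl
    simp only [ne_eq, OfNat.ofNat_ne_zero, not_false_eq_true, zero_pow] at hs
    exact inv_ne_zero ha₀ hs.symm
  let su : Eˣ := Units.mk0 s hs0
  have hdD : (dD su : SL2) ∈ (DD : Subgroup SL2) := dD_mem_DD su
  have hdB : (dD su : SL2) ∈ (BB : Subgroup SL2) := DD_le_BB hdD
  have h3 : UniFrame (conjRep (conjRep ρ u) (dD su)) x₀ := h2.conj_BB hdB
  have hQ3 : Qg (conjRep (conjRep ρ u) (dD su)) = Qg (conjRep ρ u) := Qg_conjRep_of_BB hdB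
  have hQ2 : Qg (conjRep ρ u) = Qg ρ := Qg_conjRep_of_BB huB
  have hD3 : Dg (conjRep (conjRep ρ u) (dD su)) = Dg (conjRep ρ u) := Dg_conjRep_of_DD hdD
  have hidx3 : aOf x₀ = 1 + Nat.card (Qg (conjRep (conjRep ρ u) (dD su))) := by
    rw [hQ3, hQ2]; exact hidx
  have hZ3 : Zr (conjRep (conjRep ρ u) (dD su)) = Zr ρ := by rw [Zr_conjRep, Zr_conjRep]
  have hDT : Nat.card (Dg (conjRep (conjRep ρ u) (dD su))) =
      Nat.card (Tg (conjRep (conjRep ρ u) (dD su))) := by
    rw [hD3, hcard, h3.card_Tg p, hZ3]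
  have hw3 : IsAnti (conjRep (conjRep ρ u) (dD su) w₀) := by
    rw [conjRep_apply]
    exact anti_conj_of_DD hdD hw2
  refine ⟨dD su * u, w₀, ?_⟩
  rw [← conjRep_conjRep]
  refine ⟨h3.inj, hw3, ⟨u₁, ?_⟩, fun g hg => h3.bruhat hidx3 hw3 hg,
    fun b hb => h3.exists_split hDT hb⟩
  -- the normalized unipotent element
  have hmem : conjRep (conjRep ρ u) (dD su) u₁ ∈ (UU : Subgroup SL2) := by
    rw [conjRep_apply]
    exact conj_UU_of_BB hu₁' hdB
  rw [eq_uU_of_mem_UU hmem]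
  congr 1
  rw [conjRep_apply, conj_UU_entry hu₁' hdB]
  show s ^ 2 * (conjRep ρ u u₁).1 0 1 = 1
  rw [hs]
  exact inv_mul_cancel₀ ha₀

end UniFrame

/-- the case `(2,3,3)` does not occur -/
theorem no_233 [Finite Γ] [IsAlgClosed E] (hinj : Function.Injective ρ) {x : Γ} (hx : IsSS ρ x)
    (ha : aOf x = 2) (he : eOf (Zr ρ) x = 3) : False := by
  have hCA := isCA ρ hinj
  have hxZ : x ∉ Zr ρ := isSS_not_mem_Zr ρ hx
  -- the normalizer has index two, hence is normal
  have hidx : (Nx x).index = 2 := by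
    have h1 := (card_top x).1
    have h2 := (Nx x).card_mul_index
    rw [ha] at h1
    have : Nat.card (Nx x) * (Nx x).index = Nat.card (Nx x) * 2 := by rw [h2, h1]
    exact Nat.eq_of_mul_eq_mul_left Nat.card_pos this
  haveI hnorm : (Nx x).Normal := Subgroup.normal_of_index_eq_two hidx
  have hne : ∃ g : Γ, g ∉ Nx x := by
    by_contra hall
    have htop : Nx x = ⊤ := by
      rw [eq_top_iff]; intro g _
      by_contra hg'
      exact hall ⟨g, hg'⟩
    rw [htop, Subgroup.index_top] at hidx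
    omega
  obtain ⟨g, hg⟩ := hne
  set x' := g * x * g⁻¹ with hx'
  have hx'Z : x' ∉ Zr ρ := hCA.conj_not_mem hxZ g
  have hx'N : x' ∈ Nx x := hnorm.conj_mem x (Subgroup.le_normalizer (self_mem_Cx x)) g
  have hx'C : x' ∉ Cx x := by
    intro hC
    apply hg
    have hgx : x = g⁻¹ * x' * g := by rw [hx']; group
    exact hCA.mem_normalizer_of_conj hxZ (self_mem_Cx x) hxZ hC hx'Z hgx
  have hsq : x' * x' ∈ Zr ρ := sq_mem_Zr_of_SS hinj hx hx'N hx'C
  have hcube : x' ^ 3 ∈ Zr ρ := by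
    have h1 := hCA.pow_eOf_mem hx'Z
    have h2 : eOf (Zr ρ) x' = 3 := by
      have := datum_conj (Z := Zr ρ) x g
      have h3 : (datum (Zr ρ) x').2.1 = (datum (Zr ρ) x).2.1 := by rw [hx', this]
      rw [← he]; exact h3
    rwa [h2] at h1
  apply hx'Z
  have : x' = x' ^ 3 * (x' * x')⁻¹ := by group
  rw [this]
  exact (Zr ρ).mul_mem hcube ((Zr ρ).inv_mem hsq)

/-- **Dickson's theorem**, over an algebraically closed field of characteristic `p`. -/
theorem dickson_main [Finite Γ] [IsAlgClosed E] (p : ℕ) [Fact p.Prime] [CharP E p]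
    (hinj : Function.Injective ρ) :
    IsCyclic (Γ ⧸ Zr ρ) ∨
    (∃ (n : ℕ) (a : Γ ⧸ Zr ρ), orderOf a = n ∧ ¬ p ∣ n ∧
      Nonempty ((Γ ⧸ Zr ρ) ≃* DihedralGroup n)) ∨
    (∃ x₀ : Γ, IsUni ρ x₀ ∧ Nx x₀ = ⊤) ∨
    Nonempty ((Γ ⧸ Zr ρ) ≃* alternatingGroup (Fin 4)) ∨
    Nonempty ((Γ ⧸ Zr ρ) ≃* Equiv.Perm (Fin 4)) ∨
    Nonempty ((Γ ⧸ Zr ρ) ≃* alternatingGroup (Fin 5)) ∨
    (∃ K : Subfield E, Finite K ∧ (∀ a ∈ K, ∃ γ : Γ, tr (ρ γ) = a) ∧
      (Nonempty ((Γ ⧸ Zr ρ) ≃* Matrix.ProjectiveSpecialLinearGroup (Fin 2) K) ∨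
       Nonempty ((Γ ⧸ Zr ρ) ≃* Matrix.ProjGenLinGroup (Fin 2) K))) := by
  have hCA := isCA ρ hinj
  by_cases hU : ∃ x, IsUni ρ x
  · obtain ⟨x₀, hx₀⟩ := hU
    obtain ⟨c, hc, hc01⟩ := exists_conj_Uni ρ hx₀
    have hF : UniFrame (conjRep ρ c) x₀ := ⟨conjRep_injective ρ c hinj, hc, hc01⟩
    obtain ⟨m, ha, hcases⟩ := hF.num p
    rw [Zr_conjRep] at hcases
    have hx₀Z : x₀ ∉ Zr ρ := hx₀.1
    have hgOf : gOf (Zr ρ) = (1 + m * Nat.card (Qg (conjRep ρ c))) * Nat.card (Qg (conjRep ρ c)) *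
        fOf x₀ := by
      have h1 := hCA.datum_mul hx₀Z
      have h2 := hF.eOf_eq p
      rw [Zr_conjRep] at h2
      rw [← h1, h2, ha]
    have hSS : ∀ x, x ∉ Zr ρ → x ∉ classUnion (Zr ρ) x₀ → IsSS ρ x := by
      intro x hxZ hxU
      rcases isSS_or_isUni ρ hxZ with hss | huni
      · exact hss
      · exfalso
        apply hxU
        have := hF.uni_mem_classUnion p ((isUni_conjRep ρ c x).2 huni)
        rwa [Zr_conjRep] at this
    rcases hcases with hm | ⟨-, -, x, hxZ, hxN, hxf, hxU⟩ | ⟨hq, hk, hm⟩ | ⟨hk, hm, -, hall⟩ |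
      ⟨hq, hk, hm, hall⟩
    · -- Borel
      right; right; left
      refine ⟨x₀, hx₀, ?_⟩
      apply top_of_a_one
      rw [ha, hm]; simp
    · -- dihedral
      right; left
      exact dihedral_of_Nx_top hinj p (hSS x hxZ hxU) hxN hxf
    · -- A4
      right; right; right; left
      apply hCA.recog_A4 _ hx₀Z _ hk
      · rw [hgOf, hq, hk, hm]
      · rw [ha, hq, hm]
    · -- PSL2 / PGL2
      right; right; right; right; right; right
      have hidx : aOf x₀ = 1 + Nat.card (Qg (conjRep ρ c)) := by rw [ha, hm, one_mul]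
      have hall' : ∀ x, x ∉ Zr (conjRep ρ c) → x ∉ classUnion (Zr (conjRep ρ c)) x₀ →
          fOf x = 2 := by
        rw [Zr_conjRep]; exact hall
      obtain ⟨c', w₀, hBN⟩ := hF.exists_BNFrame p hidx hk hall'
      obtain ⟨K, hKfin, hKtr, hKiso⟩ := hBN.ident p
      rw [conjRep_conjRep] at hKtr hKiso
      refine ⟨K, hKfin, ?_, ?_⟩
      · intro a ha'
        obtain ⟨γ, hγ⟩ := hKtr a ha'
        refine ⟨γ, ?_⟩
        rw [conjRep_apply, tr_conj] at hγ
        exact hγ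
      · have hZ : Zr (conjRep ρ (c' * c)) = Zr ρ := Zr_conjRep ρ _
        rcases hKiso with ⟨⟨e⟩⟩ | ⟨⟨e⟩⟩
        · left
          exact ⟨(QuotientGroup.quotientMulEquivOfEq hZ).symm.trans e⟩
        · right
          exact ⟨(QuotientGroup.quotientMulEquivOfEq hZ).symm.trans e⟩
    · -- A5
      right; right; right; right; right; left
      apply hCA.recog_A5
      · rw [hgOf, hq, hk, hm]
      · intro x hxZ
        by_cases hxU : x ∈ classUnion (Zr ρ) x₀
        · have hd := hCA.datum_eq_of_mem hx₀Z hxU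
          have h2 := hF.eOf_eq p
          rw [Zr_conjRep] at h2
          have he : eOf (Zr ρ) x = eOf (Zr ρ) x₀ := congrArg (fun t => t.2.1) hd
          have hf : fOf x = fOf x₀ := congrArg (fun t => t.2.2) hd
          exact ⟨by rw [hf, hk], Or.inr (Or.inl (by rw [he, h2, hq]))⟩
        · obtain ⟨hf, he⟩ := hall x hxZ hxU
          refine ⟨hf, ?_⟩
          rcases he with he | he
          · exact Or.inl he
          · exact Or.inr (Or.inr he)
  · -- all classes are of torus type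
    have hall : ∀ x : Γ, x ∉ Zr ρ → IsSS ρ x := by
      intro x hx
      rcases isSS_or_isUni ρ hx with hss | huni
      · exact hss
      · exact absurd ⟨x, huni⟩ hU
    rcases num_SS hinj hall with h1 | ⟨x, hxZ, hxC⟩ | ⟨x, hxZ, hxN, hxf⟩ | ⟨hg, x, hxZ, hd⟩ |
      ⟨hg, x, hxZ, hxa, hxe, hxf⟩ | ⟨hg, hall2⟩ | ⟨hg, hall2⟩
    · left
      haveI : Subsingleton (Γ ⧸ Zr ρ) := by
        rw [h1]; exact QuotientGroup.subsingleton_quotient_top
      exact isCyclic_of_subsingleton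
    · left
      exact isCyclic_quotient_of_Cx_top hinj (hall x hxZ) hxC
    · right; left
      exact dihedral_of_Nx_top hinj p (hall x hxZ) hxN hxf
    · right; right; right; left
      have ha : aOf x = 4 := congrArg (fun t => t.1) hd
      have hf : fOf x = 1 := congrArg (fun t => t.2.2) hd
      exact hCA.recog_A4 hg hxZ ha hf
    · exact absurd (no_233 hinj (hall x hxZ) hxa hxe) id
    · right; right; right; right; left
      exact hCA.recog_S4 hg (fun x hx => (hall2 x hx).2)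
    · right; right; right; right; right; left
      exact hCA.recog_A5 hg hall2

end Cfsg.Agent.Helper46.Dk
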