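import Mathlib
import Cfsg.Agent.Helper46.DkMain
import Cfsg.Agent.Helper46.DkIdent6

set_option autoImplicit false

/-!
# Dickson project: the main theorem with the trace field in the `PSL₂(K)` case
-/

namespace Cfsg.Agent.Helper46.Dk

open Matrix Cfsg.Agent.Helper46.IsCA

variable {E : Type*} [Field E]

local notation "SL2" => Matrix.SpecialLinearGroup (Fin 2) E

variable {Γ : Type*} [Group Γ] {ρ : Γ →* Matrix.SpecialLinearGroup (Fin 2) E}

/-- **Dickson's theorem**, over an algebraically closed field of characteristic `p`. -/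
theorem dickson_main' [Finite Γ] [IsAlgClosed E] (p : ℕ) [Fact p.Prime] [CharP E p]
    (hinj : Function.Injective ρ) :
    IsCyclic (Γ ⧸ Zr ρ) ∨
    (∃ (n : ℕ) (a : Γ ⧸ Zr ρ), orderOf a = n ∧ ¬ p ∣ n ∧
      Nonempty ((Γ ⧸ Zr ρ) ≃* DihedralGroup n)) ∨
    (∃ x₀ : Γ, IsUni ρ x₀ ∧ Nx x₀ = ⊤) ∨
    Nonempty ((Γ ⧸ Zr ρ) ≃* alternatingGroup (Fin 4)) ∨
    Nonempty ((Γ ⧸ Zr ρ) ≃* Equiv.Perm (Fin 4)) ∨
    Nonempty ((Γ ⧸ Zr ρ) ≃* alternatingGroup (Fin 5)) ∨
    (∃ K : Subfield E, Finite K ∧ (∀ a ∈ K, ∃ γ : Γ, tr (ρ γ) = a) ∧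
      ((Nonempty ((Γ ⧸ Zr ρ) ≃* Matrix.ProjectiveSpecialLinearGroup (Fin 2) K) ∧
          ∀ γ : Γ, tr (ρ γ) ∈ K) ∨
       Nonempty ((Γ ⧸ Zr ρ) ≃* Matrix.ProjGenLinGroup (Fin 2) K))) := by
  have hCA := isCA ρ hinj
  by_cases hU : ∃ x, IsUni ρ x
  · obtain ⟨x₀, hx₀⟩ := hU
    obtain ⟨c, hc, hc01⟩ := exists_conj_Uni ρ hx₀
    have hF : UniFrame (conjRep ρ c) x₀ := ⟨conjRep_injective ρ c hinj, hc, hc01⟩
    obtain ⟨m, ha, hcases⟩ := hF.num p
    rw [Zr_conjRep] at hcases
    have hx₀Z : x₀ ∉ Zr ρ := hx₀.1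
    have hgOf : gOf (Zr ρ) = (1 + m * Nat.card (Qg (conjRep ρ c))) * Nat.card (Qg (conjRep ρ c)) *
        fOf x₀ := by
      have h1 := hCA.datum_mul hx₀Z
      have h2 := hF.eOf_eq p
      rw [Zr_conjRep] at h2
      rw [← h1, h2, ha]
    have hSS : ∀ x, x ∉ Zr ρ → x ∉ classUnion (Zr ρ) x₀ → IsSS ρ x := by
      intro x hxZ hxU
      rcases isSS_or_isUni ρ hxZ with hss | huni
      · exact hss
      · exfalso
        apply hxU
        have := hF.uni_mem_classUnion p ((isUni_conjRep ρ c x).2 huni)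
        rwa [Zr_conjRep] at this
    rcases hcases with hm | ⟨-, -, x, hxZ, hxN, hxf, hxU⟩ | ⟨hq, hk, hm⟩ | ⟨hk, hm, -, hall⟩ |
      ⟨hq, hk, hm, hall⟩
    · -- Borel
      right; right; left
      refine ⟨x₀, hx₀, ?_⟩
      apply top_of_a_one
      rw [ha, hm]; simp
    · -- dihedral
      right; left
      exact dihedral_of_Nx_top hinj p (hSS x hxZ hxU) hxN hxf
    · -- A4
      right; right; right; left
      apply hCA.recog_A4 _ hx₀Z _ hk
      · rw [hgOf, hq, hk, hm]
      · rw [ha, hq, hm]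
    · -- PSL2 / PGL2
      right; right; right; right; right; right
      have hidx : aOf x₀ = 1 + Nat.card (Qg (conjRep ρ c)) := by rw [ha, hm, one_mul]
      have hall' : ∀ x, x ∉ Zr (conjRep ρ c) → x ∉ classUnion (Zr (conjRep ρ c)) x₀ →
          fOf x = 2 := by
        rw [Zr_conjRep]; exact hall
      obtain ⟨c', w₀, hBN⟩ := hF.exists_BNFrame p hidx hk hall'
      obtain ⟨K, hKfin, hKtr, hKiso⟩ := hBN.ident' p
      rw [conjRep_conjRep] at hKtr hKiso
      refine ⟨K, hKfin, ?_, ?_⟩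
      · intro a ha'
        obtain ⟨γ, hγ⟩ := hKtr a ha'
        refine ⟨γ, ?_⟩
        rw [conjRep_apply, tr_conj] at hγ
        exact hγ
      · have hZ : Zr (conjRep ρ (c' * c)) = Zr ρ := Zr_conjRep ρ _
        rcases hKiso with ⟨⟨e⟩, htrK⟩ | ⟨⟨e⟩⟩
        · left
          refine ⟨⟨(QuotientGroup.quotientMulEquivOfEq hZ).symm.trans e⟩, ?_⟩
          intro γ
          have := htrK γ
          rwa [conjRep_apply, tr_conj] at this
        · right
          exact ⟨(QuotientGroup.quotientMulEquivOfEq hZ).symm.trans e⟩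
    · -- A5
      right; right; right; right; right; left
      apply hCA.recog_A5
      · rw [hgOf, hq, hk, hm]
      · intro x hxZ
        by_cases hxU : x ∈ classUnion (Zr ρ) x₀
        · have hd := hCA.datum_eq_of_mem hx₀Z hxU
          have h2 := hF.eOf_eq p
          rw [Zr_conjRep] at h2
          have he : eOf (Zr ρ) x = eOf (Zr ρ) x₀ := congrArg (fun t => t.2.1) hd
          have hf : fOf x = fOf x₀ := congrArg (fun t => t.2.2) hd
          exact ⟨by rw [hf, hk], Or.inr (Or.inl (by rw [he, h2, hq]))⟩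
        · obtain ⟨hf, he⟩ := hall x hxZ hxU
          refine ⟨hf, ?_⟩
          rcases he with he | he
          · exact Or.inl he
          · exact Or.inr (Or.inr he)
  · -- all classes are of torus type
    have hall : ∀ x : Γ, x ∉ Zr ρ → IsSS ρ x := by
      intro x hx
      rcases isSS_or_isUni ρ hx with hss | huni
      · exact hss
      · exact absurd ⟨x, huni⟩ hU
    rcases num_SS hinj hall with h1 | ⟨x, hxZ, hxC⟩ | ⟨x, hxZ, hxN, hxf⟩ | ⟨hg, x, hxZ, hd⟩ |
      ⟨hg, x, hxZ, hxa, hxe, hxf⟩ | ⟨hg, hall2⟩ | ⟨hg, hall2⟩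
    · left
      haveI : Subsingleton (Γ ⧸ Zr ρ) := by
        rw [h1]; exact QuotientGroup.subsingleton_quotient_top
      exact isCyclic_of_subsingleton
    · left
      exact isCyclic_quotient_of_Cx_top hinj (hall x hxZ) hxC
    · right; left
      exact dihedral_of_Nx_top hinj p (hall x hxZ) hxN hxf
    · right; right; right; left
      have ha : aOf x = 4 := congrArg (fun t => t.1) hd
      have hf : fOf x = 1 := congrArg (fun t => t.2.2) hd
      exact hCA.recog_A4 hg hxZ ha hf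
    · exact absurd (no_233 hinj (hall x hxZ) hxa hxe) id
    · right; right; right; right; left
      exact hCA.recog_S4 hg (fun x hx => (hall2 x hx).2)
    · right; right; right; right; right; left
      exact hCA.recog_A5 hg hall2

end Cfsg.Agent.Helper46.Dk
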