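import Mathlib
import Cfsg.Agent.Helper46.DkUniMat
import Cfsg.Agent.Helper46.SubfieldPSL

set_option autoImplicit false

/-!
# Dickson project: rational frames and transport along ring isomorphisms
-/

namespace Cfsg.Agent.Helper46.Dk

open Matrix

variable {E : Type*} [Field E]

local notation "SL2" => Matrix.SpecialLinearGroup (Fin 2) E

/-- an element with `tr² = 4` is conjugate (over the ground field) into `±U` -/
theorem exists_conj_mem_PU_of_tr (g : SL2) (h : (tr g) ^ 2 = 4) :
    ∃ c : SL2, c * g * c⁻¹ ∈ (PU : Subgroup SL2) := by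
  have hε : ∃ ε : E, ε ^ 2 - tr g * ε + 1 = 0 := by
    have h1 : (tr g - 2) * (tr g + 2) = 0 := by linear_combination h
    rcases mul_eq_zero.1 h1 with h2 | h2
    · exact ⟨1, by linear_combination -h2⟩
    · exact ⟨-1, by linear_combination h2⟩
  obtain ⟨ε, hε⟩ := hε
  have hBB : ∃ c : SL2, c * g * c⁻¹ ∈ (BB : Subgroup SL2) := by
    by_cases hγ : g.1 1 0 = 0
    · exact ⟨1, by simpa [mem_BB] using hγ⟩
    · refine ⟨mk4 0 (g.1 1 0)⁻¹ (-(g.1 1 0)) (ε - g.1 1 1) (by field_simp; ring), ?_⟩
      rw [mem_BB, conj_10]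
      simp only [mk4_00, mk4_01, mk4_10, mk4_11]
      have hdet := det' g
      unfold tr at hε
      linear_combination (g.1 1 0) * hε + (g.1 1 0) * hdet
  obtain ⟨c, hc⟩ := hBB
  refine ⟨c, mem_PU_of_BB_of_tr hc ?_⟩
  rw [tr_conj]; exact h

end Cfsg.Agent.Helper46.Dk

namespace Cfsg.Agent.Helper46

open Matrix

section Congr

variable {K K' : Type*} [Field K] [Field K']

theorem nonempty_psl_congr (e : K ≃+* K') :
    Nonempty (Matrix.ProjectiveSpecialLinearGroup (Fin 2) K ≃*
      Matrix.ProjectiveSpecialLinearGroup (Fin 2) K') := by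
  have hsurj : Function.Surjective (pslEmbHom (e : K →+* K')) := by
    intro y
    obtain ⟨M', rfl⟩ := QuotientGroup.mk'_surjective _ y
    refine ⟨Matrix.SpecialLinearGroup.map (e.symm : K' →+* K) M', ?_⟩
    show QuotientGroup.mk' _ (Matrix.SpecialLinearGroup.map (e : K →+* K')
      (Matrix.SpecialLinearGroup.map (e.symm : K' →+* K) M')) = _
    congr 1
    apply Subtype.ext
    ext i j
    show (e : K →+* K') ((e.symm : K' →+* K) (M'.1 i j)) = M'.1 i j
    simp
  exact ⟨(QuotientGroup.quotientMulEquivOfEq (pslEmbHom_ker (e : K →+* K'))).symm.trans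
    (QuotientGroup.quotientKerEquivOfSurjective _ hsurj)⟩

theorem nonempty_pgl_congr (e : K ≃+* K') :
    Nonempty (Matrix.ProjGenLinGroup (Fin 2) K ≃* Matrix.ProjGenLinGroup (Fin 2) K') := by
  let glE : GL (Fin 2) K ≃* GL (Fin 2) K' :=
    Units.mapEquiv (RingEquiv.mapMatrix (m := Fin 2) e).toMulEquiv
  have he : (Subgroup.center (GL (Fin 2) K)).map glE.toMonoidHom =
      Subgroup.center (GL (Fin 2) K') := by
    ext y
    rw [Subgroup.mem_map]
    constructor
    · rintro ⟨x, hx, rfl⟩
      rw [Subgroup.mem_center_iff] at hx ⊢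
      intro h'
      have h1 := hx (glE.symm h')
      have h2 := congrArg glE h1
      rw [map_mul, map_mul, MulEquiv.apply_symm_apply] at h2
      exact h2
    · intro hy
      refine ⟨glE.symm y, ?_, by simp⟩
      rw [Subgroup.mem_center_iff] at hy ⊢
      intro h'
      have h1 := hy (glE h')
      have h2 := congrArg glE.symm h1
      rw [map_mul, map_mul, MulEquiv.symm_apply_apply] at h2
      exact h2
  exact ⟨QuotientGroup.congr _ _ glE he⟩

end Congr

end Cfsg.Agent.Helper46
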