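import Mathlib
import Cfsg.Agent.Helper46.DkMain
import Cfsg.Agent.Helper46.DkRational
import Cfsg.Agent.Helper41.PSL2Orders
import Cfsg.Agent.Helper37.SL2Sylow

set_option autoImplicit false

/-!
# Dickson project: the list of subgroups of `PSL₂(q)`
-/

namespace Cfsg.Agent.Helper46.Dk

open Matrix Cfsg.Agent.Helper46.IsCA

section Setup

variable {F : Type*} [Field F]

/-- the preimage in `SL₂(F)` of a subgroup of `PSL₂(F)` -/
def liftSL (H : Subgroup (Matrix.ProjectiveSpecialLinearGroup (Fin 2) F)) :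
    Subgroup (Matrix.SpecialLinearGroup (Fin 2) F) :=
  H.comap (QuotientGroup.mk' (Subgroup.center (Matrix.SpecialLinearGroup (Fin 2) F)))

/-- the representation of the preimage over the algebraic closure -/
noncomputable def liftRep (H : Subgroup (Matrix.ProjectiveSpecialLinearGroup (Fin 2) F)) :
    ↥(liftSL H) →* Matrix.SpecialLinearGroup (Fin 2) (AlgebraicClosure F) :=
  (Matrix.SpecialLinearGroup.map (algebraMap F (AlgebraicClosure F))).comp (liftSL H).subtype

theorem liftRep_entry (H : Subgroup (Matrix.ProjectiveSpecialLinearGroup (Fin 2) F))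
    (g : ↥(liftSL H)) (i j : Fin 2) :
    (liftRep H g).1 i j = algebraMap F (AlgebraicClosure F) (g.1.1 i j) := rfl

theorem liftRep_injective (H : Subgroup (Matrix.ProjectiveSpecialLinearGroup (Fin 2) F)) :
    Function.Injective (liftRep H) := by
  intro a b hab
  apply Subtype.ext
  apply Dk.ext'
  all_goals
    apply (algebraMap F (AlgebraicClosure F)).injective
    rw [← liftRep_entry, ← liftRep_entry, hab]

theorem mem_Zr_liftRep (H : Subgroup (Matrix.ProjectiveSpecialLinearGroup (Fin 2) F))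
    (g : ↥(liftSL H)) :
    g ∈ Zr (liftRep H) ↔ g.1 ∈ Subgroup.center (Matrix.SpecialLinearGroup (Fin 2) F) := by
  rw [mem_Zr, mem_center_iff', mem_center_iff', liftRep_entry, liftRep_entry, liftRep_entry,
    liftRep_entry]
  have hinj := (algebraMap F (AlgebraicClosure F)).injective
  constructor
  · rintro ⟨h1, h2, h3⟩
    exact ⟨hinj (by rw [h1, map_zero]), hinj (by rw [h2, map_zero]), hinj h3⟩
  · rintro ⟨h1, h2, h3⟩
    exact ⟨by rw [h1, map_zero], by rw [h2, map_zero], by rw [h3]⟩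

/-- `H ≅ Γ / Z` -/
theorem nonempty_equiv_quotient (H : Subgroup (Matrix.ProjectiveSpecialLinearGroup (Fin 2) F)) :
    Nonempty ((↥(liftSL H) ⧸ Zr (liftRep H)) ≃* ↥H) := by
  let π := QuotientGroup.mk' (Subgroup.center (Matrix.SpecialLinearGroup (Fin 2) F))
  let θ : ↥(liftSL H) →* ↥H := π.subgroupComap H
  have hθ : Function.Surjective θ :=
    π.subgroupComap_surjective_of_surjective H (QuotientGroup.mk'_surjective _)
  have hker : Zr (liftRep H) = θ.ker := by
    ext g
    rw [mem_Zr_liftRep, MonoidHom.mem_ker]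
    constructor
    · intro hg
      apply Subtype.ext
      show π g.1 = 1
      exact (QuotientGroup.eq_one_iff g.1).2 hg
    · intro hg
      have : π g.1 = 1 := congrArg Subtype.val hg
      exact (QuotientGroup.eq_one_iff g.1).1 this
  exact ⟨(QuotientGroup.quotientMulEquivOfEq hker).trans
    (QuotientGroup.quotientKerEquivOfSurjective θ hθ)⟩

theorem tr_liftRep (H : Subgroup (Matrix.ProjectiveSpecialLinearGroup (Fin 2) F))
    (g : ↥(liftSL H)) :
    tr (liftRep H g) = algebraMap F (AlgebraicClosure F) (tr g.1) := by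
  unfold tr
  rw [liftRep_entry, liftRep_entry, map_add]

end Setup


section Finite

variable {F : Type*} [Field F] [Fintype F]

local notation "PSL2F" => Matrix.ProjectiveSpecialLinearGroup (Fin 2) F

/-- conclusion (a) of Dickson's list -/
def ConclA (H : Subgroup (Matrix.ProjectiveSpecialLinearGroup (Fin 2) F)) : Prop :=
  ∃ k : ℕ, (k ∣ (Fintype.card F + 1) / Nat.gcd 2 (Fintype.card F - 1) ∨
      k ∣ (Fintype.card F - 1) / Nat.gcd 2 (Fintype.card F - 1)) ∧
    ((IsCyclic H ∧ Nat.card H = k) ∨ Nonempty (H ≃* DihedralGroup k))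

/-- conclusion (b) of Dickson's list -/
def ConclB (p : ℕ) [Fact p.Prime] (H : Subgroup (Matrix.ProjectiveSpecialLinearGroup (Fin 2) F)) :
    Prop :=
  ∃ (P : Sylow p (Matrix.ProjectiveSpecialLinearGroup (Fin 2) F))
    (K : Subgroup (Matrix.ProjectiveSpecialLinearGroup (Fin 2) F)),
    K ≤ Subgroup.normalizer ((P : Subgroup (Matrix.ProjectiveSpecialLinearGroup (Fin 2) F)) :
      Set (Matrix.ProjectiveSpecialLinearGroup (Fin 2) F)) ∧ Nonempty (H ≃* K)

theorem dvd_of_orderOf (p : ℕ) [Fact p.Prime] [CharP F p]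
    {H : Subgroup (Matrix.ProjectiveSpecialLinearGroup (Fin 2) F)} (h : ↥H) (hnp : ¬ p ∣ orderOf h) :
    orderOf h ∣ (Fintype.card F + 1) / Nat.gcd 2 (Fintype.card F - 1) ∨
      orderOf h ∣ (Fintype.card F - 1) / Nat.gcd 2 (Fintype.card F - 1) := by
  have h1 := Cfsg.Agent.Helper41.psl2_orderOf_dvd p (h : PSL2F)
  rw [Subgroup.orderOf_coe] at h1
  rcases h1 with h1 | h1 | h1
  · rcases (Nat.dvd_prime (Fact.out : p.Prime)).1 h1 with h2 | h2
    · left; rw [h2]; exact one_dvd _
    · exact absurd (h2 ▸ dvd_refl _) hnp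
  · right; exact h1
  · left; exact h1

theorem concl_of_cyclic (p : ℕ) [Fact p.Prime] [CharP F p]
    (H : Subgroup (Matrix.ProjectiveSpecialLinearGroup (Fin 2) F)) (hc : IsCyclic H) :
    ConclA H ∨ ConclB p H := by
  obtain ⟨h, hh⟩ := IsCyclic.exists_generator (α := ↥H)
  have hord : orderOf h = Nat.card H := orderOf_eq_card_of_forall_mem_zpowers hh
  by_cases hp : p ∣ orderOf h
  · right
    -- `H` is a `p`-group
    have h1 := Cfsg.Agent.Helper41.psl2_orderOf_dvd p (h : PSL2F)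
    rw [Subgroup.orderOf_coe] at h1
    have hq : Nat.gcd 2 (Fintype.card F - 1) = 1 ∨ Nat.gcd 2 (Fintype.card F - 1) = 2 := by
      have := Nat.gcd_le_left (Fintype.card F - 1) (show 0 < 2 by norm_num)
      have hpos : 0 < Nat.gcd 2 (Fintype.card F - 1) := Nat.gcd_pos_of_pos_left _ (by norm_num)
      omega
    have hpq : p ∣ Fintype.card F := by
      obtain ⟨n, _, hn⟩ := FiniteField.card F p
      rw [hn]; exact dvd_pow_self p n.ne_zero
    have hcard1 : 1 < Fintype.card F := Fintype.one_lt_card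
    have hkp : orderOf h = p := by
      rcases h1 with h1 | h1 | h1
      · rcases (Nat.dvd_prime (Fact.out : p.Prime)).1 h1 with h2 | h2
        · rw [h2] at hp
          exact absurd (Nat.dvd_one.1 hp) (Fact.out : p.Prime).one_lt.ne'
        · exact h2
      · exfalso
        have h3 : p ∣ (Fintype.card F - 1) :=
          (hp.trans h1).trans (Nat.div_dvd_of_dvd (Nat.gcd_dvd_right _ _))
        have : p ∣ 1 := by
          have h4 : Fintype.card F = (Fintype.card F - 1) + 1 := by omega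
          rw [h4] at hpq
          exact (Nat.dvd_add_right h3).1 hpq
        exact (Fact.out : p.Prime).one_lt.ne' (Nat.dvd_one.1 this)
      · exfalso
        have hd2 : Nat.gcd 2 (Fintype.card F - 1) ∣ Fintype.card F + 1 := by
          rcases hq with hq | hq
          · rw [hq]; exact one_dvd _
          · rw [hq]
            have h2 : 2 ∣ Fintype.card F - 1 := by
              have := Nat.gcd_dvd_right 2 (Fintype.card F - 1)
              rwa [hq] at this
            omega
        have h3 : p ∣ (Fintype.card F + 1) := (hp.trans h1).trans (Nat.div_dvd_of_dvd hd2)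
        have : p ∣ 1 := (Nat.dvd_add_right hpq).1 h3
        exact (Fact.out : p.Prime).one_lt.ne' (Nat.dvd_one.1 this)
    have hPG : IsPGroup p H := IsPGroup.of_card (n := 1) (by rw [← hord, hkp, pow_one])
    obtain ⟨P, hP⟩ := hPG.exists_le_sylow
    exact ⟨P, H, hP.trans Subgroup.le_normalizer, ⟨MulEquiv.refl _⟩⟩
  · left
    exact ⟨orderOf h, dvd_of_orderOf p h hp, Or.inl ⟨hc, hord.symm⟩⟩

theorem concl_of_dihedral (p : ℕ) [Fact p.Prime] [CharP F p]
    (H : Subgroup (Matrix.ProjectiveSpecialLinearGroup (Fin 2) F)) {n : ℕ} (a : ↥H)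
    (ha : orderOf a = n) (hnp : ¬ p ∣ n) (e : Nonempty (H ≃* DihedralGroup n)) : ConclA H := by
  subst ha
  exact ⟨orderOf a, dvd_of_orderOf p a hnp, Or.inr e⟩


/-- the Borel case -/
theorem concl_of_borel (p : ℕ) [Fact p.Prime] [CharP F p]
    (H : Subgroup (Matrix.ProjectiveSpecialLinearGroup (Fin 2) F)) (x₀ : ↥(liftSL H))
    (hx₀ : IsUni (liftRep H) x₀) (htop : Nx x₀ = ⊤) : ConclB p H := by
  classical
  let φ := algebraMap F (AlgebraicClosure F)
  have hφ : Function.Injective φ := φ.injective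
  -- a rational frame
  have htr : (tr x₀.1) ^ 2 = 4 := by
    have h1 := hx₀.2
    rw [tr_liftRep] at h1
    apply hφ
    rw [map_pow, h1, map_ofNat]
  obtain ⟨c₀, hc₀⟩ := exists_conj_mem_PU_of_tr x₀.1 htr
  let ĉ := Matrix.SpecialLinearGroup.map φ c₀
  have hentry : ∀ (g : ↥(liftSL H)) (i j : Fin 2),
      (conjRep (liftRep H) ĉ g).1 i j = φ ((c₀ * g.1 * c₀⁻¹).1 i j) := by
    intro g i j
    have : conjRep (liftRep H) ĉ g = Matrix.SpecialLinearGroup.map φ (c₀ * g.1 * c₀⁻¹) := by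
      rw [conjRep_apply, map_mul, map_mul, map_inv]
      rfl
    rw [this]
    rfl
  have hmem : conjRep (liftRep H) ĉ x₀ ∈ (PU : Subgroup _) := by
    constructor
    · rw [hentry, hc₀.1, map_zero]
    · rw [hentry, hentry, hc₀.2]
  have hF : UniFrame (conjRep (liftRep H) ĉ) x₀ := by
    refine ⟨conjRep_injective _ ĉ (liftRep_injective H), hmem, ?_⟩
    apply PU_entry_ne_zero hmem
    have := hx₀.1
    rw [← Zr_conjRep _ ĉ, mem_Zr] at this
    exact this
  have hB : ∀ g : ↥(liftSL H), (c₀ * g.1 * c₀⁻¹).1 1 0 = 0 := by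
    intro g
    have h1 : g ∈ Bg (conjRep (liftRep H) ĉ) := by rw [← hF.Nx_eq, htop]; trivial
    rw [mem_Bg, mem_BB, hentry] at h1
    apply hφ
    rw [h1, map_zero]
  -- the Sylow subgroup
  let π := QuotientGroup.mk' (Subgroup.center (Matrix.SpecialLinearGroup (Fin 2) F))
  have hπ : Function.Surjective π := QuotientGroup.mk'_surjective _
  let P : Sylow p PSL2F := (Cfsg.Agent.Helper37.SL2.P0 F p).mapSurjective hπ
  refine ⟨P, H.map (MulAut.conj (π c₀)).toMonoidHom, ?_, ⟨(MulAut.conj (π c₀)).subgroupMap H⟩⟩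
  rintro k ⟨h, hh, rfl⟩
  obtain ⟨g, rfl⟩ := hπ h
  have hg : g ∈ liftSL H := hh
  have hk : (MulAut.conj (π c₀)).toMonoidHom (π g) = π (c₀ * g * c₀⁻¹) := by
    simp [MulAut.conj_apply]
  rw [hk]
  have hnorm : c₀ * g * c₀⁻¹ ∈ Subgroup.normalizer
      ((Cfsg.Agent.Helper37.SL2.U0 : Subgroup (Matrix.SpecialLinearGroup (Fin 2) F)) :
        Set (Matrix.SpecialLinearGroup (Fin 2) F)) :=
    Cfsg.Agent.Helper37.SL2.mem_normalizer_U0 (hB ⟨g, hg⟩)
  have h2 := Subgroup.le_normalizer_map (H := Cfsg.Agent.Helper37.SL2.U0) π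
    (Subgroup.mem_map_of_mem π hnorm)
  exact h2


/-- the subfield case -/
theorem concl_of_field (H : Subgroup (Matrix.ProjectiveSpecialLinearGroup (Fin 2) F))
    (K : Subfield (AlgebraicClosure F)) (hfin : Finite K)
    (htr : ∀ a ∈ K, ∃ γ : ↥(liftSL H), tr (liftRep H γ) = a)
    (hiso : Nonempty (H ≃* Matrix.ProjectiveSpecialLinearGroup (Fin 2) K) ∨
      Nonempty (H ≃* Matrix.ProjGenLinGroup (Fin 2) K)) :
    ∃ (K' : Type) (_ : Field K') (_ : Fintype K') (m : ℕ), Fintype.card K' ^ m = Fintype.card F ∧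
      (Nonempty (H ≃* Matrix.ProjectiveSpecialLinearGroup (Fin 2) K') ∨
       Nonempty (H ≃* Matrix.ProjGenLinGroup (Fin 2) K')) := by
  classical
  haveI : Fintype K := Fintype.ofFinite K
  let φ := algebraMap F (AlgebraicClosure F)
  have hle : K ≤ φ.fieldRange := by
    intro a ha
    obtain ⟨γ, hγ⟩ := htr a ha
    rw [tr_liftRep] at hγ
    exact ⟨tr γ.1, hγ⟩
  let ψ : K →+* F :=
    (φ.rangeRestrictFieldEquiv.symm : φ.fieldRange →+* F).comp (Subfield.inclusion hle)
  letI : Algebra K F := ψ.toAlgebra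
  have hcard : Fintype.card F = Fintype.card K ^ Module.finrank K F :=
    Module.card_eq_pow_finrank (K := K) (V := F)
  letI : Fintype (Shrink.{0} K) := Fintype.ofEquiv K (equivShrink.{0} K)
  have hcard' : Fintype.card (Shrink.{0} K) = Fintype.card K :=
    Fintype.card_congr (equivShrink.{0} K).symm
  let e : K ≃+* Shrink.{0} K := (Shrink.ringEquiv.{0} K).symm
  refine ⟨Shrink.{0} K, inferInstance, inferInstance, Module.finrank K F, ?_, ?_⟩
  · rw [hcard', ← hcard]
  · rcases hiso with ⟨⟨e1⟩⟩ | ⟨⟨e1⟩⟩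
    · left
      obtain ⟨e2⟩ := nonempty_psl_congr e
      exact ⟨e1.trans e2⟩
    · right
      obtain ⟨e2⟩ := nonempty_pgl_congr e
      exact ⟨e1.trans e2⟩

/-- **Dickson's list** of the subgroups of `PSL₂(q)`. -/
theorem dickson_list (p : ℕ) [Fact p.Prime] [CharP F p]
    (H : Subgroup (Matrix.ProjectiveSpecialLinearGroup (Fin 2) F)) :
    ConclA H ∨ ConclB p H ∨ Nonempty (H ≃* alternatingGroup (Fin 4)) ∨
    Nonempty (H ≃* Equiv.Perm (Fin 4)) ∨ Nonempty (H ≃* alternatingGroup (Fin 5)) ∨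
    (∃ (K : Type) (_ : Field K) (_ : Fintype K) (m : ℕ), Fintype.card K ^ m = Fintype.card F ∧
      (Nonempty (H ≃* Matrix.ProjectiveSpecialLinearGroup (Fin 2) K) ∨
       Nonempty (H ≃* Matrix.ProjGenLinGroup (Fin 2) K))) := by
  classical
  haveI : CharP (AlgebraicClosure F) p :=
    charP_of_injective_algebraMap (algebraMap F (AlgebraicClosure F)).injective p
  haveI : Finite ↥(liftSL H) := inferInstance
  obtain ⟨e⟩ := nonempty_equiv_quotient H
  rcases dickson_main (ρ := liftRep H) p (liftRep_injective H) with h1 | ⟨n, a, ha, hnp, ⟨e1⟩⟩ |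
    ⟨x₀, hx₀, htop⟩ | ⟨⟨e1⟩⟩ | ⟨⟨e1⟩⟩ | ⟨⟨e1⟩⟩ | ⟨K, hKfin, hKtr, hKiso⟩
  · -- cyclic
    have hc : IsCyclic H := e.isCyclic.1 h1
    rcases concl_of_cyclic p H hc with h | h
    · exact Or.inl h
    · exact Or.inr (Or.inl h)
  · -- dihedral
    left
    refine concl_of_dihedral p H (e a) ?_ hnp ⟨e.symm.trans e1⟩
    rw [MulEquiv.orderOf_eq, ha]
  · exact Or.inr (Or.inl (concl_of_borel p H x₀ hx₀ htop))
  · exact Or.inr (Or.inr (Or.inl ⟨e.symm.trans e1⟩))
  · exact Or.inr (Or.inr (Or.inr (Or.inl ⟨e.symm.trans e1⟩)))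
  · exact Or.inr (Or.inr (Or.inr (Or.inr (Or.inl ⟨e.symm.trans e1⟩))))
  · right; right; right; right; right
    apply concl_of_field H K hKfin hKtr
    rcases hKiso with ⟨⟨e1⟩⟩ | ⟨⟨e1⟩⟩
    · exact Or.inl ⟨e.symm.trans e1⟩
    · exact Or.inr ⟨e.symm.trans e1⟩

end Finite

end Cfsg.Agent.Helper46.Dk
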