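import Mathlib
import Cfsg.Agent.Helper46.DkGeom

set_option autoImplicit false

/-!
# Dickson project: the exceptional pair of unipotent generators over the field with nine elements
-/

namespace Cfsg.Agent.Helper46.Dk

open Matrix

/-- the model of `𝔽₉²` -/
abbrev V9 := ZMod 3 × ZMod 3 × ZMod 3 × ZMod 3

/-- the model action of `[1,0;1,1]` -/
def act9L (v : V9) : V9 := (v.1, v.2.1, v.1 + v.2.2.1, v.2.1 + v.2.2.2)
/-- the model action of `[1,0;-1,1]` -/
def act9Li (v : V9) : V9 := (v.1, v.2.1, v.2.2.1 - v.1, v.2.2.2 - v.2.1)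
/-- the model action of `[1,i;0,1]` -/
def act9U (v : V9) : V9 := (v.1 - v.2.2.2, v.2.1 + v.2.2.1, v.2.2.1, v.2.2.2)
/-- the model action of `[1,-i;0,1]` -/
def act9Ui (v : V9) : V9 := (v.1 + v.2.2.2, v.2.1 - v.2.2.1, v.2.2.1, v.2.2.2)

/-- the orbit of `(1, 0)` under the two generators -/
def orbit9 : Finset V9 :=
  {(0, 0, 1, 1), (0, 0, 1, 2), (0, 0, 2, 1), (0, 0, 2, 2), (0, 1, 0, 0), (0, 1, 0, 1), (0, 1, 0, 2),
   (0, 2, 0, 0), (0, 2, 0, 1), (0, 2, 0, 2), (1, 0, 0, 0), (1, 0, 1, 0), (1, 0, 2, 0), (1, 1, 0, 1),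
   (1, 1, 0, 2), (1, 1, 1, 0), (1, 1, 1, 2), (1, 1, 2, 0), (1, 1, 2, 1), (1, 2, 0, 1), (1, 2, 0, 2),
   (1, 2, 1, 0), (1, 2, 1, 1), (1, 2, 2, 0), (1, 2, 2, 2), (2, 0, 0, 0), (2, 0, 1, 0), (2, 0, 2, 0),
   (2, 1, 0, 1), (2, 1, 0, 2), (2, 1, 1, 0), (2, 1, 1, 1), (2, 1, 2, 0), (2, 1, 2, 2), (2, 2, 0, 1),
   (2, 2, 0, 2), (2, 2, 1, 0), (2, 2, 1, 2), (2, 2, 2, 0), (2, 2, 2, 1)}

set_option maxRecDepth 100000 in
theorem orbit9_closed : ∀ v ∈ orbit9,
    act9L v ∈ orbit9 ∧ act9Li v ∈ orbit9 ∧ act9U v ∈ orbit9 ∧ act9Ui v ∈ orbit9 := by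
  decide

set_option maxRecDepth 100000 in
theorem orbit9_card : orbit9.card = 40 := by decide

theorem e1_mem_orbit9 : ((1, 0, 0, 0) : V9) ∈ orbit9 := by decide

section

variable {F : Type*} [Field F]

/-- the action of `SL₂(F)` on pairs -/
def actV (g : Matrix.SpecialLinearGroup (Fin 2) F) (v : F × F) : F × F :=
  (g.1 0 0 * v.1 + g.1 0 1 * v.2, g.1 1 0 * v.1 + g.1 1 1 * v.2)

theorem actV_one (v : F × F) : actV 1 v = v := by
  unfold actV
  rw [one_00, one_01, one_10, one_11]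
  ext <;> simp

theorem actV_mul (g h : Matrix.SpecialLinearGroup (Fin 2) F) (v : F × F) :
    actV (g * h) v = actV g (actV h v) := by
  unfold actV
  rw [mul_00, mul_01, mul_10, mul_11]
  ext <;> simp <;> ring

theorem vV_inv' (s : F) : (vV s)⁻¹ = vV (-s) := by
  apply ext'
  · rw [inv_00]; rfl
  · rw [inv_01]; simp [vV]
  · rw [inv_10]; rfl
  · rw [inv_11]; rfl

theorem uU_inv' (s : F) : (uU s)⁻¹ = uU (-s) := by
  apply ext'
  · rw [inv_00]; rfl
  · rw [inv_01]; rfl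
  · rw [inv_10]; simp [uU]
  · rw [inv_11]; rfl

variable [CharP F 3]

/-- the coordinate map -/
noncomputable def psi9 (lam : F) (v : V9) : F × F :=
  (ZMod.castHom (dvd_refl 3) F v.1 + ZMod.castHom (dvd_refl 3) F v.2.1 * lam,
   ZMod.castHom (dvd_refl 3) F v.2.2.1 + ZMod.castHom (dvd_refl 3) F v.2.2.2 * lam)

theorem actV_vV_psi9 (lam : F) (v : V9) : actV (vV 1) (psi9 lam v) = psi9 lam (act9L v) := by
  unfold actV psi9 act9L
  simp only [vV, mk4_00, mk4_01, mk4_10, mk4_11, map_add]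
  ext <;> simp <;> ring

theorem actV_vVi_psi9 (lam : F) (v : V9) : actV (vV (-1)) (psi9 lam v) = psi9 lam (act9Li v) := by
  unfold actV psi9 act9Li
  simp only [vV, mk4_00, mk4_01, mk4_10, mk4_11, map_sub]
  ext <;> simp <;> ring

theorem actV_uU_psi9 (lam : F) (hlam : lam ^ 2 = -1) (v : V9) :
    actV (uU lam) (psi9 lam v) = psi9 lam (act9U v) := by
  unfold actV psi9 act9U
  simp only [uU, mk4_00, mk4_01, mk4_10, mk4_11, map_add, map_sub]
  ext
  · simp only
    linear_combination (ZMod.castHom (dvd_refl 3) F v.2.2.2) * hlam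
  · simp

theorem actV_uUi_psi9 (lam : F) (hlam : lam ^ 2 = -1) (v : V9) :
    actV (uU (-lam)) (psi9 lam v) = psi9 lam (act9Ui v) := by
  unfold actV psi9 act9Ui
  simp only [uU, mk4_00, mk4_01, mk4_10, mk4_11, map_add, map_sub]
  ext
  · simp only
    linear_combination (-(ZMod.castHom (dvd_refl 3) F v.2.2.2)) * hlam
  · simp

/-- the stabiliser of the image of the orbit -/
def stab9 (lam : F) : Subgroup (Matrix.SpecialLinearGroup (Fin 2) F) where
  carrier := {g | ∀ v ∈ psi9 lam '' (orbit9 : Set V9),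
    actV g v ∈ psi9 lam '' (orbit9 : Set V9) ∧ actV g⁻¹ v ∈ psi9 lam '' (orbit9 : Set V9)}
  one_mem' := by
    intro v hv
    rw [inv_one, actV_one]
    exact ⟨hv, hv⟩
  mul_mem' := by
    intro a b ha hb v hv
    rw [_root_.mul_inv_rev, actV_mul, actV_mul]
    exact ⟨(ha _ (hb v hv).1).1, (hb _ (ha v hv).2).2⟩
  inv_mem' := by
    intro a ha v hv
    rw [inv_inv]
    exact ⟨(ha v hv).2, (ha v hv).1⟩

theorem closure_le_stab9 (lam : F) (hlam : lam ^ 2 = -1) :
    Subgroup.closure {vV (1 : F), uU lam} ≤ stab9 lam := by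
  rw [Subgroup.closure_le]
  intro g hg
  rcases hg with rfl | hg
  · rintro _ ⟨v, hv, rfl⟩
    obtain ⟨h1, h2, -, -⟩ := orbit9_closed v hv
    rw [vV_inv', actV_vV_psi9, actV_vVi_psi9]
    exact ⟨⟨_, h1, rfl⟩, ⟨_, h2, rfl⟩⟩
  · rw [Set.mem_singleton_iff] at hg
    subst hg
    rintro _ ⟨v, hv, rfl⟩
    obtain ⟨-, -, h1, h2⟩ := orbit9_closed v hv
    rw [uU_inv', actV_uU_psi9 lam hlam, actV_uUi_psi9 lam hlam]
    exact ⟨⟨_, h1, rfl⟩, ⟨_, h2, rfl⟩⟩

theorem closure_ne_top_of_nine [Fintype F] (hcard : Fintype.card F = 9) (lam : F)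
    (hlam : lam ^ 2 = -1) :
    Subgroup.closure {vV (1 : F), uU lam} ≠ ⊤ := by
  classical
  intro htop
  have hstab : stab9 lam = ⊤ := by
    rw [eq_top_iff, ← htop]
    exact closure_le_stab9 lam hlam
  set O : Set (F × F) := psi9 lam '' (orbit9 : Set V9) with hO
  have hOfin : O.Finite := (Finset.finite_toSet orbit9).image _
  have hOcard : O.ncard ≤ 40 := by
    have := Set.ncard_image_le (f := psi9 lam) (Finset.finite_toSet orbit9)
    rw [Set.ncard_coe_finset, orbit9_card] at this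
    exact this
  have he1 : ((1 : F), (0 : F)) ∈ O := by
    refine ⟨(1, 0, 0, 0), e1_mem_orbit9, ?_⟩
    unfold psi9
    simp
  have hall : ∀ v : F × F, v ≠ 0 → v ∈ O := by
    intro v hv
    obtain ⟨g, hg⟩ : ∃ g : Matrix.SpecialLinearGroup (Fin 2) F, actV g (1, 0) = v := by
      by_cases hx : v.1 = 0
      · have hy : v.2 ≠ 0 := by
          intro hy
          apply hv
          ext
          · exact hx
          · exact hy
        refine ⟨mk4 0 (-(v.2)⁻¹) v.2 0 (by field_simp; ring), ?_⟩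
        unfold actV
        simp only [mk4_00, mk4_01, mk4_10, mk4_11]
        ext
        · simp [hx]
        · simp
      · refine ⟨mk4 v.1 0 v.2 (v.1)⁻¹ (by field_simp; ring), ?_⟩
        unfold actV
        simp only [mk4_00, mk4_01, mk4_10, mk4_11]
        ext <;> simp
    have hgs : g ∈ stab9 lam := by rw [hstab]; trivial
    rw [← hg]
    exact (hgs _ he1).1
  have hsub : ({0}ᶜ : Set (F × F)) ⊆ O := fun v hv => hall v hv
  have h1 := Set.ncard_le_ncard hsub hOfin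
  have h2 : ({0}ᶜ : Set (F × F)).ncard = 80 := by
    rw [Set.ncard_compl, Set.ncard_singleton, Nat.card_eq_fintype_card, Fintype.card_prod, hcard]
  omega

end

end Cfsg.Agent.Helper46.Dk
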