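import Mathlib
import Cfsg.Agent.Helper46.DkGeom

set_option autoImplicit false

/-!
# Dickson project: traces of elements whose small powers are scalar
-/

namespace Cfsg.Agent.Helper46.Dk

open Matrix

variable {E : Type*} [Field E]

local notation "SL2" => Matrix.SpecialLinearGroup (Fin 2) E

/-- the sequence `u₀ = 0, u₁ = 1, uₙ₊₂ = t uₙ₊₁ - uₙ` -/
def chebU (t : E) : ℕ → E
  | 0 => 0
  | 1 => 1
  | (n + 2) => t * chebU t (n + 1) - chebU t n

theorem chebU_zero (t : E) : chebU t 0 = 0 := rfl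
theorem chebU_one (t : E) : chebU t 1 = 1 := rfl
theorem chebU_succ_succ (t : E) (n : ℕ) :
    chebU t (n + 2) = t * chebU t (n + 1) - chebU t n := rfl

theorem chebU_two (t : E) : chebU t 2 = t := by
  rw [chebU_succ_succ, chebU_one, chebU_zero]; ring

theorem chebU_three (t : E) : chebU t 3 = t ^ 2 - 1 := by
  rw [chebU_succ_succ, chebU_two, chebU_one]; ring

theorem chebU_four (t : E) : chebU t 4 = t ^ 3 - 2 * t := by
  rw [chebU_succ_succ, chebU_three, chebU_two]; ring

theorem chebU_five (t : E) : chebU t 5 = t ^ 4 - 3 * t ^ 2 + 1 := by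
  rw [chebU_succ_succ, chebU_four, chebU_three]; ring

theorem pow_succ_entries (A : SL2) (n : ℕ) :
    (A ^ (n + 1)).1 0 0 = chebU (tr A) (n + 1) * A.1 0 0 - chebU (tr A) n ∧
    (A ^ (n + 1)).1 0 1 = chebU (tr A) (n + 1) * A.1 0 1 ∧
    (A ^ (n + 1)).1 1 0 = chebU (tr A) (n + 1) * A.1 1 0 ∧
    (A ^ (n + 1)).1 1 1 = chebU (tr A) (n + 1) * A.1 1 1 - chebU (tr A) n := by
  induction n with
  | zero =>
    simp only [zero_add, pow_one, chebU_one, chebU_zero]
    refine ⟨by ring, by ring, by ring, by ring⟩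
  | succ n ih =>
    obtain ⟨h00, h01, h10, h11⟩ := ih
    have hd := det' A
    rw [pow_succ, mul_00, mul_01, mul_10, mul_11, h00, h01, h10, h11, chebU_succ_succ]
    unfold tr
    refine ⟨?_, ?_, ?_, ?_⟩
    · linear_combination (-chebU (A.1 0 0 + A.1 1 1) (n + 1)) * hd
    · ring
    · ring
    · linear_combination (-chebU (A.1 0 0 + A.1 1 1) (n + 1)) * hd

/-- if a power of a non-scalar matrix is scalar, the corresponding `chebU` value vanishes -/
theorem chebU_eq_zero_of_pow_mem_center (A : SL2) (hA : A ∉ Subgroup.center SL2) (n : ℕ)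
    (h : A ^ (n + 1) ∈ Subgroup.center SL2) : chebU (tr A) (n + 1) = 0 := by
  obtain ⟨h00, h01, h10, h11⟩ := pow_succ_entries A n
  rw [mem_center_iff'] at h hA
  obtain ⟨k01, k10, k00⟩ := h
  rw [h01] at k01
  rw [h10] at k10
  rw [h00, h11] at k00
  by_contra hne
  apply hA
  refine ⟨?_, ?_, ?_⟩
  · exact (mul_eq_zero.1 k01).resolve_left hne
  · exact (mul_eq_zero.1 k10).resolve_left hne
  · have : chebU (tr A) (n + 1) * (A.1 0 0 - A.1 1 1) = 0 := by linear_combination k00
    have := (mul_eq_zero.1 this).resolve_left hne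
    linear_combination this

theorem tr_eq_zero_of_sq_mem_center (A : SL2) (hA : A ∉ Subgroup.center SL2)
    (h : A ^ 2 ∈ Subgroup.center SL2) : tr A = 0 := by
  have := chebU_eq_zero_of_pow_mem_center A hA 1 h
  rwa [chebU_two] at this

theorem tr_sq_eq_one_of_cube_mem_center (A : SL2) (hA : A ∉ Subgroup.center SL2)
    (h : A ^ 3 ∈ Subgroup.center SL2) : (tr A) ^ 2 = 1 := by
  have := chebU_eq_zero_of_pow_mem_center A hA 2 h
  rw [chebU_three] at this
  linear_combination this

theorem tr_of_pow_five_mem_center (A : SL2) (hA : A ∉ Subgroup.center SL2)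
    (h : A ^ 5 ∈ Subgroup.center SL2) : (tr A) ^ 4 - 3 * (tr A) ^ 2 + 1 = 0 := by
  have := chebU_eq_zero_of_pow_mem_center A hA 4 h
  rwa [chebU_five] at this

end Cfsg.Agent.Helper46.Dk
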