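import Mathlib
import Cfsg.Agent.Helper46.DkGeom

set_option autoImplicit false

/-!
# Two unipotent generators: field-theoretic preliminaries
-/

namespace Cfsg.Agent.Helper46.Dk

section Frob

variable {F : Type*} [Field F]

/-- the fixed field of a power of the Frobenius map (odd characteristic) -/
def frobFixed (p : ℕ) [Fact p.Prime] [CharP F p] (hp : p ≠ 2) (k : ℕ) : Subfield F where
  carrier := {x | x ^ (p ^ k) = x}
  mul_mem' := by
    intro a b ha hb
    show (a * b) ^ (p ^ k) = a * b
    rw [mul_pow, ha, hb]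
  one_mem' := one_pow _
  add_mem' := by
    intro a b ha hb
    show (a + b) ^ (p ^ k) = a + b
    rw [add_pow_char_pow, ha, hb]
  zero_mem' := by
    show (0 : F) ^ (p ^ k) = 0
    exact zero_pow (pow_ne_zero k (Fact.out : p.Prime).ne_zero)
  neg_mem' := by
    intro a ha
    show (-a) ^ (p ^ k) = -a
    have hodd : Odd (p ^ k) := ((Fact.out : p.Prime).odd_of_ne_two hp).pow
    rw [hodd.neg_pow, ha]
  inv_mem' := by
    intro a ha
    show (a⁻¹) ^ (p ^ k) = a⁻¹
    rw [inv_pow, ha]

theorem mem_frobFixed (p : ℕ) [Fact p.Prime] [CharP F p] (hp : p ≠ 2) (k : ℕ) (x : F) :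
    x ∈ frobFixed (F := F) p hp k ↔ x ^ (p ^ k) = x := Iff.rfl

/-- if every element satisfies `x ^ n = x` then the field has at most `n` elements -/
theorem card_le_of_forall_pow_eq [Fintype F] (n : ℕ) (hn : 2 ≤ n) (h : ∀ x : F, x ^ n = x) :
    Fintype.card F ≤ n := by
  classical
  obtain ⟨g, hg⟩ := IsCyclic.exists_ofOrder_eq_natCard (α := Fˣ)
  rw [Nat.card_eq_fintype_card, Fintype.card_units] at hg
  have h1 : (g : F) ^ n = g := h g
  have h2 : g ^ (n - 1) = 1 := by
    apply Units.ext
    rw [Units.val_pow_eq_pow_val, Units.val_one]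
    have hg0 : (g : F) ≠ 0 := g.ne_zero
    have : (g : F) ^ (n - 1) * g = 1 * g := by
      rw [← pow_succ, one_mul]
      have : n - 1 + 1 = n := by omega
      rw [this, h1]
    exact mul_right_cancel₀ hg0 this
  have h3 : Fintype.card F - 1 ∣ n - 1 := by
    rw [← hg]; exact orderOf_dvd_of_pow_eq_one h2
  have h4 := Nat.le_of_dvd (by omega) h3
  have : 0 < Fintype.card F := Fintype.card_pos
  omega

/-- a generator which is an integer lies in every subfield -/
theorem card_eq_char_of_intCast [Fintype F] (p : ℕ) [Fact p.Prime] [CharP F p] (hp : p ≠ 2)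
    (lam : F) (hgen : Subfield.closure ({lam} : Set F) = ⊤) (k : ℤ) (hk : lam = k) :
    Fintype.card F = p := by
  have hpp : p.Prime := Fact.out
  have h1 : Subfield.closure ({lam} : Set F) ≤ frobFixed (F := F) p hp 1 := by
    rw [Subfield.closure_le]
    intro x hx
    rw [Set.mem_singleton_iff] at hx
    rw [hx, hk]
    exact intCast_mem _ k
  rw [hgen] at h1
  have h2 : ∀ x : F, x ^ p = x := by
    intro x
    have := h1 (Subfield.mem_top x)
    rw [mem_frobFixed, pow_one] at this
    exact this
  have h3 := card_le_of_forall_pow_eq p hpp.two_le h2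
  obtain ⟨n, -, hn⟩ := FiniteField.card F p
  have h4 : p ≤ Fintype.card F := by
    rw [hn]
    calc p = p ^ 1 := (pow_one p).symm
      _ ≤ p ^ (n : ℕ) := Nat.pow_le_pow_right hpp.pos n.pos
  omega

/-- the field generated by a square root of `-1` in characteristic three has nine elements -/
theorem card_eq_nine [Fintype F] [Fact (Nat.Prime 3)] [CharP F 3]
    (lam : F) (hgen : Subfield.closure ({lam} : Set F) = ⊤) (hlam : lam ^ 2 = -1) :
    Fintype.card F = 9 := by
  have h1 : Subfield.closure ({lam} : Set F) ≤ frobFixed (F := F) 3 (by norm_num) 2 := by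
    rw [Subfield.closure_le]
    intro x hx
    rw [Set.mem_singleton_iff] at hx
    rw [hx, SetLike.mem_coe, mem_frobFixed]
    have : lam ^ (3 ^ 2) = (lam ^ 2) ^ 4 * lam := by ring
    rw [this, hlam]; ring
  rw [hgen] at h1
  have h2 : ∀ x : F, x ^ 9 = x := by
    intro x
    have := h1 (Subfield.mem_top x)
    rw [mem_frobFixed] at this
    norm_num at this
    exact this
  have h3 := card_le_of_forall_pow_eq 9 (by norm_num) h2
  obtain ⟨n, -, hn⟩ := FiniteField.card F 3
  -- the field is not the prime field
  have h4 : Fintype.card F ≠ 3 := by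
    intro h3'
    have hall : ∀ x : F, x ^ 3 = x := by
      intro x
      have := FiniteField.pow_card x
      rwa [h3'] at this
    have h5 := hall lam
    have h6 : lam ^ 3 = -lam := by
      have : lam ^ 3 = lam ^ 2 * lam := by ring
      rw [this, hlam]; ring
    rw [h6] at h5
    have h7 : (2 : F) * lam = 0 := by linear_combination -h5
    have h8 : (2 : F) ≠ 0 := by
      intro h
      have : ((2 : ℕ) : F) = 0 := by exact_mod_cast h
      rw [CharP.cast_eq_zero_iff F 3] at this
      omega
    have h9 : lam = 0 := (mul_eq_zero.1 h7).resolve_left h8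
    rw [h9] at hlam
    have : (1 : F) = 0 := by
      have h10 : (0 : F) ^ 2 = 0 := by ring
      rw [h10] at hlam
      linear_combination hlam
    exact one_ne_zero this
  have hn1 : (n : ℕ) ≠ 1 := by
    intro h
    rw [h, pow_one] at hn
    exact h4 hn
  have hn2 : (n : ℕ) ≤ 2 := by
    by_contra hcon
    push_neg at hcon
    have : 3 ^ 3 ≤ 3 ^ (n : ℕ) := Nat.pow_le_pow_right (by norm_num) hcon
    omega
  have hn3 : (n : ℕ) = 2 := by
    have := n.pos
    omega
  rw [hn, hn3]
  norm_num

end Frob

end Cfsg.Agent.Helper46.Dk
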