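import Mathlib
import Cfsg.Agent.Helper45.Dihedral

set_option autoImplicit false

/-!
# The dihedral subgroup generated by an element and an involution inverting it
-/

namespace Cfsg.Agent.Helper46

section

variable {G : Type*} [Group G]

theorem conj_inv_of_mem_zpowers {g w : G} (hrel : w * g * w⁻¹ = g⁻¹) {z : G}
    (hz : z ∈ Subgroup.zpowers g) : w * z * w⁻¹ = z⁻¹ := by
  obtain ⟨i, rfl⟩ := Subgroup.mem_zpowers_iff.1 hz
  rw [← conj_zpow, hrel, inv_zpow]

theorem inv_eq_self_of_mul_self {w : G} (hw2 : w * w = 1) : w⁻¹ = w :=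
  inv_eq_of_mul_eq_one_left hw2

/-- the subgroup `⟨g⟩ ∪ w⟨g⟩` -/
def dihSub (g w : G) (hw2 : w * w = 1) (hrel : w * g * w⁻¹ = g⁻¹) : Subgroup G where
  carrier := {y | y ∈ Subgroup.zpowers g ∨ w * y ∈ Subgroup.zpowers g}
  one_mem' := Or.inl (Subgroup.one_mem _)
  mul_mem' := by
    intro a b ha hb
    have hwi := inv_eq_self_of_mul_self hw2
    rcases ha with ha | ha <;> rcases hb with hb | hb
    · exact Or.inl (Subgroup.mul_mem _ ha hb)
    · right
      have h1 := conj_inv_of_mem_zpowers hrel ha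
      rw [hwi] at h1
      have : w * (a * b) = (w * a * w) * (w * b) := by
        rw [mul_assoc (w * a), ← mul_assoc w w, hw2, one_mul, mul_assoc]
      rw [this, h1]
      exact Subgroup.mul_mem _ (Subgroup.inv_mem _ ha) hb
    · right
      rw [← mul_assoc]
      exact Subgroup.mul_mem _ ha hb
    · left
      have h1 := conj_inv_of_mem_zpowers hrel ha
      rw [hwi] at h1
      -- a = w * (w a), a * b = w (wa) w (w b) = (wa)⁻¹ (wb)
      have : a * b = (w * (w * a) * w) * (w * b) := by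
        rw [← mul_assoc w w, hw2, one_mul, mul_assoc a, ← mul_assoc w w, hw2, one_mul]
      rw [this, h1]
      exact Subgroup.mul_mem _ (Subgroup.inv_mem _ ha) hb
  inv_mem' := by
    intro a ha
    have hwi := inv_eq_self_of_mul_self hw2
    rcases ha with ha | ha
    · exact Or.inl (Subgroup.inv_mem _ ha)
    · right
      have h1 := conj_inv_of_mem_zpowers hrel ha
      rw [hwi] at h1
      -- w a⁻¹ = w (w a)⁻¹ w = ((w a)⁻¹)⁻¹ ... direct
      have : w * a⁻¹ = (w * (w * a) * w)⁻¹ := by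
        rw [← mul_assoc w w, hw2, one_mul, mul_inv_rev, hwi]
      rw [this, h1, inv_inv]
      exact ha

theorem mem_dihSub {g w : G} (hw2 : w * w = 1) (hrel : w * g * w⁻¹ = g⁻¹) (y : G) :
    y ∈ dihSub g w hw2 hrel ↔ y ∈ Subgroup.zpowers g ∨ w * y ∈ Subgroup.zpowers g := Iff.rfl

theorem exists_dihedral_subgroup (g w : G) (n : ℕ) (hn : orderOf g = n) (hw2 : w * w = 1)
    (hrel : w * g * w⁻¹ = g⁻¹) (hw : w ∉ Subgroup.zpowers g) :
    ∃ D : Subgroup G, g ∈ D ∧ w ∈ D ∧ Nonempty (D ≃* DihedralGroup n) := by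
  refine ⟨dihSub g w hw2 hrel, Or.inl (Subgroup.mem_zpowers g), Or.inr ?_, ?_⟩
  · rw [hw2]; exact Subgroup.one_mem _
  have hgD : g ∈ dihSub g w hw2 hrel := Or.inl (Subgroup.mem_zpowers g)
  have hwD : w ∈ dihSub g w hw2 hrel := Or.inr (by rw [hw2]; exact Subgroup.one_mem _)
  have hmem : ∀ y : ↥(dihSub g w hw2 hrel),
      y.1 ∈ Subgroup.zpowers g → y ∈ Subgroup.zpowers (⟨g, hgD⟩ : ↥(dihSub g w hw2 hrel)) := by
    intro y hy
    obtain ⟨k, hk⟩ := Subgroup.mem_zpowers_iff.1 hy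
    rw [Subgroup.mem_zpowers_iff]
    refine ⟨k, ?_⟩
    apply Subtype.ext
    rw [Subgroup.coe_zpow]
    exact hk
  apply Cfsg.Agent.Helper45.nonempty_mulEquiv_dihedral n ⟨g, hgD⟩ ⟨w, hwD⟩
  · rw [← hn]
    exact Subgroup.orderOf_mk g hgD
  · apply Subtype.ext
    exact hw2
  · apply Subtype.ext
    exact hrel
  · intro h
    obtain ⟨k, hk⟩ := Subgroup.mem_zpowers_iff.1 h
    apply hw
    rw [Subgroup.mem_zpowers_iff]
    refine ⟨k, ?_⟩
    have := congrArg Subtype.val hk
    rwa [Subgroup.coe_zpow] at this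
  · intro y
    rcases y.2 with hy | hy
    · exact Or.inl (hmem y hy)
    · exact Or.inr (hmem (⟨w, hwD⟩ * y) hy)

end

end Cfsg.Agent.Helper46
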