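import Mathlib
import Cfsg.Agent.Helper46.DkFinite

set_option autoImplicit false

/-!
# The Borel subgroup of `SL₂(F)` and `PSL₂(F)`, normalisers of Sylow `p`-subgroups
-/

namespace Cfsg.Agent.Helper46.Dk

open Matrix

section General

variable {F : Type*} [Field F]

theorem center_le_BB :
    Subgroup.center (Matrix.SpecialLinearGroup (Fin 2) F) ≤ BB := fun g hg =>
  ((mem_center_iff' g).1 hg).2.1

theorem BB_diag_ne_zero {g : Matrix.SpecialLinearGroup (Fin 2) F} (hg : g ∈ (BB : Subgroup _)) :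
    g.1 0 0 ≠ 0 := by
  have h := det' g
  rw [(mem_BB g).1 hg, mul_zero, sub_zero] at h
  intro h0
  rw [h0, zero_mul] at h
  exact zero_ne_one h

/-- the diagonal character of the Borel subgroup -/
noncomputable def bbChar : ↥(BB : Subgroup (Matrix.SpecialLinearGroup (Fin 2) F)) →* Fˣ where
  toFun g := Units.mk0 (g.1.1 0 0) (BB_diag_ne_zero g.2)
  map_one' := by
    apply Units.ext
    simp
  map_mul' := by
    intro a b
    apply Units.ext
    show (a.1 * b.1).1 0 0 = a.1.1 0 0 * b.1.1 0 0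
    rw [mul_00, (mem_BB b.1).1 b.2, mul_zero, add_zero]

theorem bbChar_apply (g : ↥(BB : Subgroup (Matrix.SpecialLinearGroup (Fin 2) F))) :
    ((bbChar g : Fˣ) : F) = g.1.1 0 0 := rfl

theorem mem_ker_bbChar (g : ↥(BB : Subgroup (Matrix.SpecialLinearGroup (Fin 2) F))) :
    g ∈ (bbChar (F := F)).ker ↔ g.1.1 0 0 = 1 := by
  rw [MonoidHom.mem_ker]
  constructor
  · intro h
    have := congrArg Units.val h
    rwa [bbChar_apply] at this
  · intro h
    apply Units.ext
    rw [bbChar_apply, h]; rfl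

theorem ker_bbChar_comm (a b : ↥(bbChar (F := F)).ker) : a * b = b * a := by
  have ha := (mem_ker_bbChar a.1).1 a.2
  have hb := (mem_ker_bbChar b.1).1 b.2
  have ha0 := (mem_BB a.1.1).1 a.1.2
  have hb0 := (mem_BB b.1.1).1 b.1.2
  have ha1 : a.1.1.1 1 1 = 1 := by
    have := BB_diag_mul a.1.2
    rwa [ha, one_mul] at this
  have hb1 : b.1.1.1 1 1 = 1 := by
    have := BB_diag_mul b.1.2
    rwa [hb, one_mul] at this
  apply Subtype.ext
  apply Subtype.ext
  show a.1.1 * b.1.1 = b.1.1 * a.1.1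
  apply ext'
  · rw [mul_00, mul_00, ha, hb, ha0, hb0]; ring
  · rw [mul_01, mul_01, ha, hb, ha1, hb1]; ring
  · rw [mul_10, mul_10, ha0, hb0]; ring
  · rw [mul_11, mul_11, ha0, hb0, ha1, hb1]; ring

instance isSolvable_BBF :
    Group.IsSolvable ↥(BB : Subgroup (Matrix.SpecialLinearGroup (Fin 2) F)) := by
  have : Group.IsSolvable ↥(bbChar (F := F)).ker := Group.isSolvable_of_comm ker_bbChar_comm
  apply Group.isSolvable_of_ker_le_range ((bbChar (F := F)).ker.subtype) (bbChar (F := F))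
  intro g hg
  exact ⟨⟨g, hg⟩, rfl⟩

/-- commutators of elements of the Borel subgroup are unitriangular -/
theorem commutator_mem_UU {a b : Matrix.SpecialLinearGroup (Fin 2) F} (ha : a ∈ (BB : Subgroup _))
    (hb : b ∈ (BB : Subgroup _)) : a * b * a⁻¹ * b⁻¹ ∈ (UU : Subgroup _) := by
  have hab : a * b * a⁻¹ * b⁻¹ ∈ (BB : Subgroup _) :=
    Subgroup.mul_mem _ (Subgroup.mul_mem _ (Subgroup.mul_mem _ ha hb) (Subgroup.inv_mem _ ha))
      (Subgroup.inv_mem _ hb)
  apply mem_UU_of_BB_of_eq_one hab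
  have h1 : bbChar ⟨a * b * a⁻¹ * b⁻¹, hab⟩ = 1 := by
    have : (⟨a * b * a⁻¹ * b⁻¹, hab⟩ : ↥(BB : Subgroup (Matrix.SpecialLinearGroup (Fin 2) F))) =
        ⟨a, ha⟩ * ⟨b, hb⟩ * ⟨a, ha⟩⁻¹ * ⟨b, hb⟩⁻¹ := rfl
    rw [this, map_mul, map_mul, map_mul, map_inv, map_inv]
    rw [mul_comm (bbChar ⟨a, ha⟩), mul_assoc, mul_assoc, mul_inv_cancel_left, mul_inv_cancel]
  have := congrArg Units.val h1
  rwa [bbChar_apply] at this

/-- `BB ≃ Fˣ × F` -/
noncomputable def bbEquiv : ↥(BB : Subgroup (Matrix.SpecialLinearGroup (Fin 2) F)) ≃ Fˣ × F where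
  toFun g := (bbChar g, g.1.1 0 1)
  invFun x := ⟨mk4 (x.1 : F) x.2 0 ((x.1⁻¹ : Fˣ) : F) (by simp), rfl⟩
  left_inv := by
    intro g
    apply Subtype.ext
    apply ext'
    · rfl
    · rfl
    · exact ((mem_BB g.1).1 g.2).symm
    · show ((bbChar g)⁻¹ : Fˣ).1 = g.1.1 1 1
      rw [Units.val_inv_eq_inv_val, bbChar_apply]
      have := BB_diag_mul g.2
      exact (eq_inv_of_mul_eq_one_right this).symm
  right_inv := by
    intro x
    apply Prod.ext
    · apply Units.ext
      rfl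
    · rfl

end General

section Finite

variable {F : Type*} [Field F] [Fintype F]

theorem card_BBF : Nat.card ↥(BB : Subgroup (Matrix.SpecialLinearGroup (Fin 2) F)) =
    Fintype.card F * (Fintype.card F - 1) := by
  rw [Nat.card_congr bbEquiv, Nat.card_prod, Nat.card_units, Nat.card_eq_fintype_card, mul_comm]

theorem index_BBF : (BB : Subgroup (Matrix.SpecialLinearGroup (Fin 2) F)).index =
    Fintype.card F + 1 := by
  have h := Subgroup.card_mul_index (BB : Subgroup (Matrix.SpecialLinearGroup (Fin 2) F))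
  rw [card_BBF, Cfsg.Agent.Helper5.card_SL2] at h
  have hq : 1 < Fintype.card F := Fintype.one_lt_card
  obtain ⟨k, hk⟩ : ∃ k, Fintype.card F = k + 2 := ⟨Fintype.card F - 2, by omega⟩
  rw [hk] at h ⊢
  have h1 : (k + 2) ^ 2 - 1 = (k + 1) * (k + 3) := by
    have : (k + 2) ^ 2 = (k + 1) * (k + 3) + 1 := by ring
    rw [this]; simp
  have h2 : k + 2 - 1 = k + 1 := by omega
  rw [h1, h2] at h
  have h3 : (k + 2) * (k + 1) * (BB : Subgroup (Matrix.SpecialLinearGroup (Fin 2) F)).index =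
      (k + 2) * (k + 1) * (k + 2 + 1) := by rw [h]; ring
  exact Nat.eq_of_mul_eq_mul_left (by positivity) h3

end Finite

section PSL

variable {F : Type*} [Field F]

/-- the Borel subgroup of `PSL₂(F)` -/
def borelP : Subgroup (Matrix.ProjectiveSpecialLinearGroup (Fin 2) F) :=
  (BB : Subgroup (Matrix.SpecialLinearGroup (Fin 2) F)).map
    (QuotientGroup.mk' (Subgroup.center (Matrix.SpecialLinearGroup (Fin 2) F)))

/-- the unipotent subgroup of `PSL₂(F)` -/
def uniP : Subgroup (Matrix.ProjectiveSpecialLinearGroup (Fin 2) F) :=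
  (UU : Subgroup (Matrix.SpecialLinearGroup (Fin 2) F)).map
    (QuotientGroup.mk' (Subgroup.center (Matrix.SpecialLinearGroup (Fin 2) F)))

theorem U0_eq_UU : (Cfsg.Agent.Helper37.SL2.U0 : Subgroup (Matrix.SpecialLinearGroup (Fin 2) F)) =
    UU := by
  ext g
  rw [Cfsg.Agent.Helper37.SL2.mem_U0, mem_UU]
  constructor
  · rintro ⟨t, rfl⟩
    rw [Cfsg.Agent.Helper37.SL2.uu_val]
    simp
  · rintro ⟨h10, h00, h11⟩
    refine ⟨g.1 0 1, ?_⟩
    apply ext'
    all_goals rw [Cfsg.Agent.Helper37.SL2.uu_val]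
    · simp [h00]
    · simp
    · simp [h10]
    · simp [h11]

instance isSolvable_borelP : Group.IsSolvable ↥(borelP (F := F)) :=
  Group.isSolvable_of_surjective
    (f := (QuotientGroup.mk' (Subgroup.center (Matrix.SpecialLinearGroup (Fin 2) F))).subgroupMap BB)
    (MonoidHom.subgroupMap_surjective _ _)

theorem borelP_le_normalizer_uniP :
    borelP (F := F) ≤ Subgroup.normalizer
      ((uniP (F := F) : Subgroup (Matrix.ProjectiveSpecialLinearGroup (Fin 2) F)) :
        Set (Matrix.ProjectiveSpecialLinearGroup (Fin 2) F)) := by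
  rintro x ⟨b, hb, rfl⟩
  have hnorm : b ∈ Subgroup.normalizer
      ((UU : Subgroup (Matrix.SpecialLinearGroup (Fin 2) F)) :
        Set (Matrix.SpecialLinearGroup (Fin 2) F)) := by
    rw [← U0_eq_UU]
    exact Cfsg.Agent.Helper37.SL2.mem_normalizer_U0 ((mem_BB b).1 hb)
  exact Subgroup.le_normalizer_map (H := UU) _ (Subgroup.mem_map_of_mem _ hnorm)

theorem normalizer_uniP :
    Subgroup.normalizer ((uniP (F := F) : Subgroup (Matrix.ProjectiveSpecialLinearGroup (Fin 2) F)) :
      Set (Matrix.ProjectiveSpecialLinearGroup (Fin 2) F)) = borelP := by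
  apply le_antisymm _ borelP_le_normalizer_uniP
  intro x hx
  obtain ⟨g, rfl⟩ := QuotientGroup.mk'_surjective
    (Subgroup.center (Matrix.SpecialLinearGroup (Fin 2) F)) x
  set π := QuotientGroup.mk' (Subgroup.center (Matrix.SpecialLinearGroup (Fin 2) F)) with hπ
  have hu : π (uU 1) ∈ uniP (F := F) := Subgroup.mem_map_of_mem _ (uU_mem_UU 1)
  have h1 : π g * π (uU 1) * (π g)⁻¹ ∈ uniP (F := F) :=
    ((Subgroup.mem_normalizer_iff.1 hx) _).1 hu
  rw [← map_inv, ← map_mul, ← map_mul] at h1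
  obtain ⟨u', hu', hu'eq⟩ := h1
  have hz : u'⁻¹ * (g * uU 1 * g⁻¹) ∈ Subgroup.center (Matrix.SpecialLinearGroup (Fin 2) F) :=
    QuotientGroup.eq.1 hu'eq
  have hB : g * uU 1 * g⁻¹ ∈ (BB : Subgroup (Matrix.SpecialLinearGroup (Fin 2) F)) := by
    have h2 : g * uU 1 * g⁻¹ = u' * (u'⁻¹ * (g * uU 1 * g⁻¹)) := by group
    rw [h2]
    exact Subgroup.mul_mem _ (PU_le_BB (UU_le_PU hu')) (center_le_BB hz)
  rw [mem_BB, conj_10] at hB
  have h3 : g.1 1 0 = 0 := by
    have : (g.1 1 0) ^ 2 = 0 := by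
      have e00 : (uU (1 : F)).1 0 0 = 1 := rfl
      have e01 : (uU (1 : F)).1 0 1 = 1 := rfl
      have e10 : (uU (1 : F)).1 1 0 = 0 := rfl
      have e11 : (uU (1 : F)).1 1 1 = 1 := rfl
      rw [e00, e01, e10, e11] at hB
      linear_combination -hB
    exact pow_eq_zero_iff (two_ne_zero) |>.1 this
  exact Subgroup.mem_map_of_mem _ ((mem_BB g).2 h3)

variable [Fintype F]

theorem index_borelP : (borelP (F := F)).index = Fintype.card F + 1 := by
  unfold borelP
  rw [Subgroup.index_map_eq _ (QuotientGroup.mk'_surjective _), index_BBF]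
  rw [QuotientGroup.ker_mk']
  exact center_le_BB

variable (p : ℕ) [Fact p.Prime] [CharP F p]

/-- every Sylow `p`-subgroup of `PSL₂(F)` is conjugate to the unipotent subgroup, and its
normaliser to the Borel subgroup -/
theorem exists_conj_sylowP (P : Sylow p (Matrix.ProjectiveSpecialLinearGroup (Fin 2) F)) :
    ∃ x : Matrix.ProjectiveSpecialLinearGroup (Fin 2) F,
      (P : Subgroup (Matrix.ProjectiveSpecialLinearGroup (Fin 2) F)) =
        (uniP (F := F)).map (MulAut.conj x).toMonoidHom ∧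
      Subgroup.normalizer ((P : Subgroup (Matrix.ProjectiveSpecialLinearGroup (Fin 2) F)) :
        Set (Matrix.ProjectiveSpecialLinearGroup (Fin 2) F)) =
        (borelP (F := F)).map (MulAut.conj x).toMonoidHom := by
  have hπ : Function.Surjective
      (QuotientGroup.mk' (Subgroup.center (Matrix.SpecialLinearGroup (Fin 2) F))) :=
    QuotientGroup.mk'_surjective _
  let P0' : Sylow p (Matrix.ProjectiveSpecialLinearGroup (Fin 2) F) :=
    (Cfsg.Agent.Helper37.SL2.P0 F p).mapSurjective hπ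
  have hP0' : (P0' : Subgroup (Matrix.ProjectiveSpecialLinearGroup (Fin 2) F)) = uniP := by
    show (Cfsg.Agent.Helper37.SL2.U0 : Subgroup (Matrix.SpecialLinearGroup (Fin 2) F)).map _ = _
    rw [U0_eq_UU]
    rfl
  obtain ⟨x, hx⟩ := MulAction.exists_smul_eq (Matrix.ProjectiveSpecialLinearGroup (Fin 2) F) P0' P
  refine ⟨x, ?_, ?_⟩
  · rw [← hx, Sylow.coe_subgroup_smul, hP0']
    rfl
  · have h1 : (P : Subgroup (Matrix.ProjectiveSpecialLinearGroup (Fin 2) F)) =
        (uniP (F := F)).map (MulAut.conj x).toMonoidHom := by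
      rw [← hx, Sylow.coe_subgroup_smul, hP0']
      rfl
    rw [h1, ← Subgroup.map_equiv_normalizer_eq, normalizer_uniP]

theorem index_normalizer_sylowP (P : Sylow p (Matrix.ProjectiveSpecialLinearGroup (Fin 2) F)) :
    (Subgroup.normalizer ((P : Subgroup (Matrix.ProjectiveSpecialLinearGroup (Fin 2) F)) :
        Set (Matrix.ProjectiveSpecialLinearGroup (Fin 2) F))).index = Fintype.card F + 1 := by
  obtain ⟨x, -, hx⟩ := exists_conj_sylowP p P
  rw [hx]
  have := Subgroup.index_map_equiv (borelP (F := F)) (MulAut.conj x)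
  rw [← index_borelP (F := F), ← this]
  rfl

theorem isSolvable_normalizer_sylowP (P : Sylow p (Matrix.ProjectiveSpecialLinearGroup (Fin 2) F)) :
    Group.IsSolvable ↥(Subgroup.normalizer
      ((P : Subgroup (Matrix.ProjectiveSpecialLinearGroup (Fin 2) F)) :
        Set (Matrix.ProjectiveSpecialLinearGroup (Fin 2) F))) := by
  obtain ⟨x, -, hx⟩ := exists_conj_sylowP p P
  rw [hx]
  exact Group.isSolvable_of_surjective
    (f := (MulAut.conj x).toMonoidHom.subgroupMap (borelP (F := F)))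
    (MonoidHom.subgroupMap_surjective _ _)

/-- `N(P)/P` is abelian -/
theorem commutator_mem_sylowP (P : Sylow p (Matrix.ProjectiveSpecialLinearGroup (Fin 2) F))
    {a b : Matrix.ProjectiveSpecialLinearGroup (Fin 2) F}
    (ha : a ∈ Subgroup.normalizer
      ((P : Subgroup (Matrix.ProjectiveSpecialLinearGroup (Fin 2) F)) :
        Set (Matrix.ProjectiveSpecialLinearGroup (Fin 2) F)))
    (hb : b ∈ Subgroup.normalizer
      ((P : Subgroup (Matrix.ProjectiveSpecialLinearGroup (Fin 2) F)) :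
        Set (Matrix.ProjectiveSpecialLinearGroup (Fin 2) F))) :
    a * b * a⁻¹ * b⁻¹ ∈ (P : Subgroup (Matrix.ProjectiveSpecialLinearGroup (Fin 2) F)) := by
  obtain ⟨x, hP, hx⟩ := exists_conj_sylowP p P
  rw [hx] at ha hb
  obtain ⟨a', ⟨a0, ha0, rfl⟩, rfl⟩ := ha
  obtain ⟨b', ⟨b0, hb0, rfl⟩, rfl⟩ := hb
  rw [hP]
  refine ⟨_, Subgroup.mem_map_of_mem _ (commutator_mem_UU ha0 hb0), ?_⟩
  simp only [map_mul, map_inv]

end PSL

end Cfsg.Agent.Helper46.Dk
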