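import Mathlib
import Cfsg.Agent.Helper46.PSL2Borel

set_option autoImplicit false

/-!
# Cardinalities around `PSL₂(F)` used for the corollaries of Dickson's list
-/

namespace Cfsg.Agent.Helper46.Dk

open Matrix

theorem card_A4' : Nat.card (alternatingGroup (Fin 4)) = 12 := by
  rw [nat_card_alternatingGroup, Nat.card_eq_fintype_card, Fintype.card_fin]
  decide

theorem card_S4' : Nat.card (Equiv.Perm (Fin 4)) = 24 := by
  rw [Nat.card_eq_fintype_card, Fintype.card_perm, Fintype.card_fin]
  decide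

theorem card_A5' : Nat.card (alternatingGroup (Fin 5)) = 60 := by
  rw [nat_card_alternatingGroup, Nat.card_eq_fintype_card, Fintype.card_fin]
  decide

section

variable {F : Type*} [Field F] [Fintype F]

/-- the characteristic as a bundled fact -/
theorem exists_char_prime (F : Type*) [Field F] [Fintype F] :
    ∃ p : ℕ, ∃ _ : Fact p.Prime, CharP F p := by
  obtain ⟨p, hp⟩ := CharP.exists F
  haveI := hp
  exact ⟨p, ⟨CharP.char_is_prime F p⟩, hp⟩

theorem card_center_eq_gcd :
    Nat.card (Subgroup.center (Matrix.SpecialLinearGroup (Fin 2) F)) =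
      Nat.gcd 2 (Fintype.card F - 1) := by
  obtain ⟨p, hp, hc⟩ := exists_char_prime F
  rcases Cfsg.Agent.Helper41.card_field_gcd_two (F := F) p with ⟨h2, hd⟩ | ⟨-, h2, hd, -, -⟩
  · subst h2
    rw [hd]
    apply Cfsg.Agent.Helper5.card_center_SL2_of_two_eq_zero
    exact_mod_cast CharP.cast_eq_zero F 2
  · rw [hd]
    exact Cfsg.Agent.Helper5.card_center_SL2_of_two_ne_zero h2

theorem card_PSL2_mul_gcd :
    Nat.card (Matrix.ProjectiveSpecialLinearGroup (Fin 2) F) * Nat.gcd 2 (Fintype.card F - 1) =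
      Fintype.card F * (Fintype.card F ^ 2 - 1) := by
  rw [← card_center_eq_gcd]
  exact Cfsg.Agent.Helper5.card_PSL2_mul

theorem sq_sub_one_eq (q : ℕ) (hq : 1 ≤ q) : q ^ 2 - 1 = (q - 1) * (q + 1) := by
  obtain ⟨k, rfl⟩ : ∃ k, q = k + 1 := ⟨q - 1, by omega⟩
  have : (k + 1) ^ 2 = k * (k + 2) + 1 := by ring
  rw [this]; simp

/-- `|PSL₂(F)| · d = q (q - 1) (q + 1)` -/
theorem card_PSL2_mul_gcd' :
    Nat.card (Matrix.ProjectiveSpecialLinearGroup (Fin 2) F) * Nat.gcd 2 (Fintype.card F - 1) =
      Fintype.card F * (Fintype.card F - 1) * (Fintype.card F + 1) := by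
  rw [card_PSL2_mul_gcd, sq_sub_one_eq _ Fintype.card_pos, mul_assoc]

/-- if `|H| · d ≤ q (q - 1)` then `H` has index at least `q + 1` -/
theorem index_ge_of_card_le (H : Subgroup (Matrix.ProjectiveSpecialLinearGroup (Fin 2) F))
    (h : Nat.card H * Nat.gcd 2 (Fintype.card F - 1) ≤ Fintype.card F * (Fintype.card F - 1)) :
    Fintype.card F + 1 ≤ H.index := by
  have h1 := H.card_mul_index
  have h2 := card_PSL2_mul_gcd' (F := F)
  rw [← h1] at h2
  have hH : 0 < Nat.card H := Nat.card_pos
  by_contra hlt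
  push_neg at hlt
  have h3 : Nat.card H * H.index * Nat.gcd 2 (Fintype.card F - 1) <
      Fintype.card F * (Fintype.card F - 1) * (Fintype.card F + 1) := by
    have hd : 0 < Nat.gcd 2 (Fintype.card F - 1) := Nat.gcd_pos_of_pos_left _ (by norm_num)
    calc Nat.card H * H.index * Nat.gcd 2 (Fintype.card F - 1)
        = (Nat.card H * Nat.gcd 2 (Fintype.card F - 1)) * H.index := by ring
      _ < (Nat.card H * Nat.gcd 2 (Fintype.card F - 1)) * (Fintype.card F + 1) :=
          Nat.mul_lt_mul_of_pos_left hlt (Nat.mul_pos hH hd)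
      _ ≤ Fintype.card F * (Fintype.card F - 1) * (Fintype.card F + 1) :=
          Nat.mul_le_mul_right _ h
  omega

variable (p : ℕ) [Fact p.Prime] [CharP F p]

/-- `|N(P)| · d = q (q - 1)` -/
theorem card_normalizer_sylowP_mul (P : Sylow p (Matrix.ProjectiveSpecialLinearGroup (Fin 2) F)) :
    Nat.card ↥(Subgroup.normalizer
      ((P : Subgroup (Matrix.ProjectiveSpecialLinearGroup (Fin 2) F)) :
        Set (Matrix.ProjectiveSpecialLinearGroup (Fin 2) F))) *
      Nat.gcd 2 (Fintype.card F - 1) = Fintype.card F * (Fintype.card F - 1) := by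
  have h1 := (Subgroup.normalizer
      ((P : Subgroup (Matrix.ProjectiveSpecialLinearGroup (Fin 2) F)) :
        Set (Matrix.ProjectiveSpecialLinearGroup (Fin 2) F))).card_mul_index
  rw [index_normalizer_sylowP p P] at h1
  have h2 := card_PSL2_mul_gcd' (F := F)
  rw [← h1] at h2
  have h3 : (Nat.card ↥(Subgroup.normalizer
      ((P : Subgroup (Matrix.ProjectiveSpecialLinearGroup (Fin 2) F)) :
        Set (Matrix.ProjectiveSpecialLinearGroup (Fin 2) F))) *
      Nat.gcd 2 (Fintype.card F - 1)) * (Fintype.card F + 1) =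
      (Fintype.card F * (Fintype.card F - 1)) * (Fintype.card F + 1) := by
    rw [← h2]; ring
  exact Nat.eq_of_mul_eq_mul_right (by omega) h3

end

end Cfsg.Agent.Helper46.Dk
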