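import Mathlib
import Cfsg.Agent.Helper46.PSL2Card
import Cfsg.Agent.Helper46.DihSub
import Cfsg.Agent.Helper41.SL2Conj

set_option autoImplicit false

/-!
# Inverting involutions for regular semisimple elements of `PSL₂(F)`, dihedral subgroups
-/

namespace Cfsg.Agent.Helper46.Dk

open Matrix

section Solve

variable {F : Type*} [Field F] [Fintype F]

/-- the linear and quadratic conditions for an inverting trace-zero matrix -/
theorem exists_invert_params (A : Matrix.SpecialLinearGroup (Fin 2) F) (ht : (tr A) ^ 2 ≠ 4) :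
    ∃ x y z : F, x * (A.1 0 0 - A.1 1 1) + A.1 1 0 * y + A.1 0 1 * z = 0 ∧
      -(x ^ 2) - y * z = 1 := by
  have hdisc := tr_sq_sub_four A
  have hne : (tr A) ^ 2 - 4 ≠ 0 := sub_ne_zero.2 ht
  by_cases hc : A.1 1 0 = 0
  · have had : A.1 0 0 - A.1 1 1 ≠ 0 := by
      intro h
      apply hne
      rw [hdisc, h, hc]; ring
    by_cases hb : A.1 0 1 = 0
    · exact ⟨0, 1, -1, by rw [hc, hb]; ring, by ring⟩
    · refine ⟨1, 2 * A.1 0 1 / (A.1 0 0 - A.1 1 1), -(A.1 0 0 - A.1 1 1) / A.1 0 1, ?_, ?_⟩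
      · rw [hc]; field_simp; ring
      · field_simp; ring
  · by_cases h2 : (2 : F) = 0
    · refine ⟨1, -(A.1 0 0 - A.1 1 1) / A.1 1 0, 0, ?_, ?_⟩
      · field_simp; ring
      · linear_combination (-1 : F) * h2
    · have hodd : Fintype.card F % 2 = 1 := by
        rcases Nat.even_or_odd (Fintype.card F) with he | ho
        · exact absurd (Cfsg.Agent.Helper5.two_eq_zero_of_even_card he) h2
        · exact Nat.odd_iff.1 ho
      have h4 : (4 : F) ≠ 0 := by
        have : (4 : F) = 2 * 2 := by norm_num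
        rw [this]; exact mul_ne_zero h2 h2
      have hδ : -((tr A) ^ 2 - 4) / 4 ≠ 0 := by
        apply div_ne_zero _ h4
        exact neg_ne_zero.2 hne
      obtain ⟨X, z, hXz⟩ := Cfsg.Agent.Helper41.exists_quadratic_sol hodd (1 : F) 0
        ((A.1 1 0) ^ 2) (-((tr A) ^ 2 - 4) / 4) one_ne_zero hδ
      have h : 4 * X ^ 2 + 4 * (A.1 1 0) ^ 2 -
          ((A.1 0 0 - A.1 1 1) ^ 2 + 4 * A.1 0 1 * A.1 1 0) * z ^ 2 = 0 := by
        have h' := hXz
        rw [hdisc] at h'
        field_simp at h'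
        linear_combination h'
      have h2c : 2 * A.1 1 0 ≠ 0 := mul_ne_zero h2 hc
      obtain ⟨x, hx⟩ : ∃ x : F, 2 * A.1 1 0 * x = 2 * X + (A.1 0 0 - A.1 1 1) * z :=
        ⟨(2 * X + (A.1 0 0 - A.1 1 1) * z) / (2 * A.1 1 0), by field_simp⟩
      obtain ⟨y, hy⟩ : ∃ y : F, A.1 1 0 * y = -(x * (A.1 0 0 - A.1 1 1) + A.1 0 1 * z) :=
        ⟨-(x * (A.1 0 0 - A.1 1 1) + A.1 0 1 * z) / A.1 1 0, by field_simp⟩
      refine ⟨x, y, z, by linear_combination hy, ?_⟩
      have key : 4 * A.1 1 0 * (A.1 1 0 * x ^ 2 - (A.1 0 0 - A.1 1 1) * x * z - A.1 0 1 * z ^ 2 +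
          A.1 1 0) = 0 := by
        have e1 : (2 * A.1 1 0 * x) ^ 2 = (2 * X + (A.1 0 0 - A.1 1 1) * z) ^ 2 := by rw [hx]
        linear_combination e1 - 2 * (A.1 0 0 - A.1 1 1) * z * hx + h
      have h4c : 4 * A.1 1 0 ≠ 0 := mul_ne_zero h4 hc
      have key2 := (mul_eq_zero.1 key).resolve_left h4c
      have e2 : A.1 1 0 * (-(x ^ 2) - y * z - 1) = 0 := by
        linear_combination (-1 : F) * key2 - z * hy
      have e3 := (mul_eq_zero.1 e2).resolve_left hc
      linear_combination e3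

theorem exists_invert (A : Matrix.SpecialLinearGroup (Fin 2) F) (ht : (tr A) ^ 2 ≠ 4) :
    ∃ W : Matrix.SpecialLinearGroup (Fin 2) F, W.1 0 0 + W.1 1 1 = 0 ∧ W * A * W⁻¹ = A⁻¹ := by
  obtain ⟨x, y, z, h1, h2⟩ := exists_invert_params A ht
  refine ⟨mk4 x y z (-x) (by linear_combination h2), by simp, ?_⟩
  rw [mul_inv_eq_iff_eq_mul]
  have hd := det' A
  apply ext'
  · rw [mul_00, mul_00, inv_00, inv_01]
    simp only [mk4_00, mk4_01, mk4_10, mk4_11]
    linear_combination h1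
  · rw [mul_01, mul_01, inv_00, inv_01]
    simp only [mk4_00, mk4_01, mk4_10, mk4_11]
    ring
  · rw [mul_10, mul_10, inv_10, inv_11]
    simp only [mk4_00, mk4_01, mk4_10, mk4_11]
    ring
  · rw [mul_11, mul_11, inv_10, inv_11]
    simp only [mk4_00, mk4_01, mk4_10, mk4_11]
    linear_combination h1

end Solve

section PSLlevel

variable {F : Type*} [Field F]

theorem tr_sq_ne_four_of_orderOf (p : ℕ) [Fact p.Prime] [CharP F p]
    (A : Matrix.SpecialLinearGroup (Fin 2) F) {n : ℕ}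
    (hn : orderOf (QuotientGroup.mk' (Subgroup.center (Matrix.SpecialLinearGroup (Fin 2) F)) A) = n)
    (hn2 : 2 ≤ n) (hcop : Nat.Coprime n p) : (tr A) ^ 2 ≠ 4 := by
  intro h
  obtain ⟨c, hc⟩ := exists_conj_mem_PU_of_tr A h
  obtain ⟨h10, h01, h00, h11⟩ := PU_pow_char p hc
  have hcen : (c * A * c⁻¹) ^ p ∈ Subgroup.center (Matrix.SpecialLinearGroup (Fin 2) F) := by
    rw [mem_center_iff']
    exact ⟨h01, h10, by rw [h00, h11]⟩
  rw [conj_pow] at hcen
  have hcen2 : A ^ p ∈ Subgroup.center (Matrix.SpecialLinearGroup (Fin 2) F) := by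
    have := (Subgroup.center (Matrix.SpecialLinearGroup (Fin 2) F)).normal_of_characteristic.conj_mem
      _ hcen c⁻¹
    have e : c⁻¹ * (c * A ^ p * c⁻¹) * c⁻¹⁻¹ = A ^ p := by group
    rwa [e] at this
  have hpow : (QuotientGroup.mk' (Subgroup.center (Matrix.SpecialLinearGroup (Fin 2) F)) A) ^ p = 1 := by
    rw [← map_pow]
    exact (QuotientGroup.eq_one_iff _).2 hcen2
  have hdvd : n ∣ p := by
    rw [← hn]
    exact orderOf_dvd_of_pow_eq_one hpow
  have := Nat.Coprime.eq_one_of_dvd hcop hdvd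
  omega

theorem exists_inverting_involution [Fintype F] (p : ℕ) [Fact p.Prime] [CharP F p]
    (g : Matrix.ProjectiveSpecialLinearGroup (Fin 2) F) {n : ℕ} (hn : orderOf g = n)
    (hn2 : 2 ≤ n) (hcop : Nat.Coprime n p) :
    ∃ w : Matrix.ProjectiveSpecialLinearGroup (Fin 2) F,
      w * w = 1 ∧ w * g * w⁻¹ = g⁻¹ ∧ w ∉ Subgroup.zpowers g := by
  obtain ⟨A, rfl⟩ := QuotientGroup.mk'_surjective
    (Subgroup.center (Matrix.SpecialLinearGroup (Fin 2) F)) g
  have ht := tr_sq_ne_four_of_orderOf p A hn hn2 hcop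
  obtain ⟨W, hW0, hWA⟩ := exists_invert A ht
  set π := QuotientGroup.mk' (Subgroup.center (Matrix.SpecialLinearGroup (Fin 2) F)) with hπ
  have hW11 : W.1 1 1 = -W.1 0 0 := by linear_combination hW0
  refine ⟨π W, ?_, ?_, ?_⟩
  · rw [← map_mul]
    apply (QuotientGroup.eq_one_iff _).2
    rw [mem_center_iff', mul_01, mul_10, mul_00, mul_11, hW11]
    refine ⟨by ring, by ring, by ring⟩
  · rw [← map_inv, ← map_mul, ← map_mul, hWA, map_inv]
  · intro hmem
    obtain ⟨k, hk⟩ := Subgroup.mem_zpowers_iff.1 hmem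
    rw [← map_zpow] at hk
    have hz : (A ^ k)⁻¹ * W ∈ Subgroup.center (Matrix.SpecialLinearGroup (Fin 2) F) :=
      QuotientGroup.eq.1 hk
    have hcomm : Commute W A := by
      have e : W = A ^ k * ((A ^ k)⁻¹ * W) := by group
      rw [e]
      apply Commute.mul_left
      · exact (Commute.refl A).zpow_left k
      · exact (Subgroup.mem_center_iff.1 hz A).symm
    have hAA : A = A⁻¹ := by
      rw [← hWA, hcomm.eq, mul_inv_cancel_right]
    apply ht
    have h00 : A.1 0 0 = A.1 1 1 := by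
      have : A.1 0 0 = (A⁻¹).1 0 0 := by rw [← hAA]
      rw [inv_00] at this
      exact this
    have h01 : 2 * A.1 0 1 = 0 := by
      have : A.1 0 1 = (A⁻¹).1 0 1 := by rw [← hAA]
      rw [inv_01] at this
      linear_combination this
    have := tr_sq_sub_four A
    rw [h00] at this
    linear_combination this + 2 * A.1 1 0 * h01

/-- the dihedral subgroup generated by an element of order `n` prime to `p` and an inverting
involution -/
theorem exists_dihedral_of_orderOf [Fintype F] (p : ℕ) [Fact p.Prime] [CharP F p]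
    (g : Matrix.ProjectiveSpecialLinearGroup (Fin 2) F) {n : ℕ} (hn : orderOf g = n)
    (hn2 : 2 ≤ n) (hcop : Nat.Coprime n p) :
    ∃ (D : Subgroup (Matrix.ProjectiveSpecialLinearGroup (Fin 2) F))
      (w : Matrix.ProjectiveSpecialLinearGroup (Fin 2) F),
      g ∈ D ∧ w ∈ D ∧ w * w = 1 ∧ w * g * w⁻¹ = g⁻¹ ∧ Nonempty (D ≃* DihedralGroup n) := by
  obtain ⟨w, hw2, hrel, hw⟩ := exists_inverting_involution p g hn hn2 hcop
  obtain ⟨D, hgD, hwD, hD⟩ := Cfsg.Agent.Helper46.exists_dihedral_subgroup g w n hn hw2 hrel hw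
  exact ⟨D, w, hgD, hwD, hw2, hrel, hD⟩

end PSLlevel

end Cfsg.Agent.Helper46.Dk
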