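import Mathlib
import Cfsg.Agent.Helper46.PSL2Invert

set_option autoImplicit false

/-!
# Auxiliary facts for the maximality of the dihedral subgroups of `PSL₂(q)`
-/

namespace Cfsg.Agent.Helper46.Dk

open Matrix

set_option maxRecDepth 100000 in
theorem a4_inverted : ∀ σ τ : alternatingGroup (Fin 4),
    τ * τ = 1 → τ * σ * τ⁻¹ = σ⁻¹ → σ * σ = 1 := by
  decide

set_option maxRecDepth 100000 in
theorem s4_orders : ∀ σ : Equiv.Perm (Fin 4), σ ^ 4 = 1 ∨ σ ^ 3 = 1 := by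
  decide

set_option maxRecDepth 100000 in
theorem a5_orders : ∀ σ : alternatingGroup (Fin 5), σ ^ 2 = 1 ∨ σ ^ 3 = 1 ∨ σ ^ 5 = 1 := by
  decide

section PGL

variable {K : Type*} [Field K]

theorem pgl2_sq_mem_range (x : Matrix.ProjGenLinGroup (Fin 2) K) :
    ∃ s : Matrix.ProjectiveSpecialLinearGroup (Fin 2) K,
      x ^ 2 = Matrix.ProjectiveSpecialLinearGroup.toPGL s := by
  obtain ⟨X, rfl⟩ := Matrix.ProjGenLinGroup.mk_surjective x
  have hdet : (X.1.det) ≠ 0 := by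
    have := X.det.ne_zero
    simpa using this
  have hS : ((X.1.det)⁻¹ • (X.1 * X.1)).det = 1 := by
    rw [Matrix.det_smul, Matrix.det_mul, Fintype.card_fin]
    field_simp
  let S : Matrix.SpecialLinearGroup (Fin 2) K := ⟨(X.1.det)⁻¹ • (X.1 * X.1), hS⟩
  refine ⟨QuotientGroup.mk' _ S, ?_⟩
  have h1 : Matrix.ProjectiveSpecialLinearGroup.toPGL (QuotientGroup.mk' _ S) =
      Matrix.ProjGenLinGroup.mk (Matrix.SpecialLinearGroup.toGL S) :=
    Matrix.ProjectiveSpecialLinearGroup.toPGL_mk S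
  rw [h1, ← map_pow, eq_comm, Matrix.ProjGenLinGroup.mk_eq_mk_iff]
  refine ⟨Units.mk0 _ hdet, ?_⟩
  apply Units.ext
  simp only [Units.val_mul, Units.val_pow_eq_pow_val, Matrix.GeneralLinearGroup.coe_scalar]
  ext i j
  rw [Matrix.SpecialLinearGroup.coe_GL_coe_matrix]
  simp [S, pow_two, Matrix.mul_apply, Matrix.scalar_apply, Matrix.diagonal_apply]
  field_simp

theorem pgl2_orderOf_dvd [Fintype K] (p : ℕ) [Fact p.Prime] [CharP K p]
    (x : Matrix.ProjGenLinGroup (Fin 2) K) :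
    orderOf x ∣ 2 * p ∨
      orderOf x ∣ 2 * ((Fintype.card K - 1) / Nat.gcd 2 (Fintype.card K - 1)) ∨
      orderOf x ∣ 2 * ((Fintype.card K + 1) / Nat.gcd 2 (Fintype.card K - 1)) := by
  obtain ⟨s, hs⟩ := pgl2_sq_mem_range x
  have h1 : orderOf (x ^ 2) ∣ orderOf s := by
    rw [hs]
    exact orderOf_map_dvd _ s
  have h2 : orderOf x ∣ 2 * orderOf (x ^ 2) := by
    apply orderOf_dvd_of_pow_eq_one
    rw [pow_mul, pow_orderOf_eq_one]
  have h3 : orderOf x ∣ 2 * orderOf s := h2.trans (Nat.mul_dvd_mul_left 2 h1)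
  rcases Cfsg.Agent.Helper41.psl2_orderOf_dvd p s with h | h | h
  · exact Or.inl (h3.trans (Nat.mul_dvd_mul_left 2 h))
  · exact Or.inr (Or.inl (h3.trans (Nat.mul_dvd_mul_left 2 h)))
  · exact Or.inr (Or.inr (h3.trans (Nat.mul_dvd_mul_left 2 h)))

end PGL

section Subfield

variable {F : Type*} [Field F] [Fintype F]

theorem orderOf_equiv_mk {G X : Type*} [Group G] [Group X] (M : Subgroup G) (e : M ≃* X)
    {g : G} (hg : g ∈ M) : orderOf (e ⟨g, hg⟩) = orderOf g := by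
  rw [MulEquiv.orderOf_eq, Subgroup.orderOf_mk]

/-- subgroups of subfield type over a field of the same size are everything -/
theorem eq_top_of_subfield_one (M : Subgroup (Matrix.ProjectiveSpecialLinearGroup (Fin 2) F))
    {K : Type} [Field K] [Fintype K] (hK : Fintype.card K = Fintype.card F)
    (h : Nonempty (M ≃* Matrix.ProjectiveSpecialLinearGroup (Fin 2) K) ∨
      Nonempty (M ≃* Matrix.ProjGenLinGroup (Fin 2) K)) : M = ⊤ := by
  have hG2 := card_PSL2_mul_gcd (F := F)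
  have hd0 : 0 < Nat.gcd 2 (Fintype.card F - 1) := Nat.gcd_pos_of_pos_left _ (by norm_num)
  have hle : Nat.card M ≤ Nat.card (Matrix.ProjectiveSpecialLinearGroup (Fin 2) F) :=
    Nat.le_of_dvd Nat.card_pos (Subgroup.card_subgroup_dvd_card M)
  apply (Subgroup.card_eq_iff_eq_top M).1
  rcases h with ⟨⟨e⟩⟩ | ⟨⟨e⟩⟩
  · have h1 := card_PSL2_mul_gcd (F := K)
    rw [← Nat.card_congr e.toEquiv, hK, ← hG2] at h1
    exact Nat.eq_of_mul_eq_mul_right hd0 h1
  · have h1 := Cfsg.Agent.Helper46.card_PGL2 (K := K)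
    rw [← Nat.card_congr e.toEquiv, hK, ← hG2] at h1
    have : Nat.card (Matrix.ProjectiveSpecialLinearGroup (Fin 2) F) ≤ Nat.card M := by
      rw [h1]
      exact Nat.le_mul_of_pos_right _ hd0
    omega

theorem card_dvd_of_subfield {G : Type*} [Group G] (M : Subgroup G)
    {K : Type} [Field K] [Fintype K]
    (h : Nonempty (M ≃* Matrix.ProjectiveSpecialLinearGroup (Fin 2) K) ∨
      Nonempty (M ≃* Matrix.ProjGenLinGroup (Fin 2) K)) :
    Nat.card M ∣ Fintype.card K * (Fintype.card K ^ 2 - 1) := by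
  rcases h with ⟨⟨e⟩⟩ | ⟨⟨e⟩⟩
  · have h1 := card_PSL2_mul_gcd (F := K)
    rw [← Nat.card_congr e.toEquiv] at h1
    exact ⟨_, h1.symm⟩
  · have h1 := Cfsg.Agent.Helper46.card_PGL2 (K := K)
    rw [← Nat.card_congr e.toEquiv] at h1
    rw [h1]

/-- element orders in subgroups of subfield type -/
theorem orderOf_dvd_of_subfield {G : Type*} [Group G] (M : Subgroup G)
    {K : Type} [Field K] [Fintype K] (p : ℕ) [Fact p.Prime] [CharP K p]
    (h : Nonempty (M ≃* Matrix.ProjectiveSpecialLinearGroup (Fin 2) K) ∨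
      Nonempty (M ≃* Matrix.ProjGenLinGroup (Fin 2) K)) {g : G} (hg : g ∈ M) :
    orderOf g ∣ 2 * p ∨
      orderOf g ∣ 2 * ((Fintype.card K - 1) / Nat.gcd 2 (Fintype.card K - 1)) ∨
      orderOf g ∣ 2 * ((Fintype.card K + 1) / Nat.gcd 2 (Fintype.card K - 1)) := by
  rcases h with ⟨⟨e⟩⟩ | ⟨⟨e⟩⟩
  · rw [← orderOf_equiv_mk M e hg]
    rcases Cfsg.Agent.Helper41.psl2_orderOf_dvd p (e ⟨g, hg⟩) with h | h | h
    · exact Or.inl (h.trans (Dvd.intro_left 2 rfl))
    · exact Or.inr (Or.inl (h.trans (Dvd.intro_left 2 rfl)))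
    · exact Or.inr (Or.inr (h.trans (Dvd.intro_left 2 rfl)))
  · rw [← orderOf_equiv_mk M e hg]
    exact pgl2_orderOf_dvd p (e ⟨g, hg⟩)

end Subfield

end Cfsg.Agent.Helper46.Dk
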