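import Mathlib
import Cfsg.Agent.Helper46.DkTwoGenA
import Cfsg.Agent.Helper46.DkMain2
import Cfsg.Agent.Helper46.DkTraceOrder
import Cfsg.Agent.Helper46.DkNine
import Cfsg.Agent.Helper46.DkFinite
import Cfsg.Agent.Helper46.PSL2MaxAux

set_option autoImplicit false

/-!
# Two unipotent generators: elementary facts
-/

namespace Cfsg.Agent.Helper46.Dk

open Matrix Cfsg.Agent.Helper46.IsCA

set_option maxRecDepth 100000 in
theorem a4_orders : ∀ σ : alternatingGroup (Fin 4), σ ^ 2 = 1 ∨ σ ^ 3 = 1 := by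
  decide

section TwoGen

variable {F : Type*} [Field F]

theorem vV_mul' (a b : F) : vV a * vV b = vV (a + b) := by
  apply ext'
  · rw [mul_00]; simp [vV]
  · rw [mul_01]; simp [vV]
  · rw [mul_10]; simp [vV]
  · rw [mul_11]; simp [vV]

theorem vV_zero' : vV (0 : F) = 1 := by
  apply ext'
  · rw [one_00]; rfl
  · rw [one_01]; rfl
  · rw [one_10]; rfl
  · rw [one_11]; rfl

theorem vV_pow' (a : F) (n : ℕ) : vV a ^ n = vV (n * a) := by
  induction n with
  | zero => rw [pow_zero, Nat.cast_zero, zero_mul, vV_zero']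
  | succ n ih =>
    rw [pow_succ, ih, vV_mul']
    congr 1
    push_cast; ring

theorem uU_pow' (a : F) (n : ℕ) : uU a ^ n = uU (n * a) := by
  induction n with
  | zero => rw [pow_zero, Nat.cast_zero, zero_mul, uU_zero]
  | succ n ih =>
    rw [pow_succ, ih, uU_mul]
    congr 1
    push_cast; ring

theorem vV_not_mem_center (a : F) (ha : a ≠ 0) :
    vV a ∉ Subgroup.center (Matrix.SpecialLinearGroup (Fin 2) F) := by
  intro h
  exact ha ((mem_center_iff' _).1 h).2.1

theorem uU_not_mem_center (a : F) (ha : a ≠ 0) :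
    uU a ∉ Subgroup.center (Matrix.SpecialLinearGroup (Fin 2) F) := by
  intro h
  exact ha ((mem_center_iff' _).1 h).1

/-- the product `[1,0;1,1] [1,λ;0,1]` -/
theorem lu_entries (lam : F) :
    (vV (1 : F) * uU lam).1 0 0 = 1 ∧ (vV (1 : F) * uU lam).1 0 1 = lam ∧
    (vV (1 : F) * uU lam).1 1 0 = 1 ∧ (vV (1 : F) * uU lam).1 1 1 = lam + 1 := by
  refine ⟨?_, ?_, ?_, ?_⟩
  · rw [mul_00]; simp [vV, uU]
  · rw [mul_01]; simp [vV, uU]
  · rw [mul_10]; simp [vV, uU]
  · rw [mul_11]; simp [vV, uU]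

theorem tr_lu (lam : F) : tr (vV (1 : F) * uU lam) = 2 + lam := by
  obtain ⟨h00, -, -, h11⟩ := lu_entries lam
  unfold tr
  rw [h00, h11]; ring

theorem lu_not_mem_center (lam : F) :
    vV (1 : F) * uU lam ∉ Subgroup.center (Matrix.SpecialLinearGroup (Fin 2) F) := by
  intro h
  have := ((mem_center_iff' _).1 h).2.1
  rw [(lu_entries lam).2.2.1] at this
  exact one_ne_zero this

theorem lu_ne_ul (lam : F) (hlam : lam ≠ 0) : vV (1 : F) * uU lam ≠ uU lam * vV 1 := by
  intro h
  have h1 : (vV (1 : F) * uU lam).1 0 0 = (uU lam * vV 1).1 0 0 := by rw [h]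
  rw [(lu_entries lam).1, mul_00] at h1
  simp [vV, uU] at h1
  exact hlam h1

end TwoGen

section Orders

variable {F : Type*} [Field F]

/-- the image in `PSL₂` of a unipotent element has order `p` -/
theorem orderOf_mk_vV (p : ℕ) [Fact p.Prime] [CharP F p] (a : F) (ha : a ≠ 0) :
    orderOf (QuotientGroup.mk' (Subgroup.center (Matrix.SpecialLinearGroup (Fin 2) F)) (vV a)) =
      p := by
  apply orderOf_eq_prime
  · rw [← map_pow, vV_pow', CharP.cast_eq_zero, zero_mul, vV_zero', map_one]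
  · intro h
    exact vV_not_mem_center a ha ((QuotientGroup.eq_one_iff _).1 h)

theorem orderOf_mk_uU (p : ℕ) [Fact p.Prime] [CharP F p] (a : F) (ha : a ≠ 0) :
    orderOf (QuotientGroup.mk' (Subgroup.center (Matrix.SpecialLinearGroup (Fin 2) F)) (uU a)) =
      p := by
  apply orderOf_eq_prime
  · rw [← map_pow, uU_pow', CharP.cast_eq_zero, zero_mul, uU_zero, map_one]
  · intro h
    exact uU_not_mem_center a ha ((QuotientGroup.eq_one_iff _).1 h)

/-- a power of the image being trivial gives a polynomial relation for the trace -/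
theorem chebU_eq_zero_of_mk_pow (A : Matrix.SpecialLinearGroup (Fin 2) F)
    (hA : A ∉ Subgroup.center (Matrix.SpecialLinearGroup (Fin 2) F)) (n : ℕ)
    (h : (QuotientGroup.mk' (Subgroup.center (Matrix.SpecialLinearGroup (Fin 2) F)) A) ^ (n + 1) =
      1) : chebU (tr A) (n + 1) = 0 := by
  apply chebU_eq_zero_of_pow_mem_center A hA n
  rw [← map_pow] at h
  exact (QuotientGroup.eq_one_iff _).1 h

end Orders

end Cfsg.Agent.Helper46.Dk
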