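import Mathlib
import Cfsg.Agent.Helper46.DkTwoGenB
import Cfsg.Agent.Helper46.PSL2Card

set_option autoImplicit false

/-!
# Subgroups of `SL₂(F)` and their images in `PSL₂(F)`: counting
-/

namespace Cfsg.Agent.Helper46.Dk

open Matrix Cfsg.Agent.Helper46.IsCA

section Gen

variable {F : Type*} [Field F]

local notation "SL2F" => Matrix.SpecialLinearGroup (Fin 2) F
local notation "PSL2F" => Matrix.ProjectiveSpecialLinearGroup (Fin 2) F

/-- the square of a trace-zero element is `-1` -/
theorem sq_entries_of_tr_eq_zero (g : SL2F) (h : tr g = 0) :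
    (g ^ 2).1 0 0 = -1 ∧ (g ^ 2).1 0 1 = 0 ∧ (g ^ 2).1 1 0 = 0 ∧ (g ^ 2).1 1 1 = -1 := by
  obtain ⟨h00, h01, h10, h11⟩ := pow_succ_entries g 1
  have e2 : (1 + 1 : ℕ) = 2 := rfl
  rw [e2] at h00 h01 h10 h11
  simp only [h, chebU_two, chebU_one] at h00 h01 h10 h11
  refine ⟨?_, ?_, ?_, ?_⟩
  · rw [h00]; ring
  · rw [h01]; ring
  · rw [h10]; ring
  · rw [h11]; ring

/-- a central element is `1` or the square of any trace-zero element -/
theorem center_eq_one_or (g g0 : SL2F) (hg : g ∈ Subgroup.center SL2F) (h0 : tr g0 = 0) :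
    g = 1 ∨ g = g0 ^ 2 := by
  obtain ⟨h01, h10, h00⟩ := (mem_center_iff' g).1 hg
  obtain ⟨k00, k01, k10, k11⟩ := sq_entries_of_tr_eq_zero g0 h0
  have hdet := det' g
  rw [h01, h10, ← h00] at hdet
  have h1 : (g.1 0 0 - 1) * (g.1 0 0 + 1) = 0 := by linear_combination hdet
  rcases mul_eq_zero.1 h1 with h2 | h2
  · left
    have h3 : g.1 0 0 = 1 := by linear_combination h2
    apply ext'
    · rw [h3, one_00]
    · rw [h01, one_01]
    · rw [h10, one_10]
    · rw [← h00, h3, one_11]
  · right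
    have h3 : g.1 0 0 = -1 := by linear_combination h2
    apply ext'
    · rw [h3, k00]
    · rw [h01, k01]
    · rw [h10, k10]
    · rw [← h00, h3, k11]

/-- a subgroup whose image in `PSL₂` has even order contains the centre -/
theorem center_le_of_even [Finite F] (G0 : Subgroup SL2F)
    (heven : Even (Nat.card (G0.map (QuotientGroup.mk' (Subgroup.center SL2F))))) :
    Subgroup.center SL2F ≤ G0 := by
  classical
  haveI : Fintype F := Fintype.ofFinite F
  have h2 : 2 ∣ Nat.card (G0.map (QuotientGroup.mk' (Subgroup.center SL2F))) :=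
    even_iff_two_dvd.1 heven
  haveI : Fact (Nat.Prime 2) := ⟨Nat.prime_two⟩
  obtain ⟨x, hx⟩ := exists_prime_orderOf_dvd_card' 2 h2
  obtain ⟨g, hg, hgx⟩ := x.2
  have hx1 : (x : PSL2F) ^ 2 = 1 := by
    have h3 : x ^ 2 = 1 := by
      have := pow_orderOf_eq_one x
      rwa [hx] at this
    rw [← Subgroup.coe_pow, h3, Subgroup.coe_one]
  have hx2 : (x : PSL2F) ≠ 1 := by
    intro h
    have : x = 1 := Subtype.ext h
    rw [this, orderOf_one] at hx
    norm_num at hx
  rw [← hgx] at hx1 hx2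
  have hg2 : g ^ 2 ∈ Subgroup.center SL2F := by
    rw [← map_pow] at hx1
    exact (QuotientGroup.eq_one_iff _).1 hx1
  have hg1 : g ∉ Subgroup.center SL2F := by
    intro h
    exact hx2 ((QuotientGroup.eq_one_iff _).2 h)
  have htr := tr_eq_zero_of_sq_mem_center g hg1 hg2
  intro z hz
  rcases center_eq_one_or z g hz htr with rfl | rfl
  · exact G0.one_mem
  · exact G0.pow_mem hg 2

end Gen

section Fin

variable {F : Type*} [Field F] [Fintype F]

local notation "SL2F" => Matrix.SpecialLinearGroup (Fin 2) F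
local notation "PSL2F" => Matrix.ProjectiveSpecialLinearGroup (Fin 2) F

theorem gcd_two_of_two_ne_zero (h2 : (2 : F) ≠ 0) : Nat.gcd 2 (Fintype.card F - 1) = 2 := by
  obtain ⟨p, hp, hc⟩ := exists_char_prime F
  rcases Cfsg.Agent.Helper41.card_field_gcd_two (F := F) p with ⟨hp2, -⟩ | ⟨-, -, hd, -, -⟩
  · exfalso
    apply h2
    subst hp2
    have := CharP.cast_eq_zero F 2
    exact_mod_cast this
  · exact hd

theorem odd_card_of_two_ne_zero (h2 : (2 : F) ≠ 0) : Odd (Fintype.card F) := by
  obtain ⟨p, hp, hc⟩ := exists_char_prime F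
  rcases Cfsg.Agent.Helper41.card_field_gcd_two (F := F) p with ⟨hp2, -⟩ | ⟨-, -, -, hd, -⟩
  · exfalso
    apply h2
    subst hp2
    have := CharP.cast_eq_zero F 2
    exact_mod_cast this
  · exact hd

theorem card_SL2_eq_two_mul (h2 : (2 : F) ≠ 0) : Nat.card SL2F = 2 * Nat.card PSL2F := by
  have h1 := card_PSL2_mul_gcd (F := F)
  rw [gcd_two_of_two_ne_zero h2] at h1
  rw [Cfsg.Agent.Helper5.card_SL2, ← h1, mul_comm]

theorem even_card_PSL2 (h2 : (2 : F) ≠ 0) : Even (Nat.card PSL2F) := by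
  have h1 := card_PSL2_mul_gcd (F := F)
  rw [gcd_two_of_two_ne_zero h2] at h1
  obtain ⟨k, hk⟩ := odd_card_of_two_ne_zero h2
  rw [hk] at h1
  have h3 : (2 * k + 1) ^ 2 - 1 = 4 * (k * (k + 1)) := by
    have : (2 * k + 1) ^ 2 = 4 * (k * (k + 1)) + 1 := by ring
    rw [this]; simp
  rw [h3] at h1
  have h4 : Nat.card PSL2F = 2 * ((2 * k + 1) * (k * (k + 1))) := by
    have : Nat.card PSL2F * 2 = (2 * ((2 * k + 1) * (k * (k + 1)))) * 2 := by
      rw [h1]; ring
    exact Nat.eq_of_mul_eq_mul_right (by norm_num) this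
  rw [h4]
  exact even_two_mul _

/-- the order of a subgroup of `SL₂(F)` whose image in `PSL₂(F)` has even order -/
theorem card_eq_two_mul_of_even (h2 : (2 : F) ≠ 0) (G0 : Subgroup SL2F)
    (heven : Even (Nat.card (G0.map (QuotientGroup.mk' (Subgroup.center SL2F))))) :
    Nat.card G0 = 2 * Nat.card (G0.map (QuotientGroup.mk' (Subgroup.center SL2F))) := by
  have hle := center_le_of_even G0 heven
  have hπ : Function.Surjective (QuotientGroup.mk' (Subgroup.center SL2F)) :=
    QuotientGroup.mk'_surjective _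
  have hcomap : (G0.map (QuotientGroup.mk' (Subgroup.center SL2F))).comap
      (QuotientGroup.mk' (Subgroup.center SL2F)) = G0 := by
    rw [Subgroup.comap_map_eq, QuotientGroup.ker_mk', sup_eq_left]
    exact hle
  have hidx := Subgroup.index_comap_of_surjective
    (G0.map (QuotientGroup.mk' (Subgroup.center SL2F))) hπ
  rw [hcomap] at hidx
  have h3 := G0.card_mul_index
  have h4 := (G0.map (QuotientGroup.mk' (Subgroup.center SL2F))).card_mul_index
  rw [card_SL2_eq_two_mul h2, ← h4, hidx] at h3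
  have hpos : 0 < (G0.map (QuotientGroup.mk' (Subgroup.center SL2F))).index :=
    Nat.pos_of_ne_zero Subgroup.index_ne_zero_of_finite
  have : Nat.card G0 * (G0.map (QuotientGroup.mk' (Subgroup.center SL2F))).index =
      (2 * Nat.card (G0.map (QuotientGroup.mk' (Subgroup.center SL2F)))) *
        (G0.map (QuotientGroup.mk' (Subgroup.center SL2F))).index := by
    rw [h3]; ring
  exact Nat.eq_of_mul_eq_mul_right hpos this

end Fin

end Cfsg.Agent.Helper46.Dk
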