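import Mathlib
import Cfsg.Agent.Helper46.DkTwoGenC

set_option autoImplicit false

/-!
# Two unipotent generators: the image in `PSL₂` and the easy cases of Dickson's list
-/

namespace Cfsg.Agent.Helper46.Dk

open Matrix Cfsg.Agent.Helper46.IsCA

section Gen

variable {F : Type*} [Field F]

local notation "SL2F" => Matrix.SpecialLinearGroup (Fin 2) F
local notation "PSL2F" => Matrix.ProjectiveSpecialLinearGroup (Fin 2) F

/-- the image in `PSL₂` of the group generated by the two transvections -/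
def twoGenH (lam : F) : Subgroup PSL2F :=
  Subgroup.closure {QuotientGroup.mk' (Subgroup.center SL2F) (vV 1),
    QuotientGroup.mk' (Subgroup.center SL2F) (uU lam)}

theorem twoGenH_eq_map (lam : F) :
    twoGenH lam = (Subgroup.closure {vV (1 : F), uU lam}).map
      (QuotientGroup.mk' (Subgroup.center SL2F)) := by
  unfold twoGenH
  rw [MonoidHom.map_closure, Set.image_pair]

/-- the first generator -/
def genL (lam : F) : ↥(twoGenH lam) :=
  ⟨QuotientGroup.mk' (Subgroup.center SL2F) (vV 1),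
    Subgroup.subset_closure (Set.mem_insert _ _)⟩

/-- the second generator -/
def genU (lam : F) : ↥(twoGenH lam) :=
  ⟨QuotientGroup.mk' (Subgroup.center SL2F) (uU lam),
    Subgroup.subset_closure (Set.mem_insert_of_mem _ rfl)⟩

theorem closure_gens (lam : F) : Subgroup.closure {genL lam, genU lam} = ⊤ := by
  have h := Subgroup.closure_closure_coe_preimage
    (k := ({QuotientGroup.mk' (Subgroup.center SL2F) (vV 1),
      QuotientGroup.mk' (Subgroup.center SL2F) (uU lam)} : Set PSL2F))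
  have hs : ((↑) ⁻¹' ({QuotientGroup.mk' (Subgroup.center SL2F) (vV 1),
      QuotientGroup.mk' (Subgroup.center SL2F) (uU lam)} : Set PSL2F) :
      Set ↥(twoGenH lam)) = {genL lam, genU lam} := by
    ext x
    simp only [Set.mem_preimage, Set.mem_insert_iff, Set.mem_singleton_iff]
    constructor
    · rintro (h | h)
      · left; exact Subtype.ext h
      · right; exact Subtype.ext h
    · rintro (h | h)
      · left; rw [h]; rfl
      · right; rw [h]; rfl
  rw [← hs]
  exact h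

/-- a subgroup containing the images of the generators contains the whole image -/
theorem map_mem_of_gens {G' : Type*} [Group G'] (lam : F) (f : ↥(twoGenH lam) →* G')
    (K : Subgroup G') (hL : f (genL lam) ∈ K) (hU : f (genU lam) ∈ K) (x : ↥(twoGenH lam)) :
    f x ∈ K := by
  have h : Subgroup.closure {genL lam, genU lam} ≤ K.comap f := by
    rw [Subgroup.closure_le]
    rintro y (rfl | rfl)
    · exact hL
    · exact hU
  rw [closure_gens] at h
  exact h (Subgroup.mem_top x)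

theorem orderOf_genL (p : ℕ) [Fact p.Prime] [CharP F p] (lam : F) : orderOf (genL lam) = p := by
  rw [← Subgroup.orderOf_coe]
  exact orderOf_mk_vV p 1 one_ne_zero

theorem orderOf_genU (p : ℕ) [Fact p.Prime] [CharP F p] (lam : F) (hlam : lam ≠ 0) :
    orderOf (genU lam) = p := by
  rw [← Subgroup.orderOf_coe]
  exact orderOf_mk_uU p lam hlam

theorem vV_mem_liftSL (lam : F) : vV (1 : F) ∈ liftSL (twoGenH lam) :=
  (genL lam).2

theorem uU_mem_liftSL (lam : F) : uU lam ∈ liftSL (twoGenH lam) :=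
  (genU lam).2

theorem ul_entries (lam : F) :
    (uU lam * vV (1 : F)).1 0 0 = 1 + lam ∧ (uU lam * vV (1 : F)).1 0 1 = lam ∧
    (uU lam * vV (1 : F)).1 1 0 = 1 ∧ (uU lam * vV (1 : F)).1 1 1 = 1 := by
  refine ⟨?_, ?_, ?_, ?_⟩
  · rw [mul_00]; simp [vV, uU]
  · rw [mul_01]; simp [vV, uU]
  · rw [mul_10]; simp [vV, uU]
  · rw [mul_11]; simp [vV, uU]

/-- the generators do not commute in `PSL₂` -/
theorem mk_lu_ne_mk_ul (lam : F) (hlam : lam ≠ 0) :
    (genL lam) * (genU lam) ≠ (genU lam) * (genL lam) := by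
  intro h
  have h1 : QuotientGroup.mk' (Subgroup.center SL2F) (vV 1 * uU lam) =
      QuotientGroup.mk' (Subgroup.center SL2F) (uU lam * vV 1) := by
    rw [map_mul, map_mul]
    exact congrArg Subtype.val h
  have h2 : (vV 1 * uU lam)⁻¹ * (uU lam * vV 1) ∈ Subgroup.center SL2F :=
    QuotientGroup.eq.1 h1
  have h3 := ((mem_center_iff' _).1 h2).1
  obtain ⟨a00, a01, a10, a11⟩ := lu_entries lam
  obtain ⟨b00, b01, b10, b11⟩ := ul_entries lam
  rw [mul_01, inv_00, inv_01, a11, a01, b01, b11] at h3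
  have h4 : lam ^ 2 = 0 := by linear_combination h3
  exact hlam (pow_eq_zero_iff (by norm_num) |>.1 h4)

/-- the cyclic case is impossible -/
theorem twoGen_not_isCyclic (lam : F) (hlam : lam ≠ 0) : ¬ IsCyclic ↥(twoGenH lam) := by
  intro hc
  obtain ⟨g, hg⟩ := hc.exists_generator
  obtain ⟨a, ha⟩ := Subgroup.mem_zpowers_iff.1 (hg (genL lam))
  obtain ⟨b, hb⟩ := Subgroup.mem_zpowers_iff.1 (hg (genU lam))
  apply mk_lu_ne_mk_ul lam hlam
  rw [← ha, ← hb, ← _root_.zpow_add, ← _root_.zpow_add, add_comm]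

/-- the dihedral case is impossible -/
theorem twoGen_not_dihedral [Finite F] (p : ℕ) [Fact p.Prime] [CharP F p] (hp : p ≠ 2) (lam : F)
    (n : ℕ) (hn : ¬ p ∣ n) : IsEmpty (↥(twoGenH lam) ≃* DihedralGroup n) := by
  constructor
  intro e
  have hpp : p.Prime := Fact.out
  have h1 : p ∣ Nat.card ↥(twoGenH lam) := by
    rw [← orderOf_genL p lam]
    exact orderOf_dvd_natCard _
  rw [Nat.card_congr e.toEquiv, DihedralGroup.nat_card] at h1
  rcases (Nat.Prime.dvd_mul hpp).1 h1 with h | h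
  · exact hp ((Nat.prime_dvd_prime_iff_eq hpp Nat.prime_two).1 h)
  · exact hn h

/-- the `S₄` case is impossible -/
theorem twoGen_not_S4 (p : ℕ) [Fact p.Prime] [CharP F p] (hp : p ≠ 2) (lam : F) (hlam : lam ≠ 0) :
    IsEmpty (↥(twoGenH lam) ≃* Equiv.Perm (Fin 4)) := by
  constructor
  intro e
  have hpp : p.Prime := Fact.out
  have hodd : Odd p := hpp.odd_of_ne_two hp
  let f : ↥(twoGenH lam) →* ℤˣ := (Equiv.Perm.sign).comp e.toMonoidHom
  have hodd1 : ∀ x : ↥(twoGenH lam), orderOf x = p → f x = 1 := by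
    intro x hx
    have h1 : f x ^ p = 1 := by rw [← map_pow, ← hx, pow_orderOf_eq_one, map_one]
    rcases Int.units_eq_one_or (f x) with h | h
    · exact h
    · rw [h, hodd.neg_one_pow] at h1
      exact absurd h1 (by decide)
  have hall : ∀ x : ↥(twoGenH lam), f x ∈ (⊥ : Subgroup ℤˣ) :=
    map_mem_of_gens lam f ⊥ (Subgroup.mem_bot.2 (hodd1 _ (orderOf_genL p lam)))
      (Subgroup.mem_bot.2 (hodd1 _ (orderOf_genU p lam hlam)))
  have h2 := hall (e.symm (Equiv.swap 0 1))
  rw [Subgroup.mem_bot] at h2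
  have h3 : f (e.symm (Equiv.swap 0 1)) = Equiv.Perm.sign (Equiv.swap (0 : Fin 4) 1) := by
    show Equiv.Perm.sign (e (e.symm (Equiv.swap 0 1))) = _
    rw [MulEquiv.apply_symm_apply]
  rw [h3, Equiv.Perm.sign_swap (by decide)] at h2
  exact absurd h2 (by decide)

/-- in the Borel case the preimage is conjugate, over `F`, into the upper triangular group -/
theorem borel_rational (H : Subgroup PSL2F) (x₀ : ↥(liftSL H))
    (hx₀ : IsUni (liftRep H) x₀) (htop : Nx x₀ = ⊤) :
    ∃ c₀ : SL2F, ∀ g ∈ liftSL H, (c₀ * g * c₀⁻¹).1 1 0 = 0 := by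
  classical
  let φ := algebraMap F (AlgebraicClosure F)
  have hφ : Function.Injective φ := φ.injective
  have htr : (tr x₀.1) ^ 2 = 4 := by
    have h1 := hx₀.2
    rw [tr_liftRep] at h1
    apply hφ
    rw [map_pow, h1, map_ofNat]
  obtain ⟨c₀, hc₀⟩ := exists_conj_mem_PU_of_tr x₀.1 htr
  let ĉ := Matrix.SpecialLinearGroup.map φ c₀
  have hentry : ∀ (g : ↥(liftSL H)) (i j : Fin 2),
      (conjRep (liftRep H) ĉ g).1 i j = φ ((c₀ * g.1 * c₀⁻¹).1 i j) := by
    intro g i j
    have : conjRep (liftRep H) ĉ g = Matrix.SpecialLinearGroup.map φ (c₀ * g.1 * c₀⁻¹) := by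
      rw [conjRep_apply, map_mul, map_mul, map_inv]
      rfl
    rw [this]
    rfl
  have hmem : conjRep (liftRep H) ĉ x₀ ∈ (PU : Subgroup _) := by
    constructor
    · rw [hentry, hc₀.1, map_zero]
    · rw [hentry, hentry, hc₀.2]
  have hF : UniFrame (conjRep (liftRep H) ĉ) x₀ := by
    refine ⟨conjRep_injective _ ĉ (liftRep_injective H), hmem, ?_⟩
    apply PU_entry_ne_zero hmem
    have := hx₀.1
    rw [← Zr_conjRep _ ĉ, mem_Zr] at this
    exact this
  refine ⟨c₀, ?_⟩
  intro g hg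
  have h1 : (⟨g, hg⟩ : ↥(liftSL H)) ∈ Bg (conjRep (liftRep H) ĉ) := by
    rw [← hF.Nx_eq, htop]; trivial
  rw [mem_Bg, mem_BB, hentry] at h1
  apply hφ
  rw [h1, map_zero]

/-- an upper triangular matrix of trace `2` is unitriangular -/
theorem mem_UU_of_BB_of_tr {g : SL2F} (hg : g ∈ (BB : Subgroup SL2F)) (ht : tr g = 2) :
    g ∈ (UU : Subgroup SL2F) := by
  apply mem_UU_of_BB_of_eq_one hg
  have h1 := BB_diag_mul hg
  unfold tr at ht
  have h2 : (g.1 0 0 - 1) ^ 2 = 0 := by linear_combination (-1 : F) * h1 + (g.1 0 0) * ht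
  have h3 := pow_eq_zero_iff (two_ne_zero) |>.1 h2
  linear_combination h3

theorem tr_vV (a : F) : tr (vV a) = 2 := by
  unfold tr; simp [vV]; norm_num

theorem tr_uU (a : F) : tr (uU a) = 2 := by
  unfold tr; simp [uU]; norm_num

/-- the Borel case is impossible -/
theorem twoGen_not_borel (lam : F) (hlam : lam ≠ 0) (x₀ : ↥(liftSL (twoGenH lam)))
    (hx₀ : IsUni (liftRep (twoGenH lam)) x₀) (htop : Nx x₀ = ⊤) : False := by
  obtain ⟨c₀, hc₀⟩ := borel_rational (twoGenH lam) x₀ hx₀ htop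
  have hL : c₀ * vV 1 * c₀⁻¹ ∈ (UU : Subgroup SL2F) := by
    apply mem_UU_of_BB_of_tr (hc₀ _ (vV_mem_liftSL lam))
    rw [tr_conj, tr_vV]
  have hU : c₀ * uU lam * c₀⁻¹ ∈ (UU : Subgroup SL2F) := by
    apply mem_UU_of_BB_of_tr (hc₀ _ (uU_mem_liftSL lam))
    rw [tr_conj, tr_uU]
  have hcomm : (c₀ * vV 1 * c₀⁻¹) * (c₀ * uU lam * c₀⁻¹) =
      (c₀ * uU lam * c₀⁻¹) * (c₀ * vV 1 * c₀⁻¹) := by
    rw [eq_uU_of_mem_UU hL, eq_uU_of_mem_UU hU, uU_mul, uU_mul, add_comm]
  apply lu_ne_ul lam hlam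
  have h1 : c₀ * (vV 1 * uU lam) * c₀⁻¹ = c₀ * (uU lam * vV 1) * c₀⁻¹ := by
    have e1 : c₀ * (vV 1 * uU lam) * c₀⁻¹ = (c₀ * vV 1 * c₀⁻¹) * (c₀ * uU lam * c₀⁻¹) := by
      group
    have e2 : c₀ * (uU lam * vV 1) * c₀⁻¹ = (c₀ * uU lam * c₀⁻¹) * (c₀ * vV 1 * c₀⁻¹) := by
      group
    rw [e1, e2, hcomm]
  exact mul_left_cancel (mul_right_cancel h1)

end Gen

end Cfsg.Agent.Helper46.Dk
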