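import Mathlib
import Cfsg.Agent.Helper46.DkTwoGenD

set_option autoImplicit false

/-!
# Two unipotent generators: the cases `A₄`, `A₅` and the subfield cases
-/

namespace Cfsg.Agent.Helper46.Dk

open Matrix Cfsg.Agent.Helper46.IsCA

section Gen

variable {F : Type*} [Field F]

local notation "SL2F" => Matrix.SpecialLinearGroup (Fin 2) F
local notation "PSL2F" => Matrix.ProjectiveSpecialLinearGroup (Fin 2) F

/-- a power relation in an isomorphic copy of the image gives a power in the centre -/
theorem pow_mem_center_of_equiv {X : Type*} [Group X] (H : Subgroup PSL2F) (e : ↥H ≃* X)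
    (x : ↥H) (g : SL2F) (hxg : (x : PSL2F) = QuotientGroup.mk' (Subgroup.center SL2F) g) (n : ℕ)
    (h : (e x) ^ n = 1) : g ^ n ∈ Subgroup.center SL2F := by
  rw [← map_pow] at h
  have h1 : x ^ n = 1 := e.injective (by rw [h, map_one])
  have h2 : ((x ^ n : ↥H) : PSL2F) = 1 := by rw [h1]; rfl
  rw [Subgroup.coe_pow, hxg, ← map_pow] at h2
  exact (QuotientGroup.eq_one_iff _).1 h2

theorem coe_genL_mul_genU (lam : F) :
    ((genL lam * genU lam : ↥(twoGenH lam)) : PSL2F) =
      QuotientGroup.mk' (Subgroup.center SL2F) (vV 1 * uU lam) := by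
  rw [map_mul]; rfl

theorem coe_genL_mul_genU_inv (lam : F) :
    ((genL lam * (genU lam)⁻¹ : ↥(twoGenH lam)) : PSL2F) =
      QuotientGroup.mk' (Subgroup.center SL2F) (vV 1 * uU (-lam)) := by
  rw [map_mul, ← uU_inv', map_inv]; rfl

end Gen

section Fin

variable {F : Type*} [Field F] [Fintype F]

local notation "SL2F" => Matrix.SpecialLinearGroup (Fin 2) F
local notation "PSL2F" => Matrix.ProjectiveSpecialLinearGroup (Fin 2) F

/-- the case `A₄` -/
theorem twoGen_A4 (p : ℕ) [Fact p.Prime] [CharP F p] (hp : p ≠ 2) (lam : F)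
    (hgen : Subfield.closure ({lam} : Set F) = ⊤)
    (e : ↥(twoGenH lam) ≃* alternatingGroup (Fin 4)) :
    Nat.card ↥(twoGenH lam) = Nat.card PSL2F := by
  have hpp : p.Prime := Fact.out
  have hcardH : Nat.card ↥(twoGenH lam) = 12 := by
    rw [Nat.card_congr e.toEquiv, card_A4']
  -- `p = 3`
  have hp3 : p = 3 := by
    have h1 : p ∣ Nat.card ↥(twoGenH lam) := by
      rw [← orderOf_genL p lam]
      exact orderOf_dvd_natCard _
    rw [hcardH] at h1
    have h2 : p ∣ 2 * (2 * 3) := h1
    rcases (Nat.Prime.dvd_mul hpp).1 h2 with h | h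
    · exact absurd ((Nat.prime_dvd_prime_iff_eq hpp Nat.prime_two).1 h) hp
    · rcases (Nat.Prime.dvd_mul hpp).1 h with h | h
      · exact absurd ((Nat.prime_dvd_prime_iff_eq hpp Nat.prime_two).1 h) hp
      · exact (Nat.prime_dvd_prime_iff_eq hpp Nat.prime_three).1 h
  -- `lam` is an integer
  have hint : ∃ k : ℤ, lam = k := by
    rcases a4_orders (e (genL lam * genU lam)) with h | h
    · have h1 := pow_mem_center_of_equiv _ e _ _ (coe_genL_mul_genU lam) 2 h
      have h2 := tr_eq_zero_of_sq_mem_center _ (lu_not_mem_center lam) h1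
      rw [tr_lu] at h2
      exact ⟨-2, by push_cast; linear_combination h2⟩
    · have h1 := pow_mem_center_of_equiv _ e _ _ (coe_genL_mul_genU lam) 3 h
      have h2 := tr_sq_eq_one_of_cube_mem_center _ (lu_not_mem_center lam) h1
      rw [tr_lu] at h2
      have h3 : (lam + 1) * (lam + 3) = 0 := by linear_combination h2
      rcases mul_eq_zero.1 h3 with h4 | h4
      · exact ⟨-1, by push_cast; linear_combination h4⟩
      · exact ⟨-3, by push_cast; linear_combination h4⟩
  obtain ⟨k, hk⟩ := hint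
  have hq := card_eq_char_of_intCast p hp lam hgen k hk
  rw [hp3] at hq
  have h2 : (2 : F) ≠ 0 := by
    intro h
    have h3 : ((2 : ℕ) : F) = 0 := by exact_mod_cast h
    rw [CharP.cast_eq_zero_iff F p, hp3] at h3
    norm_num at h3
  have h1 := card_PSL2_mul_gcd (F := F)
  rw [gcd_two_of_two_ne_zero h2, hq] at h1
  rw [hcardH]
  omega

/-- trace relations from the element orders of `A₅` -/
theorem a5_trace_rel (H : Subgroup PSL2F) (e : ↥H ≃* alternatingGroup (Fin 5)) (x : ↥H) (g : SL2F)
    (hxg : (x : PSL2F) = QuotientGroup.mk' (Subgroup.center SL2F) g)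
    (hg : g ∉ Subgroup.center SL2F) :
    tr g = 0 ∨ (tr g) ^ 2 = 1 ∨ (tr g) ^ 4 - 3 * (tr g) ^ 2 + 1 = 0 := by
  rcases a5_orders (e x) with h | h | h
  · exact Or.inl (tr_eq_zero_of_sq_mem_center _ hg (pow_mem_center_of_equiv _ e _ _ hxg 2 h))
  · exact Or.inr (Or.inl
      (tr_sq_eq_one_of_cube_mem_center _ hg (pow_mem_center_of_equiv _ e _ _ hxg 3 h)))
  · exact Or.inr (Or.inr
      (tr_of_pow_five_mem_center _ hg (pow_mem_center_of_equiv _ e _ _ hxg 5 h)))

/-- the case `A₅` -/
theorem twoGen_A5 (p : ℕ) [Fact p.Prime] [CharP F p] (hp : p ≠ 2) (lam : F) (hlam : lam ≠ 0)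
    (hgen : Subfield.closure ({lam} : Set F) = ⊤)
    (e : ↥(twoGenH lam) ≃* alternatingGroup (Fin 5)) :
    Nat.card ↥(twoGenH lam) = Nat.card PSL2F ∨
      (Fintype.card F = 9 ∧ lam ^ 2 = -1 ∧ Nat.card ↥(twoGenH lam) = 60) := by
  have hpp : p.Prime := Fact.out
  have hcardH : Nat.card ↥(twoGenH lam) = 60 := by
    rw [Nat.card_congr e.toEquiv, card_A5']
  have h2 : (2 : F) ≠ 0 := by
    intro h
    have h3 : ((2 : ℕ) : F) = 0 := by exact_mod_cast h
    rw [CharP.cast_eq_zero_iff F p] at h3
    exact hp ((Nat.prime_dvd_prime_iff_eq hpp Nat.prime_two).1 h3)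
  have hPSL := card_PSL2_mul_gcd (F := F)
  rw [gcd_two_of_two_ne_zero h2] at hPSL
  -- `p = 3` or `p = 5`
  have hp35 : p = 3 ∨ p = 5 := by
    have h1 : p ∣ Nat.card ↥(twoGenH lam) := by
      rw [← orderOf_genL p lam]
      exact orderOf_dvd_natCard _
    rw [hcardH] at h1
    have h2 : p ∣ 2 * (2 * (3 * 5)) := h1
    rcases (Nat.Prime.dvd_mul hpp).1 h2 with h | h
    · exact absurd ((Nat.prime_dvd_prime_iff_eq hpp Nat.prime_two).1 h) hp
    · rcases (Nat.Prime.dvd_mul hpp).1 h with h | h
      · exact absurd ((Nat.prime_dvd_prime_iff_eq hpp Nat.prime_two).1 h) hp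
      · rcases (Nat.Prime.dvd_mul hpp).1 h with h | h
        · exact Or.inl ((Nat.prime_dvd_prime_iff_eq hpp Nat.prime_three).1 h)
        · exact Or.inr ((Nat.prime_dvd_prime_iff_eq hpp Nat.prime_five).1 h)
  have hrel1 := a5_trace_rel _ e _ _ (coe_genL_mul_genU lam) (lu_not_mem_center lam)
  have hrel2 := a5_trace_rel _ e _ _ (coe_genL_mul_genU_inv lam) (lu_not_mem_center (-lam))
  rw [tr_lu] at hrel1 hrel2
  rcases hp35 with hp3 | hp5
  · -- characteristic 3
    have h3 : (3 : F) = 0 := by
      have : ((3 : ℕ) : F) = 0 := by rw [CharP.cast_eq_zero_iff F p, hp3]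
      exact_mod_cast this
    have hnotint : ∀ k : ℤ, lam ≠ k := by
      intro k hk
      have hq := card_eq_char_of_intCast p hp lam hgen k hk
      rw [hp3] at hq
      rw [hq] at hPSL
      have hle : Nat.card ↥(twoGenH lam) ≤ Nat.card PSL2F :=
        Nat.le_of_dvd Nat.card_pos (Subgroup.card_subgroup_dvd_card _)
      rw [hcardH] at hle
      omega
    have hq1 : (2 + lam) ^ 4 - 3 * (2 + lam) ^ 2 + 1 = 0 := by
      rcases hrel1 with h | h | h
      · exact absurd (show lam = ((-2 : ℤ) : F) by push_cast; linear_combination h) (hnotint _)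
      · have h4 : (lam + 1) * (lam + 3) = 0 := by linear_combination h
        rcases mul_eq_zero.1 h4 with h5 | h5
        · exact absurd (show lam = ((-1 : ℤ) : F) by push_cast; linear_combination h5)
            (hnotint _)
        · exact absurd (show lam = ((-3 : ℤ) : F) by push_cast; linear_combination h5)
            (hnotint _)
      · exact h
    have hq2 : (2 + -lam) ^ 4 - 3 * (2 + -lam) ^ 2 + 1 = 0 := by
      rcases hrel2 with h | h | h
      · exact absurd (show lam = ((2 : ℤ) : F) by push_cast; linear_combination -h) (hnotint _)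
      · have h4 : (lam - 1) * (lam - 3) = 0 := by linear_combination h
        rcases mul_eq_zero.1 h4 with h5 | h5
        · exact absurd (show lam = ((1 : ℤ) : F) by push_cast; linear_combination h5)
            (hnotint _)
        · exact absurd (show lam = ((3 : ℤ) : F) by push_cast; linear_combination h5)
            (hnotint _)
      · exact h
    have hlam2 : lam * (lam ^ 2 + 1) = 0 := by
      linear_combination hq1 - hq2 - (8 * lam + 5 * lam * (lam ^ 2 + 1)) * h3
    have hlam3 : lam ^ 2 = -1 := by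
      rcases mul_eq_zero.1 hlam2 with h | h
      · exact absurd h hlam
      · linear_combination h
    right
    haveI : Fact (Nat.Prime 3) := ⟨Nat.prime_three⟩
    haveI : CharP F 3 := by rw [← hp3]; infer_instance
    exact ⟨card_eq_nine lam hgen hlam3, hlam3, hcardH⟩
  · -- characteristic 5
    have h5 : (5 : F) = 0 := by
      have : ((5 : ℕ) : F) = 0 := by rw [CharP.cast_eq_zero_iff F p, hp5]
      exact_mod_cast this
    have hint : ∃ k : ℤ, lam = k := by
      rcases hrel1 with h | h | h
      · exact ⟨-2, by push_cast; linear_combination h⟩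
      · have h4 : (lam + 1) * (lam + 3) = 0 := by linear_combination h
        rcases mul_eq_zero.1 h4 with h6 | h6
        · exact ⟨-1, by push_cast; linear_combination h6⟩
        · exact ⟨-3, by push_cast; linear_combination h6⟩
      · have h4 : ((2 + lam) ^ 2 + 1) ^ 2 = 0 := by
          linear_combination h + (2 + lam) ^ 2 * h5
        have h6 : (2 + lam) ^ 2 + 1 = 0 := pow_eq_zero_iff (two_ne_zero) |>.1 h4
        have h7 : lam * (lam + 4) = 0 := by linear_combination h6 - h5
        rcases mul_eq_zero.1 h7 with h8 | h8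
        · exact absurd h8 hlam
        · exact ⟨-4, by push_cast; linear_combination h8⟩
    obtain ⟨k, hk⟩ := hint
    have hq := card_eq_char_of_intCast p hp lam hgen k hk
    rw [hp5] at hq
    rw [hq] at hPSL
    left
    rw [hcardH]
    omega

/-- in the subfield cases the subfield has the size of `F` -/
theorem twoGen_card_field (lam : F) (hgen : Subfield.closure ({lam} : Set F) = ⊤)
    (K : Subfield (AlgebraicClosure F))
    (hKtr : ∀ a ∈ K, ∃ γ : ↥(liftSL (twoGenH lam)), tr (liftRep (twoGenH lam) γ) = a)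
    (hlamK : algebraMap F (AlgebraicClosure F) lam ∈ K) :
    Nat.card K = Fintype.card F := by
  let φ := algebraMap F (AlgebraicClosure F)
  have hle : K ≤ φ.fieldRange := by
    intro a ha
    obtain ⟨γ, hγ⟩ := hKtr a ha
    rw [tr_liftRep] at hγ
    exact ⟨tr γ.1, hγ⟩
  have hge : φ.fieldRange ≤ K := by
    rw [RingHom.fieldRange_eq_map, ← hgen, RingHom.map_field_closure, Subfield.closure_le,
      Set.image_singleton, Set.singleton_subset_iff]
    exact hlamK
  have hKeq : K = φ.fieldRange := le_antisymm hle hge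
  rw [hKeq, ← Nat.card_eq_fintype_card]
  exact Nat.card_congr φ.rangeRestrictFieldEquiv.toEquiv.symm

theorem algebraMap_lam_mem (lam : F) (K : Subfield (AlgebraicClosure F))
    (htrK : ∀ γ : ↥(liftSL (twoGenH lam)), tr (liftRep (twoGenH lam) γ) ∈ K) :
    algebraMap F (AlgebraicClosure F) lam ∈ K := by
  have h1 := htrK ⟨vV 1 * uU lam,
    (liftSL (twoGenH lam)).mul_mem (vV_mem_liftSL lam) (uU_mem_liftSL lam)⟩
  rw [tr_liftRep] at h1
  simp only [tr_lu] at h1
  rw [map_add] at h1
  have h2 : algebraMap F (AlgebraicClosure F) 2 ∈ K := by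
    rw [map_ofNat]
    exact ofNat_mem K 2
  have h3 := K.sub_mem h1 h2
  rwa [add_sub_cancel_left] at h3

/-- the case `PSL₂(K)` -/
theorem twoGen_field_PSL (lam : F) (hgen : Subfield.closure ({lam} : Set F) = ⊤)
    (K : Subfield (AlgebraicClosure F)) (hfin : Finite K)
    (hKtr : ∀ a ∈ K, ∃ γ : ↥(liftSL (twoGenH lam)), tr (liftRep (twoGenH lam) γ) = a)
    (htrK : ∀ γ : ↥(liftSL (twoGenH lam)), tr (liftRep (twoGenH lam) γ) ∈ K)
    (e : ↥(twoGenH lam) ≃* Matrix.ProjectiveSpecialLinearGroup (Fin 2) K) :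
    Nat.card ↥(twoGenH lam) = Nat.card PSL2F := by
  classical
  haveI : Fintype K := Fintype.ofFinite K
  have hK := twoGen_card_field lam hgen K hKtr (algebraMap_lam_mem lam K htrK)
  rw [Nat.card_eq_fintype_card] at hK
  have h1 := card_PSL2_mul_gcd (F := K)
  have h2 := card_PSL2_mul_gcd (F := F)
  rw [hK, ← h2, ← Nat.card_congr e.toEquiv] at h1
  exact Nat.eq_of_mul_eq_mul_right (Nat.gcd_pos_of_pos_left _ (by norm_num)) h1

/-- the case `PGL₂(K)` is impossible -/
theorem twoGen_not_field_PGL (p : ℕ) [Fact p.Prime] [CharP F p] (hp : p ≠ 2) (lam : F)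
    (hlam : lam ≠ 0) (K : Subfield (AlgebraicClosure F)) (hfin : Finite K)
    (e : ↥(twoGenH lam) ≃* Matrix.ProjGenLinGroup (Fin 2) K) : False := by
  classical
  haveI : Fintype K := Fintype.ofFinite K
  have hpp : p.Prime := Fact.out
  obtain ⟨m, hm⟩ := hpp.odd_of_ne_two hp
  let T : Matrix.ProjectiveSpecialLinearGroup (Fin 2) K →* Matrix.ProjGenLinGroup (Fin 2) K :=
    Matrix.ProjectiveSpecialLinearGroup.toPGL
  have hodd : ∀ x : ↥(twoGenH lam), orderOf x = p → e x ∈ T.range := by
    intro x hx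
    obtain ⟨s, hs⟩ := pgl2_sq_mem_range (e x)
    have h1 : e x ^ p = 1 := by rw [← map_pow, ← hx, pow_orderOf_eq_one, map_one]
    have h2 : e x = (e x ^ 2) ^ (m + 1) := by
      rw [← pow_mul]
      have : 2 * (m + 1) = p + 1 := by omega
      rw [this, pow_succ, h1, one_mul]
    rw [h2, hs, ← map_pow]
    exact ⟨_, rfl⟩
  have hall : ∀ x : ↥(twoGenH lam), e.toMonoidHom x ∈ T.range :=
    map_mem_of_gens lam e.toMonoidHom T.range (hodd _ (orderOf_genL p lam))
      (hodd _ (orderOf_genU p lam hlam))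
  have htop : T.range = ⊤ := by
    rw [eq_top_iff]
    intro y _
    have := hall (e.symm y)
    rwa [MulEquiv.coe_toMonoidHom, MulEquiv.apply_symm_apply] at this
  have hsurj : Function.Surjective T := MonoidHom.range_eq_top.1 htop
  have hle : Nat.card (Matrix.ProjGenLinGroup (Fin 2) K) ≤
      Nat.card (Matrix.ProjectiveSpecialLinearGroup (Fin 2) K) :=
    Nat.card_le_card_of_surjective T hsurj
  have h2K : (2 : K) ≠ 0 := by
    intro h
    have h3 : ((2 : K) : AlgebraicClosure F) = 0 := by rw [h]; rfl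
    have h4 : algebraMap F (AlgebraicClosure F) 2 = 0 := by
      rw [map_ofNat, ← h3]
      rfl
    have h5 : (2 : F) = 0 := (algebraMap F (AlgebraicClosure F)).injective (by rw [h4, map_zero])
    have h6 : ((2 : ℕ) : F) = 0 := by exact_mod_cast h5
    rw [CharP.cast_eq_zero_iff F p] at h6
    exact hp ((Nat.prime_dvd_prime_iff_eq hpp Nat.prime_two).1 h6)
  have h1 := card_PSL2_mul_gcd (F := K)
  rw [gcd_two_of_two_ne_zero h2K, ← Cfsg.Agent.Helper46.card_PGL2] at h1
  have hpos : 0 < Nat.card (Matrix.ProjectiveSpecialLinearGroup (Fin 2) K) := Nat.card_pos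
  omega

end Fin

end Cfsg.Agent.Helper46.Dk
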