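import Mathlib
import Cfsg.Agent.Helper46.DkTwoGenE

set_option autoImplicit false

/-!
# Two unipotent generators: Dickson's generation theorem
-/

namespace Cfsg.Agent.Helper46.Dk

open Matrix Cfsg.Agent.Helper46.IsCA

section Fin

variable {F : Type*} [Field F] [Fintype F]

local notation "SL2F" => Matrix.SpecialLinearGroup (Fin 2) F
local notation "PSL2F" => Matrix.ProjectiveSpecialLinearGroup (Fin 2) F

/-- the order of the image in `PSL₂(F)` of the group generated by two transvections -/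
theorem twoGen_card (p : ℕ) [Fact p.Prime] [CharP F p] (hp : p ≠ 2) (lam : F) (hlam : lam ≠ 0)
    (hgen : Subfield.closure ({lam} : Set F) = ⊤) :
    Nat.card ↥(twoGenH lam) = Nat.card PSL2F ∨
      (Fintype.card F = 9 ∧ lam ^ 2 = -1 ∧ Nat.card ↥(twoGenH lam) = 60) := by
  classical
  haveI : CharP (AlgebraicClosure F) p :=
    charP_of_injective_algebraMap (algebraMap F (AlgebraicClosure F)).injective p
  haveI : Finite ↥(liftSL (twoGenH lam)) := inferInstance
  obtain ⟨e⟩ := nonempty_equiv_quotient (twoGenH lam)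
  rcases dickson_main' (ρ := liftRep (twoGenH lam)) p (liftRep_injective (twoGenH lam)) with
    h1 | ⟨n, a, ha, hnp, ⟨e1⟩⟩ | ⟨x₀, hx₀, htop⟩ | ⟨⟨e1⟩⟩ | ⟨⟨e1⟩⟩ | ⟨⟨e1⟩⟩ |
    ⟨K, hKfin, hKtr, ⟨⟨e1⟩, htrK⟩ | ⟨⟨e1⟩⟩⟩
  · exact absurd (e.isCyclic.1 h1) (twoGen_not_isCyclic lam hlam)
  · exact ((twoGen_not_dihedral p hp lam n hnp).false (e.symm.trans e1)).elim
  · exact (twoGen_not_borel lam hlam x₀ hx₀ htop).elim
  · exact Or.inl (twoGen_A4 p hp lam hgen (e.symm.trans e1))
  · exact ((twoGen_not_S4 p hp lam hlam).false (e.symm.trans e1)).elim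
  · exact twoGen_A5 p hp lam hlam hgen (e.symm.trans e1)
  · exact Or.inl (twoGen_field_PSL lam hgen K hKfin hKtr htrK (e.symm.trans e1))
  · exact (twoGen_not_field_PGL p hp lam hlam K hKfin (e.symm.trans e1)).elim

/-- **Dickson's generation theorem** for two transvections -/
theorem twoGen_final (h2 : (2 : F) ≠ 0) (lam : F) (hlam : lam ≠ 0)
    (hgen : Subfield.closure ({lam} : Set F) = ⊤) :
    (Subgroup.closure {vV (1 : F), uU lam} = ⊤ ∧ ¬ (Fintype.card F = 9 ∧ lam ^ 2 = -1)) ∨
      (Fintype.card F = 9 ∧ lam ^ 2 = -1 ∧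
        Nat.card ↥(Subgroup.closure {vV (1 : F), uU lam}) = 120) := by
  obtain ⟨p, hpf, hc⟩ := exists_char_prime F
  have hpp : p.Prime := Fact.out
  have hp : p ≠ 2 := by
    rintro rfl
    apply h2
    have := CharP.cast_eq_zero F 2
    exact_mod_cast this
  have hmap := twoGenH_eq_map lam
  rcases twoGen_card p hp lam hlam hgen with h | ⟨h9, hl, h60⟩
  · left
    have heven : Even (Nat.card ↥((Subgroup.closure {vV (1 : F), uU lam}).map
        (QuotientGroup.mk' (Subgroup.center SL2F)))) := by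
      rw [← hmap, h]
      exact even_card_PSL2 h2
    have hcard := card_eq_two_mul_of_even h2 _ heven
    rw [← hmap, h, ← card_SL2_eq_two_mul h2] at hcard
    have htop := (Subgroup.card_eq_iff_eq_top _).1 hcard
    refine ⟨htop, ?_⟩
    rintro ⟨h9, hl⟩
    obtain ⟨n, -, hn⟩ := FiniteField.card F p
    have hp3 : p = 3 := by
      have h1 : p ∣ 3 ^ 2 := by
        have : (3 : ℕ) ^ 2 = p ^ (n : ℕ) := by rw [← hn, h9]; norm_num
        rw [this]
        exact dvd_pow_self p n.pos.ne'
      exact (Nat.prime_dvd_prime_iff_eq hpp Nat.prime_three).1 (hpp.dvd_of_dvd_pow h1)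
    subst hp3
    exact closure_ne_top_of_nine h9 lam hl htop
  · right
    have heven : Even (Nat.card ↥((Subgroup.closure {vV (1 : F), uU lam}).map
        (QuotientGroup.mk' (Subgroup.center SL2F)))) := by
      rw [← hmap, h60]
      decide
    have hcard := card_eq_two_mul_of_even h2 _ heven
    rw [← hmap, h60] at hcard
    exact ⟨h9, hl, hcard⟩

end Fin

end Cfsg.Agent.Helper46.Dk
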