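import Mathlib
import Cfsg.Agent.Helper46.DkTwoGenF
import Cfsg.Agent.Helper46.DkMain3

set_option autoImplicit false

/-!
# Generation of `SL₂` over a subfield extension: preliminaries

`ratSub K` is the subgroup of `SL₂(F)` of matrices with entries in the subfield `K`.
-/

namespace Cfsg.Agent.Helper46.Dk

open Matrix Cfsg.Agent.Helper46.IsCA

section RatSub

variable {F : Type*} [Field F]

local notation "SL2F" => Matrix.SpecialLinearGroup (Fin 2) F
local notation "PSL2F" => Matrix.ProjectiveSpecialLinearGroup (Fin 2) F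

/-- the subgroup of `K`-rational matrices of `SL₂(F)` -/
def ratSub (K : Subfield F) : Subgroup SL2F :=
  (Matrix.SpecialLinearGroup.map K.subtype).range

theorem mem_ratSub (K : Subfield F) (g : SL2F) :
    g ∈ ratSub K ↔ g.1 0 0 ∈ K ∧ g.1 0 1 ∈ K ∧ g.1 1 0 ∈ K ∧ g.1 1 1 ∈ K := by
  constructor
  · rintro ⟨M, rfl⟩
    exact ⟨(M.1 0 0).2, (M.1 0 1).2, (M.1 1 0).2, (M.1 1 1).2⟩
  · rintro ⟨h00, h01, h10, h11⟩
    refine ⟨mk4 ⟨g.1 0 0, h00⟩ ⟨g.1 0 1, h01⟩ ⟨g.1 1 0, h10⟩ ⟨g.1 1 1, h11⟩ ?_, ?_⟩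
    · apply Subtype.ext
      have := det' g
      simpa using this
    · apply ext' <;> rfl

theorem mem_ratSub' (K : Subfield F) (g : SL2F) :
    g ∈ ratSub K ↔ ∀ i j : Fin 2, g.1 i j ∈ K := by
  rw [mem_ratSub]
  constructor
  · rintro ⟨h00, h01, h10, h11⟩ i j
    fin_cases i <;> fin_cases j <;> assumption
  · intro h
    exact ⟨h 0 0, h 0 1, h 1 0, h 1 1⟩

theorem map_subtype_injective (K : Subfield F) :
    Function.Injective (Matrix.SpecialLinearGroup.map (n := Fin 2) K.subtype) := by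
  intro a b hab
  apply ext'
  all_goals
    apply K.subtype_injective
  · exact congrArg (fun g : SL2F => g.1 0 0) hab
  · exact congrArg (fun g : SL2F => g.1 0 1) hab
  · exact congrArg (fun g : SL2F => g.1 1 0) hab
  · exact congrArg (fun g : SL2F => g.1 1 1) hab

theorem card_ratSub (K : Subfield F) :
    Nat.card (ratSub K) = Nat.card (Matrix.SpecialLinearGroup (Fin 2) K) :=
  (Nat.card_congr (MonoidHom.ofInjective (map_subtype_injective K)).toEquiv).symm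

theorem uU_mem_ratSub (K : Subfield F) {a : F} (ha : a ∈ K) : uU a ∈ ratSub K := by
  rw [mem_ratSub]
  exact ⟨K.one_mem, ha, K.zero_mem, K.one_mem⟩

theorem vV_mem_ratSub (K : Subfield F) {a : F} (ha : a ∈ K) : vV a ∈ ratSub K := by
  rw [mem_ratSub]
  exact ⟨K.one_mem, K.zero_mem, ha, K.one_mem⟩

theorem tr_mem_of_mem_ratSub (K : Subfield F) {g : SL2F} (hg : g ∈ ratSub K) : tr g ∈ K := by
  rw [mem_ratSub] at hg
  exact K.add_mem hg.1 hg.2.2.2

end RatSub

section Pairs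

variable {F : Type*} [Field F]

local notation "SL2F" => Matrix.SpecialLinearGroup (Fin 2) F
local notation "PSL2F" => Matrix.ProjectiveSpecialLinearGroup (Fin 2) F

theorem uv_entries (a b : F) :
    (uU a * vV b).1 0 0 = 1 + a * b ∧ (uU a * vV b).1 0 1 = a ∧
    (uU a * vV b).1 1 0 = b ∧ (uU a * vV b).1 1 1 = 1 := by
  refine ⟨?_, ?_, ?_, ?_⟩
  · rw [mul_00]; simp [vV, uU]
  · rw [mul_01]; simp [vV, uU]
  · rw [mul_10]; simp [vV, uU]
  · rw [mul_11]; simp [vV, uU]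

theorem vu_entries (a b : F) :
    (vV b * uU a).1 0 0 = 1 ∧ (vV b * uU a).1 0 1 = a ∧
    (vV b * uU a).1 1 0 = b ∧ (vV b * uU a).1 1 1 = 1 + a * b := by
  refine ⟨?_, ?_, ?_, ?_⟩
  · rw [mul_00]; simp [vV, uU]
  · rw [mul_01]; simp [vV, uU]
  · rw [mul_10]; simp [vV, uU]
  · rw [mul_11]; simp [vV, uU]; ring

theorem tr_uv (a b : F) : tr (uU a * vV b) = 2 + a * b := by
  obtain ⟨h00, -, -, h11⟩ := uv_entries a b
  unfold tr
  rw [h00, h11]; ring

theorem uv_not_mem_center (a b : F) (ha : a ≠ 0) :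
    uU a * vV b ∉ Subgroup.center SL2F := by
  intro h
  have := ((mem_center_iff' _).1 h).1
  rw [(uv_entries a b).2.1] at this
  exact ha this

theorem uv_ne_vu (a b : F) (ha : a ≠ 0) (hb : b ≠ 0) : uU a * vV b ≠ vV b * uU a := by
  intro h
  have h1 : (uU a * vV b).1 0 0 = (vV b * uU a).1 0 0 := by rw [h]
  rw [(uv_entries a b).1, (vu_entries a b).1] at h1
  have : a * b = 0 := by linear_combination h1
  rcases mul_eq_zero.1 this with h2 | h2
  · exact ha h2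
  · exact hb h2

/-- the images in `PSL₂` of `uU a` and `vV b` do not commute -/
theorem mk_uv_ne_mk_vu (a b : F) (ha : a ≠ 0) (hb : b ≠ 0) :
    QuotientGroup.mk' (Subgroup.center SL2F) (uU a) *
        QuotientGroup.mk' (Subgroup.center SL2F) (vV b) ≠
      QuotientGroup.mk' (Subgroup.center SL2F) (vV b) *
        QuotientGroup.mk' (Subgroup.center SL2F) (uU a) := by
  intro h
  rw [← map_mul, ← map_mul] at h
  have h2 : (uU a * vV b)⁻¹ * (vV b * uU a) ∈ Subgroup.center SL2F := QuotientGroup.eq.1 h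
  have h3 := ((mem_center_iff' _).1 h2).1
  obtain ⟨a00, a01, a10, a11⟩ := uv_entries a b
  obtain ⟨b00, b01, b10, b11⟩ := vu_entries a b
  rw [mul_01, inv_00, inv_01, a11, a01, b01, b11] at h3
  have h4 : a ^ 2 * b = 0 := by linear_combination -h3
  rcases mul_eq_zero.1 h4 with h5 | h5
  · exact ha (pow_eq_zero_iff (two_ne_zero) |>.1 h5)
  · exact hb h5

/-- the Borel case is impossible for a subgroup whose preimage contains two non-commuting
elements of trace `2` -/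
theorem not_borel_of_noncomm (H : Subgroup PSL2F) (g1 g2 : SL2F) (h1 : g1 ∈ liftSL H)
    (h2 : g2 ∈ liftSL H) (t1 : tr g1 = 2) (t2 : tr g2 = 2) (hne : g1 * g2 ≠ g2 * g1)
    (x₀ : ↥(liftSL H)) (hx₀ : IsUni (liftRep H) x₀) (htop : Nx x₀ = ⊤) : False := by
  obtain ⟨c₀, hc₀⟩ := borel_rational H x₀ hx₀ htop
  have hL : c₀ * g1 * c₀⁻¹ ∈ (UU : Subgroup SL2F) := by
    apply mem_UU_of_BB_of_tr (hc₀ _ h1)
    rw [tr_conj, t1]
  have hU : c₀ * g2 * c₀⁻¹ ∈ (UU : Subgroup SL2F) := by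
    apply mem_UU_of_BB_of_tr (hc₀ _ h2)
    rw [tr_conj, t2]
  have hcomm : (c₀ * g1 * c₀⁻¹) * (c₀ * g2 * c₀⁻¹) =
      (c₀ * g2 * c₀⁻¹) * (c₀ * g1 * c₀⁻¹) := by
    rw [eq_uU_of_mem_UU hL, eq_uU_of_mem_UU hU, uU_mul, uU_mul, add_comm]
  apply hne
  have h3 : c₀ * (g1 * g2) * c₀⁻¹ = c₀ * (g2 * g1) * c₀⁻¹ := by
    have e1 : c₀ * (g1 * g2) * c₀⁻¹ = (c₀ * g1 * c₀⁻¹) * (c₀ * g2 * c₀⁻¹) := by
      group
    have e2 : c₀ * (g2 * g1) * c₀⁻¹ = (c₀ * g2 * c₀⁻¹) * (c₀ * g1 * c₀⁻¹) := by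
      group
    rw [e1, e2, hcomm]
  exact mul_left_cancel (mul_right_cancel h3)

end Pairs

end Cfsg.Agent.Helper46.Dk
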