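import Mathlib
import Cfsg.Agent.Helper46.SL2SubGenA

set_option autoImplicit false

/-!
# Generation of `SL₂` over a subfield extension: characteristic two
-/

namespace Cfsg.Agent.Helper46.Dk

open Matrix Cfsg.Agent.Helper46.IsCA

set_option maxRecDepth 1000000 in
theorem a4_invol_comm : ∀ σ τ : alternatingGroup (Fin 4), σ ^ 2 = 1 → τ ^ 2 = 1 →
    σ * τ = τ * σ := by
  decide

set_option maxRecDepth 100000 in
theorem s4_exists_order_four : ∃ σ : Equiv.Perm (Fin 4), σ ^ 4 = 1 ∧ σ ^ 2 ≠ 1 := by
  decide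

section CharTwo

variable {F : Type*} [Field F]

local notation "SL2F" => Matrix.SpecialLinearGroup (Fin 2) F
local notation "PSL2F" => Matrix.ProjectiveSpecialLinearGroup (Fin 2) F

/-- the fixed field of a power of the Frobenius map in characteristic two -/
def frobFixedTwo [CharP F 2] (k : ℕ) : Subfield F where
  carrier := {x | x ^ (2 ^ k) = x}
  mul_mem' := by
    intro a b ha hb
    show (a * b) ^ (2 ^ k) = a * b
    rw [mul_pow, ha, hb]
  one_mem' := one_pow _
  add_mem' := by
    intro a b ha hb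
    show (a + b) ^ (2 ^ k) = a + b
    haveI : Fact (Nat.Prime 2) := ⟨Nat.prime_two⟩
    rw [add_pow_char_pow, ha, hb]
  zero_mem' := by
    show (0 : F) ^ (2 ^ k) = 0
    exact zero_pow (pow_ne_zero k (by norm_num))
  neg_mem' := by
    intro a ha
    show (-a) ^ (2 ^ k) = -a
    rw [CharTwo.neg_eq, ha]
  inv_mem' := by
    intro a ha
    show (a⁻¹) ^ (2 ^ k) = a⁻¹
    rw [inv_pow, ha]

theorem center_eq_bot_of_char_two [CharP F 2] : Subgroup.center SL2F = ⊥ := by
  rw [eq_bot_iff]
  intro g hg
  rw [Subgroup.mem_bot]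
  obtain ⟨h01, h10, h00⟩ := (mem_center_iff' g).1 hg
  have hdet := det' g
  rw [h01, h10, ← h00] at hdet
  have h2 : (2 : F) = 0 := CharTwo.two_eq_zero
  have h3 : (g.1 0 0 - 1) ^ 2 = 0 := by
    linear_combination hdet + (1 - g.1 0 0) * h2
  have h4 : g.1 0 0 = 1 := by
    have := pow_eq_zero_iff (two_ne_zero) |>.1 h3
    linear_combination this
  apply ext'
  · rw [h4, one_00]
  · rw [h01, one_01]
  · rw [h10, one_10]
  · rw [← h00, h4, one_11]

theorem mk'_injective_of_char_two [CharP F 2] :
    Function.Injective (QuotientGroup.mk' (Subgroup.center SL2F)) := by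
  rw [← MonoidHom.ker_eq_bot_iff, QuotientGroup.ker_mk', center_eq_bot_of_char_two]

theorem sq_mem_center_of_pow_four [CharP F 2] (g : SL2F)
    (h : g ^ 4 ∈ Subgroup.center SL2F) : g ^ 2 ∈ Subgroup.center SL2F := by
  by_cases hg : g ∈ Subgroup.center SL2F
  · exact Subgroup.pow_mem _ hg 2
  · have h1 := chebU_eq_zero_of_pow_mem_center g hg 3 h
    rw [chebU_four] at h1
    have h2 : (2 : F) = 0 := CharTwo.two_eq_zero
    have h3 : tr g ^ 3 = 0 := by linear_combination h1 + tr g * h2
    have h4 : tr g = 0 := pow_eq_zero_iff (by norm_num) |>.1 h3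
    obtain ⟨k00, k01, k10, k11⟩ := sq_entries_of_tr_eq_zero g h4
    rw [mem_center_iff']
    exact ⟨k01, k10, by rw [k00, k11]⟩

end CharTwo

section Gen

variable {F : Type*} [Field F]

local notation "SL2F" => Matrix.SpecialLinearGroup (Fin 2) F
local notation "PSL2F" => Matrix.ProjectiveSpecialLinearGroup (Fin 2) F

/-- the generating set: upper unitriangular matrices over `F0` and lower unitriangular
matrices with entries in `θ F0` -/
def subGenSet (F0 : Subfield F) (θ : F) : Set SL2F :=
  {g | ∃ c ∈ F0, g = uU c} ∪ {g | ∃ c ∈ F0, g = vV (θ * c)}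

/-- the group they generate -/
def subGenGrp (F0 : Subfield F) (θ : F) : Subgroup SL2F := Subgroup.closure (subGenSet F0 θ)

/-- the field they generate -/
def subGenField (F0 : Subfield F) (θ : F) : Subfield F :=
  Subfield.closure ((F0 : Set F) ∪ {θ})

theorem le_subGenField (F0 : Subfield F) (θ : F) : F0 ≤ subGenField F0 θ :=
  fun _ hx => Subfield.subset_closure (Or.inl hx)

theorem theta_mem_subGenField (F0 : Subfield F) (θ : F) : θ ∈ subGenField F0 θ :=
  Subfield.subset_closure (Or.inr rfl)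

theorem uU_mem_subGenGrp (F0 : Subfield F) (θ : F) {c : F} (hc : c ∈ F0) :
    uU c ∈ subGenGrp F0 θ :=
  Subgroup.subset_closure (Or.inl ⟨c, hc, rfl⟩)

theorem vV_mem_subGenGrp (F0 : Subfield F) (θ : F) {c : F} (hc : c ∈ F0) :
    vV (θ * c) ∈ subGenGrp F0 θ :=
  Subgroup.subset_closure (Or.inr ⟨c, hc, rfl⟩)

theorem vV_theta_mem_subGenGrp (F0 : Subfield F) (θ : F) : vV θ ∈ subGenGrp F0 θ := by
  have := vV_mem_subGenGrp F0 θ F0.one_mem
  rwa [mul_one] at this

theorem subGenGrp_le_ratSub (F0 : Subfield F) (θ : F) :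
    subGenGrp F0 θ ≤ ratSub (subGenField F0 θ) := by
  unfold subGenGrp
  rw [Subgroup.closure_le]
  rintro g (⟨c, hc, rfl⟩ | ⟨c, hc, rfl⟩)
  · exact uU_mem_ratSub _ (le_subGenField F0 θ hc)
  · exact vV_mem_ratSub _ ((subGenField F0 θ).mul_mem (theta_mem_subGenField F0 θ)
      (le_subGenField F0 θ hc))

/-- the unipotent subgroup over `F0` -/
def uUHom (F0 : Subfield F) : Multiplicative F0 →* SL2F where
  toFun c := uU ((Multiplicative.toAdd c : F0) : F)
  map_one' := uU_zero
  map_mul' a b := by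
    show uU (((Multiplicative.toAdd a + Multiplicative.toAdd b : F0)) : F) = _
    rw [Subfield.coe_add, ← uU_mul]

theorem uUHom_injective (F0 : Subfield F) : Function.Injective (uUHom F0) := by
  intro a b hab
  have h1 : (uU ((Multiplicative.toAdd a : F0) : F)).1 0 1 =
      (uU ((Multiplicative.toAdd b : F0) : F)).1 0 1 := congrArg (fun g : SL2F => g.1 0 1) hab
  have h2 : ((Multiplicative.toAdd a : F0) : F) = ((Multiplicative.toAdd b : F0) : F) := h1
  exact Multiplicative.toAdd.injective (Subtype.ext h2)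

theorem uUHom_range_le (F0 : Subfield F) (θ : F) : (uUHom F0).range ≤ subGenGrp F0 θ := by
  rintro _ ⟨c, rfl⟩
  exact uU_mem_subGenGrp F0 θ (Multiplicative.toAdd c).2

/-- the order of `F0` divides the order of the group -/
theorem card_dvd_card_subGenGrp [Finite F] (F0 : Subfield F) (θ : F) :
    Nat.card F0 ∣ Nat.card (subGenGrp F0 θ) := by
  have h1 : Nat.card (uUHom F0).range = Nat.card F0 := by
    rw [← Nat.card_congr (MonoidHom.ofInjective (uUHom_injective F0)).toEquiv]
    exact Nat.card_congr Multiplicative.toAdd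
  rw [← h1]
  exact Subgroup.card_dvd_of_le (uUHom_range_le F0 θ)

end Gen

end Cfsg.Agent.Helper46.Dk
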