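import Mathlib
import Cfsg.Agent.Helper46.SL2SubGenB

set_option autoImplicit false

/-!
# Generation of `SL₂` over a subfield extension: characteristic two, the analysis
-/

namespace Cfsg.Agent.Helper46.Dk

open Matrix Cfsg.Agent.Helper46.IsCA

section Even

variable {F : Type*} [Field F] [Fintype F] [CharP F 2]

local notation "SL2F" => Matrix.SpecialLinearGroup (Fin 2) F
local notation "PSL2F" => Matrix.ProjectiveSpecialLinearGroup (Fin 2) F

/-- the image in `PSL₂(F)` -/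
def subGenH (F0 : Subfield F) (θ : F) : Subgroup PSL2F :=
  (subGenGrp F0 θ).map (QuotientGroup.mk' (Subgroup.center SL2F))

omit [Fintype F] in
theorem liftSL_subGenH (F0 : Subfield F) (θ : F) : liftSL (subGenH F0 θ) = subGenGrp F0 θ := by
  unfold liftSL subGenH
  rw [Subgroup.comap_map_eq, QuotientGroup.ker_mk', center_eq_bot_of_char_two, sup_bot_eq]

theorem card_subGenH (F0 : Subfield F) (θ : F) :
    Nat.card (subGenH F0 θ) = Nat.card (subGenGrp F0 θ) :=
  Subgroup.card_map_of_injective mk'_injective_of_char_two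

omit [Fintype F] [CharP F 2] in
theorem mk_mem_subGenH (F0 : Subfield F) (θ : F) {g : SL2F} (hg : g ∈ subGenGrp F0 θ) :
    QuotientGroup.mk' (Subgroup.center SL2F) g ∈ subGenH F0 θ :=
  Subgroup.mem_map_of_mem _ hg

/-- the order of `F0` is a power of two, at least four -/
theorem four_dvd_card (F0 : Subfield F) (h4 : 4 ≤ Nat.card F0) : 4 ∣ Nat.card F0 := by
  classical
  haveI : Fact (Nat.Prime 2) := ⟨Nat.prime_two⟩
  haveI : Fintype F0 := Fintype.ofFinite F0
  haveI : CharP F0 2 := (RingHom.charP_iff F0.subtype F0.subtype_injective 2).2 inferInstance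
  obtain ⟨n, -, hn⟩ := FiniteField.card F0 2
  rw [Nat.card_eq_fintype_card] at h4 ⊢
  rw [hn] at h4 ⊢
  have hn2 : 2 ≤ (n : ℕ) := by
    by_contra hlt
    have : (n : ℕ) = 1 := by
      have := n.pos
      omega
    rw [this] at h4
    norm_num at h4
  exact pow_dvd_pow 2 hn2

theorem card_subGenH_of_four_dvd (F0 : Subfield F) (θ : F) (h4 : 4 ≤ Nat.card F0) :
    4 ∣ Nat.card (subGenH F0 θ) := by
  rw [card_subGenH]
  exact (four_dvd_card F0 h4).trans (card_dvd_card_subGenGrp F0 θ)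

/-- cyclic case -/
theorem subGenH_not_isCyclic (F0 : Subfield F) (θ : F) (hθ : θ ≠ 0) :
    ¬ IsCyclic ↥(subGenH F0 θ) := by
  intro hc
  obtain ⟨g, hg⟩ := hc.exists_generator
  let a : ↥(subGenH F0 θ) := ⟨_, mk_mem_subGenH F0 θ (uU_mem_subGenGrp F0 θ F0.one_mem)⟩
  let b : ↥(subGenH F0 θ) := ⟨_, mk_mem_subGenH F0 θ (vV_theta_mem_subGenGrp F0 θ)⟩
  obtain ⟨m, hm⟩ := Subgroup.mem_zpowers_iff.1 (hg a)
  obtain ⟨n, hn⟩ := Subgroup.mem_zpowers_iff.1 (hg b)
  have hab : a * b = b * a := by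
    rw [← hm, ← hn, ← _root_.zpow_add, ← _root_.zpow_add, add_comm]
  exact mk_uv_ne_mk_vu (1 : F) θ one_ne_zero hθ (congrArg Subtype.val hab)

/-- dihedral case -/
theorem subGenH_not_dihedral (F0 : Subfield F) (θ : F) (h4 : 4 ≤ Nat.card F0) (n : ℕ)
    (hn : ¬ 2 ∣ n) : IsEmpty (↥(subGenH F0 θ) ≃* DihedralGroup n) := by
  constructor
  intro e
  have h1 := card_subGenH_of_four_dvd F0 θ h4
  rw [Nat.card_congr e.toEquiv, DihedralGroup.nat_card] at h1
  apply hn
  have : 2 * 2 ∣ 2 * n := h1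
  exact Nat.dvd_of_mul_dvd_mul_left (by norm_num) this

/-- Borel case -/
theorem subGenH_not_borel (F0 : Subfield F) (θ : F) (hθ : θ ≠ 0)
    (x₀ : ↥(liftSL (subGenH F0 θ))) (hx₀ : IsUni (liftRep (subGenH F0 θ)) x₀)
    (htop : Nx x₀ = ⊤) : False := by
  refine not_borel_of_noncomm (subGenH F0 θ) (uU 1) (vV θ) ?_ ?_ (tr_uU 1) (tr_vV θ)
    (uv_ne_vu 1 θ one_ne_zero hθ) x₀ hx₀ htop
  · rw [liftSL_subGenH]; exact uU_mem_subGenGrp F0 θ F0.one_mem
  · rw [liftSL_subGenH]; exact vV_theta_mem_subGenGrp F0 θ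

omit [Fintype F] in
theorem uU_sq_of_char_two (a : F) : uU a ^ 2 = (1 : SL2F) := by
  rw [uU_pow']
  have : ((2 : ℕ) : F) = 0 := CharP.cast_eq_zero F 2
  rw [this, zero_mul, uU_zero]

omit [Fintype F] in
theorem vV_sq_of_char_two (a : F) : vV a ^ 2 = (1 : SL2F) := by
  rw [vV_pow']
  have : ((2 : ℕ) : F) = 0 := CharP.cast_eq_zero F 2
  rw [this, zero_mul, vV_zero']

/-- `A₄` case -/
theorem subGenH_not_A4 (F0 : Subfield F) (θ : F) (hθ : θ ≠ 0) :
    IsEmpty (↥(subGenH F0 θ) ≃* alternatingGroup (Fin 4)) := by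
  constructor
  intro e
  let a : ↥(subGenH F0 θ) := ⟨_, mk_mem_subGenH F0 θ (uU_mem_subGenGrp F0 θ F0.one_mem)⟩
  let b : ↥(subGenH F0 θ) := ⟨_, mk_mem_subGenH F0 θ (vV_theta_mem_subGenGrp F0 θ)⟩
  have ha : a ^ 2 = 1 := by
    apply Subtype.ext
    show (QuotientGroup.mk' (Subgroup.center SL2F) (uU 1)) ^ 2 = 1
    rw [← map_pow, uU_sq_of_char_two, map_one]
  have hb : b ^ 2 = 1 := by
    apply Subtype.ext
    show (QuotientGroup.mk' (Subgroup.center SL2F) (vV θ)) ^ 2 = 1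
    rw [← map_pow, vV_sq_of_char_two, map_one]
  have h1 := a4_invol_comm (e a) (e b) (by rw [← map_pow, ha, map_one])
    (by rw [← map_pow, hb, map_one])
  rw [← map_mul, ← map_mul] at h1
  have hab : a * b = b * a := e.injective h1
  exact mk_uv_ne_mk_vu (1 : F) θ one_ne_zero hθ (congrArg Subtype.val hab)

/-- `S₄` case -/
theorem subGenH_not_S4 (F0 : Subfield F) (θ : F) :
    IsEmpty (↥(subGenH F0 θ) ≃* Equiv.Perm (Fin 4)) := by
  constructor
  intro e
  obtain ⟨σ, h4, h2⟩ := s4_exists_order_four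
  obtain ⟨g, hg, hgx⟩ := (e.symm σ).2
  have h1 := pow_mem_center_of_equiv _ e (e.symm σ) g hgx.symm 4
    (by rw [MulEquiv.apply_symm_apply, h4])
  have h3 := sq_mem_center_of_pow_four g h1
  apply h2
  have h5 : (e.symm σ) ^ 2 = 1 := by
    apply Subtype.ext
    rw [Subgroup.coe_pow, ← hgx, ← map_pow]
    exact (QuotientGroup.eq_one_iff _).2 h3
  have h6 : e ((e.symm σ) ^ 2) = 1 := by rw [h5, map_one]
  rwa [map_pow, MulEquiv.apply_symm_apply] at h6

end Even

end Cfsg.Agent.Helper46.Dk
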