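import Mathlib
import Cfsg.Agent.Helper46.SL2SubGenC

set_option autoImplicit false

/-!
# Generation of `SL₂` over a subfield extension: characteristic two, `A₅` and the subfield case
-/

namespace Cfsg.Agent.Helper46.Dk

open Matrix Cfsg.Agent.Helper46.IsCA

section Even

variable {F : Type*} [Field F] [Fintype F] [CharP F 2]

local notation "SL2F" => Matrix.SpecialLinearGroup (Fin 2) F
local notation "PSL2F" => Matrix.ProjectiveSpecialLinearGroup (Fin 2) F

/-- the order of `F0` is `2 ^ n` with `n ≥ 2` -/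
theorem exists_card_eq_two_pow (F0 : Subfield F) (h4 : 4 ≤ Nat.card F0) :
    ∃ n : ℕ, 2 ≤ n ∧ Nat.card F0 = 2 ^ n := by
  classical
  haveI : Fact (Nat.Prime 2) := ⟨Nat.prime_two⟩
  haveI : Fintype F0 := Fintype.ofFinite F0
  haveI : CharP F0 2 := (RingHom.charP_iff F0.subtype F0.subtype_injective 2).2 inferInstance
  obtain ⟨n, -, hn⟩ := FiniteField.card F0 2
  rw [Nat.card_eq_fintype_card] at h4 ⊢
  rw [hn] at h4
  refine ⟨n, ?_, hn⟩
  by_contra hlt
  have : (n : ℕ) = 1 := by
    have := n.pos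
    omega
  rw [this] at h4
  norm_num at h4

/-- a subfield with four elements contains all solutions of `x⁴ = x` -/
theorem mem_of_pow_four_eq (F0 : Subfield F) (h4 : Nat.card F0 = 4) {x : F} (hx : x ^ 4 = x) :
    x ∈ F0 := by
  classical
  haveI : Fintype F0 := Fintype.ofFinite F0
  have hF0 : Fintype.card F0 = 4 := by rw [← Nat.card_eq_fintype_card, h4]
  have hle : F0 ≤ frobFixedTwo (F := F) 2 := by
    intro c hc
    show c ^ (2 ^ 2) = c
    have := FiniteField.pow_card (⟨c, hc⟩ : F0)
    rw [hF0] at this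
    have h2 := congrArg (Subtype.val) this
    simpa using h2
  haveI : Fintype (frobFixedTwo (F := F) 2) := Fintype.ofFinite _
  have hcard : Fintype.card (frobFixedTwo (F := F) 2) ≤ 4 := by
    apply card_le_of_forall_pow_eq 4 (by norm_num)
    intro y
    apply Subtype.ext
    have := y.2
    show (y : F) ^ 4 = y
    exact this
  have heq : (F0 : Set F) = (frobFixedTwo (F := F) 2 : Set F) := by
    apply Set.eq_of_subset_of_ncard_le hle _ (Set.toFinite _)
    rw [Set.ncard_eq_toFinset_card', Set.ncard_eq_toFinset_card']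
    simp only [Set.toFinset_card]
    have e1 : Fintype.card ↑(frobFixedTwo (F := F) 2 : Set F) =
        Fintype.card (frobFixedTwo (F := F) 2) := Fintype.card_congr (Equiv.refl _)
    have e2 : Fintype.card ↑(F0 : Set F) = Fintype.card F0 := Fintype.card_congr (Equiv.refl _)
    rw [e1, e2, hF0]
    exact hcard
  have : x ∈ (frobFixedTwo (F := F) 2 : Set F) := hx
  rw [← heq] at this
  exact this

/-- `A₅` case -/
theorem subGenH_A5 (F0 : Subfield F) (θ : F) (hθ : θ ≠ 0) (h4 : 4 ≤ Nat.card F0)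
    (e : ↥(subGenH F0 θ) ≃* alternatingGroup (Fin 5)) :
    Nat.card (subGenGrp F0 θ) =
      Nat.card (Matrix.SpecialLinearGroup (Fin 2) (subGenField F0 θ)) := by
  classical
  have hcardH : Nat.card ↥(subGenH F0 θ) = 60 := by
    rw [Nat.card_congr e.toEquiv, card_A5']
  have hcardX : Nat.card (subGenGrp F0 θ) = 60 := by rw [← card_subGenH, hcardH]
  -- `F0` has four elements
  obtain ⟨n, hn2, hn⟩ := exists_card_eq_two_pow F0 h4
  have hdvd := card_dvd_card_subGenGrp F0 θ
  rw [hcardX, hn] at hdvd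
  have hn' : n = 2 := by
    by_contra hne
    have h3 : 3 ≤ n := by omega
    have : 2 ^ 3 ∣ 60 := (pow_dvd_pow 2 h3).trans hdvd
    norm_num at this
  have hF0 : Nat.card F0 = 4 := by rw [hn, hn']; norm_num
  -- `θ ∈ F0`
  have h2 : (2 : F) = 0 := CharTwo.two_eq_zero
  have hθ4 : θ ^ 4 = θ := by
    have hmem : QuotientGroup.mk' (Subgroup.center SL2F) (uU 1 * vV θ) ∈ subGenH F0 θ :=
      mk_mem_subGenH F0 θ ((subGenGrp F0 θ).mul_mem (uU_mem_subGenGrp F0 θ F0.one_mem)
        (vV_theta_mem_subGenGrp F0 θ))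
    have hrel := a5_trace_rel _ e ⟨_, hmem⟩ (uU 1 * vV θ) rfl
      (uv_not_mem_center 1 θ one_ne_zero)
    rw [tr_uv, one_mul, h2, zero_add] at hrel
    rcases hrel with h | h | h
    · exact absurd h hθ
    · have h5 : (θ - 1) ^ 2 = 0 := by linear_combination h + (1 - θ) * h2
      have h6 : θ = 1 := by
        have := pow_eq_zero_iff (two_ne_zero) |>.1 h5
        linear_combination this
      rw [h6]; ring
    · have h5 : (θ ^ 2 + θ + 1) ^ 2 = 0 := by
        linear_combination h + (3 * θ ^ 2 + θ ^ 3 + θ) * h2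
      have h6 : θ ^ 2 + θ + 1 = 0 := pow_eq_zero_iff (two_ne_zero) |>.1 h5
      linear_combination (θ ^ 2 - θ) * h6
  have hθF0 : θ ∈ F0 := mem_of_pow_four_eq F0 hF0 hθ4
  have hfield : subGenField F0 θ = F0 := by
    unfold subGenField
    rw [Set.union_eq_left.2 (Set.singleton_subset_iff.2 hθF0), Subfield.closure_eq]
  rw [hcardX, hfield]
  haveI : Fintype F0 := Fintype.ofFinite F0
  rw [Cfsg.Agent.Helper5.card_SL2, ← Nat.card_eq_fintype_card, hF0]
  norm_num

end Even

end Cfsg.Agent.Helper46.Dk
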