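import Mathlib
import Cfsg.Agent.Helper46.SL2SubGenD

set_option autoImplicit false

/-!
# Generation of `SL₂` over a subfield extension: characteristic two, conclusion
-/

namespace Cfsg.Agent.Helper46.Dk

open Matrix Cfsg.Agent.Helper46.IsCA

section Even

variable {F : Type*} [Field F] [Fintype F] [CharP F 2]

local notation "SL2F" => Matrix.SpecialLinearGroup (Fin 2) F
local notation "PSL2F" => Matrix.ProjectiveSpecialLinearGroup (Fin 2) F

/-- the subfield case -/
theorem subGenH_field (F0 : Subfield F) (θ : F) (hθ : θ ≠ 0)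
    (K : Subfield (AlgebraicClosure F)) (hfin : Finite K)
    (hKtr : ∀ a ∈ K, ∃ γ : ↥(liftSL (subGenH F0 θ)), tr (liftRep (subGenH F0 θ) γ) = a)
    (hKsq : ∀ γ : ↥(liftSL (subGenH F0 θ)), tr (liftRep (subGenH F0 θ) γ) ^ 2 ∈ K)
    (hiso : Nonempty (↥(subGenH F0 θ) ≃* Matrix.ProjectiveSpecialLinearGroup (Fin 2) K) ∨
      Nonempty (↥(subGenH F0 θ) ≃* Matrix.ProjGenLinGroup (Fin 2) K)) :
    Nat.card (subGenGrp F0 θ) =
      Nat.card (Matrix.SpecialLinearGroup (Fin 2) (subGenField F0 θ)) := by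
  classical
  haveI : Fintype K := Fintype.ofFinite K
  haveI : Fact (Nat.Prime 2) := ⟨Nat.prime_two⟩
  let φ := algebraMap F (AlgebraicClosure F)
  have hφ : Function.Injective φ := φ.injective
  haveI : CharP (AlgebraicClosure F) 2 := charP_of_injective_algebraMap hφ 2
  haveI : CharP K 2 := (RingHom.charP_iff K.subtype K.subtype_injective 2).2 inferInstance
  have h2E : (2 : AlgebraicClosure F) = 0 := CharTwo.two_eq_zero
  -- traces lie in `K`
  have htrK : ∀ γ : ↥(liftSL (subGenH F0 θ)), tr (liftRep (subGenH F0 θ) γ) ∈ K := by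
    intro γ
    have h1 := hKsq γ
    have hsq : IsSquare (⟨_, h1⟩ : K) :=
      FiniteField.isSquare_of_char_two (ringChar.eq K 2) _
    obtain ⟨s, hs⟩ := hsq
    have hs' : tr (liftRep (subGenH F0 θ) γ) ^ 2 = (s : AlgebraicClosure F) * s :=
      congrArg Subtype.val hs
    have h3 : (tr (liftRep (subGenH F0 θ) γ) - s) ^ 2 = 0 := by
      linear_combination hs' + (-(tr (liftRep (subGenH F0 θ) γ)) * s + s * s) * h2E
    have h4 : tr (liftRep (subGenH F0 θ) γ) = s := by
      have := pow_eq_zero_iff (two_ne_zero) |>.1 h3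
      linear_combination this
    rw [h4]
    exact s.2
  -- `φ (c θ) ∈ K`
  have hcθ : ∀ c ∈ F0, φ c * φ θ ∈ K := by
    intro c hc
    have hmem : uU c * vV θ ∈ liftSL (subGenH F0 θ) := by
      rw [liftSL_subGenH]
      exact (subGenGrp F0 θ).mul_mem (uU_mem_subGenGrp F0 θ hc) (vV_theta_mem_subGenGrp F0 θ)
    have h1 := htrK ⟨_, hmem⟩
    rw [tr_liftRep] at h1
    simp only [tr_uv] at h1
    rw [map_add, map_mul, map_ofNat, h2E, zero_add] at h1
    exact h1
  have hθK : φ θ ∈ K := by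
    have := hcθ 1 F0.one_mem
    rwa [map_one, one_mul] at this
  have hθ0 : φ θ ≠ 0 := by
    intro h
    exact hθ (hφ (by rw [h, map_zero]))
  have hcK : ∀ c ∈ F0, φ c ∈ K := by
    intro c hc
    have h1 := K.mul_mem (hcθ c hc) (K.inv_mem hθK)
    rwa [mul_assoc, mul_inv_cancel₀ hθ0, mul_one] at h1
  -- `K = φ(K')`
  have hge : (subGenField F0 θ).map φ ≤ K := by
    unfold subGenField
    rw [RingHom.map_field_closure, Subfield.closure_le]
    rintro _ ⟨x, hx | hx, rfl⟩
    · exact hcK x hx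
    · rw [Set.mem_singleton_iff] at hx
      rw [hx]; exact hθK
  have hle : K ≤ (subGenField F0 θ).map φ := by
    intro a ha
    obtain ⟨⟨g, hg⟩, hγ⟩ := hKtr a ha
    rw [tr_liftRep] at hγ
    refine ⟨tr g, ?_, hγ⟩
    apply tr_mem_of_mem_ratSub
    apply subGenGrp_le_ratSub
    have h5 : g ∈ liftSL (subGenH F0 θ) := hg
    rw [liftSL_subGenH] at h5
    exact h5
  have hKeq : K = (subGenField F0 θ).map φ := le_antisymm hle hge
  have hcardK : Nat.card K = Nat.card (subGenField F0 θ) := by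
    rw [hKeq]
    exact (Nat.card_congr ((subGenField F0 θ).equivMapOfInjective φ hφ).toEquiv).symm
  -- the order of the image
  have hgcd : Nat.gcd 2 (Fintype.card K - 1) = 1 := by
    rcases Cfsg.Agent.Helper41.card_field_gcd_two (F := K) 2 with ⟨-, h⟩ | ⟨h, -⟩
    · exact h
    · exact absurd rfl h
  have hH : Nat.card ↥(subGenH F0 θ) = Fintype.card K * (Fintype.card K ^ 2 - 1) := by
    rcases hiso with ⟨⟨e⟩⟩ | ⟨⟨e⟩⟩
    · have h1 := card_PSL2_mul_gcd (F := K)
      rw [hgcd, mul_one] at h1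
      rw [Nat.card_congr e.toEquiv, h1]
    · rw [Nat.card_congr e.toEquiv, Cfsg.Agent.Helper46.card_PGL2]
  haveI : Fintype (subGenField F0 θ) := Fintype.ofFinite _
  rw [← card_subGenH, hH, Cfsg.Agent.Helper5.card_SL2, ← Nat.card_eq_fintype_card,
    ← Nat.card_eq_fintype_card, hcardK]

/-- the order of the group generated, in characteristic two -/
theorem card_subGenGrp_of_char_two (F0 : Subfield F) (θ : F) (hθ : θ ≠ 0)
    (h4 : 4 ≤ Nat.card F0) :
    Nat.card (subGenGrp F0 θ) =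
      Nat.card (Matrix.SpecialLinearGroup (Fin 2) (subGenField F0 θ)) := by
  classical
  haveI : Fact (Nat.Prime 2) := ⟨Nat.prime_two⟩
  haveI : CharP (AlgebraicClosure F) 2 :=
    charP_of_injective_algebraMap (algebraMap F (AlgebraicClosure F)).injective 2
  haveI : Finite ↥(liftSL (subGenH F0 θ)) := inferInstance
  obtain ⟨e⟩ := nonempty_equiv_quotient (subGenH F0 θ)
  rcases dickson_main'' (ρ := liftRep (subGenH F0 θ)) 2 (liftRep_injective (subGenH F0 θ)) with
    h1 | ⟨n, a, ha, hnp, ⟨e1⟩⟩ | ⟨x₀, hx₀, htop⟩ | ⟨⟨e1⟩⟩ | ⟨⟨e1⟩⟩ | ⟨⟨e1⟩⟩ |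
    ⟨K, hKfin, hKtr, hKsq, hiso⟩
  · exact absurd (e.isCyclic.1 h1) (subGenH_not_isCyclic F0 θ hθ)
  · exact ((subGenH_not_dihedral F0 θ h4 n hnp).false (e.symm.trans e1)).elim
  · exact (subGenH_not_borel F0 θ hθ x₀ hx₀ htop).elim
  · exact ((subGenH_not_A4 F0 θ hθ).false (e.symm.trans e1)).elim
  · exact ((subGenH_not_S4 F0 θ).false (e.symm.trans e1)).elim
  · exact subGenH_A5 F0 θ hθ h4 (e.symm.trans e1)
  · apply subGenH_field F0 θ hθ K hKfin hKtr hKsq
    rcases hiso with ⟨⟨e1⟩, -⟩ | ⟨⟨e1⟩⟩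
    · exact Or.inl ⟨e.symm.trans e1⟩
    · exact Or.inr ⟨e.symm.trans e1⟩

/-- **generation of `SL₂` over a subfield extension**, characteristic two: if `F0` has at least
four elements then the matrices `[1,c;0,1]` and `[1,0;θc,1]`, `c ∈ F0`, generate the group of all
matrices of `SL₂(F)` with entries in `F0(θ)`. -/
theorem subGenGrp_eq_of_char_two (F0 : Subfield F) (θ : F) (hθ : θ ≠ 0)
    (h4 : 4 ≤ Nat.card F0) : subGenGrp F0 θ = ratSub (subGenField F0 θ) := by
  apply Subgroup.eq_of_le_of_card_ge (subGenGrp_le_ratSub F0 θ)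
  rw [card_ratSub, card_subGenGrp_of_char_two F0 θ hθ h4]

end Even

end Cfsg.Agent.Helper46.Dk
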