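import Mathlib
import Cfsg.Agent.Helper46.SL2SubGenE

set_option autoImplicit false

/-!
# Generation of `SL₂` over a subfield extension: odd characteristic, part 1

Transport of Dickson's two-generator theorem to the subfield generated by `λ`.
-/

namespace Cfsg.Agent.Helper46.Dk

open Matrix Cfsg.Agent.Helper46.IsCA

section Gen

variable {F : Type*} [Field F]

local notation "SL2F" => Matrix.SpecialLinearGroup (Fin 2) F

/-- conjugation by the Weyl element swaps the two root groups -/
theorem wW_conj_uU (a : F) : wW * uU a * wW⁻¹ = vV (-a) := by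
  apply ext'
  · rw [conj_00]; simp [wW, uU, vV]
  · rw [conj_01]; simp [wW, uU, vV]
  · rw [conj_10]; simp [wW, uU, vV]
  · rw [conj_11]; simp [wW, uU, vV]

theorem wW_conj_vV (b : F) : wW * vV b * wW⁻¹ = uU (-b) := by
  apply ext'
  · rw [conj_00]; simp [wW, uU, vV]
  · rw [conj_01]; simp [wW, uU, vV]
  · rw [conj_10]; simp [wW, uU, vV]
  · rw [conj_11]; simp [wW, uU, vV]

theorem wW_mem_ratSub (K : Subfield F) : (wW : SL2F) ∈ ratSub K := by
  rw [mem_ratSub]
  exact ⟨K.zero_mem, K.one_mem, K.neg_mem K.one_mem, K.zero_mem⟩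

/-- the diagonal element -/
def hH (t : F) (ht : t ≠ 0) : SL2F := mk4 t 0 0 t⁻¹ (by rw [mul_inv_cancel₀ ht]; ring)

theorem hH_mem_ratSub (K : Subfield F) {t : F} (ht : t ≠ 0) (htK : t ∈ K) :
    hH t ht ∈ ratSub K := by
  rw [mem_ratSub]
  exact ⟨htK, K.zero_mem, K.zero_mem, K.inv_mem htK⟩

theorem hH_conj_uU (t : F) (ht : t ≠ 0) (a : F) :
    hH t ht * uU a * (hH t ht)⁻¹ = uU (t ^ 2 * a) := by
  apply ext'
  · rw [conj_00]; simp [hH, uU]; field_simp
  · rw [conj_01]; simp [hH, uU]; ring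
  · rw [conj_10]; simp [hH, uU]
  · rw [conj_11]; simp [hH, uU]; field_simp

theorem hH_inv_conj_vV (t : F) (ht : t ≠ 0) (b : F) :
    (hH t ht)⁻¹ * vV b * ((hH t ht)⁻¹)⁻¹ = vV (t ^ 2 * b) := by
  apply ext'
  · rw [conj_00]; simp [hH, vV, inv_00, inv_01, inv_10, inv_11]; field_simp
  · rw [conj_01]; simp [hH, vV, inv_00, inv_01, inv_10, inv_11]
  · rw [conj_10]; simp [hH, vV, inv_00, inv_01, inv_10, inv_11]; ring
  · rw [conj_11]; simp [hH, vV, inv_00, inv_01, inv_10, inv_11]; field_simp

/-- every element of `SL₂` is a product of elementary matrices with entries in the field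
generated by its entries -/
theorem mem_closure_elementary (K : Subfield F) (X : Subgroup SL2F)
    (hU : ∀ a ∈ K, uU a ∈ X) (hV : ∀ b ∈ K, vV b ∈ X) : ratSub K ≤ X := by
  have key : ∀ g : SL2F, g ∈ ratSub K → g.1 1 0 ≠ 0 → g ∈ X := by
    intro g hg hc
    rw [mem_ratSub] at hg
    obtain ⟨h00, h01, h10, h11⟩ := hg
    have e : g = uU ((g.1 0 0 - 1) / g.1 1 0) * vV (g.1 1 0) * uU ((g.1 1 1 - 1) / g.1 1 0) := by
      have hd := det' g
      apply ext'
      · rw [mul_00, mul_00, mul_01]; simp [uU, vV]; field_simp; ring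
      · rw [mul_01, mul_00, mul_01]; simp [uU, vV]; field_simp
        linear_combination (-1 : F) * hd
      · rw [mul_10, mul_10, mul_11]; simp [uU, vV]
      · rw [mul_11, mul_10, mul_11]; simp [uU, vV]; field_simp; ring
    rw [e]
    refine X.mul_mem (X.mul_mem (hU _ ?_) (hV _ h10)) (hU _ ?_)
    · exact K.div_mem (K.sub_mem h00 K.one_mem) h10
    · exact K.div_mem (K.sub_mem h11 K.one_mem) h10
  intro g hg
  by_cases hc : g.1 1 0 = 0
  · -- multiply by `vV 1`
    have h1 : vV 1 * g ∈ X := by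
      apply key
      · exact (ratSub K).mul_mem (vV_mem_ratSub K K.one_mem) hg
      · rw [mul_10, hc]
        simp [vV]
        intro h0
        have hd := det' g
        rw [h0, hc] at hd
        simp at hd
    have h2 : g = (vV 1)⁻¹ * (vV 1 * g) := by group
    rw [h2]
    exact X.mul_mem (X.inv_mem (hV 1 K.one_mem)) h1
  · exact key g hg hc

end Gen

end Cfsg.Agent.Helper46.Dk
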