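import Mathlib
import Cfsg.Agent.Helper46.SL2SubGenF

set_option autoImplicit false

/-!
# Generation of `SL₂` over a subfield extension: odd characteristic, part 2
-/

namespace Cfsg.Agent.Helper46.Dk

open Matrix Cfsg.Agent.Helper46.IsCA

section Odd

variable {F : Type*} [Field F] [Fintype F]

local notation "SL2F" => Matrix.SpecialLinearGroup (Fin 2) F

/-- Dickson's generation theorem inside a bigger field: the matrices `[1,0;1,1]` and
`[1,λ;0,1]` generate the group of matrices with entries in the field generated by `λ` -/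
theorem closure_vV_uU_eq_ratSub (h2 : (2 : F) ≠ 0) (lam : F) (hlam : lam ≠ 0)
    (hgood : ¬ (Nat.card (Subfield.closure ({lam} : Set F)) = 9 ∧ lam ^ 2 = -1)) :
    Subgroup.closure {vV (1 : F), uU lam} = ratSub (Subfield.closure ({lam} : Set F)) := by
  classical
  set K1 : Subfield F := Subfield.closure ({lam} : Set F) with hK1
  haveI : Fintype K1 := Fintype.ofFinite K1
  let lam' : K1 := ⟨lam, Subfield.subset_closure rfl⟩
  have hgen' : Subfield.closure ({lam'} : Set K1) = ⊤ := by
    rw [← Subfield.comap_map K1.subtype (Subfield.closure ({lam'} : Set K1)),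
      RingHom.map_field_closure, Set.image_singleton]
    show Subfield.comap K1.subtype (Subfield.closure {lam}) = ⊤
    rw [← hK1]
    ext x
    simp only [Subfield.mem_comap, Subfield.mem_top, iff_true]
    exact x.2
  have h2' : (2 : K1) ≠ 0 := by
    intro h
    apply h2
    have h3 : ((2 : K1) : F) = 0 := by rw [h]; rfl
    exact h3
  have hlam' : lam' ≠ 0 := by
    intro h
    apply hlam
    exact congrArg Subtype.val h
  have hfinal := twoGen_final h2' lam' hlam' hgen'
  have htop : Subgroup.closure {vV (1 : K1), uU lam'} = ⊤ := by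
    rcases hfinal with ⟨h, -⟩ | ⟨h9, hl, -⟩
    · exact h
    · exfalso
      apply hgood
      refine ⟨by rw [Nat.card_eq_fintype_card]; exact h9, ?_⟩
      have := congrArg Subtype.val hl
      simpa using this
  have hmap : (Subgroup.closure {vV (1 : K1), uU lam'}).map
      (Matrix.SpecialLinearGroup.map K1.subtype) = Subgroup.closure {vV (1 : F), uU lam} := by
    rw [MonoidHom.map_closure, Set.image_pair]
    congr 2
    · apply ext' <;> simp [vV]
    · congr 1
      apply ext' <;> simp [uU, lam']
  rw [← hmap, htop]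
  unfold ratSub
  rw [MonoidHom.range_eq_map]

/-- the same with the roles of the two root groups exchanged -/
theorem closure_uU_vV_eq_ratSub (h2 : (2 : F) ≠ 0) (lam : F) (hlam : lam ≠ 0)
    (hgood : ¬ (Nat.card (Subfield.closure ({lam} : Set F)) = 9 ∧ lam ^ 2 = -1)) :
    Subgroup.closure {uU (1 : F), vV lam} = ratSub (Subfield.closure ({lam} : Set F)) := by
  have h1 := closure_vV_uU_eq_ratSub h2 lam hlam hgood
  set K1 : Subfield F := Subfield.closure ({lam} : Set F) with hK1
  apply le_antisymm
  · rw [Subgroup.closure_le]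
    rintro g (rfl | rfl)
    · exact uU_mem_ratSub K1 K1.one_mem
    · exact vV_mem_ratSub K1 (Subfield.subset_closure rfl)
  · -- conjugate by the Weyl element
    have hv : vV (1 : F) ∈ (Subgroup.closure {uU (1 : F), vV lam}).map
        (MulAut.conj (wW : SL2F)).toMonoidHom := by
      refine ⟨(uU 1)⁻¹, Subgroup.inv_mem _ (Subgroup.subset_closure (Set.mem_insert _ _)), ?_⟩
      show (wW : SL2F) * (uU (1 : F))⁻¹ * wW⁻¹ = vV (1 : F)
      rw [uU_inv', wW_conj_uU, neg_neg]
    have hu : uU lam ∈ (Subgroup.closure {uU (1 : F), vV lam}).map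
        (MulAut.conj (wW : SL2F)).toMonoidHom := by
      refine ⟨(vV lam)⁻¹, Subgroup.inv_mem _
        (Subgroup.subset_closure (Set.mem_insert_of_mem _ rfl)), ?_⟩
      show (wW : SL2F) * (vV lam)⁻¹ * wW⁻¹ = uU lam
      rw [vV_inv', wW_conj_vV, neg_neg]
    have hle : ratSub K1 ≤ (Subgroup.closure {uU (1 : F), vV lam}).map
        (MulAut.conj (wW : SL2F)).toMonoidHom := by
      rw [← h1, Subgroup.closure_le]
      rintro g (rfl | rfl)
      · exact hv
      · exact hu
    intro g hg
    have hw := wW_mem_ratSub (F := F) K1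
    have hg' : wW * g * wW⁻¹ ∈ ratSub K1 :=
      (ratSub K1).mul_mem ((ratSub K1).mul_mem hw hg) ((ratSub K1).inv_mem hw)
    obtain ⟨y, hy, hyg⟩ := hle hg'
    have : y = g := by
      have h3 : wW * y * wW⁻¹ = wW * g * wW⁻¹ := hyg
      exact mul_left_cancel (mul_right_cancel h3)
    rw [← this]
    exact hy

end Odd

end Cfsg.Agent.Helper46.Dk
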