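import Mathlib
import Cfsg.Agent.Helper46.SL2SubGenG

set_option autoImplicit false

/-!
# Generation of `SL₂` over a subfield extension: odd characteristic, conclusion
-/

namespace Cfsg.Agent.Helper46.Dk

open Matrix Cfsg.Agent.Helper46.IsCA

section Param

variable {F : Type*} [Field F]

local notation "SL2F" => Matrix.SpecialLinearGroup (Fin 2) F

/-- parameters of the upper unitriangular elements of a subgroup -/
def paramU (X : Subgroup SL2F) : AddSubgroup F where
  carrier := {a | uU a ∈ X}
  add_mem' := by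
    intro a b ha hb
    show uU (a + b) ∈ X
    rw [← uU_mul]
    exact X.mul_mem ha hb
  zero_mem' := by
    show uU 0 ∈ X
    rw [uU_zero]
    exact X.one_mem
  neg_mem' := by
    intro a ha
    show uU (-a) ∈ X
    rw [← uU_inv']
    exact X.inv_mem ha

/-- parameters of the lower unitriangular elements of a subgroup, scaled by `θ` -/
def paramV (X : Subgroup SL2F) (θ : F) : AddSubgroup F where
  carrier := {b | vV (θ * b) ∈ X}
  add_mem' := by
    intro a b ha hb
    show vV (θ * (a + b)) ∈ X
    rw [mul_add, ← vV_mul']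
    exact X.mul_mem ha hb
  zero_mem' := by
    show vV (θ * 0) ∈ X
    rw [mul_zero, vV_zero']
    exact X.one_mem
  neg_mem' := by
    intro a ha
    show vV (θ * -a) ∈ X
    rw [mul_neg, ← vV_inv']
    exact X.inv_mem ha

theorem mem_paramU (X : Subgroup SL2F) (a : F) : a ∈ paramU X ↔ uU a ∈ X := Iff.rfl

theorem mem_paramV (X : Subgroup SL2F) (θ a : F) : a ∈ paramV X θ ↔ vV (θ * a) ∈ X := Iff.rfl

theorem paramU_sq_mul (X : Subgroup SL2F) (K1 : Subfield F) (hK1 : ratSub K1 ≤ X) {a : F}
    (ha : a ∈ paramU X) {s : F} (hs : s ∈ K1) : s ^ 2 * a ∈ paramU X := by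
  by_cases h0 : s = 0
  · rw [h0]; simp only [ne_eq, OfNat.ofNat_ne_zero, not_false_eq_true, zero_pow, zero_mul]
    exact (paramU X).zero_mem
  · show uU (s ^ 2 * a) ∈ X
    rw [← hH_conj_uU s h0]
    have hh := hK1 (hH_mem_ratSub K1 h0 hs)
    exact X.mul_mem (X.mul_mem hh ha) (X.inv_mem hh)

theorem paramV_sq_mul (X : Subgroup SL2F) (θ : F) (K1 : Subfield F) (hK1 : ratSub K1 ≤ X) {a : F}
    (ha : a ∈ paramV X θ) {s : F} (hs : s ∈ K1) : s ^ 2 * a ∈ paramV X θ := by
  by_cases h0 : s = 0
  · rw [h0]; simp only [ne_eq, OfNat.ofNat_ne_zero, not_false_eq_true, zero_pow, zero_mul]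
    exact (paramV X θ).zero_mem
  · show vV (θ * (s ^ 2 * a)) ∈ X
    have e : θ * (s ^ 2 * a) = s ^ 2 * (θ * a) := by ring
    rw [e, ← hH_inv_conj_vV s h0]
    have hh := X.inv_mem (hK1 (hH_mem_ratSub K1 h0 hs))
    exact X.mul_mem (X.mul_mem hh ha) (X.inv_mem hh)

/-- in odd characteristic the parameter groups are stable under multiplication by `K1` -/
theorem paramU_mul (h2 : (2 : F) ≠ 0) (X : Subgroup SL2F) (K1 : Subfield F)
    (hK1 : ratSub K1 ≤ X) {a : F} (ha : a ∈ paramU X) {t : F} (ht : t ∈ K1) :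
    t * a ∈ paramU X := by
  have h2K : (2 : F) ∈ K1 := ofNat_mem K1 2
  have e : t * a = ((t + 1) / 2) ^ 2 * a - ((t - 1) / 2) ^ 2 * a := by
    field_simp; ring
  rw [e]
  exact (paramU X).sub_mem
    (paramU_sq_mul X K1 hK1 ha (K1.div_mem (K1.add_mem ht K1.one_mem) h2K))
    (paramU_sq_mul X K1 hK1 ha (K1.div_mem (K1.sub_mem ht K1.one_mem) h2K))

theorem paramV_mul (h2 : (2 : F) ≠ 0) (X : Subgroup SL2F) (θ : F) (K1 : Subfield F)
    (hK1 : ratSub K1 ≤ X) {a : F} (ha : a ∈ paramV X θ) {t : F} (ht : t ∈ K1) :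
    t * a ∈ paramV X θ := by
  have h2K : (2 : F) ∈ K1 := ofNat_mem K1 2
  have e : t * a = ((t + 1) / 2) ^ 2 * a - ((t - 1) / 2) ^ 2 * a := by
    field_simp; ring
  rw [e]
  exact (paramV X θ).sub_mem
    (paramV_sq_mul X θ K1 hK1 ha (K1.div_mem (K1.add_mem ht K1.one_mem) h2K))
    (paramV_sq_mul X θ K1 hK1 ha (K1.div_mem (K1.sub_mem ht K1.one_mem) h2K))

/-- an additive subgroup containing `F0` and stable under multiplication by `K1` contains the
ring generated by `K1` and `F0` -/
theorem subring_closure_le_of_mul (A : AddSubgroup F) (K1 F0 : Subfield F)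
    (hF0 : ∀ c ∈ F0, c ∈ A) (hmul : ∀ a ∈ A, ∀ t ∈ K1, t * a ∈ A) :
    ∀ x ∈ Subring.closure ((K1 : Set F) ∪ (F0 : Set F)), x ∈ A := by
  intro x hx
  rw [Subring.mem_closure_iff] at hx
  have hle : AddSubgroup.closure
      ((Submonoid.closure ((K1 : Set F) ∪ (F0 : Set F)) : Submonoid F) : Set F) ≤ A := by
    rw [AddSubgroup.closure_le]
    intro y hy
    have hy' : y ∈ Submonoid.closure ((K1 : Set F) ∪ (F0 : Set F)) := hy
    rw [Submonoid.closure_union] at hy'
    have e1 : Submonoid.closure (K1 : Set F) = K1.toSubring.toSubmonoid :=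
      Submonoid.closure_eq K1.toSubring.toSubmonoid
    have e2 : Submonoid.closure (F0 : Set F) = F0.toSubring.toSubmonoid :=
      Submonoid.closure_eq F0.toSubring.toSubmonoid
    rw [e1, e2, Submonoid.mem_sup] at hy'
    obtain ⟨t, ht, c, hc, rfl⟩ := hy'
    exact hmul c (hF0 c hc) t ht
  exact hle hx

end Param

section Odd

variable {F : Type*} [Field F] [Fintype F]

local notation "SL2F" => Matrix.SpecialLinearGroup (Fin 2) F

/-- the subring generated by two subfields of a finite field, as a subfield -/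
def subringField (K1 F0 : Subfield F) : Subfield F where
  toSubring := Subring.closure ((K1 : Set F) ∪ (F0 : Set F))
  inv_mem' := by
    intro x hx
    by_cases h0 : x = 0
    · rw [h0, _root_.inv_zero]; exact Subring.zero_mem _
    · have h1 : x ^ (Fintype.card F - 1) = 1 := FiniteField.pow_card_sub_one_eq_one x h0
      have hq : 2 ≤ Fintype.card F := Fintype.one_lt_card
      have h2 : x⁻¹ = x ^ (Fintype.card F - 2) := by
        have h3 : x * x ^ (Fintype.card F - 2) = 1 := by
          rw [← pow_succ']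
          have : Fintype.card F - 2 + 1 = Fintype.card F - 1 := by omega
          rw [this, h1]
        exact (eq_inv_of_mul_eq_one_right h3).symm ▸ rfl
      rw [h2]
      exact Subring.pow_mem _ hx _

theorem exists_good_scalar (h2 : (2 : F) ≠ 0) (F0 : Subfield F) (θ : F)
    (hexc : ¬ (Nat.card F0 = 3 ∧ θ ^ 2 = -1)) :
    ∃ c ∈ F0, c ≠ 0 ∧
      ¬ (Nat.card (Subfield.closure ({θ * c} : Set F)) = 9 ∧ (θ * c) ^ 2 = -1) := by
  by_cases h : θ ^ 2 = -1
  · have hF0 : Nat.card F0 ≠ 3 := fun h3 => hexc ⟨h3, h⟩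
    by_cases hc : ∃ c ∈ F0, c ≠ 0 ∧ c ^ 2 ≠ 1
    · obtain ⟨c, hc, hc0, hc2⟩ := hc
      refine ⟨c, hc, hc0, ?_⟩
      rintro ⟨-, h'⟩
      apply hc2
      rw [mul_pow, h] at h'
      linear_combination -h'
    · exfalso
      apply hF0
      push_neg at hc
      have hset : (F0 : Set F) = {0, 1, -1} := by
        ext x
        simp only [SetLike.mem_coe, Set.mem_insert_iff, Set.mem_singleton_iff]
        constructor
        · intro hx
          by_cases hx0 : x = 0
          · left; exact hx0
          · right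
            have h1 := hc x hx hx0
            have h3 : (x - 1) * (x + 1) = 0 := by linear_combination h1
            rcases mul_eq_zero.1 h3 with h4 | h4
            · left; linear_combination h4
            · right; linear_combination h4
        · rintro (rfl | rfl | rfl)
          · exact F0.zero_mem
          · exact F0.one_mem
          · exact F0.neg_mem F0.one_mem
      have hcard : Nat.card F0 = Set.ncard (F0 : Set F) := (Nat.card_coe_set_eq (F0 : Set F))
      rw [hcard, hset, Set.ncard_eq_three]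
      refine ⟨0, 1, -1, zero_ne_one, ?_, ?_, rfl⟩
      · intro h0
        have : (1 : F) = 0 := by linear_combination h0
        exact one_ne_zero this
      · intro h0
        apply h2
        linear_combination h0
  · refine ⟨1, F0.one_mem, one_ne_zero, ?_⟩
    rintro ⟨-, h'⟩
    apply h
    rwa [mul_one] at h'

/-- **generation of `SL₂` over a subfield extension**, odd characteristic -/
theorem subGenGrp_eq_of_odd (h2 : (2 : F) ≠ 0) (F0 : Subfield F) (θ : F) (hθ : θ ≠ 0)
    (hexc : ¬ (Nat.card F0 = 3 ∧ θ ^ 2 = -1)) :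
    subGenGrp F0 θ = ratSub (subGenField F0 θ) := by
  apply le_antisymm (subGenGrp_le_ratSub F0 θ)
  obtain ⟨c₀, hc₀, hc₀0, hgood⟩ := exists_good_scalar h2 F0 θ hexc
  set lam : F := θ * c₀ with hlam
  have hlam0 : lam ≠ 0 := mul_ne_zero hθ hc₀0
  set K1 : Subfield F := Subfield.closure ({lam} : Set F) with hK1
  have hK1le : ratSub K1 ≤ subGenGrp F0 θ := by
    rw [← closure_uU_vV_eq_ratSub h2 lam hlam0 hgood, Subgroup.closure_le]
    rintro g (rfl | rfl)
    · exact uU_mem_subGenGrp F0 θ F0.one_mem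
    · exact vV_mem_subGenGrp F0 θ hc₀
  -- the parameter groups contain the ring generated by `K1` and `F0`
  have hA : ∀ x ∈ Subring.closure ((K1 : Set F) ∪ (F0 : Set F)), x ∈ paramU (subGenGrp F0 θ) :=
    subring_closure_le_of_mul _ K1 F0 (fun c hc => uU_mem_subGenGrp F0 θ hc)
      (fun a ha t ht => paramU_mul h2 _ K1 hK1le ha ht)
  have hB : ∀ x ∈ Subring.closure ((K1 : Set F) ∪ (F0 : Set F)),
      x ∈ paramV (subGenGrp F0 θ) θ :=
    subring_closure_le_of_mul _ K1 F0 (fun c hc => vV_mem_subGenGrp F0 θ hc)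
      (fun a ha t ht => paramV_mul h2 _ θ K1 hK1le ha ht)
  -- the field `F0(θ)` lies in that ring
  have hKle : subGenField F0 θ ≤ subringField K1 F0 := by
    unfold subGenField
    rw [Subfield.closure_le]
    rintro x (hx | hx)
    · exact Subring.subset_closure (Or.inr hx)
    · rw [Set.mem_singleton_iff] at hx
      have e : x = lam * c₀⁻¹ := by
        rw [hx, hlam, mul_assoc, mul_inv_cancel₀ hc₀0, mul_one]
      rw [e]
      exact Subring.mul_mem _ (Subring.subset_closure (Or.inl (Subfield.subset_closure rfl)))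
        (Subring.subset_closure (Or.inr (F0.inv_mem hc₀)))
  apply mem_closure_elementary
  · intro a ha
    exact hA a (hKle ha)
  · intro b hb
    have hb' : θ⁻¹ * b ∈ subGenField F0 θ :=
      (subGenField F0 θ).mul_mem ((subGenField F0 θ).inv_mem (theta_mem_subGenField F0 θ)) hb
    have := hB _ (hKle hb')
    rw [mem_paramV, ← mul_assoc, mul_inv_cancel₀ hθ, one_mul] at this
    exact this

end Odd

end Cfsg.Agent.Helper46.Dk
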