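import Mathlib
import Cfsg.Agent.Helper46.SL2SubGenH

set_option autoImplicit false

/-!
# Generation of `SL₂` over a subfield extension (finite fields)

`F` a finite field, `F0` a subfield, `θ ≠ 0`.  The matrices `uU c = [1,c;0,1]` and
`vV (θ c) = [1,0;θc,1]`, `c ∈ F0`, generate the group `ratSub (F0(θ))` of all matrices of `SL₂(F)`
with entries in `F0(θ) = Subfield.closure (F0 ∪ {θ})`, provided

* `|F0| ≥ 4` if the characteristic is two (for `F0 = 𝔽₂` the group is dihedral), and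
* not (`|F0| = 3` and `θ² = -1`) (then the group is `SL₂(5)` inside `SL₂(9)`).
-/

namespace Cfsg.Agent.Helper46.Dk

open Matrix Cfsg.Agent.Helper46.IsCA

variable {F : Type*} [Field F] [Fintype F]

local notation "SL2F" => Matrix.SpecialLinearGroup (Fin 2) F

/-- **generation of `SL₂(F0(θ))`** by `uU c`, `vV (θ c)`, `c ∈ F0` -/
theorem sl2_subfield_generation (F0 : Subfield F) (θ : F) (hθ : θ ≠ 0)
    (h2 : (2 : F) = 0 → 4 ≤ Nat.card F0) (hexc : ¬ (Nat.card F0 = 3 ∧ θ ^ 2 = -1)) :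
    Subgroup.closure ({g : SL2F | ∃ c ∈ F0, g = uU c} ∪ {g : SL2F | ∃ c ∈ F0, g = vV (θ * c)}) =
      ratSub (Subfield.closure ((F0 : Set F) ∪ {θ})) := by
  by_cases h : (2 : F) = 0
  · haveI : CharP F 2 := CharTwo.of_one_ne_zero_of_two_eq_zero one_ne_zero h
    exact subGenGrp_eq_of_char_two F0 θ hθ (h2 h)
  · exact subGenGrp_eq_of_odd h F0 θ hθ hexc

/-- the unipotent elements with parameter in `F0(θ)` lie in the group generated -/
theorem uU_mem_closure_of_mem (F0 : Subfield F) (θ : F) (hθ : θ ≠ 0)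
    (h2 : (2 : F) = 0 → 4 ≤ Nat.card F0) (hexc : ¬ (Nat.card F0 = 3 ∧ θ ^ 2 = -1)) {t : F}
    (ht : t ∈ Subfield.closure ((F0 : Set F) ∪ {θ})) :
    uU t ∈ Subgroup.closure
      ({g : SL2F | ∃ c ∈ F0, g = uU c} ∪ {g : SL2F | ∃ c ∈ F0, g = vV (θ * c)}) := by
  rw [sl2_subfield_generation F0 θ hθ h2 hexc]
  exact uU_mem_ratSub _ ht

theorem vV_mem_closure_of_mem (F0 : Subfield F) (θ : F) (hθ : θ ≠ 0)
    (h2 : (2 : F) = 0 → 4 ≤ Nat.card F0) (hexc : ¬ (Nat.card F0 = 3 ∧ θ ^ 2 = -1)) {t : F}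
    (ht : t ∈ Subfield.closure ((F0 : Set F) ∪ {θ})) :
    vV t ∈ Subgroup.closure
      ({g : SL2F | ∃ c ∈ F0, g = uU c} ∪ {g : SL2F | ∃ c ∈ F0, g = vV (θ * c)}) := by
  rw [sl2_subfield_generation F0 θ hθ h2 hexc]
  exact vV_mem_ratSub _ ht

/-- every matrix with entries in `F0(θ)` lies in the group generated -/
theorem mem_closure_of_entries (F0 : Subfield F) (θ : F) (hθ : θ ≠ 0)
    (h2 : (2 : F) = 0 → 4 ≤ Nat.card F0) (hexc : ¬ (Nat.card F0 = 3 ∧ θ ^ 2 = -1)) (g : SL2F)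
    (hg : ∀ i j : Fin 2, g.1 i j ∈ Subfield.closure ((F0 : Set F) ∪ {θ})) :
    g ∈ Subgroup.closure
      ({g : SL2F | ∃ c ∈ F0, g = uU c} ∪ {g : SL2F | ∃ c ∈ F0, g = vV (θ * c)}) := by
  rw [sl2_subfield_generation F0 θ hθ h2 hexc]
  exact (mem_ratSub' _ g).2 hg

end Cfsg.Agent.Helper46.Dk
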