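import Cfsg.Agent.Helper46.CharP

set_option autoImplicit false

namespace Cfsg.Agent.Helper46

open Cfsg
open scoped commutatorElement

section Normalized

variable {G : Type*} [Group G]

theorem commutator_normalized {H A B : Subgroup G} (hA : H ≤ Subgroup.normalizer (A : Set G))
    (hB : H ≤ Subgroup.normalizer (B : Set G)) :
    H ≤ Subgroup.normalizer ((⁅A, B⁆ : Subgroup G) : Set G) := by
  rw [Subgroup.commutator_def, Subgroup.le_normalizer_closure_iff]
  rintro h hh _ ⟨g₁, hg₁, g₂, hg₂, rfl⟩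
  rw [conjugate_commutatorElement]
  exact Subgroup.subset_closure ⟨_, (Subgroup.mem_normalizer_iff.1 (hA hh) g₁).1 hg₁, _,
    (Subgroup.mem_normalizer_iff.1 (hB hh) g₂).1 hg₂, rfl⟩

theorem sup_normalized {H A B : Subgroup G} (hA : H ≤ Subgroup.normalizer (A : Set G))
    (hB : H ≤ Subgroup.normalizer (B : Set G)) :
    H ≤ Subgroup.normalizer ((A ⊔ B : Subgroup G) : Set G) := by
  rw [Subgroup.sup_eq_closure, Subgroup.le_normalizer_closure_iff]
  rintro h hh g (hg | hg)
  · exact Subgroup.subset_closure (Or.inl ((Subgroup.mem_normalizer_iff.1 (hA hh) g).1 hg))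
  · exact Subgroup.subset_closure (Or.inr ((Subgroup.mem_normalizer_iff.1 (hB hh) g).1 hg))

theorem inf_normalized {H A B : Subgroup G} (hA : H ≤ Subgroup.normalizer (A : Set G))
    (hB : H ≤ Subgroup.normalizer (B : Set G)) :
    H ≤ Subgroup.normalizer ((A ⊓ B : Subgroup G) : Set G) :=
  (le_inf hA hB).trans Subgroup.inf_normalizer_le_normalizer_inf

theorem centralizer_normalized {H R : Subgroup G} (hR : H ≤ Subgroup.normalizer (R : Set G)) :
    H ≤ Subgroup.normalizer ((Subgroup.centralizer (R : Set G) : Subgroup G) : Set G) := by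
  apply le_normalizer_of_conj_mem
  intro g hg n hn
  exact conj_mem_centralizer_of_mem_normalizer (hR hg) hn

theorem map_subtype_normalized {H : Subgroup G} (K : Subgroup H) [hK : K.Normal] :
    H ≤ Subgroup.normalizer ((K.map H.subtype : Subgroup G) : Set G) := by
  apply le_normalizer_of_conj_mem
  rintro g hg _ ⟨k, hk, rfl⟩
  exact ⟨⟨g, hg⟩ * k * ⟨g, hg⟩⁻¹, hK.conj_mem k hk ⟨g, hg⟩, by simp⟩

theorem commutator_le_of_normalized {A B : Subgroup G} (hB : B ≤ Subgroup.normalizer (A : Set G)) :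
    ⁅A, B⁆ ≤ A := by
  rw [Subgroup.commutator_le]
  intro a ha b hb
  rw [commutatorElement_def]
  have : b * a⁻¹ * b⁻¹ ∈ A := (Subgroup.mem_normalizer_iff.1 (hB hb) a⁻¹).1 (inv_mem ha)
  have e : a * b * a⁻¹ * b⁻¹ = a * (b * a⁻¹ * b⁻¹) := by group
  rw [e]
  exact mul_mem ha this

end Normalized

section Average

variable {G : Type*} [Group G] {p : ℕ}

/-- Averaging over the cosets of a Sylow `p`-subgroup `S` of `R`: a vector of the elementary abelian
`p`-group `V` fixed by `S` lies in `[V,R] C_V(R)`. -/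
theorem coset_average [Fact p.Prime] {V R : Subgroup G} [Finite R]
    (hV : IsElementaryAbelian p V) (hRV : R ≤ Subgroup.normalizer (V : Set G)) (S : Sylow p ↥R)
    {v : G} (hv : v ∈ V)
    (hvT : v ∈ Subgroup.centralizer (((S : Subgroup ↥R).map R.subtype : Subgroup G) : Set G)) :
    v ∈ ⁅V, R⁆ ⊔ (V ⊓ Subgroup.centralizer (R : Set G)) := by
  classical
  haveI := hV.1
  letI : CommGroup ↥V := { (inferInstance : Group ↥V) with mul_comm := fun a b => mul_comm' a b }
  haveI : Fintype (↥R ⧸ (S : Subgroup ↥R)) := Fintype.ofFinite _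
  let cj : ↥R → (↥V →* ↥V) := fun r =>
    { toFun := fun a => ⟨(r : G) * a * (r : G)⁻¹, (Subgroup.mem_normalizer_iff.1 (hRV r.2) a).1 a.2⟩
      map_one' := by ext; simp
      map_mul' := fun a b => by ext; simp }
  have hcj : ∀ (r : ↥R) (a : ↥V), ((cj r a : ↥V) : G) = (r : G) * a * (r : G)⁻¹ := fun _ _ => rfl
  let v' : ↥V := ⟨v, hv⟩
  have hwd : ∀ a b : ↥R, (QuotientGroup.leftRel (S : Subgroup ↥R)) a b → cj a v' = cj b v' := by
    intro a b hab
    rw [QuotientGroup.leftRel_apply] at hab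
    have hcomm : ((a⁻¹ * b : ↥R) : G) * v = v * ((a⁻¹ * b : ↥R) : G) :=
      (Subgroup.mem_centralizer_iff.1 hvT) _ ⟨a⁻¹ * b, hab, rfl⟩
    apply Subtype.ext
    rw [hcj, hcj]
    show (a : G) * v * (a : G)⁻¹ = (b : G) * v * (b : G)⁻¹
    obtain ⟨t, ht, hb⟩ : ∃ t : G, t * v = v * t ∧ (b : G) = (a : G) * t :=
      ⟨((a⁻¹ * b : ↥R) : G), hcomm, by simp⟩
    rw [hb]
    calc (a : G) * v * (a : G)⁻¹ = (a : G) * (v * t) * t⁻¹ * (a : G)⁻¹ := by group
      _ = (a : G) * (t * v) * t⁻¹ * (a : G)⁻¹ := by rw [ht]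
      _ = (a : G) * t * v * ((a : G) * t)⁻¹ := by group
  let F : ↥R ⧸ (S : Subgroup ↥R) → ↥V := fun c => Quotient.liftOn' c (fun r => cj r v') hwd
  have hF : ∀ x : ↥R, F (QuotientGroup.mk x) = cj x v' := fun _ => rfl
  set u : ↥V := ∏ c, F c with hu
  -- `u` is fixed by `R`
  have hfix : ∀ r : ↥R, cj r u = u := by
    intro r
    rw [hu, map_prod, ← Equiv.prod_comp (MulAction.toPerm r) F]
    apply Finset.prod_congr rfl
    intro c _
    induction c using Quotient.inductionOn' with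
    | h x =>
      show cj r (F (QuotientGroup.mk x)) = F (r • (QuotientGroup.mk x))
      rw [MulAction.Quotient.smul_mk, hF, hF]
      apply Subtype.ext
      rw [hcj, hcj, hcj]
      simp [mul_assoc]
  have huC : (u : G) ∈ V ⊓ Subgroup.centralizer (R : Set G) := by
    rw [Subgroup.mem_inf]
    refine ⟨u.2, ?_⟩
    rw [Subgroup.mem_centralizer_iff]
    intro r hr
    have := congrArg Subtype.val (hfix ⟨r, hr⟩)
    rw [hcj] at this
    have h2 := congrArg (fun t => t * r) this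
    simpa using h2
  -- decomposition
  have hdecomp : u = v' ^ (Fintype.card (↥R ⧸ (S : Subgroup ↥R))) * ∏ c, (v'⁻¹ * F c) := by
    have h1 : ∀ c, F c = v' * (v'⁻¹ * F c) := fun c => (mul_inv_cancel_left v' (F c)).symm
    calc u = ∏ c, (v' * (v'⁻¹ * F c)) := Finset.prod_congr rfl (fun c _ => h1 c)
      _ = (∏ _c : ↥R ⧸ (S : Subgroup ↥R), v') * ∏ c, (v'⁻¹ * F c) := Finset.prod_mul_distrib
      _ = v' ^ (Fintype.card (↥R ⧸ (S : Subgroup ↥R))) * ∏ c, (v'⁻¹ * F c) := by
          rw [Finset.prod_const, Finset.card_univ]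
  have hd : (∏ c, (v'⁻¹ * F c)) ∈ (⁅V, R⁆ : Subgroup G).subgroupOf V := by
    apply Subgroup.prod_mem
    intro c _
    induction c using Quotient.inductionOn' with
    | h x =>
      show v'⁻¹ * F (QuotientGroup.mk x) ∈ _
      rw [hF, Subgroup.mem_subgroupOf]
      have : ((v'⁻¹ * cj x v' : ↥V) : G) = ⁅v⁻¹, (x : G)⁆ := by
        rw [commutatorElement_def]
        show v⁻¹ * ((x : G) * v * (x : G)⁻¹) = _
        group
      rw [this]
      exact Subgroup.commutator_mem_commutator (inv_mem hv) x.2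
  set W : Subgroup G := ⁅V, R⁆ ⊔ (V ⊓ Subgroup.centralizer (R : Set G)) with hW
  have hvn : v ^ (Fintype.card (↥R ⧸ (S : Subgroup ↥R))) ∈ W := by
    have h1 : v' ^ (Fintype.card (↥R ⧸ (S : Subgroup ↥R))) = u * (∏ c, (v'⁻¹ * F c))⁻¹ := by
      rw [hdecomp, mul_inv_cancel_right]
    have h2 := congrArg Subtype.val h1
    have h3 : v ^ (Fintype.card (↥R ⧸ (S : Subgroup ↥R))) =
        (u : G) * ((∏ c, (v'⁻¹ * F c) : ↥V) : G)⁻¹ := by
      simpa using h2
    rw [h3]
    exact mul_mem (le_sup_right (a := ⁅V, R⁆) huC)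
      (inv_mem (le_sup_left (b := V ⊓ Subgroup.centralizer (R : Set G))
        (Subgroup.mem_subgroupOf.1 hd)))
  -- the number of cosets is prime to `p`
  have hcop : Nat.Coprime (Fintype.card (↥R ⧸ (S : Subgroup ↥R))) p := by
    rw [Nat.coprime_comm, (Fact.out : p.Prime).coprime_iff_not_dvd]
    have := S.not_dvd_index
    rwa [Subgroup.index_eq_card, Nat.card_eq_fintype_card] at this
  have hbez := Nat.gcd_eq_gcd_ab (Fintype.card (↥R ⧸ (S : Subgroup ↥R))) p
  rw [hcop.gcd_eq_one] at hbez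
  have hvp : v ^ p = 1 := hV.2 v hv
  have : v = (v ^ (Fintype.card (↥R ⧸ (S : Subgroup ↥R)))) ^
      (Nat.gcdA (Fintype.card (↥R ⧸ (S : Subgroup ↥R))) p) := by
    have h1 : v = v ^ ((1 : ℕ) : ℤ) := by simp
    rw [hbez, zpow_add, zpow_mul, zpow_mul, zpow_natCast, zpow_natCast, hvp, one_zpow, mul_one] at h1
    exact h1
  rw [this]
  exact zpow_mem hvn _

end Average

end Cfsg.Agent.Helper46
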