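import Cfsg.Agent.Helper46.Qd
import Cfsg.Agent.Helper46.Averaging
import Cfsg.Agent.Helper37.QdSylow
import Cfsg.Agent.Helper25.PGroupBasic

set_option autoImplicit false

namespace Cfsg.Agent.Helper46

open Cfsg

section Generic

/-- In a finite group, a subset closed under multiplication and containing `1` is a subgroup. -/
def subgroupOfMulClosed {G : Type*} [Group G] [Finite G] (s : Set G) (h1 : (1 : G) ∈ s)
    (hmul : ∀ a b, a ∈ s → b ∈ s → a * b ∈ s) : Subgroup G where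
  carrier := s
  one_mem' := h1
  mul_mem' := fun {a b} ha hb => hmul a b ha hb
  inv_mem' := by
    intro x hx
    have hpow : ∀ n : ℕ, x ^ n ∈ s := by
      intro n
      induction n with
      | zero => simpa using h1
      | succ k ih => rw [pow_succ]; exact hmul _ _ ih hx
    have : x⁻¹ = x ^ (orderOf x - 1) := by
      apply inv_eq_of_mul_eq_one_right
      rw [← pow_succ', Nat.sub_add_cancel (orderOf_pos x), pow_orderOf_eq_one]
    rw [this]
    exact hpow _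

theorem mem_subgroupOfMulClosed {G : Type*} [Group G] [Finite G] {s : Set G} {h1 : (1 : G) ∈ s}
    {hmul : ∀ a b, a ∈ s → b ∈ s → a * b ∈ s} {x : G} :
    x ∈ subgroupOfMulClosed s h1 hmul ↔ x ∈ s := Iff.rfl

end Generic

section QdChar

variable {p : ℕ}

/-- Entry accessor for elements of `Qd(p)`. -/
def ent (g : ↥(qd p)) (i j : Fin 3) : ZMod p :=
  ((g : Matrix.SpecialLinearGroup (Fin 3) (ZMod p)) : Matrix (Fin 3) (Fin 3) (ZMod p)) i j

theorem ent_mul (g h : ↥(qd p)) (i j : Fin 3) :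
    ent (g * h) i j = ent g i 0 * ent h 0 j + ent g i 1 * ent h 1 j + ent g i 2 * ent h 2 j := by
  unfold ent
  rw [Subgroup.coe_mul, Matrix.SpecialLinearGroup.coe_mul, Matrix.mul_apply, Fin.sum_univ_three]

theorem ent_one (i j : Fin 3) : ent (1 : ↥(qd p)) i j = if i = j then 1 else 0 := by
  unfold ent
  rw [Subgroup.coe_one, Matrix.SpecialLinearGroup.coe_one, Matrix.one_apply]

theorem ent_last (g : ↥(qd p)) : ent g 2 0 = 0 ∧ ent g 2 1 = 0 ∧ ent g 2 2 = 1 := by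
  have h : (g : Matrix.SpecialLinearGroup (Fin 3) (ZMod p)) ∈ affSub (ZMod p) :=
    (qd_eq_affSub p) ▸ g.2
  exact h

theorem ent_ext {g h : ↥(qd p)} (H : ∀ i j, ent g i j = ent h i j) : g = h := by
  apply Subtype.ext
  apply Subtype.ext
  ext i j
  exact H i j

theorem ent_det (g : ↥(qd p)) : ent g 0 0 * ent g 1 1 - ent g 0 1 * ent g 1 0 = 1 := by
  have hd := (g : Matrix.SpecialLinearGroup (Fin 3) (ZMod p)).2
  obtain ⟨h0, h1, h2⟩ := ent_last g
  unfold ent at *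
  rw [Matrix.det_fin_three, h0, h1, h2] at hd
  linear_combination hd

/-- Constructor for elements of `Qd(p)`. -/
def mkQd (M : Matrix (Fin 3) (Fin 3) (ZMod p)) (hd : M.det = 1)
    (h : M 2 0 = 0 ∧ M 2 1 = 0 ∧ M 2 2 = 1) : ↥(qd p) :=
  ⟨⟨M, hd⟩, by rw [qd_eq_affSub]; exact h⟩

theorem ent_mkQd (M : Matrix (Fin 3) (Fin 3) (ZMod p)) (hd : M.det = 1)
    (h : M 2 0 = 0 ∧ M 2 1 = 0 ∧ M 2 2 = 1) (i j : Fin 3) : ent (mkQd M hd h) i j = M i j := rfl

/-- The unitriangular element with coordinates `(a, b, c)`. -/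
def uni (a b c : ZMod p) : ↥(qd p) :=
  mkQd !![1, a, c; 0, 1, b; 0, 0, 1] (by simp [Matrix.det_fin_three]) (by simp)

theorem ent_uni (a b c : ZMod p) (i j : Fin 3) :
    ent (uni a b c) i j = (!![1, a, c; 0, 1, b; 0, 0, 1] : Matrix (Fin 3) (Fin 3) (ZMod p)) i j := rfl

variable [Fact p.Prime]

instance finiteQd : Finite ↥(qd p) := inferInstance

/-- The standard Sylow `p`-subgroup: unitriangular matrices. -/
def qdS0 (p : ℕ) [Fact p.Prime] : Subgroup ↥(qd p) :=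
  subgroupOfMulClosed {g | ent g 0 0 = 1 ∧ ent g 1 0 = 0 ∧ ent g 1 1 = 1}
    (by simp [ent_one])
    (by
      rintro a b ⟨a0, a1, a2⟩ ⟨b0, b1, b2⟩
      obtain ⟨l0, l1, l2⟩ := ent_last b
      refine ⟨?_, ?_, ?_⟩ <;> rw [ent_mul] <;> simp [a0, a1, a2, b0, b1, b2, l0, l1, l2])

theorem mem_qdS0 {g : ↥(qd p)} : g ∈ qdS0 p ↔ ent g 0 0 = 1 ∧ ent g 1 0 = 0 ∧ ent g 1 1 = 1 := Iff.rfl

/-- The Borel-type subgroup. -/
def qdB0 (p : ℕ) [Fact p.Prime] : Subgroup ↥(qd p) :=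
  subgroupOfMulClosed {g | ent g 1 0 = 0}
    (by simp [ent_one])
    (by
      intro a b ha hb
      obtain ⟨l0, l1, l2⟩ := ent_last b
      have ha' : ent a 1 0 = 0 := ha
      have hb' : ent b 1 0 = 0 := hb
      show ent (a * b) 1 0 = 0
      rw [ent_mul]; simp [ha', hb', l0])

theorem mem_qdB0 {g : ↥(qd p)} : g ∈ qdB0 p ↔ ent g 1 0 = 0 := Iff.rfl

/-- The translation subgroup. -/
def qdVt (p : ℕ) [Fact p.Prime] : Subgroup ↥(qd p) :=
  subgroupOfMulClosed {g | ent g 0 0 = 1 ∧ ent g 0 1 = 0 ∧ ent g 1 0 = 0 ∧ ent g 1 1 = 1}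
    (by simp [ent_one])
    (by
      rintro a b ⟨a0, a1, a2, a3⟩ ⟨b0, b1, b2, b3⟩
      obtain ⟨l0, l1, l2⟩ := ent_last b
      refine ⟨?_, ?_, ?_, ?_⟩ <;> rw [ent_mul] <;> simp [a0, a1, a2, a3, b0, b1, b2, b3, l0, l1, l2])

theorem mem_qdVt {g : ↥(qd p)} :
    g ∈ qdVt p ↔ ent g 0 0 = 1 ∧ ent g 0 1 = 0 ∧ ent g 1 0 = 0 ∧ ent g 1 1 = 1 := Iff.rfl

theorem qdVt_le_qdS0 : qdVt p ≤ qdS0 p := fun _ hg => ⟨hg.1, hg.2.2.1, hg.2.2.2⟩

theorem qdS0_le_qdB0 : qdS0 p ≤ qdB0 p := fun _ hg => hg.2.1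

theorem uni_mem_qdS0 (a b c : ZMod p) : uni a b c ∈ qdS0 p := by
  rw [mem_qdS0]; simp [ent_uni]

theorem eq_uni_of_mem_qdS0 {g : ↥(qd p)} (hg : g ∈ qdS0 p) :
    g = uni (ent g 0 1) (ent g 1 2) (ent g 0 2) := by
  obtain ⟨h0, h1, h2⟩ := hg
  obtain ⟨l0, l1, l2⟩ := ent_last g
  apply ent_ext
  intro i j
  rw [ent_uni]
  fin_cases i <;> fin_cases j <;> simp [h0, h1, h2, l0, l1, l2]

theorem uni_mul (a b c a' b' c' : ZMod p) :
    uni a b c * uni a' b' c' = uni (a + a') (b + b') (c + c' + a * b') := by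
  apply ent_ext
  intro i j
  rw [ent_mul]
  simp only [ent_uni]
  fin_cases i <;> fin_cases j <;> simp <;> ring

theorem uni_inj {a b c a' b' c' : ZMod p} (h : uni a b c = uni a' b' c') :
    a = a' ∧ b = b' ∧ c = c' := by
  have h1 := congrArg (fun g => ent g 0 1) h
  have h2 := congrArg (fun g => ent g 1 2) h
  have h3 := congrArg (fun g => ent g 0 2) h
  simp [ent_uni] at h1 h2 h3
  exact ⟨h1, h2, h3⟩

theorem uni_mem_qdVt {a b c : ZMod p} : uni a b c ∈ qdVt p ↔ a = 0 := by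
  rw [mem_qdVt]; simp [ent_uni]

/-- Coordinates on the standard Sylow subgroup. -/
def qdS0Equiv (p : ℕ) [Fact p.Prime] : ↥(qdS0 p) ≃ ZMod p × ZMod p × ZMod p where
  toFun g := (ent g.1 0 1, ent g.1 1 2, ent g.1 0 2)
  invFun x := ⟨uni x.1 x.2.1 x.2.2, uni_mem_qdS0 _ _ _⟩
  left_inv g := Subtype.ext (eq_uni_of_mem_qdS0 g.2).symm
  right_inv x := by
    obtain ⟨a, b, c⟩ := x
    simp [ent_uni]

theorem card_qdS0 : Nat.card ↥(qdS0 p) = p ^ 3 := by
  rw [Nat.card_congr (qdS0Equiv p), Nat.card_prod, Nat.card_prod, Nat.card_eq_fintype_card, ZMod.card]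
  ring

/-- Coordinates on the translation subgroup. -/
def qdVtEquiv (p : ℕ) [Fact p.Prime] : ↥(qdVt p) ≃ ZMod p × ZMod p where
  toFun g := (ent g.1 1 2, ent g.1 0 2)
  invFun x := ⟨uni 0 x.1 x.2, uni_mem_qdVt.2 rfl⟩
  left_inv g := by
    apply Subtype.ext
    have h := eq_uni_of_mem_qdS0 (qdVt_le_qdS0 g.2)
    have h01 : ent g.1 0 1 = 0 := g.2.2.1
    rw [h01] at h
    exact h.symm
  right_inv x := by
    obtain ⟨b, c⟩ := x
    simp [ent_uni]

theorem card_qdVt : Nat.card ↥(qdVt p) = p ^ 2 := by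
  rw [Nat.card_congr (qdVtEquiv p), Nat.card_prod, Nat.card_eq_fintype_card, ZMod.card]
  ring

theorem eq_uni_of_mem_qdVt {g : ↥(qd p)} (hg : g ∈ qdVt p) :
    g = uni 0 (ent g 1 2) (ent g 0 2) := by
  have h := eq_uni_of_mem_qdS0 (qdVt_le_qdS0 hg)
  have h01 : ent g 0 1 = 0 := hg.2.1
  rw [h01] at h
  exact h

/-- `g v = v' g` for a translation `v`: the translation part is multiplied by the block of `g`. -/
theorem mul_uni_zero (g : ↥(qd p)) (b c : ZMod p) :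
    g * uni 0 b c = uni 0 (ent g 1 0 * c + ent g 1 1 * b) (ent g 0 0 * c + ent g 0 1 * b) * g := by
  obtain ⟨l0, l1, l2⟩ := ent_last g
  apply ent_ext
  intro i j
  rw [ent_mul, ent_mul]
  simp only [ent_uni]
  fin_cases i <;> fin_cases j <;> simp [l0, l1, l2] <;> ring

theorem conj_uni_zero (g : ↥(qd p)) (b c : ZMod p) :
    g * uni 0 b c * g⁻¹ = uni 0 (ent g 1 0 * c + ent g 1 1 * b) (ent g 0 0 * c + ent g 0 1 * b) := by
  rw [mul_uni_zero, mul_inv_cancel_right]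

instance qdVt_normal : (qdVt p).Normal := by
  constructor
  intro v hv g
  rw [eq_uni_of_mem_qdVt hv, conj_uni_zero]
  exact uni_mem_qdVt.2 rfl

theorem centralizer_qdVt_le : Subgroup.centralizer ((qdVt p : Subgroup ↥(qd p)) : Set ↥(qd p)) ≤ qdVt p := by
  intro g hg
  rw [Subgroup.mem_centralizer_iff] at hg
  have h1 := hg (uni 0 0 1) (uni_mem_qdVt.2 rfl)
  have h2 := hg (uni 0 1 0) (uni_mem_qdVt.2 rfl)
  rw [mul_uni_zero] at h1 h2
  have h1' := uni_inj (mul_right_cancel h1)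
  have h2' := uni_inj (mul_right_cancel h2)
  simp at h1' h2'
  rw [mem_qdVt]
  exact ⟨h1'.2.symm, h2'.2.symm, h1'.1.symm, h2'.1.symm⟩

theorem factorization_card_qd : (Nat.card ↥(qd p)).factorization p = 3 := by
  have hp : p.Prime := Fact.out
  rw [Cfsg.Agent.Helper37.card_qd]
  have h1 : p ^ 2 - 1 ≠ 0 := by
    have : 2 ≤ p := hp.two_le
    have : 4 ≤ p ^ 2 := by nlinarith
    omega
  rw [Nat.factorization_mul (pow_ne_zero 3 hp.ne_zero) h1, Finsupp.add_apply,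
    hp.factorization_pow, Finsupp.single_eq_same,
    Nat.factorization_eq_zero_of_not_dvd (Cfsg.Agent.Helper37.not_dvd_sq_sub_one p)]

/-- The standard Sylow subgroup, as a `Sylow`. -/
noncomputable def qdSyl0 (p : ℕ) [Fact p.Prime] : Sylow p ↥(qd p) :=
  Sylow.ofCard (qdS0 p) (by rw [card_qdS0, factorization_card_qd])

theorem coe_qdSyl0 : ((qdSyl0 p : Sylow p ↥(qd p)) : Subgroup ↥(qd p)) = qdS0 p := rfl

/-- The Borel-type subgroup normalizes the standard Sylow subgroup. -/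
theorem qdB0_le_normalizer : qdB0 p ≤ Subgroup.normalizer ((qdS0 p : Subgroup ↥(qd p)) : Set ↥(qd p)) := by
  apply le_normalizer_of_conj_mem
  intro g hg s hs
  have hgB : ent g 1 0 = 0 := hg
  have hgi : g⁻¹ ∈ qdB0 p := inv_mem hg
  have hgiB : ent g⁻¹ 1 0 = 0 := hgi
  have hmem : g * s * g⁻¹ ∈ qdB0 p := mul_mem (mul_mem hg (qdS0_le_qdB0 hs)) hgi
  have h10 : ent (g * s * g⁻¹) 1 0 = 0 := hmem
  obtain ⟨s0, s1, s2⟩ := hs
  obtain ⟨l0, l1, l2⟩ := ent_last g⁻¹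
  obtain ⟨m0, m1, m2⟩ := ent_last s
  have h00 : ent (g * s * g⁻¹) 0 0 = 1 := by
    have h1 : ent (g * g⁻¹) 0 0 = 1 := by rw [mul_inv_cancel, ent_one]; simp
    rw [ent_mul] at h1
    rw [ent_mul, ent_mul, ent_mul, ent_mul]
    simp only [hgiB, l0, s0, s1, m0, mul_zero, add_zero, mul_one, zero_mul] at h1 ⊢
    exact h1
  have hdet := ent_det (g * s * g⁻¹)
  rw [h00, h10, mul_zero, sub_zero, one_mul] at hdet
  exact ⟨h00, h10, hdet⟩

theorem uni_zero_pow (b : ZMod p) (k : ℕ) :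
    (uni 0 b 0 : ↥(qd p)) ^ k = uni 0 ((k : ZMod p) * b) 0 := by
  induction k with
  | zero =>
    rw [pow_zero]
    apply ent_ext
    intro i j
    rw [ent_one, ent_uni]
    fin_cases i <;> fin_cases j <;> simp
  | succ k ih =>
    rw [pow_succ, ih, uni_mul]
    congr 1 <;> push_cast <;> ring

theorem uni_zero_eq_one : (uni 0 0 0 : ↥(qd p)) = 1 := by
  apply ent_ext
  intro i j
  rw [ent_one, ent_uni]
  fin_cases i <;> fin_cases j <;> simp

/-- A proper nontrivial `S₀`-invariant subgroup of the translation group has its normalizer inside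
the normalizer of `S₀`. -/
theorem normalizer_le_of_invariant {W : Subgroup ↥(qd p)} (hWV : W ≤ qdVt p) (hW1 : W ≠ ⊥)
    (hWV' : W ≠ qdVt p) (hSW : qdS0 p ≤ Subgroup.normalizer (W : Set ↥(qd p))) :
    Subgroup.normalizer (W : Set ↥(qd p)) ≤
      Subgroup.normalizer ((qdS0 p : Subgroup ↥(qd p)) : Set ↥(qd p)) := by
  refine le_trans ?_ qdB0_le_normalizer
  have hb0 : ∀ w ∈ W, ent w 1 2 = 0 := by
    intro w hw
    by_contra hb
    apply hWV'
    apply le_antisymm hWV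
    -- `w = uni 0 b c` with `b ≠ 0`
    have hwe := eq_uni_of_mem_qdVt (hWV hw)
    obtain ⟨b, hbdef⟩ : ∃ b, ent w 1 2 = b := ⟨_, rfl⟩
    obtain ⟨c, hcdef⟩ : ∃ c, ent w 0 2 = c := ⟨_, rfl⟩
    rw [hbdef] at hb
    rw [hbdef, hcdef] at hwe
    -- all `uni 0 b c''` lie in `W`
    have h1 : ∀ c'' : ZMod p, uni 0 b c'' ∈ W := by
      intro c''
      have hu : uni ((c'' - c) / b) 0 0 ∈ qdS0 p := uni_mem_qdS0 _ _ _
      have := (Subgroup.mem_normalizer_iff.1 (hSW hu) w).1 hw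
      rw [hwe, conj_uni_zero] at this
      simp only [ent_uni] at this
      have e : uni 0 ((0 : ZMod p) * c + 1 * b) (1 * c + (c'' - c) / b * b) = (uni 0 b c'' : ↥(qd p)) := by
        congr 1
        · ring
        · field_simp
          ring
      simpa using e ▸ this
    have h2 : ∀ c'' : ZMod p, uni 0 0 c'' ∈ W := by
      intro c''
      have e : (uni 0 b 0 : ↥(qd p))⁻¹ * uni 0 b c'' = uni 0 0 c'' := by
        rw [inv_mul_eq_iff_eq_mul, uni_mul]
        congr 1 <;> ring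
      rw [← e]
      exact mul_mem (inv_mem (h1 0)) (h1 c'')
    have h3 : ∀ b' : ZMod p, uni 0 b' 0 ∈ W := by
      intro b'
      have e : (uni 0 b 0 : ↥(qd p)) ^ (b' / b).val = uni 0 b' 0 := by
        rw [uni_zero_pow, ZMod.natCast_zmod_val (b' / b)]
        congr 1
        field_simp
      rw [← e]
      exact pow_mem (h1 0) _
    intro v hv
    rw [eq_uni_of_mem_qdVt hv]
    have e : (uni 0 (ent v 1 2) 0 : ↥(qd p)) * uni 0 0 (ent v 0 2) = uni 0 (ent v 1 2) (ent v 0 2) := by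
      rw [uni_mul]
      congr 1 <;> ring
    rw [← e]
    exact mul_mem (h3 _) (h2 _)
  intro g hg
  rw [mem_qdB0]
  -- a nonidentity element of `W`
  obtain ⟨w, hw, hw1⟩ : ∃ w ∈ W, w ≠ 1 := by
    by_contra hcon
    push Not at hcon
    exact hW1 (eq_bot_iff.2 fun w hw => Subgroup.mem_bot.2 (hcon w hw))
  have hwe := eq_uni_of_mem_qdVt (hWV hw)
  rw [hb0 w hw] at hwe
  have hc : ent w 0 2 ≠ 0 := by
    intro h0
    rw [h0, uni_zero_eq_one] at hwe
    exact hw1 hwe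
  have hconj := (Subgroup.mem_normalizer_iff.1 hg w).1 hw
  have h12 := hb0 _ hconj
  rw [hwe, conj_uni_zero] at h12
  simp only [ent_uni] at h12
  have : ent g 1 0 * ent w 0 2 = 0 := by simpa using h12
  rcases mul_eq_zero.1 this with h | h
  · exact h
  · exact absurd h hc

/-- The graph automorphism of the standard Sylow subgroup. -/
def qdGraphAut (p : ℕ) [Fact p.Prime] : ↥(qdS0 p) ≃* ↥(qdS0 p) where
  toFun s := ⟨uni (-(ent s.1 1 2)) (-(ent s.1 0 1)) (ent s.1 0 1 * ent s.1 1 2 - ent s.1 0 2),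
    uni_mem_qdS0 _ _ _⟩
  invFun s := ⟨uni (-(ent s.1 1 2)) (-(ent s.1 0 1)) (ent s.1 0 1 * ent s.1 1 2 - ent s.1 0 2),
    uni_mem_qdS0 _ _ _⟩
  left_inv s := by
    apply Subtype.ext
    rw [eq_uni_of_mem_qdS0 s.2]
    simp only [ent_uni]
    congr 1 <;> simp <;> ring
  right_inv s := by
    apply Subtype.ext
    rw [eq_uni_of_mem_qdS0 s.2]
    simp only [ent_uni]
    congr 1 <;> simp <;> ring
  map_mul' s t := by
    apply Subtype.ext
    show uni _ _ _ = uni _ _ _ * uni _ _ _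
    rw [Subgroup.coe_mul, eq_uni_of_mem_qdS0 s.2, eq_uni_of_mem_qdS0 t.2, uni_mul, uni_mul]
    simp only [ent_uni]
    congr 1 <;> simp <;> ring

theorem qdGraphAut_moves :
    ((qdVt p).subgroupOf (qdS0 p)).map (qdGraphAut p).toMonoidHom ≠ (qdVt p).subgroupOf (qdS0 p) := by
  intro h
  have hmem : (⟨uni 0 1 0, uni_mem_qdS0 _ _ _⟩ : ↥(qdS0 p)) ∈ (qdVt p).subgroupOf (qdS0 p) := by
    rw [Subgroup.mem_subgroupOf]
    exact uni_mem_qdVt.2 rfl
  have h2 : (qdGraphAut p) ⟨uni 0 1 0, uni_mem_qdS0 _ _ _⟩ ∈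
      ((qdVt p).subgroupOf (qdS0 p)).map (qdGraphAut p).toMonoidHom := ⟨_, hmem, rfl⟩
  rw [h, Subgroup.mem_subgroupOf] at h2
  have h3 : (uni (-(ent (uni (0 : ZMod p) 1 0) 1 2)) (-(ent (uni (0 : ZMod p) 1 0) 0 1))
      (ent (uni (0 : ZMod p) 1 0) 0 1 * ent (uni (0 : ZMod p) 1 0) 1 2 - ent (uni (0 : ZMod p) 1 0) 0 2) :
      ↥(qd p)) ∈ qdVt p := h2
  rw [uni_mem_qdVt] at h3
  simp [ent_uni] at h3

/-- The standard Sylow subgroup is not normal. -/
theorem normalizer_qdS0_ne_top :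
    Subgroup.normalizer ((qdS0 p : Subgroup ↥(qd p)) : Set ↥(qd p)) ≠ ⊤ := by
  intro h
  have hg : (mkQd !![0, -1, 0; 1, 0, 0; 0, 0, 1] (by simp [Matrix.det_fin_three]) (by simp) : ↥(qd p)) ∈
      Subgroup.normalizer ((qdS0 p : Subgroup ↥(qd p)) : Set ↥(qd p)) := by
    rw [h]; exact Subgroup.mem_top _
  have hs : uni (1 : ZMod p) 0 0 ∈ qdS0 p := uni_mem_qdS0 _ _ _
  have hconj := (Subgroup.mem_normalizer_iff.1 hg _).1 hs
  obtain ⟨t, ht⟩ : ∃ t, t = (mkQd !![0, -1, 0; 1, 0, 0; 0, 0, 1] (by simp [Matrix.det_fin_three])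
      (by simp) : ↥(qd p)) * uni (1 : ZMod p) 0 0 *
      (mkQd !![0, -1, 0; 1, 0, 0; 0, 0, 1] (by simp [Matrix.det_fin_three]) (by simp) : ↥(qd p))⁻¹ :=
    ⟨_, rfl⟩
  rw [← ht] at hconj
  have hmul : t * (mkQd !![0, -1, 0; 1, 0, 0; 0, 0, 1] (by simp [Matrix.det_fin_three]) (by simp) : ↥(qd p))
      = (mkQd !![0, -1, 0; 1, 0, 0; 0, 0, 1] (by simp [Matrix.det_fin_three]) (by simp) : ↥(qd p)) *
        uni (1 : ZMod p) 0 0 := by
    rw [ht, inv_mul_cancel_right]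
  have h11 := congrArg (fun g => ent g 1 1) hmul
  simp only [ent_mul, ent_mkQd, ent_uni] at h11
  obtain ⟨t0, t1, t2⟩ := hconj
  obtain ⟨l0, l1, l2⟩ := ent_last t
  simp [t0, t1, t2] at h11

end QdChar

end Cfsg.Agent.Helper46
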