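import Mathlib

set_option autoImplicit false

/-!
# Splitting a quaternion pair over a subfield

If `I, J` are `2 × 2` matrices over `F` with `I² = J² = -1`, `JI = -IJ`, and `1 + y² + z² = 0`,
then a simultaneous conjugation takes `I, J` to the explicit matrices
`!![-y, z; z, y]`, `!![-z, -y; -y, z]`.  Consequently a matrix whose traces against
`1, I, J, IJ` lie in a subfield `K ∋ y, z` is conjugated to a `K`-rational matrix.
-/

namespace Cfsg.Agent.Helper46.Mx

open Matrix

variable {F : Type*} [Field F]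

local notation "M2F" => Matrix (Fin 2) (Fin 2) F

theorem exists_entry_ne_zero (N : M2F) (hN : N ≠ 0) : ∃ i j, N i j ≠ 0 := by
  by_contra h
  apply hN
  ext i j
  by_contra hij
  exact h ⟨i, j, hij⟩

theorem mul_entry (A B : M2F) (a b : Fin 2) : (A * B) a b = A a 0 * B 0 b + A a 1 * B 1 b := by
  rw [Matrix.mul_apply, Fin.sum_univ_two]

omit [Field F] in
theorem eq_of_entries (A B : M2F) (h00 : A 0 0 = B 0 0) (h01 : A 0 1 = B 0 1)
    (h10 : A 1 0 = B 1 0) (h11 : A 1 1 = B 1 1) : A = B := by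
  ext a b
  fin_cases a <;> fin_cases b <;> assumption

/-- the splitting of a quaternion pair -/
theorem quat_split (h2 : (2 : F) ≠ 0) (I J : M2F) (hII : I * I = -1) (hJJ : J * J = -1)
    (hJI : J * I = -(I * J)) (y z : F) (hyz : 1 + y ^ 2 + z ^ 2 = 0) :
    ∃ P Q : M2F, P * Q = 1 ∧ Q * P = 1 ∧ P * I * Q = !![-y, z; z, y] ∧
      P * J * Q = !![-z, -y; -y, z] := by
  have hyz' : y ^ 2 + z ^ 2 = -1 := by linear_combination hyz
  -- the involution `X` and the element `K`
  have hJI0 := hJI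
  obtain ⟨K, hK⟩ : ∃ K : M2F, K = I * J := ⟨_, rfl⟩
  rw [← hK] at hJI
  have hIJI : K * I = J := by
    rw [hK, Matrix.mul_assoc, hJI0, Matrix.mul_neg, ← Matrix.mul_assoc, hII]; simp
  have hJIJ : J * K = I := by
    rw [hK, ← Matrix.mul_assoc, hJI0, Matrix.neg_mul, Matrix.mul_assoc, hJJ]; simp
  have hIK : I * K = -J := by
    rw [hK, ← Matrix.mul_assoc, hII]; simp
  have hKJ : K * J = -I := by
    rw [hK, Matrix.mul_assoc, hJJ]; simp
  have hKK : K * K = -1 := by
    calc K * K = K * (I * J) := by rw [← hK]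
      _ = (K * I) * J := by rw [Matrix.mul_assoc]
      _ = -1 := by rw [hIJI, hJJ]
  obtain ⟨X, hX⟩ : ∃ X : M2F, X = y • I + z • J := ⟨_, rfl⟩
  have hXX : X * X = 1 := by
    have : X * X = (y * y) • (I * I) + (y * z) • (I * J) + ((z * y) • (J * I) + (z * z) • (J * J)) := by
      rw [hX]
      simp only [Matrix.add_mul, Matrix.mul_add, Matrix.smul_mul, Matrix.mul_smul]
      module
    rw [this, hII, hJJ, ← hK, hJI]
    have e : (y * y) • (-1 : M2F) + (y * z) • K + ((z * y) • -K + (z * z) • (-1 : M2F)) =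
        (-(y ^ 2 + z ^ 2)) • (1 : M2F) := by
      module
    rw [e, hyz', neg_neg, one_smul]
  have hXK : X * K = z • I - y • J := by
    rw [hX, Matrix.add_mul, Matrix.smul_mul, Matrix.smul_mul, hIK, hJIJ]
    module
  have hKX : K * X = -(z • I - y • J) := by
    rw [hX, Matrix.mul_add, Matrix.mul_smul, Matrix.mul_smul, hIJI, hKJ]
    module
  have hXKanti : X * K = -(K * X) := by rw [hKX, neg_neg, hXK]
  obtain ⟨N, hN⟩ : ∃ N : M2F, N = 1 + X := ⟨_, rfl⟩
  have hNN : N * N = (2 : F) • N := by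
    rw [hN]
    simp only [Matrix.add_mul, Matrix.mul_add, Matrix.one_mul, Matrix.mul_one, hXX]
    module
  have hXN : X * N = N := by
    rw [hN, Matrix.mul_add, Matrix.mul_one, hXX, add_comm]
  obtain ⟨KN, hKN⟩ : ∃ KN : M2F, KN = K * N := ⟨_, rfl⟩
  obtain ⟨NK, hNK⟩ : ∃ NK : M2F, NK = N * K := ⟨_, rfl⟩
  have hNK' : NK = K * (1 - X) := by
    rw [hNK, hN, Matrix.add_mul, Matrix.one_mul, hXKanti, Matrix.mul_sub, Matrix.mul_one]
    abel
  have hNKN : NK * N = 0 := by
    have e : (1 - X) * (1 + X) = 0 := by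
      rw [Matrix.sub_mul, Matrix.one_mul, Matrix.mul_add, Matrix.mul_one, hXX]
      abel
    rw [hNK', Matrix.mul_assoc, hN, e, Matrix.mul_zero]
  have hNKN2 : N * KN = 0 := by
    rw [hKN, ← Matrix.mul_assoc, ← hNK, hNKN]
  have hNKKN : NK * KN = -((2 : F) • N) := by
    rw [hNK, hKN, Matrix.mul_assoc, ← Matrix.mul_assoc K K N, hKK, Matrix.neg_mul, Matrix.one_mul,
      Matrix.mul_neg, hNN]
  have hXKN : X * KN = -KN := by
    rw [hKN, ← Matrix.mul_assoc, hXKanti, Matrix.neg_mul, Matrix.mul_assoc, hXN]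
  have hKKN : K * KN = -N := by
    rw [hKN, ← Matrix.mul_assoc, hKK, Matrix.neg_mul, Matrix.one_mul]
  have htrI : I.trace = 0 := by
    have h1 : (J * K).trace = I.trace := by rw [hJIJ]
    rw [Matrix.trace_mul_comm, hKJ, Matrix.trace_neg] at h1
    have : (2 : F) * I.trace = 0 := by linear_combination -h1
    rcases mul_eq_zero.1 this with h | h
    · exact absurd h h2
    · exact h
  have htrJ : J.trace = 0 := by
    have h1 : (K * I).trace = J.trace := by rw [hIJI]
    rw [Matrix.trace_mul_comm, hIK, Matrix.trace_neg] at h1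
    have : (2 : F) * J.trace = 0 := by linear_combination -h1
    rcases mul_eq_zero.1 this with h | h
    · exact absurd h h2
    · exact h
  have htrN : N.trace = 2 := by
    rw [hN, Matrix.trace_add, hX, Matrix.trace_add, Matrix.trace_smul, Matrix.trace_smul, htrI,
      htrJ, Matrix.trace_one]
    simp
  have hN0 : N ≠ 0 := by
    intro h
    rw [h, Matrix.trace_zero] at htrN
    exact h2 htrN.symm
  obtain ⟨i, j, hij⟩ := exists_entry_ne_zero N hN0
  -- the matrices
  obtain ⟨Q, hQ⟩ : ∃ Q : M2F, Q = !![N 0 j, KN 0 j; N 1 j, KN 1 j] := ⟨_, rfl⟩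
  obtain ⟨P0, hP0⟩ : ∃ P0 : M2F, P0 = !![N i 0, N i 1; -NK i 0, -NK i 1] := ⟨_, rfl⟩
  have e_NN : ∀ a b, N a 0 * N 0 b + N a 1 * N 1 b = 2 * N a b := by
    intro a b
    have := congrFun (congrFun hNN a) b
    rwa [mul_entry, Matrix.smul_apply, smul_eq_mul] at this
  have e_NKN : ∀ a b, N a 0 * KN 0 b + N a 1 * KN 1 b = 0 := by
    intro a b
    have := congrFun (congrFun hNKN2 a) b
    rwa [mul_entry] at this
  have e_NKN' : ∀ a b, NK a 0 * N 0 b + NK a 1 * N 1 b = 0 := by
    intro a b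
    have := congrFun (congrFun hNKN a) b
    rwa [mul_entry] at this
  have e_NKKN : ∀ a b, NK a 0 * KN 0 b + NK a 1 * KN 1 b = -(2 * N a b) := by
    intro a b
    have := congrFun (congrFun hNKKN a) b
    rwa [mul_entry, Matrix.neg_apply, Matrix.smul_apply, smul_eq_mul] at this
  have hP0Q : P0 * Q = (2 * N i j) • (1 : M2F) := by
    apply eq_of_entries
    · rw [mul_entry, hP0, hQ]
      simp only [Matrix.of_apply, Matrix.cons_val', Matrix.cons_val_zero, Matrix.cons_val_one,
        Matrix.cons_val_fin_one, Matrix.smul_apply, Matrix.one_apply_eq, smul_eq_mul, mul_one]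
      exact e_NN i j
    · rw [mul_entry, hP0, hQ]
      simp only [Matrix.of_apply, Matrix.cons_val', Matrix.cons_val_zero, Matrix.cons_val_one,
        Matrix.cons_val_fin_one, Matrix.smul_apply, smul_eq_mul, ne_eq, zero_ne_one,
        not_false_eq_true, Matrix.one_apply_ne, mul_zero]
      exact e_NKN i j
    · rw [mul_entry, hP0, hQ]
      simp only [Matrix.of_apply, Matrix.cons_val', Matrix.cons_val_zero, Matrix.cons_val_one,
        Matrix.cons_val_fin_one, Matrix.smul_apply, smul_eq_mul, ne_eq, one_ne_zero,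
        not_false_eq_true, Matrix.one_apply_ne, mul_zero]
      have := e_NKN' i j
      linear_combination -this
    · rw [mul_entry, hP0, hQ]
      simp only [Matrix.of_apply, Matrix.cons_val', Matrix.cons_val_zero, Matrix.cons_val_one,
        Matrix.cons_val_fin_one, Matrix.smul_apply, Matrix.one_apply_eq, smul_eq_mul, mul_one]
      have := e_NKKN i j
      linear_combination -this
  have h2n : (2 * N i j) ≠ 0 := mul_ne_zero h2 hij
  obtain ⟨P, hP⟩ : ∃ P : M2F, P = (2 * N i j)⁻¹ • P0 := ⟨_, rfl⟩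
  have hPQ : P * Q = 1 := by
    rw [hP, Matrix.smul_mul, hP0Q, smul_smul, inv_mul_cancel₀ h2n, one_smul]
  have hQP : Q * P = 1 := mul_eq_one_comm.1 hPQ
  -- intertwining relations
  have hXQ : X * Q = Q * !![1, 0; 0, -1] := by
    have e1 : ∀ a b, X a 0 * N 0 b + X a 1 * N 1 b = N a b := by
      intro a b
      have := congrFun (congrFun hXN a) b
      rwa [mul_entry] at this
    have e2 : ∀ a b, X a 0 * KN 0 b + X a 1 * KN 1 b = -KN a b := by
      intro a b
      have := congrFun (congrFun hXKN a) b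
      rwa [mul_entry, Matrix.neg_apply] at this
    apply eq_of_entries <;> rw [mul_entry, mul_entry, hQ] <;>
      simp only [Matrix.of_apply, Matrix.cons_val', Matrix.cons_val_zero, Matrix.cons_val_one,
        Matrix.cons_val_fin_one, mul_one, mul_zero, add_zero, zero_add, mul_neg]
    · exact e1 0 j
    · exact e2 0 j
    · exact e1 1 j
    · exact e2 1 j
  have hKQ : K * Q = Q * !![0, -1; 1, 0] := by
    have e1 : ∀ a b, K a 0 * N 0 b + K a 1 * N 1 b = KN a b := by
      intro a b
      rw [hKN, mul_entry]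
    have e2 : ∀ a b, K a 0 * KN 0 b + K a 1 * KN 1 b = -N a b := by
      intro a b
      have := congrFun (congrFun hKKN a) b
      rwa [mul_entry, Matrix.neg_apply] at this
    apply eq_of_entries <;> rw [mul_entry, mul_entry, hQ] <;>
      simp only [Matrix.of_apply, Matrix.cons_val', Matrix.cons_val_zero, Matrix.cons_val_one,
        Matrix.cons_val_fin_one, mul_one, mul_zero, add_zero, zero_add, mul_neg]
    · exact e1 0 j
    · exact e2 0 j
    · exact e1 1 j
    · exact e2 1 j
  have hPXQ : P * X * Q = !![1, 0; 0, -1] := by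
    rw [Matrix.mul_assoc, hXQ, ← Matrix.mul_assoc, hPQ, Matrix.one_mul]
  have hPKQ : P * K * Q = !![0, -1; 1, 0] := by
    rw [Matrix.mul_assoc, hKQ, ← Matrix.mul_assoc, hPQ, Matrix.one_mul]
  have hPXKQ : P * (X * K) * Q = !![0, -1; -1, 0] := by
    have : P * (X * K) * Q = (P * X * Q) * (P * K * Q) := by
      calc P * (X * K) * Q = P * X * (1 : M2F) * K * Q := by
            rw [Matrix.mul_one]; simp only [Matrix.mul_assoc]
        _ = (P * X * Q) * (P * K * Q) := by rw [← hQP]; simp only [Matrix.mul_assoc]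
    rw [this, hPXQ, hPKQ]
    apply eq_of_entries <;> rw [mul_entry] <;> simp
  have hIexp : I = -(y • X + z • (X * K)) := by
    rw [hXK, hX]
    have : -(y • (y • I + z • J) + z • (z • I - y • J)) = (-(y ^ 2 + z ^ 2)) • I := by module
    rw [this, hyz', neg_neg, one_smul]
  have hJexp : J = -(z • X - y • (X * K)) := by
    rw [hXK, hX]
    have : -(z • (y • I + z • J) - y • (z • I - y • J)) = (-(y ^ 2 + z ^ 2)) • J := by module
    rw [this, hyz', neg_neg, one_smul]
  refine ⟨P, Q, hPQ, hQP, ?_, ?_⟩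
  · have : P * I * Q = -(y • (P * X * Q) + z • (P * (X * K) * Q)) := by
      conv_lhs => rw [hIexp]
      simp only [Matrix.mul_neg, Matrix.neg_mul, Matrix.mul_add, Matrix.add_mul, Matrix.mul_smul,
        Matrix.smul_mul]
    rw [this, hPXQ, hPXKQ]
    apply eq_of_entries <;> simp
  · have : P * J * Q = -(z • (P * X * Q) - y • (P * (X * K) * Q)) := by
      conv_lhs => rw [hJexp]
      simp only [Matrix.mul_neg, Matrix.neg_mul, Matrix.mul_sub, Matrix.sub_mul, Matrix.mul_smul,
        Matrix.smul_mul]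
    rw [this, hPXQ, hPXKQ]
    apply eq_of_entries <;> simp

/-- a matrix whose traces against the explicit quaternion basis lie in `K` is `K`-rational -/
theorem entries_mem_of_traces (h2 : (2 : F) ≠ 0) (K : Subfield F) (y z : F) (hy : y ∈ K)
    (hz : z ∈ K) (hyz : 1 + y ^ 2 + z ^ 2 = 0) (g : M2F) (h1 : g.trace ∈ K)
    (hI : (g * !![-y, z; z, y]).trace ∈ K) (hJ : (g * !![-z, -y; -y, z]).trace ∈ K)
    (hK : (g * !![0, -1; 1, 0]).trace ∈ K) : ∀ i j, g i j ∈ K := by
  have hyz' : y ^ 2 + z ^ 2 = -1 := by linear_combination hyz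
  rw [Matrix.trace_fin_two] at h1 hI hJ hK
  rw [mul_entry, mul_entry] at hI hJ hK
  simp only [Matrix.of_apply, Matrix.cons_val', Matrix.cons_val_zero, Matrix.cons_val_one,
    Matrix.cons_val_fin_one] at hI hJ hK
  have h2K : (2 : F)⁻¹ ∈ K := K.inv_mem (by
    have : (2 : F) = 1 + 1 := by norm_num
    rw [this]; exact K.add_mem K.one_mem K.one_mem)
  have had : g 0 0 - g 1 1 ∈ K := by
    have : g 0 0 - g 1 1 = y * (g 0 0 * -y + g 0 1 * z + (g 1 0 * z + g 1 1 * y)) +
        z * (g 0 0 * -z + g 0 1 * -y + (g 1 0 * -y + g 1 1 * z)) := by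
      linear_combination (g 0 0 - g 1 1) * hyz'
    rw [this]
    exact K.add_mem (K.mul_mem hy hI) (K.mul_mem hz hJ)
  have hbc : g 0 1 + g 1 0 ∈ K := by
    have : g 0 1 + g 1 0 = -(z * (g 0 0 * -y + g 0 1 * z + (g 1 0 * z + g 1 1 * y))) +
        y * (g 0 0 * -z + g 0 1 * -y + (g 1 0 * -y + g 1 1 * z)) := by
      linear_combination (g 0 1 + g 1 0) * hyz'
    rw [this]
    exact K.add_mem (K.neg_mem (K.mul_mem hz hI)) (K.mul_mem hy hJ)
  have hbc' : g 0 1 - g 1 0 ∈ K := by
    have : g 0 1 - g 1 0 = g 0 0 * 0 + g 0 1 * 1 + (g 1 0 * -1 + g 1 1 * 0) := by ring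
    rw [this]; exact hK
  have h00 : g 0 0 ∈ K := by
    have : g 0 0 = (2 : F)⁻¹ * ((g 0 0 + g 1 1) + (g 0 0 - g 1 1)) := by field_simp; ring
    rw [this]; exact K.mul_mem h2K (K.add_mem h1 had)
  have h11 : g 1 1 ∈ K := by
    have : g 1 1 = (2 : F)⁻¹ * ((g 0 0 + g 1 1) - (g 0 0 - g 1 1)) := by field_simp; ring
    rw [this]; exact K.mul_mem h2K (K.sub_mem h1 had)
  have h01 : g 0 1 ∈ K := by
    have : g 0 1 = (2 : F)⁻¹ * ((g 0 1 + g 1 0) + (g 0 1 - g 1 0)) := by field_simp; ring
    rw [this]; exact K.mul_mem h2K (K.add_mem hbc hbc')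
  have h10 : g 1 0 ∈ K := by
    have : g 1 0 = (2 : F)⁻¹ * ((g 0 1 + g 1 0) - (g 0 1 - g 1 0)) := by field_simp; ring
    rw [this]; exact K.mul_mem h2K (K.sub_mem hbc hbc')
  intro i j
  fin_cases i <;> fin_cases j <;> assumption

/-- **Quaternion descent**: a quaternion pair `I, J` and `y, z ∈ K` with `1 + y² + z² = 0` give a
conjugation making `K`-rational every matrix whose traces against `1, I, J, IJ` lie in `K`. -/
theorem quat_descent (h2 : (2 : F) ≠ 0) (K : Subfield F) (I J : M2F) (hII : I * I = -1)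
    (hJJ : J * J = -1) (hJI : J * I = -(I * J)) (y z : F) (hy : y ∈ K) (hz : z ∈ K)
    (hyz : 1 + y ^ 2 + z ^ 2 = 0) :
    ∃ P Q : M2F, P * Q = 1 ∧ Q * P = 1 ∧
      ∀ g : M2F, g.trace ∈ K → (g * I).trace ∈ K → (g * J).trace ∈ K →
        (g * (I * J)).trace ∈ K → ∀ i j, (P * g * Q) i j ∈ K := by
  have hyz' : y ^ 2 + z ^ 2 = -1 := by linear_combination hyz
  obtain ⟨P, Q, hPQ, hQP, hI, hJ⟩ := quat_split h2 I J hII hJJ hJI y z hyz
  refine ⟨P, Q, hPQ, hQP, ?_⟩
  intro g h1 hgI hgJ hgK
  have key : ∀ A : M2F, (P * g * Q * (P * A * Q)).trace = (g * A).trace := by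
    intro A
    have : P * g * Q * (P * A * Q) = P * (g * A * Q) := by
      calc P * g * Q * (P * A * Q) = P * g * (Q * P) * A * Q := by simp only [Matrix.mul_assoc]
        _ = P * (g * A * Q) := by rw [hQP, Matrix.mul_one]; simp only [Matrix.mul_assoc]
    rw [this, Matrix.trace_mul_comm, Matrix.mul_assoc, Matrix.mul_assoc, hQP, Matrix.mul_one]
  have hIJ : P * (I * J) * Q = !![0, -1; 1, 0] := by
    have : P * (I * J) * Q = (P * I * Q) * (P * J * Q) := by
      calc P * (I * J) * Q = P * I * (1 : M2F) * J * Q := by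
            rw [Matrix.mul_one]; simp only [Matrix.mul_assoc]
        _ = (P * I * Q) * (P * J * Q) := by rw [← hQP]; simp only [Matrix.mul_assoc]
    rw [this, hI, hJ]
    apply eq_of_entries <;> rw [mul_entry] <;>
      simp only [Matrix.of_apply, Matrix.cons_val', Matrix.cons_val_zero, Matrix.cons_val_one,
        Matrix.cons_val_fin_one]
    · ring
    · linear_combination hyz'
    · linear_combination -hyz'
    · ring
  apply entries_mem_of_traces h2 K y z hy hz hyz
  · have : (P * g * Q).trace = g.trace := by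
      rw [Matrix.trace_mul_comm, ← Matrix.mul_assoc, hQP, Matrix.one_mul]
    rw [this]; exact h1
  · rw [← hI, key]; exact hgI
  · rw [← hJ, key]; exact hgJ
  · rw [← hIJ, key]; exact hgK

end Cfsg.Agent.Helper46.Mx
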