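import Mathlib
import Cfsg.Agent.Helper46.MxQuat
import Cfsg.Agent.Helper46.SL2SubGenA

set_option autoImplicit false

/-!
# Conjugation of `SL₂(F)` and `PSL₂(F)` by an invertible matrix, and standard subfield subgroups
-/

namespace Cfsg.Agent.Helper46.Mx

open Matrix Cfsg.Agent.Helper46.Dk

variable {F : Type*} [Field F]

local notation "M2F" => Matrix (Fin 2) (Fin 2) F
local notation "SL2F" => Matrix.SpecialLinearGroup (Fin 2) F
local notation "PSL2F" => Matrix.ProjectiveSpecialLinearGroup (Fin 2) F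

/-- conjugation of `SL₂(F)` by a pair of mutually inverse matrices -/
noncomputable def conjSL (P Q : M2F) (hPQ : P * Q = 1) (hQP : Q * P = 1) : SL2F ≃* SL2F where
  toFun g := ⟨P * g.1 * Q, by
    rw [Matrix.det_mul, Matrix.det_mul, g.2, mul_one, ← Matrix.det_mul, hPQ, Matrix.det_one]⟩
  invFun g := ⟨Q * g.1 * P, by
    rw [Matrix.det_mul, Matrix.det_mul, g.2, mul_one, ← Matrix.det_mul, hQP, Matrix.det_one]⟩
  left_inv g := by
    apply Subtype.ext
    show Q * (P * g.1 * Q) * P = g.1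
    calc Q * (P * g.1 * Q) * P = (Q * P) * g.1 * (Q * P) := by simp only [Matrix.mul_assoc]
      _ = g.1 := by rw [hQP, Matrix.one_mul, Matrix.mul_one]
  right_inv g := by
    apply Subtype.ext
    show P * (Q * g.1 * P) * Q = g.1
    calc P * (Q * g.1 * P) * Q = (P * Q) * g.1 * (P * Q) := by simp only [Matrix.mul_assoc]
      _ = g.1 := by rw [hPQ, Matrix.one_mul, Matrix.mul_one]
  map_mul' g h := by
    apply Subtype.ext
    show P * (g.1 * h.1) * Q = (P * g.1 * Q) * (P * h.1 * Q)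
    calc P * (g.1 * h.1) * Q = P * g.1 * (1 : M2F) * h.1 * Q := by
          rw [Matrix.mul_one]; simp only [Matrix.mul_assoc]
      _ = (P * g.1 * Q) * (P * h.1 * Q) := by rw [← hQP]; simp only [Matrix.mul_assoc]

theorem conjSL_coe (P Q : M2F) (hPQ : P * Q = 1) (hQP : Q * P = 1) (g : SL2F) :
    (conjSL P Q hPQ hQP g).1 = P * g.1 * Q := rfl

/-- the induced automorphism of `PSL₂(F)` -/
noncomputable def conjPSL (P Q : M2F) (hPQ : P * Q = 1) (hQP : Q * P = 1) : PSL2F ≃* PSL2F :=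
  QuotientGroup.congr (Subgroup.center SL2F) (Subgroup.center SL2F) (conjSL P Q hPQ hQP)
    (Subgroup.characteristic_iff_map_eq.1 inferInstance (conjSL P Q hPQ hQP))

theorem conjPSL_mk (P Q : M2F) (hPQ : P * Q = 1) (hQP : Q * P = 1) (g : SL2F) :
    conjPSL P Q hPQ hQP (QuotientGroup.mk' (Subgroup.center SL2F) g) =
      QuotientGroup.mk' (Subgroup.center SL2F) (conjSL P Q hPQ hQP g) := rfl

/-- the standard copy of `PSL₂(K)` in `PSL₂(F)` -/
def stdPSL (K : Subfield F) : Subgroup PSL2F :=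
  (ratSub K).map (QuotientGroup.mk' (Subgroup.center SL2F))

theorem stdPSL_mono {K K' : Subfield F} (h : K ≤ K') : stdPSL K ≤ stdPSL K' := by
  apply Subgroup.map_mono
  intro g hg
  rw [mem_ratSub'] at hg ⊢
  exact fun i j => h (hg i j)

theorem mem_stdPSL_of_entries (K : Subfield F) (g : SL2F) (hg : ∀ i j, g.1 i j ∈ K) :
    QuotientGroup.mk' (Subgroup.center SL2F) g ∈ stdPSL K :=
  ⟨g, (mem_ratSub' K g).2 hg, rfl⟩

theorem ratSub_top : ratSub (⊤ : Subfield F) = ⊤ := by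
  rw [eq_top_iff]
  intro g _
  rw [mem_ratSub']
  exact fun i j => Subfield.mem_top _

theorem stdPSL_top : stdPSL (⊤ : Subfield F) = ⊤ := by
  unfold stdPSL
  rw [ratSub_top, ← MonoidHom.range_eq_map]
  exact MonoidHom.range_eq_top.2 (QuotientGroup.mk'_surjective _)

/-- the image of a subgroup under a quaternion descent lies in the standard subgroup -/
theorem exists_conj_le_stdPSL (h2 : (2 : F) ≠ 0) (K : Subfield F) (M : Subgroup PSL2F)
    (I J : SL2F) (hII : I.1 * I.1 = -1) (hJJ : J.1 * J.1 = -1) (hJI : J.1 * I.1 = -(I.1 * J.1))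
    (hI : QuotientGroup.mk' (Subgroup.center SL2F) I ∈ M)
    (hJ : QuotientGroup.mk' (Subgroup.center SL2F) J ∈ M)
    (y z : F) (hy : y ∈ K) (hz : z ∈ K) (hyz : 1 + y ^ 2 + z ^ 2 = 0)
    (htr : ∀ g : SL2F, QuotientGroup.mk' (Subgroup.center SL2F) g ∈ M → tr g ∈ K) :
    ∃ α : PSL2F ≃* PSL2F, M.map α.toMonoidHom ≤ stdPSL K := by
  obtain ⟨P, Q, hPQ, hQP, hdesc⟩ := quat_descent h2 K I.1 J.1 hII hJJ hJI y z hy hz hyz
  refine ⟨conjPSL P Q hPQ hQP, ?_⟩
  rintro _ ⟨x, hx, rfl⟩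
  obtain ⟨g, rfl⟩ := QuotientGroup.mk'_surjective (Subgroup.center SL2F) x
  show conjPSL P Q hPQ hQP _ ∈ _
  rw [conjPSL_mk]
  apply mem_stdPSL_of_entries
  rw [conjSL_coe]
  have htr' : ∀ h : SL2F, h.1.trace = tr h := by
    intro h
    rw [Matrix.trace_fin_two]; rfl
  apply hdesc
  · rw [htr']; exact htr g hx
  · have : g.1 * I.1 = (g * I).1 := rfl
    rw [this, htr']
    apply htr
    rw [map_mul]; exact M.mul_mem hx hI
  · have : g.1 * J.1 = (g * J).1 := rfl
    rw [this, htr']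
    apply htr
    rw [map_mul]; exact M.mul_mem hx hJ
  · have : g.1 * (I.1 * J.1) = (g * (I * J)).1 := rfl
    rw [this, htr']
    apply htr
    rw [map_mul, map_mul]; exact M.mul_mem hx (M.mul_mem hI hJ)

end Cfsg.Agent.Helper46.Mx
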