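import Mathlib
import Cfsg.Agent.Helper46.DkTwoGenA
import Cfsg.Agent.Helper46.SubfieldPSL

set_option autoImplicit false

/-!
# Subfields of a finite field of odd characteristic
-/

namespace Cfsg.Agent.Helper46.Mx

open Cfsg.Agent.Helper46.Dk

variable {F : Type*} [Field F] [Fintype F] (p : ℕ) [Fact p.Prime] [CharP F p]

theorem charP_subfield (K : Subfield F) : CharP K p :=
  (RingHom.charP_iff K.subtype K.subtype_injective p).2 inferInstance

/-- the cardinality of a subfield -/
theorem card_subfield (K : Subfield F) :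
    ∃ j m : ℕ, 0 < j ∧ 0 < m ∧ Nat.card K = p ^ j ∧ Fintype.card F = Nat.card K ^ m := by
  classical
  letI : Fintype K := Fintype.ofFinite K
  haveI := charP_subfield p K
  obtain ⟨n, -, hn⟩ := FiniteField.card K p
  refine ⟨n, Module.finrank K F, n.pos, Module.finrank_pos, ?_, ?_⟩
  · rw [Nat.card_eq_fintype_card, hn]
  · rw [Nat.card_eq_fintype_card]
    exact Module.card_eq_pow_finrank

theorem pow_card_subfield (K : Subfield F) {x : F} (hx : x ∈ K) : x ^ Nat.card K = x := by
  classical
  letI : Fintype K := Fintype.ofFinite K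
  have := FiniteField.pow_card (⟨x, hx⟩ : K)
  rw [Nat.card_eq_fintype_card]
  have h2 := congrArg Subtype.val this
  simpa using h2

variable (hp : p ≠ 2)

theorem card_frobFixed_le (j : ℕ) (hj : 0 < j) : Nat.card (frobFixed (F := F) p hp j) ≤ p ^ j := by
  classical
  haveI : Fintype (frobFixed (F := F) p hp j) := Fintype.ofFinite _
  rw [Nat.card_eq_fintype_card]
  apply card_le_of_forall_pow_eq
  · have h2 : 2 ≤ p := (Fact.out : p.Prime).two_le
    calc 2 ≤ p := h2
      _ = p ^ 1 := (pow_one p).symm
      _ ≤ p ^ j := Nat.pow_le_pow_right (by omega) hj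
  · rintro ⟨x, hx⟩
    apply Subtype.ext
    rw [SubmonoidClass.coe_pow]
    exact hx

/-- a subfield of order `p ^ j` is the fixed field of the `j`-th power of Frobenius -/
theorem subfield_eq_frobFixed (K : Subfield F) (j : ℕ) (hj : 0 < j) (hK : Nat.card K = p ^ j) :
    K = frobFixed p hp j := by
  have hle : K ≤ frobFixed p hp j := by
    intro x hx
    rw [mem_frobFixed, ← hK]
    exact pow_card_subfield K hx
  have hcard := card_frobFixed_le (F := F) p hp j hj
  rw [← hK] at hcard
  apply le_antisymm hle
  intro x hx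
  by_contra hxK
  have hss : (K : Set F) ⊂ (frobFixed (F := F) p hp j : Set F) :=
    ⟨hle, fun h => hxK (h hx)⟩
  have := Set.ncard_lt_ncard hss (Set.toFinite _)
  rw [← Nat.card_coe_set_eq, ← Nat.card_coe_set_eq] at this
  exact absurd hcard (not_le.2 this)

theorem frobFixed_mono (j r : ℕ) : frobFixed (F := F) p hp j ≤ frobFixed p hp (j * r) := by
  intro x hx
  rw [mem_frobFixed] at hx ⊢
  rw [pow_mul]
  induction r with
  | zero => simp
  | succ r ih => rw [pow_succ, pow_mul, ih, hx]

/-- existence of a subfield of each admissible order -/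
theorem exists_subfield_card (f t : ℕ) (ht : 0 < t) (htf : t ∣ f) (hF : Fintype.card F = p ^ f) :
    ∃ K : Subfield F, Nat.card K = p ^ t := by
  classical
  obtain ⟨m, rfl⟩ := htf
  have hm : 1 ≤ m := by
    rcases Nat.eq_zero_or_pos m with h | h
    · subst h
      rw [mul_zero, pow_zero] at hF
      have : 1 < Fintype.card F := Fintype.one_lt_card
      omega
    · exact h
  haveI : Fintype (GaloisField p t) := Fintype.ofFinite _
  have hG : Fintype.card (GaloisField p t) = p ^ t := by
    rw [← Nat.card_eq_fintype_card]; exact GaloisField.card p t ht.ne'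
  obtain ⟨ι⟩ := exists_ringHom_of_card_pow (K := GaloisField p t) (F := F) m hm
    (by rw [hG, hF, pow_mul])
  refine ⟨ι.fieldRange, ?_⟩
  rw [← hG, ← Nat.card_eq_fintype_card]
  exact (Nat.card_congr (Equiv.ofInjective ι ι.injective)).symm

theorem card_frobFixed (f t : ℕ) (ht : 0 < t) (htf : t ∣ f) (hF : Fintype.card F = p ^ f) :
    Nat.card (frobFixed (F := F) p hp t) = p ^ t := by
  obtain ⟨K, hK⟩ := exists_subfield_card p f t ht htf hF
  rw [← subfield_eq_frobFixed p hp K t ht hK, hK]

include hp in
/-- subfields are ordered by their cardinalities -/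
theorem subfield_le_of_card (K K' : Subfield F) (r : ℕ) (hr : 0 < r)
    (h : Nat.card K' = Nat.card K ^ r) : K ≤ K' := by
  obtain ⟨j, m, hj, -, hKj, -⟩ := card_subfield p K
  have hK := subfield_eq_frobFixed p hp K j hj hKj
  have hK' := subfield_eq_frobFixed p hp K' (j * r) (Nat.mul_pos hj hr)
    (by rw [h, hKj, pow_mul])
  rw [hK, hK']
  exact frobFixed_mono p hp j r

end Cfsg.Agent.Helper46.Mx
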