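import Mathlib
import Cfsg.Agent.Helper46.MxConj
import Cfsg.Agent.Helper46.MxField
import Cfsg.Agent.Helper41.PSL2Klein
import Cfsg.Agent.Helper41.DkDescent
import Cfsg.Agent.Helper5.PSL2Simple

set_option autoImplicit false

/-!
# The standard subfield subgroups `stdPSL K ≤ PSL₂(F)`: structure, towers
-/

namespace Cfsg.Agent.Helper46.Mx

open Matrix Cfsg.Agent.Helper46.Dk

section General

variable {F : Type*} [Field F]

local notation "M2F" => Matrix (Fin 2) (Fin 2) F
local notation "SL2F" => Matrix.SpecialLinearGroup (Fin 2) F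
local notation "PSL2F" => Matrix.ProjectiveSpecialLinearGroup (Fin 2) F

theorem center_le_ratSub (K : Subfield F) : Subgroup.center SL2F ≤ ratSub K := by
  intro g hg
  rw [mem_center_iff'] at hg
  obtain ⟨h01, h10, h00⟩ := hg
  have hdet := det' g
  rw [h01, h10, ← h00] at hdet
  have h1 : (g.1 0 0 - 1) * (g.1 0 0 + 1) = 0 := by linear_combination hdet
  have hmem : g.1 0 0 ∈ K := by
    rcases mul_eq_zero.1 h1 with h | h
    · have : g.1 0 0 = 1 := by linear_combination h
      rw [this]; exact K.one_mem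
    · have : g.1 0 0 = -1 := by linear_combination h
      rw [this]; exact K.neg_mem K.one_mem
  rw [mem_ratSub]
  refine ⟨hmem, ?_, ?_, ?_⟩
  · rw [h01]; exact K.zero_mem
  · rw [h10]; exact K.zero_mem
  · rw [← h00]; exact hmem

theorem mem_stdPSL_iff (K : Subfield F) (g : SL2F) :
    QuotientGroup.mk' (Subgroup.center SL2F) g ∈ stdPSL K ↔ g ∈ ratSub K := by
  constructor
  · rintro ⟨h, hh, hhg⟩
    have hz : h⁻¹ * g ∈ Subgroup.center SL2F := QuotientGroup.eq.1 hhg
    have : g = h * (h⁻¹ * g) := by group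
    rw [this]
    exact (ratSub K).mul_mem hh (center_le_ratSub K hz)
  · intro hg
    exact ⟨g, hg, rfl⟩

theorem stdPSL_eq_range (K : Subfield F) :
    stdPSL K = (pslEmbHom K.subtype).range := by
  unfold stdPSL pslEmbHom ratSub
  rw [MonoidHom.range_eq_map, MonoidHom.range_eq_map, ← Subgroup.map_map]

theorem nonempty_stdPSL_equiv (K : Subfield F) :
    Nonempty (stdPSL K ≃* Matrix.ProjectiveSpecialLinearGroup (Fin 2) K) := by
  rw [stdPSL_eq_range]
  exact ⟨((QuotientGroup.quotientMulEquivOfEq (pslEmbHom_ker K.subtype)).symm.trans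
    (QuotientGroup.quotientKerEquivRange (pslEmbHom K.subtype))).symm⟩

theorem mk_uU_mem_stdPSL_iff (K : Subfield F) (x : F) :
    QuotientGroup.mk' (Subgroup.center SL2F) (uU x) ∈ stdPSL K ↔ x ∈ K := by
  rw [mem_stdPSL_iff, mem_ratSub]
  constructor
  · intro h; exact h.2.1
  · intro h; exact ⟨K.one_mem, h, K.zero_mem, K.one_mem⟩

theorem eq_top_of_stdPSL_eq_top (K : Subfield F) (h : stdPSL K = ⊤) : K = ⊤ := by
  rw [eq_top_iff]
  intro x _
  rw [← mk_uU_mem_stdPSL_iff, h]
  trivial

theorem stdPSL_ne_bot (h2 : (2 : F) ≠ 0) (K : Subfield F) : stdPSL K ≠ ⊥ := by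
  intro h
  have h1 : QuotientGroup.mk' (Subgroup.center SL2F) (uU 1) ∈ stdPSL K :=
    (mk_uU_mem_stdPSL_iff K 1).2 K.one_mem
  rw [h, Subgroup.mem_bot, QuotientGroup.mk'_apply, QuotientGroup.eq_one_iff, mem_center_iff'] at h1
  have := h1.1
  simp [uU] at this

/-- a criterion for membership in a normalizer -/
theorem mem_normalizer_of_conj {G : Type*} [Group G] (H : Subgroup G) (g : G)
    (h1 : ∀ h ∈ H, g * h * g⁻¹ ∈ H) (h2 : ∀ h ∈ H, g⁻¹ * h * g ∈ H) :
    g ∈ Subgroup.normalizer (H : Set G) := by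
  rw [Subgroup.mem_normalizer_iff]
  intro h
  constructor
  · exact h1 h
  · intro hh
    have := h2 _ hh
    have e : g⁻¹ * (g * h * g⁻¹) * g = h := by group
    rwa [e] at this

end General

section Finite

variable {F : Type*} [Field F] [Fintype F]

local notation "M2F" => Matrix (Fin 2) (Fin 2) F
local notation "SL2F" => Matrix.SpecialLinearGroup (Fin 2) F
local notation "PSL2F" => Matrix.ProjectiveSpecialLinearGroup (Fin 2) F

theorem two_ne_zero_of_odd (hodd : Odd (Fintype.card F)) : (2 : F) ≠ 0 :=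
  Cfsg.Agent.Helper5.two_ne_zero_of_odd_card hodd

theorem odd_card_subfield (hodd : Odd (Fintype.card F)) (K : Subfield F) : Odd (Nat.card K) := by
  classical
  letI : Fintype K := Fintype.ofFinite K
  have h : Fintype.card F = Fintype.card K ^ Module.finrank K F := Module.card_eq_pow_finrank
  rw [Nat.card_eq_fintype_card]
  rw [h] at hodd
  have hpos : 0 < Module.finrank K F := Module.finrank_pos
  obtain ⟨t, ht⟩ : ∃ t, Module.finrank K F = t + 1 := ⟨Module.finrank K F - 1, by omega⟩
  rw [ht, pow_succ] at hodd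
  exact Nat.Odd.of_mul_right hodd

theorem two_mul_card_stdPSL (hodd : Odd (Fintype.card F)) (K : Subfield F) :
    2 * Nat.card (stdPSL K) = Nat.card K * (Nat.card K ^ 2 - 1) := by
  classical
  letI : Fintype K := Fintype.ofFinite K
  obtain ⟨e⟩ := nonempty_stdPSL_equiv K
  rw [Nat.card_congr e.toEquiv]
  have hK := odd_card_subfield hodd K
  rw [Nat.card_eq_fintype_card] at hK
  rw [Nat.card_eq_fintype_card (α := K)]
  exact Cfsg.Agent.Helper41.two_mul_card_PSL2 (F := K) hK

theorem mul_sq_pred_strictMono {a b : ℕ} (ha : 1 ≤ a) (h : a < b) :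
    a * (a ^ 2 - 1) < b * (b ^ 2 - 1) := by
  have h1 : a ^ 2 < b ^ 2 := Nat.pow_lt_pow_left h (by norm_num)
  have h2 : 1 ≤ a ^ 2 := Nat.one_le_pow _ _ ha
  have h3 : a ^ 2 - 1 < b ^ 2 - 1 := by omega
  calc a * (a ^ 2 - 1) ≤ b * (a ^ 2 - 1) := Nat.mul_le_mul_right _ h.le
    _ < b * (b ^ 2 - 1) := Nat.mul_lt_mul_of_pos_left h3 (by omega)

theorem mul_sq_pred_inj {a b : ℕ} (ha : 1 ≤ a) (hb : 1 ≤ b)
    (h : a * (a ^ 2 - 1) = b * (b ^ 2 - 1)) : a = b := by
  rcases lt_trichotomy a b with h1 | h1 | h1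
  · exact absurd h (mul_sq_pred_strictMono ha h1).ne
  · exact h1
  · exact absurd h.symm (mul_sq_pred_strictMono hb h1).ne

theorem card_eq_of_stdPSL_eq (hodd : Odd (Fintype.card F)) (K K' : Subfield F)
    (h : Nat.card (stdPSL K) = Nat.card (stdPSL K')) : Nat.card K = Nat.card K' := by
  have h1 := two_mul_card_stdPSL hodd K
  have h2 := two_mul_card_stdPSL hodd K'
  rw [h] at h1
  apply mul_sq_pred_inj Nat.card_pos Nat.card_pos
  rw [← h1, ← h2]

theorem normalizer_ne_top' (h4 : 4 ≤ Fintype.card F) (H : Subgroup PSL2F) (hbot : H ≠ ⊥)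
    (htop : H ≠ ⊤) : Subgroup.normalizer (H : Set PSL2F) ≠ ⊤ := by
  haveI := Cfsg.Agent.Helper5.isSimpleGroup_PSL2_of_card h4
  intro h
  haveI : H.Normal := Subgroup.normalizer_eq_top_iff.1 h
  rcases Subgroup.Normal.eq_bot_or_eq_top (H := H) inferInstance with h | h
  · exact hbot h
  · exact htop h

/-- a coatom is self-normalizing -/
theorem normalizer_eq_of_coatom (h4 : 4 ≤ Fintype.card F) (M : Subgroup PSL2F) (hM : IsCoatom M)
    (hbot : M ≠ ⊥) : Subgroup.normalizer (M : Set PSL2F) = M :=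
  ((hM.le_iff.1 Subgroup.le_normalizer).resolve_left (normalizer_ne_top' h4 M hbot hM.1))

variable (p : ℕ) [Fact p.Prime] [CharP F p]

include p in
/-- if `stdPSL K` is maximal then `[F : K]` is an odd prime -/
theorem coatom_stdPSL_degree (hodd : Odd (Fintype.card F)) (h5 : 5 ≤ Fintype.card F)
    (K : Subfield F) (hM : IsCoatom (stdPSL K)) :
    ∃ r : ℕ, r.Prime ∧ Odd r ∧ Fintype.card F = Nat.card K ^ r := by
  classical
  letI : Fintype K := Fintype.ofFinite K
  have h2 := two_ne_zero_of_odd hodd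
  have hp : p ≠ 2 := by
    intro hp2
    apply h2
    have := CharP.cast_eq_zero F p
    rw [hp2] at this
    exact_mod_cast this
  obtain ⟨j, m, hj, hm, hKj, hFm⟩ := card_subfield p K
  have hkodd := odd_card_subfield hodd K
  have hk1 : 1 < Nat.card K := by
    rw [Nat.card_eq_fintype_card]; exact Fintype.one_lt_card
  have hm1 : m ≠ 1 := by
    intro h
    rw [h, pow_one] at hFm
    apply hM.1
    have : K = ⊤ := by
      rw [eq_top_iff]
      intro x _
      by_contra hx
      have hss : (K : Set F) ⊂ Set.univ := ⟨Set.subset_univ _, fun h => hx (h (Set.mem_univ x))⟩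
      have := Set.ncard_lt_ncard hss (Set.toFinite _)
      rw [Set.ncard_univ, ← Nat.card_coe_set_eq, Nat.card_eq_fintype_card (α := F)] at this
      have h' : Nat.card (K : Set F) = Nat.card K := rfl
      omega
    rw [this, stdPSL_top]
  rcases Nat.even_or_odd m with hev | hod
  · exfalso
    -- a nonsquare of `K` which is a square in `F`
    haveI := charP_subfield p K
    have hchar : ringChar K ≠ 2 := by
      rw [ringChar.eq K p]; exact hp
    obtain ⟨ν, hν⟩ := FiniteField.exists_nonsquare hchar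
    have hsq := isSquare_of_even_degree K.subtype m hev hodd
      (by rw [← Nat.card_eq_fintype_card (α := K), ← hFm]) ν
    obtain ⟨s, hs⟩ := hsq
    have hs' : s * s = (ν : F) := hs.symm
    have hν0 : (ν : F) ≠ 0 := by
      intro h0
      apply hν
      have : ν = 0 := Subtype.ext h0
      rw [this]; exact ⟨0, by simp⟩
    have hs0 : s ≠ 0 := by
      rintro rfl
      apply hν0
      rw [← hs']; simp
    let su : Fˣ := Units.mk0 s hs0
    have hsinv : ((su⁻¹ : Fˣ) : F) = s⁻¹ := by simp [su]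
    have hsK : s * s ∈ K := by rw [hs']; exact ν.2
    have hsK' : s⁻¹ * s⁻¹ ∈ K := by
      have : s⁻¹ * s⁻¹ = (s * s)⁻¹ := by rw [mul_inv]
      rw [this]; exact K.inv_mem hsK
    have hconj : ∀ (c : Fˣ), (c : F) * c ∈ K → ((c⁻¹ : Fˣ) : F) * ((c⁻¹ : Fˣ) : F) ∈ K →
        ∀ h ∈ ratSub K, dD c * h * (dD c)⁻¹ ∈ ratSub K := by
      intro c hc hc' h hh
      rw [mem_ratSub] at hh ⊢
      obtain ⟨h00, h01, h10, h11⟩ := hh
      rw [conj_00, conj_01, conj_10, conj_11]
      simp only [dD, mk4_00, mk4_01, mk4_10, mk4_11]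
      have hcc : (c : F) * ((c⁻¹ : Fˣ) : F) = 1 := by simp
      refine ⟨?_, ?_, ?_, ?_⟩
      · have : ((c : F) * h.1 0 0 + 0 * h.1 1 0) * ((c⁻¹ : Fˣ) : F) -
            ((c : F) * h.1 0 1 + 0 * h.1 1 1) * 0 = h.1 0 0 := by
          linear_combination h.1 0 0 * hcc
        rw [this]; exact h00
      · have : -((c : F) * h.1 0 0 + 0 * h.1 1 0) * 0 +
            ((c : F) * h.1 0 1 + 0 * h.1 1 1) * (c : F) = ((c : F) * c) * h.1 0 1 := by ring
        rw [this]; exact K.mul_mem hc h01
      · have : (0 * h.1 0 0 + ((c⁻¹ : Fˣ) : F) * h.1 1 0) * ((c⁻¹ : Fˣ) : F) -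
            (0 * h.1 0 1 + ((c⁻¹ : Fˣ) : F) * h.1 1 1) * 0 =
            (((c⁻¹ : Fˣ) : F) * ((c⁻¹ : Fˣ) : F)) * h.1 1 0 := by ring
        rw [this]; exact K.mul_mem hc' h10
      · have : -(0 * h.1 0 0 + ((c⁻¹ : Fˣ) : F) * h.1 1 0) * 0 +
            (0 * h.1 0 1 + ((c⁻¹ : Fˣ) : F) * h.1 1 1) * (c : F) = h.1 1 1 := by
          linear_combination h.1 1 1 * hcc
        rw [this]; exact h11
    have hdinv : (dD su)⁻¹ = dD su⁻¹ := by
      apply ext'
      · rw [inv_00]; simp [dD]
      · rw [inv_01]; simp [dD]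
      · rw [inv_10]; simp [dD]
      · rw [inv_11]; simp [dD]
    set π := QuotientGroup.mk' (Subgroup.center SL2F) with hπ
    have hnorm : π (dD su) ∈ Subgroup.normalizer (stdPSL K : Set PSL2F) := by
      apply mem_normalizer_of_conj
      · rintro _ ⟨h, hh, rfl⟩
        rw [← map_inv, ← map_mul, ← map_mul]
        exact ⟨_, hconj su (by simpa [su] using hsK) (by rw [hsinv]; exact hsK') h hh, rfl⟩
      · rintro _ ⟨h, hh, rfl⟩
        rw [← map_inv, ← map_mul, ← map_mul]
        refine ⟨_, ?_, rfl⟩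
        have := hconj su⁻¹ (by rw [hsinv]; exact hsK') (by simpa [su] using hsK) h hh
        rw [← hdinv, inv_inv] at this
        exact this
    have h4 : 4 ≤ Fintype.card F := by omega
    rw [normalizer_eq_of_coatom h4 _ hM (stdPSL_ne_bot h2 K), mem_stdPSL_iff, mem_ratSub] at hnorm
    have hsmem : s ∈ K := by
      have := hnorm.1
      simpa [dD, su] using this
    apply hν
    exact ⟨⟨s, hsmem⟩, Subtype.ext hs'.symm⟩
  · -- `m` odd
    set r := Nat.minFac m with hr
    have hrp : r.Prime := Nat.minFac_prime hm1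
    have hrm : r ∣ m := Nat.minFac_dvd m
    have hrodd : Odd r := hod.of_dvd_nat hrm
    by_cases hrm' : r = m
    · exact ⟨r, hrp, hrodd, by rw [hrm']; exact hFm⟩
    exfalso
    obtain ⟨m', hm'⟩ := hrm
    have hm'1 : 1 < m' := by
      rcases Nat.lt_or_ge 1 m' with h | h
      · exact h
      · exfalso
        interval_cases m'
        · omega
        · apply hrm'; rw [hm', mul_one]
    have hF : Fintype.card F = p ^ (j * m) := by rw [hFm, hKj, pow_mul]
    have hK'card : Nat.card (frobFixed (F := F) p hp (j * r)) = p ^ (j * r) :=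
      card_frobFixed p hp (j * m) (j * r) (Nat.mul_pos hj hrp.pos) ⟨m', by rw [hm']; ring⟩ hF
    set K' := frobFixed (F := F) p hp (j * r) with hK'
    have hKK' : K ≤ K' := subfield_le_of_card p hp K K' r hrp.pos (by rw [hK'card, hKj, pow_mul])
    have hle := stdPSL_mono hKK'
    have hk'k : Nat.card K' = Nat.card K ^ r := by rw [hK'card, hKj, pow_mul]
    rcases hM.le_iff.1 hle with h | h
    · -- `K' = F`
      have := eq_top_of_stdPSL_eq_top K' h
      have hc : Nat.card K' = Fintype.card F := by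
        rw [this, ← Nat.card_eq_fintype_card]
        exact Nat.card_congr (Subfield.topEquiv (K := F)).toEquiv
      rw [hk'k, hFm] at hc
      have := Nat.pow_right_injective hk1 hc
      exact hrm' this
    · have := card_eq_of_stdPSL_eq hodd K' K (by rw [h])
      rw [hk'k] at this
      have h1 : Nat.card K ^ r = Nat.card K ^ 1 := by rw [pow_one]; exact this
      have := Nat.pow_right_injective hk1 h1
      exact hrp.one_lt.ne' this

end Finite

end Cfsg.Agent.Helper46.Mx
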