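import Mathlib
import Cfsg.Agent.Helper46.MxStd
import Cfsg.Agent.Helper46.DkRational
import Cfsg.Agent.Helper46.DkTraceOrder

set_option autoImplicit false

/-!
# The conclusion of the classification of maximal subgroups of `PSL₂(q)`, `q` odd
-/

namespace Cfsg.Agent.Helper46.Mx

open Matrix Cfsg.Agent.Helper46.Dk

/-- the conclusion of the theorem as a property of an abstract group -/
def Concl (q p : ℕ) (H : Type*) [Group H] : Prop :=
  2 * Nat.card H = q * (q - 1) ∨
  (13 ≤ q ∧ (∃ k : ℕ, 2 * k = q - 1 ∧ Nonempty (H ≃* DihedralGroup k))) ∨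
  (q ≠ 7 ∧ q ≠ 9 ∧ (∃ k : ℕ, 2 * k = q + 1 ∧ Nonempty (H ≃* DihedralGroup k))) ∨
  (∃ (F₀ : Type) (_ : Field F₀) (_ : Fintype F₀), q = Fintype.card F₀ ^ 2 ∧
      Nonempty (H ≃* Matrix.ProjGenLinGroup (Fin 2) F₀)) ∨
  (∃ (F₀ : Type) (_ : Field F₀) (_ : Fintype F₀) (r : ℕ), r.Prime ∧ Odd r ∧
      q = Fintype.card F₀ ^ r ∧
      Nonempty (H ≃* Matrix.ProjectiveSpecialLinearGroup (Fin 2) F₀)) ∨
  ((q % 10 = 1 ∨ q % 10 = 9) ∧ (q = p ∨ (q = p ^ 2 ∧ (p % 10 = 3 ∨ p % 10 = 7))) ∧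
      Nonempty (H ≃* alternatingGroup (Fin 5))) ∨
  (q = p ∧ (p % 8 = 3 ∨ p % 8 = 5) ∧ ¬ (p % 10 = 1 ∨ p % 10 = 9) ∧
      Nonempty (H ≃* alternatingGroup (Fin 4))) ∨
  (q = p ∧ (p % 8 = 1 ∨ p % 8 = 7) ∧ Nonempty (H ≃* Equiv.Perm (Fin 4)))

theorem Concl.congr {q p : ℕ} {H H' : Type*} [Group H] [Group H'] (e : H ≃* H')
    (h : Concl q p H) : Concl q p H' := by
  rcases h with h | ⟨h1, k, hk, ⟨e1⟩⟩ | ⟨h1, h2, k, hk, ⟨e1⟩⟩ | ⟨F₀, i1, i2, hq, ⟨e1⟩⟩ |
    ⟨F₀, i1, i2, r, hr, hr2, hq, ⟨e1⟩⟩ | ⟨h1, h2, ⟨e1⟩⟩ | ⟨h1, h2, h3, ⟨e1⟩⟩ | ⟨h1, h2, ⟨e1⟩⟩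
  · left; rw [← Nat.card_congr e.toEquiv]; exact h
  · right; left; exact ⟨h1, k, hk, ⟨e.symm.trans e1⟩⟩
  · right; right; left; exact ⟨h1, h2, k, hk, ⟨e.symm.trans e1⟩⟩
  · right; right; right; left; exact ⟨F₀, i1, i2, hq, ⟨e.symm.trans e1⟩⟩
  · right; right; right; right; left; exact ⟨F₀, i1, i2, r, hr, hr2, hq, ⟨e.symm.trans e1⟩⟩
  · right; right; right; right; right; left; exact ⟨h1, h2, ⟨e.symm.trans e1⟩⟩
  · right; right; right; right; right; right; left; exact ⟨h1, h2, h3, ⟨e.symm.trans e1⟩⟩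
  · right; right; right; right; right; right; right; exact ⟨h1, h2, ⟨e.symm.trans e1⟩⟩

section Field

variable {F : Type*} [Field F] [Fintype F]

/-- the `PSL₂(K)` conclusion -/
theorem concl_psl {q p : ℕ} {H : Type*} [Group H] (K : Subfield F)
    (e : H ≃* Matrix.ProjectiveSpecialLinearGroup (Fin 2) K) (r : ℕ) (hr : r.Prime)
    (hr2 : Odd r) (hq : q = Nat.card K ^ r) : Concl q p H := by
  classical
  letI : Fintype K := Fintype.ofFinite K
  letI : Fintype (Shrink.{0} K) := Fintype.ofEquiv K (equivShrink.{0} K)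
  have hcard' : Fintype.card (Shrink.{0} K) = Nat.card K := by
    rw [Nat.card_eq_fintype_card]
    exact Fintype.card_congr (equivShrink.{0} K).symm
  let e' : K ≃+* Shrink.{0} K := (Shrink.ringEquiv.{0} K).symm
  obtain ⟨e2⟩ := Cfsg.Agent.Helper46.nonempty_psl_congr e'
  right; right; right; right; left
  exact ⟨Shrink.{0} K, inferInstance, inferInstance, r, hr, hr2, by rw [hcard', hq],
    ⟨e.trans e2⟩⟩

/-- the `PGL₂(K)` conclusion -/
theorem concl_pgl {q p : ℕ} {H : Type*} [Group H] (K : Subfield F)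
    (e : H ≃* Matrix.ProjGenLinGroup (Fin 2) K) (hq : q = Nat.card K ^ 2) : Concl q p H := by
  classical
  letI : Fintype K := Fintype.ofFinite K
  letI : Fintype (Shrink.{0} K) := Fintype.ofEquiv K (equivShrink.{0} K)
  have hcard' : Fintype.card (Shrink.{0} K) = Nat.card K := by
    rw [Nat.card_eq_fintype_card]
    exact Fintype.card_congr (equivShrink.{0} K).symm
  let e' : K ≃+* Shrink.{0} K := (Shrink.ringEquiv.{0} K).symm
  obtain ⟨e2⟩ := Cfsg.Agent.Helper46.nonempty_pgl_congr e'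
  right; right; right; left
  exact ⟨Shrink.{0} K, inferInstance, inferInstance, by rw [hcard', hq], ⟨e.trans e2⟩⟩

end Field

section Traces

variable {F : Type*} [Field F]

local notation "SL2F" => Matrix.SpecialLinearGroup (Fin 2) F

theorem two_mem (K : Subfield F) : (2 : F) ∈ K := by
  have : (2 : F) = 1 + 1 := by norm_num
  rw [this]; exact K.add_mem K.one_mem K.one_mem

theorem tr_mem_of_mem_center (K : Subfield F) (g : SL2F) (hg : g ∈ Subgroup.center SL2F) :
    tr g ∈ K :=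
  tr_mem_of_mem_ratSub K (center_le_ratSub K hg)

theorem tr_mem_of_sq (K : Subfield F) (g : SL2F) (h : g ^ 2 ∈ Subgroup.center SL2F) :
    tr g ∈ K := by
  by_cases hg : g ∈ Subgroup.center SL2F
  · exact tr_mem_of_mem_center K g hg
  · rw [tr_eq_zero_of_sq_mem_center g hg h]; exact K.zero_mem

theorem tr_mem_of_cube (K : Subfield F) (g : SL2F) (h : g ^ 3 ∈ Subgroup.center SL2F) :
    tr g ∈ K := by
  by_cases hg : g ∈ Subgroup.center SL2F
  · exact tr_mem_of_mem_center K g hg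
  · have h1 := tr_sq_eq_one_of_cube_mem_center g hg h
    have h2 : (tr g - 1) * (tr g + 1) = 0 := by linear_combination h1
    rcases mul_eq_zero.1 h2 with h3 | h3
    · have : tr g = 1 := by linear_combination h3
      rw [this]; exact K.one_mem
    · have : tr g = -1 := by linear_combination h3
      rw [this]; exact K.neg_mem K.one_mem

theorem tr_mem_of_pow_five (h2 : (2 : F) ≠ 0) (K : Subfield F) (s : F) (hs : s ∈ K)
    (hs5 : s * s = 5) (g : SL2F) (h : g ^ 5 ∈ Subgroup.center SL2F) : tr g ∈ K := by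
  by_cases hg : g ∈ Subgroup.center SL2F
  · exact tr_mem_of_mem_center K g hg
  · have h1 := tr_of_pow_five_mem_center g hg h
    have h2K : (2 : F)⁻¹ ∈ K := K.inv_mem (two_mem K)
    have hfac : ((2 * tr g + 1) ^ 2 - s * s) * ((2 * tr g - 1) ^ 2 - s * s) = 0 := by
      rw [hs5]; linear_combination 16 * h1
    have key : ∀ u : F, u ^ 2 - s * s = 0 → u ∈ K := by
      intro u hu
      have : (u - s) * (u + s) = 0 := by linear_combination hu
      rcases mul_eq_zero.1 this with h3 | h3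
      · have : u = s := by linear_combination h3
        rw [this]; exact hs
      · have : u = -s := by linear_combination h3
        rw [this]; exact K.neg_mem hs
    rcases mul_eq_zero.1 hfac with h3 | h3
    · have h4 := key _ h3
      have : tr g = (2 : F)⁻¹ * ((2 * tr g + 1) - 1) := by field_simp; ring
      rw [this]
      exact K.mul_mem h2K (K.sub_mem h4 K.one_mem)
    · have h4 := key _ h3
      have : tr g = (2 : F)⁻¹ * ((2 * tr g - 1) + 1) := by field_simp; ring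
      rw [this]
      exact K.mul_mem h2K (K.add_mem h4 K.one_mem)

end Traces

end Cfsg.Agent.Helper46.Mx
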