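import Mathlib
import Cfsg.Agent.Helper46.MxStd
import Cfsg.Agent.Helper41.KleinClasses
import Cfsg.Agent.Helper41.PSL2Klein
import Cfsg.Agent.S0808

set_option autoImplicit false

/-!
# Klein four-subgroups of `A₄`, `S₄`, `A₅` inside an ambient group, and transport lemmas
-/

namespace Cfsg.Agent.Helper46.Mx

open Cfsg.Agent.Helper41

section Generic

variable {G : Type*} [Group G]

/-- normalizer criterion for `kleinOf` -/
theorem mem_normalizer_kleinOf {a b : G} (ha : a * a = 1) (hb : b * b = 1) (hab : a * b = b * a)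
    (g : G) (h1 : g * a * g⁻¹ ∈ kleinOf a b ha hb hab) (h2 : g * b * g⁻¹ ∈ kleinOf a b ha hb hab)
    (h1' : g⁻¹ * a * g ∈ kleinOf a b ha hb hab) (h2' : g⁻¹ * b * g ∈ kleinOf a b ha hb hab) :
    g ∈ Subgroup.normalizer ((kleinOf a b ha hb hab : Subgroup G) : Set G) := by
  apply mem_normalizer_of_conj
  · rintro x (rfl | rfl | rfl | rfl)
    · simp
    · exact h1
    · exact h2
    · have : g * (a * b) * g⁻¹ = (g * a * g⁻¹) * (g * b * g⁻¹) := by group
      rw [this]; exact Subgroup.mul_mem _ h1 h2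
  · rintro x (rfl | rfl | rfl | rfl)
    · simp
    · exact h1'
    · exact h2'
    · have : g⁻¹ * (a * b) * g = (g⁻¹ * a * g) * (g⁻¹ * b * g) := by group
      rw [this]; exact Subgroup.mul_mem _ h1' h2'

/-- a "normal Klein pair" in a group `X` gives, in any overgroup, a Klein four-group normalized by
the image of `X` -/
theorem klein_of_normal_pair {X : Type*} [Group X] (ψ : X →* G) (hψ : Function.Injective ψ)
    (a b : X) (ha : a * a = 1) (hb : b * b = 1) (hab : a * b = b * a) (ha1 : a ≠ 1) (hb1 : b ≠ 1)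
    (hne : a ≠ b)
    (hn : ∀ g : X, (g * a * g⁻¹ = 1 ∨ g * a * g⁻¹ = a ∨ g * a * g⁻¹ = b ∨ g * a * g⁻¹ = a * b) ∧
      (g * b * g⁻¹ = 1 ∨ g * b * g⁻¹ = a ∨ g * b * g⁻¹ = b ∨ g * b * g⁻¹ = a * b)) :
    ∃ V : Subgroup G, IsKleinFour V ∧ V ≤ ψ.range ∧
      ψ.range ≤ Subgroup.normalizer (V : Set G) ∧ ψ a ∈ V ∧ ψ b ∈ V ∧
      ∀ x ∈ V, x = 1 ∨ x = ψ a ∨ x = ψ b ∨ x = ψ a * ψ b := by
  classical
  have ha' : ψ a * ψ a = 1 := by rw [← map_mul, ha, map_one]
  have hb' : ψ b * ψ b = 1 := by rw [← map_mul, hb, map_one]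
  have hab' : ψ a * ψ b = ψ b * ψ a := by rw [← map_mul, hab, map_mul]
  refine ⟨kleinOf (ψ a) (ψ b) ha' hb' hab', ?_, ?_, ?_, Or.inr (Or.inl rfl),
    Or.inr (Or.inr (Or.inl rfl)), fun x hx => hx⟩
  · apply isKleinFour_kleinOf
    · intro h; exact ha1 (hψ (by rw [h, map_one]))
    · intro h; exact hb1 (hψ (by rw [h, map_one]))
    · intro h; exact hne (hψ h)
  · rintro x (rfl | rfl | rfl | rfl)
    · exact Subgroup.one_mem _
    · exact ⟨a, rfl⟩
    · exact ⟨b, rfl⟩
    · exact ⟨a * b, map_mul _ _ _⟩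
  · rintro _ ⟨g, rfl⟩
    have key : ∀ (g : X) (c : X), (g * c * g⁻¹ = 1 ∨ g * c * g⁻¹ = a ∨ g * c * g⁻¹ = b ∨
        g * c * g⁻¹ = a * b) → ψ g * ψ c * (ψ g)⁻¹ ∈ kleinOf (ψ a) (ψ b) ha' hb' hab' := by
      intro g c hc
      have e : ψ g * ψ c * (ψ g)⁻¹ = ψ (g * c * g⁻¹) := by rw [map_mul, map_mul, map_inv]
      rw [e]
      rcases hc with h | h | h | h
      · left; rw [h, map_one]
      · right; left; rw [h]
      · right; right; left; rw [h]
      · right; right; right; rw [h, map_mul]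
    apply mem_normalizer_kleinOf
    · exact key g a (hn g).1
    · exact key g b (hn g).2
    · have := key g⁻¹ a (hn g⁻¹).1
      rwa [map_inv, inv_inv] at this
    · have := key g⁻¹ b (hn g⁻¹).2
      rwa [map_inv, inv_inv] at this

end Generic

section Concrete

/-- the standard Klein pair of `S₄` -/
def s4a : Equiv.Perm (Fin 4) := Equiv.swap 0 1 * Equiv.swap 2 3
/-- the standard Klein pair of `S₄` -/
def s4b : Equiv.Perm (Fin 4) := Equiv.swap 0 2 * Equiv.swap 1 3

theorem s4_pair : s4a * s4a = 1 ∧ s4b * s4b = 1 ∧ s4a * s4b = s4b * s4a ∧ s4a ≠ 1 ∧ s4b ≠ 1 ∧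
    s4a ≠ s4b := by decide

theorem s4_normal : ∀ g : Equiv.Perm (Fin 4),
    (g * s4a * g⁻¹ = 1 ∨ g * s4a * g⁻¹ = s4a ∨ g * s4a * g⁻¹ = s4b ∨ g * s4a * g⁻¹ = s4a * s4b) ∧
    (g * s4b * g⁻¹ = 1 ∨ g * s4b * g⁻¹ = s4a ∨ g * s4b * g⁻¹ = s4b ∨ g * s4b * g⁻¹ = s4a * s4b) := by
  decide

theorem s4_pair_mem : s4a ∈ alternatingGroup (Fin 4) ∧ s4b ∈ alternatingGroup (Fin 4) := by
  rw [Equiv.Perm.mem_alternatingGroup, Equiv.Perm.mem_alternatingGroup]
  decide

/-- the standard Klein pair of `A₅` with a normalizing `3`-cycle -/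
def a5a : alternatingGroup (Fin 5) := ⟨Equiv.swap 0 1 * Equiv.swap 2 3, by
  rw [Equiv.Perm.mem_alternatingGroup]; decide⟩
/-- the standard Klein pair of `A₅` with a normalizing `3`-cycle -/
def a5b : alternatingGroup (Fin 5) := ⟨Equiv.swap 0 2 * Equiv.swap 1 3, by
  rw [Equiv.Perm.mem_alternatingGroup]; decide⟩
/-- the standard Klein pair of `A₅` with a normalizing `3`-cycle -/
def a5w : alternatingGroup (Fin 5) := ⟨Equiv.swap 1 2 * Equiv.swap 2 3, by
  rw [Equiv.Perm.mem_alternatingGroup]; decide⟩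

theorem a5_pair : a5a * a5a = 1 ∧ a5b * a5b = 1 ∧ a5a * a5b = a5b * a5a ∧ a5a ≠ 1 ∧ a5b ≠ 1 ∧
    a5a ≠ a5b ∧ a5w * a5a * a5w⁻¹ = a5b ∧ a5w * a5b * a5w⁻¹ = a5a * a5b ∧
    a5w⁻¹ * a5a * a5w = a5a * a5b ∧ a5w⁻¹ * a5b * a5w = a5a ∧
    a5w ^ 3 = 1 ∧ a5w ≠ 1 := by decide

end Concrete

section Apply

variable {G : Type*} [Group G]

/-- the embedding attached to an isomorphism of a subgroup with an abstract group -/
def embOf {X : Type*} [Group X] (M : Subgroup G) (e : M ≃* X) : X →* G :=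
  M.subtype.comp e.symm.toMonoidHom

theorem embOf_injective {X : Type*} [Group X] (M : Subgroup G) (e : M ≃* X) :
    Function.Injective (embOf M e) := by
  intro x y hxy
  exact e.symm.injective (Subtype.ext hxy)

theorem embOf_range {X : Type*} [Group X] (M : Subgroup G) (e : M ≃* X) :
    (embOf M e).range = M := by
  ext x
  constructor
  · rintro ⟨y, rfl⟩
    exact (e.symm y).2
  · intro hx
    exact ⟨e ⟨x, hx⟩, by simp [embOf]⟩

theorem embOf_apply_equiv {X : Type*} [Group X] (M : Subgroup G) (e : M ≃* X) (m : M) :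
    embOf M e (e m) = m := by simp [embOf]

/-- a subgroup isomorphic to `S₄` normalizes a Klein four-subgroup lying in its `A₄` -/
theorem klein_of_S4 (M : Subgroup G) (e : M ≃* Equiv.Perm (Fin 4)) :
    ∃ V M0 : Subgroup G, IsKleinFour V ∧ V ≤ M0 ∧ M0 ≤ M ∧
      M ≤ Subgroup.normalizer (V : Set G) ∧
      Nonempty (M0 ≃* alternatingGroup (Fin 4)) := by
  obtain ⟨h1, h2, h3, h4, h5, h6⟩ := s4_pair
  obtain ⟨V, hV, hVr, hrN, haV, hbV, hVmem⟩ := klein_of_normal_pair (embOf M e)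
    (embOf_injective M e) s4a s4b h1 h2 h3 h4 h5 h6 s4_normal
  rw [embOf_range] at hVr hrN
  refine ⟨V, (alternatingGroup (Fin 4)).map (embOf M e), hV, ?_, ?_, hrN, ?_⟩
  · intro x hx
    rcases hVmem x hx with rfl | rfl | rfl | rfl
    · exact Subgroup.one_mem _
    · exact ⟨s4a, s4_pair_mem.1, rfl⟩
    · exact ⟨s4b, s4_pair_mem.2, rfl⟩
    · exact Subgroup.mul_mem _ ⟨s4a, s4_pair_mem.1, rfl⟩ ⟨s4b, s4_pair_mem.2, rfl⟩
  · rintro _ ⟨y, -, rfl⟩
    exact (e.symm y).2
  · exact ⟨((alternatingGroup (Fin 4)).equivMapOfInjective (embOf M e)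
      (embOf_injective M e)).symm⟩

/-- a subgroup isomorphic to `A₄` normalizes a Klein four-subgroup -/
theorem klein_of_A4 (M : Subgroup G) (e : M ≃* alternatingGroup (Fin 4)) :
    ∃ V : Subgroup G, IsKleinFour V ∧ V ≤ M ∧ M ≤ Subgroup.normalizer (V : Set G) := by
  obtain ⟨h1, h2, h3, h4, h5, h6⟩ := s4_pair
  let a : alternatingGroup (Fin 4) := ⟨s4a, s4_pair_mem.1⟩
  let b : alternatingGroup (Fin 4) := ⟨s4b, s4_pair_mem.2⟩
  have hn : ∀ g : alternatingGroup (Fin 4),
      (g * a * g⁻¹ = 1 ∨ g * a * g⁻¹ = a ∨ g * a * g⁻¹ = b ∨ g * a * g⁻¹ = a * b) ∧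
      (g * b * g⁻¹ = 1 ∨ g * b * g⁻¹ = a ∨ g * b * g⁻¹ = b ∨ g * b * g⁻¹ = a * b) := by
    intro g
    obtain ⟨k1, k2⟩ := s4_normal g.1
    constructor
    · rcases k1 with k | k | k | k
      · left; exact Subtype.ext k
      · right; left; exact Subtype.ext k
      · right; right; left; exact Subtype.ext k
      · right; right; right; exact Subtype.ext k
    · rcases k2 with k | k | k | k
      · left; exact Subtype.ext k
      · right; left; exact Subtype.ext k
      · right; right; left; exact Subtype.ext k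
      · right; right; right; exact Subtype.ext k
  obtain ⟨V, hV, hVr, hrN, -, -, -⟩ := klein_of_normal_pair (embOf M e)
    (embOf_injective M e) a b (Subtype.ext h1) (Subtype.ext h2) (Subtype.ext h3)
    (fun h => h4 (congrArg Subtype.val h)) (fun h => h5 (congrArg Subtype.val h))
    (fun h => h6 (congrArg Subtype.val h)) hn
  rw [embOf_range] at hVr hrN
  exact ⟨V, hV, hVr, hrN⟩

/-- a subgroup isomorphic to `A₅` contains a Klein four-subgroup normalized by an element of order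
three -/
theorem klein_of_A5 (H : Subgroup G) (e : H ≃* alternatingGroup (Fin 5)) :
    ∃ (V : Subgroup G) (w : G), IsKleinFour V ∧ V ≤ H ∧ w ∈ H ∧
      w ∈ Subgroup.normalizer (V : Set G) ∧ orderOf w = 3 := by
  classical
  obtain ⟨h1, h2, h3, h4, h5, h6, h7, h8, h9, h10, h11, h12⟩ := a5_pair
  set ψ := embOf H e with hψ
  have hinj := embOf_injective H e
  have ha' : ψ a5a * ψ a5a = 1 := by rw [← map_mul, h1, map_one]
  have hb' : ψ a5b * ψ a5b = 1 := by rw [← map_mul, h2, map_one]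
  have hab' : ψ a5a * ψ a5b = ψ a5b * ψ a5a := by rw [← map_mul, h3, map_mul]
  have hmemH : ∀ x, ψ x ∈ H := fun x => (e.symm x).2
  refine ⟨kleinOf (ψ a5a) (ψ a5b) ha' hb' hab', ψ a5w, ?_, ?_, hmemH _, ?_, ?_⟩
  · apply isKleinFour_kleinOf
    · intro h; exact h4 (hinj (by rw [h, map_one]))
    · intro h; exact h5 (hinj (by rw [h, map_one]))
    · intro h; exact h6 (hinj h)
  · rintro x (rfl | rfl | rfl | rfl)
    · exact Subgroup.one_mem _
    · exact hmemH _
    · exact hmemH _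
    · exact H.mul_mem (hmemH _) (hmemH _)
  · apply mem_normalizer_kleinOf
    · right; right; left
      rw [← map_inv, ← map_mul, ← map_mul, h7]
    · right; right; right
      rw [← map_inv, ← map_mul, ← map_mul, h8, map_mul]
    · right; right; right
      rw [← map_inv, ← map_mul, ← map_mul, h9, map_mul]
    · right; left
      rw [← map_inv, ← map_mul, ← map_mul, h10]
  · rw [orderOf_injective ψ hinj]
    haveI : Fact (Nat.Prime 3) := ⟨Nat.prime_three⟩
    exact orderOf_eq_prime h11 h12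

end Apply

section Transport

variable {G H : Type*} [Group G] [Group H]

theorem isKleinFour_transport (N : Subgroup G) (φ : N ≃* H) (V : Subgroup G) (hV : V ≤ N)
    (hK : IsKleinFour V) : IsKleinFour ((V.subgroupOf N).map φ.toMonoidHom) := by
  have e1 : V ≃* (V.subgroupOf N) := (Subgroup.subgroupOfEquivOfLe hV).symm
  have e2 : (V.subgroupOf N) ≃* ((V.subgroupOf N).map φ.toMonoidHom) :=
    (V.subgroupOf N).equivMapOfInjective φ.toMonoidHom φ.injective
  exact isKleinFour_of_mulEquiv hK (e1.trans e2)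

/-- cardinality of a relative normalizer via an isomorphism -/
theorem card_normalizer_inf (N : Subgroup G) (φ : N ≃* H) (V : Subgroup G) (hV : V ≤ N) :
    Nat.card ((Subgroup.normalizer (V : Set G) ⊓ N : Subgroup G)) =
      Nat.card (Subgroup.normalizer
        (((V.subgroupOf N).map φ.toMonoidHom : Subgroup H) : Set H)) := by
  have e1 : (Subgroup.normalizer (V : Set G) ⊓ N : Subgroup G) ≃*
      ((Subgroup.normalizer (V : Set G) ⊓ N).subgroupOf N) :=
    (Subgroup.subgroupOfEquivOfLe inf_le_right).symm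
  rw [Nat.card_congr e1.toEquiv, Subgroup.inf_subgroupOf_right,
    Subgroup.subgroupOf_normalizer_eq hV, ← Subgroup.map_equiv_normalizer_eq]
  exact (Subgroup.card_map_of_injective φ.injective).symm

/-- conjugacy inside a subgroup via an isomorphism -/
theorem exists_conj_in_subgroup [Finite G] (N : Subgroup G) (φ : N ≃* H)
    (hconj : ∀ V W : Subgroup H, IsKleinFour V → IsKleinFour W →
      ∃ g : H, W = V.map (MulAut.conj g).toMonoidHom)
    (V W : Subgroup G) (hV : V ≤ N) (hW : W ≤ N) (hVK : IsKleinFour V) (hWK : IsKleinFour W) :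
    ∃ g ∈ N, W = V.map (MulAut.conj g).toMonoidHom := by
  obtain ⟨g', hg'⟩ := hconj _ _ (isKleinFour_transport N φ V hV hVK)
    (isKleinFour_transport N φ W hW hWK)
  refine ⟨(φ.symm g' : G), (φ.symm g').2, ?_⟩
  have hle : W ≤ V.map (MulAut.conj (φ.symm g' : G)).toMonoidHom := by
    intro w hw
    have h1 : φ ⟨w, hW hw⟩ ∈ (W.subgroupOf N).map φ.toMonoidHom :=
      ⟨⟨w, hW hw⟩, Subgroup.mem_subgroupOf.2 hw, rfl⟩
    rw [hg'] at h1
    obtain ⟨v', ⟨v, hv, rfl⟩, hv'⟩ := h1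
    have hv0 : (v : G) ∈ V := Subgroup.mem_subgroupOf.1 hv
    refine ⟨(v : G), hv0, ?_⟩
    have h2 : φ (φ.symm g' * v * (φ.symm g')⁻¹) = φ ⟨w, hW hw⟩ := by
      rw [map_mul, map_mul, map_inv, MulEquiv.apply_symm_apply]
      exact hv'
    have h3 := φ.injective h2
    have h4 := congrArg Subtype.val h3
    simpa using h4
  have hcard : Nat.card (V.map (MulAut.conj (φ.symm g' : G)).toMonoidHom) = Nat.card W := by
    rw [Subgroup.card_map_of_injective (MulAut.conj _).injective, hVK.card_four, hWK.card_four]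
  exact Subgroup.eq_of_le_of_card_ge hle (by rw [hcard])

end Transport

end Cfsg.Agent.Helper46.Mx
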