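import Mathlib
import Cfsg.Agent.Helper46.MxKlein

set_option autoImplicit false

/-!
# Klein four-subgroups inside the standard subfield subgroups of `PSL₂(F)`
-/

namespace Cfsg.Agent.Helper46.Mx

open Matrix Cfsg.Agent.Helper46.Dk Cfsg.Agent.Helper41

variable {F : Type*} [Field F] [Fintype F]

local notation "SL2F" => Matrix.SpecialLinearGroup (Fin 2) F
local notation "PSL2F" => Matrix.ProjectiveSpecialLinearGroup (Fin 2) F

theorem card_normalizer_inf_stdPSL_24 (K : Subfield F)
    (h8 : Nat.card K % 8 = 1 ∨ Nat.card K % 8 = 7) (V : Subgroup PSL2F) (hV : V ≤ stdPSL K)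
    (hVK : IsKleinFour V) :
    Nat.card ((Subgroup.normalizer (V : Set PSL2F) ⊓ stdPSL K : Subgroup PSL2F)) = 24 := by
  classical
  letI : Fintype K := Fintype.ofFinite K
  obtain ⟨φ⟩ := nonempty_stdPSL_equiv K
  rw [card_normalizer_inf (stdPSL K) φ V hV]
  apply card_normalizer_of_isKleinFour_of_one_or_seven
  · rw [← Nat.card_eq_fintype_card]; exact h8
  · exact isKleinFour_transport (stdPSL K) φ V hV hVK

theorem card_normalizer_inf_stdPSL_12 (K : Subfield F)
    (h8 : Nat.card K % 8 = 3 ∨ Nat.card K % 8 = 5) (V : Subgroup PSL2F) (hV : V ≤ stdPSL K)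
    (hVK : IsKleinFour V) :
    Nat.card ((Subgroup.normalizer (V : Set PSL2F) ⊓ stdPSL K : Subgroup PSL2F)) = 12 := by
  classical
  letI : Fintype K := Fintype.ofFinite K
  obtain ⟨φ⟩ := nonempty_stdPSL_equiv K
  rw [card_normalizer_inf (stdPSL K) φ V hV]
  apply card_normalizer_of_isKleinFour_of_three_or_five
  · rw [← Nat.card_eq_fintype_card]; exact h8
  · exact isKleinFour_transport (stdPSL K) φ V hV hVK

theorem klein_conj_in_stdPSL (K : Subfield F)
    (h8 : Nat.card K % 8 = 3 ∨ Nat.card K % 8 = 5) (V W : Subgroup PSL2F) (hV : V ≤ stdPSL K)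
    (hW : W ≤ stdPSL K) (hVK : IsKleinFour V) (hWK : IsKleinFour W) :
    ∃ g ∈ stdPSL K, W = V.map (MulAut.conj g).toMonoidHom := by
  classical
  letI : Fintype K := Fintype.ofFinite K
  obtain ⟨φ⟩ := nonempty_stdPSL_equiv K
  have hodd : Odd (Fintype.card K) := by
    rw [← Nat.card_eq_fintype_card, Nat.odd_iff]; omega
  have h8' : Fintype.card K % 8 = 3 ∨ Fintype.card K % 8 = 5 := by
    rw [← Nat.card_eq_fintype_card]; exact h8
  exact exists_conj_in_subgroup (stdPSL K) φ
    ((Cfsg.Agent.S0808.result (F := K) rfl hodd).1 h8') V W hV hW hVK hWK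

/-- the normalizer of a Klein four-group in `PSL₂(F)` -/
theorem card_normalizer_klein (hodd : Odd (Fintype.card F)) (V : Subgroup PSL2F)
    (hVK : IsKleinFour V) :
    (Fintype.card F % 8 = 1 ∨ Fintype.card F % 8 = 7) ∧
      Nat.card (Subgroup.normalizer (V : Set PSL2F)) = 24 ∨
    (Fintype.card F % 8 = 3 ∨ Fintype.card F % 8 = 5) ∧
      Nat.card (Subgroup.normalizer (V : Set PSL2F)) = 12 := by
  have h : Fintype.card F % 8 = 1 ∨ Fintype.card F % 8 = 7 ∨ Fintype.card F % 8 = 3 ∨
      Fintype.card F % 8 = 5 := by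
    rw [Nat.odd_iff] at hodd; omega
  rcases h with h | h | h | h
  · exact Or.inl ⟨Or.inl h, card_normalizer_of_isKleinFour_of_one_or_seven (Or.inl h) V hVK⟩
  · exact Or.inl ⟨Or.inr h, card_normalizer_of_isKleinFour_of_one_or_seven (Or.inr h) V hVK⟩
  · exact Or.inr ⟨Or.inl h, card_normalizer_of_isKleinFour_of_three_or_five (Or.inl h) V hVK⟩
  · exact Or.inr ⟨Or.inr h, card_normalizer_of_isKleinFour_of_three_or_five (Or.inr h) V hVK⟩

end Cfsg.Agent.Helper46.Mx
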