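import Mathlib
import Cfsg.Agent.Helper46.MxKleinPSL
import Cfsg.Agent.Helper46.MxConcl

set_option autoImplicit false

/-!
# Descent of a subgroup containing a Klein four-group to a subfield subgroup
-/

namespace Cfsg.Agent.Helper46.Mx

open Matrix Cfsg.Agent.Helper46.Dk Cfsg.Agent.Helper41

variable {F : Type*} [Field F] [Fintype F]

local notation "M2F" => Matrix (Fin 2) (Fin 2) F
local notation "SL2F" => Matrix.SpecialLinearGroup (Fin 2) F
local notation "PSL2F" => Matrix.ProjectiveSpecialLinearGroup (Fin 2) F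

theorem exists_sum_sq (hodd : Odd (Fintype.card F)) (K : Subfield F) :
    ∃ y z : F, y ∈ K ∧ z ∈ K ∧ 1 + y ^ 2 + z ^ 2 = 0 := by
  classical
  letI : Fintype K := Fintype.ofFinite K
  have hK : Fintype.card K % 2 = 1 := by
    rw [← Nat.card_eq_fintype_card, ← Nat.odd_iff]
    exact odd_card_subfield hodd K
  obtain ⟨y, z, hyz⟩ := exists_quadratic_sol (F := K) hK 1 0 1 1 one_ne_zero one_ne_zero
  refine ⟨y, z, y.2, z.2, ?_⟩
  have := congrArg Subtype.val hyz
  simp only [one_mul, zero_mul, add_zero] at this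
  push_cast at this
  linear_combination this

/-- a subgroup containing a Klein four-group, all of whose lifts have traces in `K`, is mapped
into `stdPSL K` by an automorphism of `PSL₂(F)` -/
theorem exists_aut_le_stdPSL (hodd : Odd (Fintype.card F)) (K : Subfield F)
    (M V : Subgroup PSL2F) (hV : IsKleinFour V) (hVM : V ≤ M)
    (htr : ∀ g : SL2F, QuotientGroup.mk' (Subgroup.center SL2F) g ∈ M → tr g ∈ K) :
    ∃ α : PSL2F ≃* PSL2F, M.map α.toMonoidHom ≤ stdPSL K := by
  classical
  have h2 := two_ne_zero_of_odd hodd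
  obtain ⟨a, b, haV, hbV, ha1, hb1, hne⟩ := exists_pair_of_isKleinFour V hV
  haveI := hV
  obtain ⟨hmem, -⟩ := closure_pair_eq_of_isKleinFour V haV hbV ha1 hb1 hne
  rw [mem_commInvPairs] at hmem
  obtain ⟨-, -, haa, hbb, -, hab⟩ := hmem
  obtain ⟨I, J, hq, hI, hJ⟩ := exists_quatPair_of_commInv hodd a b ha1 hb1 haa hbb hne hab
  obtain ⟨y, z, hy, hz, hyz⟩ := exists_sum_sq hodd K
  apply exists_conj_le_stdPSL h2 K M I J hq.II hq.JJ hq.JI _ _ y z hy hz hyz htr
  · show (QuotientGroup.mk I : PSL2F) ∈ M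
    rw [hI]; exact hVM haV
  · show (QuotientGroup.mk J : PSL2F) ∈ M
    rw [hJ]; exact hVM hbV

/-- lifts: powers in `PSL₂` versus the center -/
theorem pow_mem_center_of_mk_pow (g : SL2F) (n : ℕ)
    (h : (QuotientGroup.mk' (Subgroup.center SL2F) g) ^ n = 1) : g ^ n ∈ Subgroup.center SL2F := by
  rw [← map_pow] at h
  exact (QuotientGroup.eq_one_iff _).1 h

/-- the image of a coatom under an automorphism -/
theorem isCoatom_map_equiv {G : Type*} [Group G] (α : G ≃* G) (M : Subgroup G) (hM : IsCoatom M) :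
    IsCoatom (M.map α.toMonoidHom) :=
  (α.mapSubgroup.isCoatom_iff M).2 hM

/-- the prime subfield has `p` elements when it is everything -/
theorem card_eq_char_of_bot_eq_top (p : ℕ) [Fact p.Prime] [CharP F p] (hp : p ≠ 2)
    (h : (⊥ : Subfield F) = ⊤) : Fintype.card F = p := by
  have hpp : p.Prime := Fact.out
  have hle : (⊥ : Subfield F) ≤ frobFixed p hp 1 := bot_le
  have hall : ∀ x : F, x ^ p = x := by
    intro x
    have : x ∈ frobFixed (F := F) p hp 1 := hle (h ▸ Subfield.mem_top x)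
    rw [mem_frobFixed, pow_one] at this
    exact this
  have h1 := card_le_of_forall_pow_eq p hpp.two_le hall
  obtain ⟨n, -, hn⟩ := FiniteField.card F p
  have h2 : p ≤ Fintype.card F := by
    rw [hn]
    calc p = p ^ 1 := (pow_one p).symm
      _ ≤ p ^ (n : ℕ) := Nat.pow_le_pow_right hpp.pos n.pos
  omega

/-- the prime subfield has `p` elements -/
theorem card_bot (p : ℕ) [Fact p.Prime] [CharP F p] (hp : p ≠ 2) :
    Nat.card (⊥ : Subfield F) = p := by
  have hpp : p.Prime := Fact.out
  obtain ⟨j, m, hj, hm, hKj, hFm⟩ := card_subfield p (⊥ : Subfield F)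
  have hle : (⊥ : Subfield F) ≤ frobFixed p hp 1 := bot_le
  have h1 : Nat.card (⊥ : Subfield F) ≤ Nat.card (frobFixed (F := F) p hp 1) := by
    have := Set.ncard_le_ncard (s := ((⊥ : Subfield F) : Set F))
      (t := (frobFixed (F := F) p hp 1 : Set F)) hle (Set.toFinite _)
    rw [← Nat.card_coe_set_eq, ← Nat.card_coe_set_eq] at this
    exact this
  have h2 := card_frobFixed_le (F := F) p hp 1 (by norm_num)
  rw [pow_one] at h2
  have h3 : p ^ j ≤ p := by rw [← hKj]; exact h1.trans h2
  have h4 : p ≤ p ^ j := by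
    calc p = p ^ 1 := (pow_one p).symm
      _ ≤ p ^ j := Nat.pow_le_pow_right hpp.pos hj
  rw [hKj]; omega

end Cfsg.Agent.Helper46.Mx
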