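import Mathlib
import Cfsg.Agent.Helper46.MxStd

set_option autoImplicit false

/-!
# Maximal subgroups of `PGL₂(K)`-type in `PSL₂(F)`
-/

namespace Cfsg.Agent.Helper46.Mx

open Matrix Cfsg.Agent.Helper46.Dk

variable {F : Type*} [Field F] [Fintype F]

local notation "M2F" => Matrix (Fin 2) (Fin 2) F
local notation "SL2F" => Matrix.SpecialLinearGroup (Fin 2) F
local notation "PSL2F" => Matrix.ProjectiveSpecialLinearGroup (Fin 2) F

/-- a subgroup of index two is normalized by the overgroup -/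
theorem conj_mem_of_card_eq_two_mul {G : Type*} [Group G] [Finite G] (S M : Subgroup G)
    (hSM : S ≤ M) (hcard : Nat.card M = 2 * Nat.card S) {x y : G} (hx : x ∈ M) (hy : y ∈ S) :
    x * y * x⁻¹ ∈ S := by
  have h1 := (S.subgroupOf M).index_mul_card
  rw [Nat.card_congr (Subgroup.subgroupOfEquivOfLe hSM).toEquiv, hcard] at h1
  have hidx : (S.subgroupOf M).index = 2 :=
    Nat.eq_of_mul_eq_mul_right Nat.card_pos h1
  haveI := Subgroup.normal_of_index_eq_two hidx
  have := (inferInstance : (S.subgroupOf M).Normal).conj_mem ⟨y, hSM hy⟩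
    (Subgroup.mem_subgroupOf.2 hy) ⟨x, hx⟩
  rw [Subgroup.mem_subgroupOf] at this
  exact this

variable (p : ℕ) [Fact p.Prime] [CharP F p]

include p in
/-- a maximal subgroup containing `stdPSL K` with index two forces `|F| = |K|²` -/
theorem coatom_pgl_type (hodd : Odd (Fintype.card F)) (h5 : 5 ≤ Fintype.card F)
    (K : Subfield F) (M : Subgroup PSL2F) (hM : IsCoatom M) (hKM : stdPSL K ≤ M)
    (hcard : Nat.card M = 2 * Nat.card (stdPSL K)) :
    Fintype.card F = Nat.card K ^ 2 := by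
  classical
  have h2 := two_ne_zero_of_odd hodd
  have hp : p ≠ 2 := by
    intro hp2
    apply h2
    have := CharP.cast_eq_zero F p
    rw [hp2] at this
    exact_mod_cast this
  obtain ⟨j, m, hj, hm, hKj, hFm⟩ := card_subfield p K
  have hk1 : 1 < Nat.card K := by
    rw [hKj]; exact Nat.one_lt_pow hj.ne' (Fact.out : p.Prime).one_lt
  have hkodd := odd_card_subfield hodd K
  set π := QuotientGroup.mk' (Subgroup.center SL2F) with hπ
  -- products of entries
  have hprod : ∀ g : SL2F, π g ∈ M → ∀ a b c d : Fin 2, g.1 a b * g.1 c d ∈ K := by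
    intro g hg
    have hc : ∀ h ∈ ratSub K, g * h * g⁻¹ ∈ ratSub K := by
      intro h hh
      rw [← mem_stdPSL_iff, map_mul, map_mul, map_inv]
      exact conj_mem_of_card_eq_two_mul _ _ hKM hcard hg ((mem_stdPSL_iff K h).2 hh)
    apply Cfsg.Agent.Helper41.DkR.prod_entries_mem K g
    · exact hc _ (uU_mem_ratSub K K.one_mem)
    · exact hc _ (vV_mem_ratSub K K.one_mem)
    · exact hc _ ((ratSub K).mul_mem (uU_mem_ratSub K K.one_mem) (vV_mem_ratSub K K.one_mem))
  set K₂ := frobFixed (F := F) p hp (2 * j) with hK₂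
  have hKK₂ : K ≤ K₂ := by
    rw [subfield_eq_frobFixed p hp K j hj hKj, hK₂, mul_comm]
    exact frobFixed_mono p hp j 2
  have hentry : ∀ e : F, e * e ∈ K → e ∈ K₂ := by
    intro e he
    rw [hK₂, mem_frobFixed]
    by_cases he0 : e = 0
    · rw [he0]
      exact zero_pow (pow_ne_zero _ (Fact.out : p.Prime).ne_zero)
    have h1 := pow_card_subfield K he
    rw [hKj] at h1
    -- `e ^ (2 (p^j - 1)) = 1`
    have hpj : 1 ≤ p ^ j := Nat.one_le_pow _ _ (Fact.out : p.Prime).pos
    have h3 : e ^ (2 * (p ^ j - 1)) = 1 := by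
      have h4 : e ^ (2 * (p ^ j - 1)) * (e * e) = 1 * (e * e) := by
        rw [one_mul]
        calc e ^ (2 * (p ^ j - 1)) * (e * e) = (e * e) ^ (p ^ j - 1 + 1) := by
              rw [← pow_two, ← pow_mul, ← pow_add]
              congr 1
          _ = e * e := by rw [Nat.sub_add_cancel hpj, h1]
      exact mul_right_cancel₀ (mul_ne_zero he0 he0) h4
    obtain ⟨t, ht⟩ : ∃ t, p ^ j + 1 = 2 * t := by
      have : Odd (p ^ j) := by rw [← hKj]; exact hkodd
      obtain ⟨u, hu⟩ := this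
      exact ⟨u + 1, by omega⟩
    have h5' : p ^ (2 * j) - 1 = 2 * (p ^ j - 1) * t := by
      have : p ^ (2 * j) = p ^ j * p ^ j := by rw [two_mul, pow_add]
      rw [this]
      have e1 : p ^ j * p ^ j - 1 = (p ^ j - 1) * (p ^ j + 1) := by
        obtain ⟨u, hu⟩ : ∃ u, p ^ j = u + 1 := ⟨p ^ j - 1, by omega⟩
        rw [hu]
        simp only [Nat.add_sub_cancel]
        have : (u + 1) * (u + 1) = u * (u + 1 + 1) + 1 := by ring
        rw [this, Nat.add_sub_cancel]
      rw [e1, ht]; ring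
    have h6 : e ^ (p ^ (2 * j) - 1) = 1 := by rw [h5', pow_mul, h3, one_pow]
    have hpos : 1 ≤ p ^ (2 * j) := Nat.one_le_pow _ _ (Fact.out : p.Prime).pos
    calc e ^ p ^ (2 * j) = e ^ (p ^ (2 * j) - 1 + 1) := by rw [Nat.sub_add_cancel hpos]
      _ = e := by rw [pow_succ, h6, one_mul]
  have hMle : M ≤ stdPSL K₂ := by
    intro x hx
    obtain ⟨g, rfl⟩ := QuotientGroup.mk'_surjective (Subgroup.center SL2F) x
    apply mem_stdPSL_of_entries
    intro a b
    exact hentry _ (hprod g hx a b a b)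
  -- `M ≠ stdPSL K`
  have hS0 : 0 < Nat.card (stdPSL K) := Nat.card_pos
  have hne : ∃ x ∈ M, x ∉ stdPSL K := by
    by_contra hcon
    push_neg at hcon
    have : M = stdPSL K := le_antisymm hcon hKM
    rw [this] at hcard
    omega
  obtain ⟨x, hxM, hxS⟩ := hne
  obtain ⟨g, rfl⟩ := QuotientGroup.mk'_surjective (Subgroup.center SL2F) x
  have hgK : ¬ ∀ a b, g.1 a b ∈ K := fun h => hxS (mem_stdPSL_of_entries K g h)
  push_neg at hgK
  obtain ⟨a, b, hab⟩ := hgK
  have habK₂ : g.1 a b ∈ K₂ := hentry _ (hprod g hxM a b a b)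
  have hKne : K ≠ K₂ := fun h => hab (h ▸ habK₂)
  have hK₂le := card_frobFixed_le (F := F) p hp (2 * j) (by omega)
  rw [← hK₂] at hK₂le
  have hk2 : p ^ (2 * j) = Nat.card K ^ 2 := by rw [hKj, ← pow_mul, mul_comm]
  obtain ⟨j₂, m₂, hj₂, hm₂, hK₂j, hFm₂⟩ := card_subfield p K₂
  have hlt : Nat.card K < Nat.card K₂ := by
    have hss : (K : Set F) ⊂ (K₂ : Set F) :=
      ⟨hKK₂, fun h => hKne (le_antisymm hKK₂ h)⟩
    have := Set.ncard_lt_ncard hss (Set.toFinite _)
    rw [← Nat.card_coe_set_eq, ← Nat.card_coe_set_eq] at this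
    exact this
  rcases hM.le_iff.1 hMle with h | h
  · have htop := eq_top_of_stdPSL_eq_top K₂ h
    have hc : Nat.card K₂ = Fintype.card F := by
      rw [htop, ← Nat.card_eq_fintype_card]
      exact Nat.card_congr (Subfield.topEquiv (K := F)).toEquiv
    rw [hc, hk2, hFm] at hK₂le
    rw [hc, hFm] at hlt
    have hm2 : m ≤ 2 := (Nat.pow_le_pow_iff_right hk1).1 hK₂le
    have hm1 : 1 < m := by
      by_contra hcon
      have : m = 1 := by omega
      rw [this, pow_one] at hlt
      exact lt_irrefl _ hlt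
    have : m = 2 := by omega
    rw [hFm, this]
  · exfalso
    have h1 := two_mul_card_stdPSL hodd K
    have h2' := two_mul_card_stdPSL hodd K₂
    rw [h, hcard] at h2'
    -- `k₂ ≥ 3 k`
    have hjlt : j < j₂ := by
      rw [hKj, hK₂j] at hlt
      exact (Nat.pow_lt_pow_iff_right (Fact.out : p.Prime).one_lt).1 hlt
    have h3k : 3 * Nat.card K ≤ Nat.card K₂ := by
      rw [hKj, hK₂j]
      have hp3 : 3 ≤ p := by
        have := (Fact.out : p.Prime).two_le
        omega
      calc 3 * p ^ j ≤ p * p ^ j := Nat.mul_le_mul_right _ hp3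
        _ = p ^ (j + 1) := by rw [pow_succ, mul_comm]
        _ ≤ p ^ j₂ := Nat.pow_le_pow_right (Fact.out : p.Prime).pos hjlt
    set k := Nat.card K with hk
    set k₂ := Nat.card K₂ with hk₂'
    have hk1' : 1 ≤ k := by omega
    have hmono := mul_sq_pred_strictMono (a := k) (b := 3 * k) hk1' (by omega)
    have hmono2 : (3 * k) * ((3 * k) ^ 2 - 1) ≤ k₂ * (k₂ ^ 2 - 1) := by
      rcases Nat.lt_or_ge (3 * k) k₂ with h' | h'
      · exact (mul_sq_pred_strictMono (by omega) h').le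
      · have : k₂ = 3 * k := le_antisymm h' h3k
        rw [this]
    -- `2 * (k (k² - 1)) = k₂ (k₂² - 1) ≥ 3k (9k² - 1)`
    have hk2' : 1 ≤ k ^ 2 := Nat.one_le_pow _ _ hk1'
    have h9 : (3 * k) ^ 2 - 1 = 9 * k ^ 2 - 1 := by ring_nf
    rw [h9] at hmono2
    have : 2 * (k * (k ^ 2 - 1)) < 3 * k * (9 * k ^ 2 - 1) := by
      have e1 : k ^ 2 - 1 < 9 * k ^ 2 - 1 := by omega
      calc 2 * (k * (k ^ 2 - 1)) = 2 * k * (k ^ 2 - 1) := by ring
        _ ≤ 3 * k * (k ^ 2 - 1) := Nat.mul_le_mul_right _ (by omega)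
        _ < 3 * k * (9 * k ^ 2 - 1) := Nat.mul_lt_mul_of_pos_left e1 (by omega)
    omega

end Cfsg.Agent.Helper46.Mx
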