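import Mathlib
import Cfsg.Agent.Helper46.MxPGL
import Cfsg.Agent.Helper41.MaxEven
import Cfsg.Agent.Helper41.SL2ClassSum
import Cfsg.Agent.S0809

set_option autoImplicit false

/-!
# Maximal subgroups of `PSL₂(q)`, `q` odd: the Borel, cyclic and dihedral cases
-/

namespace Cfsg.Agent.Helper46.Mx

open Matrix Cfsg.Agent.Helper46.Dk Cfsg.Agent.Helper41.DkR

variable {F : Type*} [Field F] [Fintype F]

local notation "M2F" => Matrix (Fin 2) (Fin 2) F
local notation "SL2F" => Matrix.SpecialLinearGroup (Fin 2) F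
local notation "PSL2F" => Matrix.ProjectiveSpecialLinearGroup (Fin 2) F

theorem gcd_two_pred_of_odd {q : ℕ} (hodd : Odd q) : Nat.gcd 2 (q - 1) = 2 := by
  obtain ⟨t, ht⟩ := hodd
  have : q - 1 = 2 * t := by omega
  rw [this]
  exact Nat.gcd_mul_right_right t 2

variable (p : ℕ) [Fact p.Prime] [CharP F p]

theorem normalizer_sylow_ne_top' (P : Sylow p PSL2F) :
    Subgroup.normalizer ((P : Subgroup PSL2F) : Set PSL2F) ≠ ⊤ := by
  intro h
  have := index_normalizer_sylowP p P
  rw [h, Subgroup.index_top] at this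
  have hpos : 0 < Fintype.card F := Fintype.card_pos
  omega

theorem two_mul_card_normalizer_sylow (hodd : Odd (Fintype.card F)) (P : Sylow p PSL2F) :
    2 * Nat.card (Subgroup.normalizer ((P : Subgroup PSL2F) : Set PSL2F)) =
      Fintype.card F * (Fintype.card F - 1) := by
  have := card_normalizer_sylowP_mul p P
  rw [gcd_two_pred_of_odd hodd] at this
  omega

/-- a maximal subgroup of Borel type is a Sylow normalizer -/
theorem card_of_borelType_odd (hodd : Odd (Fintype.card F)) (M : Subgroup PSL2F)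
    (hM : IsCoatom M) (hB : BorelType p M) :
    2 * Nat.card M = Fintype.card F * (Fintype.card F - 1) := by
  obtain ⟨P, g, hle⟩ := hB
  have hM' : IsCoatom (M.map (MulAut.conj g).toMonoidHom) :=
    ((MulAut.conj g).mapSubgroup.isCoatom_iff M).2 hM
  have heq := (hM'.le_iff.1 hle).resolve_left (normalizer_sylow_ne_top' p P)
  rw [← two_mul_card_normalizer_sylow p hodd P, heq]
  congr 1
  exact (Subgroup.card_map_of_injective (MulAut.conj g).injective).symm

/-- a maximal subgroup which is a `p`-group -/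
theorem card_of_isPGroup_of_coatom_odd (hodd : Odd (Fintype.card F)) (M : Subgroup PSL2F)
    (hM : IsCoatom M) (hp : IsPGroup p M) :
    2 * Nat.card M = Fintype.card F * (Fintype.card F - 1) := by
  obtain ⟨P, hP⟩ := hp.exists_le_sylow
  have hle : M ≤ Subgroup.normalizer ((P : Subgroup PSL2F) : Set PSL2F) :=
    hP.trans Subgroup.le_normalizer
  have heq := (hM.le_iff.1 hle).resolve_left (normalizer_sylow_ne_top' p P)
  rw [← two_mul_card_normalizer_sylow p hodd P, heq]

omit [Fact p.Prime] in
theorem coprime_of_dvd_half {q n : ℕ} (hp : p.Prime) (hq : p ∣ q) (hodd : Odd q)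
    (h : n ∣ (q - 1) / 2 ∨ n ∣ (q + 1) / 2) : Nat.Coprime n p := by
  rw [Nat.coprime_comm, hp.coprime_iff_not_dvd]
  intro hpn
  obtain ⟨t, ht⟩ := hodd
  have e1 : (q - 1) / 2 = t := by omega
  have e2 : (q + 1) / 2 = t + 1 := by omega
  rw [e1, e2] at h
  rcases h with h | h
  · have h1 : p ∣ 2 * t := (hpn.trans h).mul_left 2
    have h2 : p ∣ 1 := by
      have : q = 2 * t + 1 := ht
      rw [this] at hq
      exact (Nat.dvd_add_right h1).1 hq
    exact hp.one_lt.ne' (Nat.dvd_one.1 h2)
  · have h1 : p ∣ 2 * (t + 1) := (hpn.trans h).mul_left 2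
    have h2 : p ∣ 1 := by
      have : 2 * (t + 1) = q + 1 := by omega
      rw [this] at h1
      exact (Nat.dvd_add_right hq).1 h1
    exact hp.one_lt.ne' (Nat.dvd_one.1 h2)

theorem char_dvd_card : p ∣ Fintype.card F := by
  obtain ⟨n, -, hn⟩ := FiniteField.card F p
  rw [hn]
  exact dvd_pow_self p n.pos.ne'

include p in
/-- a maximal subgroup is not cyclic -/
theorem not_isCyclic_of_coatom_odd (hodd : Odd (Fintype.card F)) (h5 : 5 ≤ Fintype.card F)
    (M : Subgroup PSL2F) (hM : IsCoatom M) (hc : IsCyclic M) : False := by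
  have hpp : p.Prime := Fact.out
  obtain ⟨x, hx⟩ := IsCyclic.exists_generator (α := ↥M)
  have hord : orderOf x = Nat.card M := orderOf_eq_card_of_forall_mem_zpowers hx
  have hord' : orderOf (x : PSL2F) = Nat.card M := by rw [Subgroup.orderOf_coe, hord]
  have hMz : M = Subgroup.zpowers (x : PSL2F) := by
    apply le_antisymm
    · intro m hm
      obtain ⟨i, hi⟩ := Subgroup.mem_zpowers_iff.1 (hx ⟨m, hm⟩)
      rw [Subgroup.mem_zpowers_iff]
      refine ⟨i, ?_⟩
      have := congrArg Subtype.val hi
      simpa using this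
    · exact Subgroup.zpowers_le.2 x.2
  have hq : 2 * Fintype.card F < Fintype.card F * (Fintype.card F - 1) := by
    rw [mul_comm 2]
    exact Nat.mul_lt_mul_of_pos_left (by omega) (by omega)
  have hpq : p ≤ Fintype.card F := Nat.le_of_dvd Fintype.card_pos (char_dvd_card p)
  have h := Cfsg.Agent.Helper41.psl2_orderOf_dvd p (x : PSL2F)
  rw [gcd_two_pred_of_odd hodd, hord'] at h
  rcases h with h | h
  · -- a `p`-group
    have hpg : IsPGroup p M := by
      rcases (Nat.dvd_prime hpp).1 h with h1 | h1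
      · exact IsPGroup.of_card (n := 0) (by rw [h1, pow_zero])
      · exact IsPGroup.of_card (n := 1) (by rw [h1, pow_one])
    have := card_of_isPGroup_of_coatom_odd p hodd M hM hpg
    have hle : Nat.card M ≤ p := Nat.le_of_dvd hpp.pos h
    omega
  · have hcop : Nat.Coprime (Nat.card M) p :=
      coprime_of_dvd_half p hpp (char_dvd_card p) hodd h
    by_cases h1 : Nat.card M = 1
    · have hpg : IsPGroup p M := IsPGroup.of_card (n := 0) (by rw [h1, pow_zero])
      have := card_of_isPGroup_of_coatom_odd p hodd M hM hpg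
      omega
    have hn2 : 2 ≤ Nat.card M := by
      have : 0 < Nat.card M := Nat.card_pos
      omega
    obtain ⟨w, hw2, hrel, hw⟩ := exists_inverting_involution p (x : PSL2F) hord' hn2 hcop
    have hwN := mem_normalizer_zpowers_of_invert hw2 hrel
    rw [← hMz] at hwN hw
    have hbot : M ≠ ⊥ := by
      intro hbot
      rw [hbot, Subgroup.card_bot] at h1
      exact h1 rfl
    rw [normalizer_eq_of_coatom (by omega) M hM hbot] at hwN
    exact hw hwN

/-- the order of the image in `PSL₂` of the centralizer of a regular semisimple element -/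
theorem two_mul_card_torus (hodd : Odd (Fintype.card F)) (A : SL2F) (ht : (tr A) ^ 2 ≠ 4) :
    2 * Nat.card ((Subgroup.centralizer ({A} : Set SL2F)).map
        (QuotientGroup.mk' (Subgroup.center SL2F))) = Fintype.card F - 1 ∨
    2 * Nat.card ((Subgroup.centralizer ({A} : Set SL2F)).map
        (QuotientGroup.mk' (Subgroup.center SL2F))) = Fintype.card F + 1 := by
  classical
  have h2 := two_ne_zero_of_odd hodd
  set C := Subgroup.centralizer ({A} : Set SL2F) with hC
  set π := QuotientGroup.mk' (Subgroup.center SL2F) with hπ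
  have hZC : Subgroup.center SL2F ≤ C := Subgroup.center_le_centralizer _
  have h1 : Nat.card (C.map π) * 2 = Nat.card C := by
    have e1 := Subgroup.relIndex_ker π (K := C)
    rw [hπ, QuotientGroup.ker_mk'] at e1
    have e2 := ((Subgroup.center SL2F).subgroupOf C).index_mul_card
    rw [Nat.card_congr (Subgroup.subgroupOfEquivOfLe hZC).toEquiv,
      Cfsg.Agent.Helper5.card_center_SL2_of_two_ne_zero h2] at e2
    rw [← e1]
    exact e2
  have htr : Matrix.trace (A : M2F) = tr A := by rw [Matrix.trace_fin_two]; rfl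
  have ht' : (Matrix.trace (A : M2F)) ^ 2 ≠ 4 := by rw [htr]; exact ht
  have h3 : Nat.card C + Cfsg.Agent.Helper42.rootCount (Matrix.trace (A : M2F)) =
      Fintype.card F + 1 :=
    Cfsg.Agent.S0809.card_centralizer_add_rootCount h2 (Nat.odd_iff.1 hodd) A ht'
  have hq : 1 ≤ Fintype.card F := Fintype.card_pos
  by_cases h0 : Cfsg.Agent.Helper42.rootCount (Matrix.trace (A : M2F)) = 0
  · right
    rw [h0, add_zero] at h3
    rw [← h3, ← h1, mul_comm]
  · left
    have := Cfsg.Agent.Helper41.rootCount_eq_two_of_ne_zero _ ht' h0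
    rw [this] at h3
    have h4 : Nat.card C = Fintype.card F - 1 := by omega
    rw [← h4, ← h1, mul_comm]

theorem dihedral_not_comm (n : ℕ) (hn : 3 ≤ n) :
    ∃ a b : DihedralGroup n, a * b ≠ b * a := by
  refine ⟨DihedralGroup.r 1, DihedralGroup.sr 0, ?_⟩
  rw [DihedralGroup.r_mul_sr, DihedralGroup.sr_mul_r]
  intro h
  have h1 : (0 : ZMod n) - 1 = 0 + 1 := by
    injection h
  haveI : Fact (2 < n) := ⟨by omega⟩
  apply ZMod.neg_one_ne_one (n := n)
  linear_combination h1

include p in
/-- a maximal dihedral subgroup `D_n`, `n ≥ 3` prime to `p`, has order `q ∓ 1` -/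
theorem dihedral_of_coatom_odd (hodd : Odd (Fintype.card F)) (h5 : 5 ≤ Fintype.card F)
    (M : Subgroup PSL2F) (hM : IsCoatom M) (n : ℕ) (c : M) (hc : orderOf c = n) (hn3 : 3 ≤ n)
    (hpn : ¬ p ∣ n) (e : M ≃* DihedralGroup n) :
    2 * n = Fintype.card F - 1 ∨ 2 * n = Fintype.card F + 1 := by
  classical
  have hpp : p.Prime := Fact.out
  have h4 : 4 ≤ Fintype.card F := by omega
  haveI : NeZero n := ⟨by omega⟩
  have hcardM : Nat.card M = 2 * n := by
    rw [Nat.card_congr e.toEquiv, DihedralGroup.nat_card]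
  have hc' : orderOf (c : PSL2F) = n := by rw [Subgroup.orderOf_coe, hc]
  set S := Subgroup.zpowers (c : PSL2F) with hS
  have hSM : S ≤ M := Subgroup.zpowers_le.2 c.2
  have hcardS : Nat.card S = n := by rw [hS, Nat.card_zpowers, hc']
  have hMN : M ≤ Subgroup.normalizer (S : Set PSL2F) := by
    intro x hx
    apply mem_normalizer_of_conj
    · intro y hy
      exact conj_mem_of_card_eq_two_mul S M hSM (by rw [hcardM, hcardS]) hx hy
    · intro y hy
      have := conj_mem_of_card_eq_two_mul S M hSM (by rw [hcardM, hcardS]) (M.inv_mem hx) hy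
      rwa [inv_inv] at this
  have hSbot : S ≠ ⊥ := by
    intro h
    rw [h, Subgroup.card_bot] at hcardS
    omega
  have hStop : S ≠ ⊤ := by
    intro h
    apply hM.1
    rw [eq_top_iff, ← h]; exact hSM
  have hN := normalizer_ne_top' h4 S hSbot hStop
  have heq := (hM.le_iff.1 hMN).resolve_left hN
  obtain ⟨A, hA⟩ := QuotientGroup.mk'_surjective (Subgroup.center SL2F) (c : PSL2F)
  have hcop : Nat.Coprime n p := by
    rw [Nat.coprime_comm, hpp.coprime_iff_not_dvd]; exact hpn
  have ht := tr_sq_ne_four_of_orderOf p A (by rw [hA]; exact hc') (by omega) hcop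
  set T := (Subgroup.centralizer ({A} : Set SL2F)).map
    (QuotientGroup.mk' (Subgroup.center SL2F)) with hT
  have hTM : T ≤ M := by
    rintro _ ⟨g, hg, rfl⟩
    rw [← heq]
    apply mem_normalizer_zpowers_of_commute
    rw [← hA, ← map_mul, ← map_mul]
    congr 1
    exact Subgroup.mem_centralizer_singleton_iff.1 hg
  have hST : S ≤ T := by
    rw [hS, Subgroup.zpowers_le, ← hA]
    exact ⟨A, Subgroup.mem_centralizer_singleton_iff.2 rfl, rfl⟩
  have hd1 : n ∣ Nat.card T := by
    rw [← hcardS]; exact Subgroup.card_dvd_of_le hST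
  have hd2 : Nat.card T ∣ 2 * n := by
    rw [← hcardM]; exact Subgroup.card_dvd_of_le hTM
  have hTn : Nat.card T = n := by
    obtain ⟨a, ha⟩ := hd1
    rw [ha, mul_comm n a] at hd2
    have ha2 : a ∣ 2 := (Nat.mul_dvd_mul_iff_right (by omega)).1 hd2
    rcases (Nat.dvd_prime Nat.prime_two).1 ha2 with h | h
    · rw [ha, h, mul_one]
    · exfalso
      have hTM' : T = M := Subgroup.eq_of_le_of_card_ge hTM (by rw [hcardM, ha, h, mul_comm])
      -- `T` is commutative
      have hns := Cfsg.Agent.Helper41.not_scalar_of_trace_sq_ne_four (A : M2F) A.det_coe (by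
        have htr : Matrix.trace (A : M2F) = tr A := by rw [Matrix.trace_fin_two]; rfl
        rw [htr]; exact ht)
      have hcomm : ∀ x ∈ T, ∀ y ∈ T, x * y = y * x := by
        rintro _ ⟨g, hg, rfl⟩ _ ⟨h', hh', rfl⟩
        rw [← map_mul, ← map_mul, Cfsg.Agent.Helper41.sl2_centralizer_comm A g h' hns hg hh']
      obtain ⟨a', b', hab⟩ := dihedral_not_comm n hn3
      apply hab
      have h1 := hcomm (e.symm a') (hTM' ▸ (e.symm a').2) (e.symm b') (hTM' ▸ (e.symm b').2)
      have h2 : e.symm a' * e.symm b' = e.symm b' * e.symm a' := Subtype.ext h1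
      have h3 := congrArg e h2
      simpa using h3
  rcases two_mul_card_torus hodd A ht with h | h
  · left; rw [← h, ← hT, hTn]
  · right; rw [← h, ← hT, hTn]

end Cfsg.Agent.Helper46.Mx
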