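import Mathlib
import Cfsg.Agent.Helper46.MxDesc
import Cfsg.Agent.Helper46.MxTorus
import Cfsg.Agent.S0804

set_option autoImplicit false

/-!
# Maximal subgroups of `PSL₂(q)`, `q` odd: the case `M ≅ A₄`
-/

namespace Cfsg.Agent.Helper46.Mx

open Matrix Cfsg.Agent.Helper46.Dk Cfsg.Agent.Helper41

variable {F : Type*} [Field F] [Fintype F]

local notation "M2F" => Matrix (Fin 2) (Fin 2) F
local notation "SL2F" => Matrix.SpecialLinearGroup (Fin 2) F
local notation "PSL2F" => Matrix.ProjectiveSpecialLinearGroup (Fin 2) F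

theorem a4_orders' : ∀ σ : alternatingGroup (Fin 4), σ ^ 2 = 1 ∨ σ ^ 3 = 1 := by decide

/-- an `A₅`-subgroup containing (a conjugate of) a given Klein four-group whose normalizer has
order `12` contains that normalizer -/
theorem normalizer_le_of_A5 (hodd : Odd (Fintype.card F))
    (h8 : Fintype.card F % 8 = 3 ∨ Fintype.card F % 8 = 5)
    (V : Subgroup PSL2F) (hV : IsKleinFour V) (H : Subgroup PSL2F)
    (e : H ≃* alternatingGroup (Fin 5)) :
    ∃ H' : Subgroup PSL2F, Nat.card H' = 60 ∧ Subgroup.normalizer (V : Set PSL2F) ≤ H' := by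
  classical
  obtain ⟨V₀, w, hV₀, hV₀H, hwH, hwN, hw3⟩ := klein_of_A5 H e
  obtain ⟨g, hg⟩ := (Cfsg.Agent.S0808.result (F := F) rfl hodd).1 h8 V₀ V hV₀ hV
  set c := (MulAut.conj g) with hc
  refine ⟨H.map c.toMonoidHom, ?_, ?_⟩
  · rw [Subgroup.card_map_of_injective c.injective, Nat.card_congr e.toEquiv]
    exact Cfsg.Agent.Helper46.Dk.card_A5'
  · -- `L = N(V) ⊓ H'` has order divisible by `12`
    set L := Subgroup.normalizer (V : Set PSL2F) ⊓ H.map c.toMonoidHom with hL
    have hVL : V ≤ L := by
      rw [hL, hg]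
      exact le_inf Subgroup.le_normalizer (Subgroup.map_mono hV₀H)
    have hwL : c w ∈ L := by
      rw [hL]
      refine ⟨?_, ⟨w, hwH, rfl⟩⟩
      rw [hg, ← Subgroup.map_equiv_normalizer_eq]
      exact ⟨w, hwN, rfl⟩
    have h4 : 4 ∣ Nat.card L := by
      rw [← hV.card_four]; exact Subgroup.card_dvd_of_le hVL
    have h3 : 3 ∣ Nat.card L := by
      have h1 : orderOf (c w) = 3 := by rw [MulEquiv.orderOf_eq, hw3]
      rw [← h1]
      exact Subgroup.orderOf_dvd_natCard L hwL
    have h12 : 12 ∣ Nat.card L :=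
      (by norm_num : Nat.Coprime 3 4).mul_dvd_of_dvd_of_dvd h3 h4
    have hN := card_normalizer_of_isKleinFour_of_three_or_five h8 V hV
    have hLN : L ≤ Subgroup.normalizer (V : Set PSL2F) := inf_le_left
    have hLeq : L = Subgroup.normalizer (V : Set PSL2F) := by
      apply Subgroup.eq_of_le_of_card_ge hLN
      rw [hN]
      exact Nat.le_of_dvd Nat.card_pos h12
    rw [← hLeq]
    exact inf_le_right

variable (p : ℕ) [Fact p.Prime] [CharP F p]

include p in
/-- the case `M ≅ A₄` -/
theorem a4_case (hodd : Odd (Fintype.card F)) (h5 : 5 ≤ Fintype.card F)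
    (M : Subgroup PSL2F) (hM : IsCoatom M) (e : M ≃* alternatingGroup (Fin 4)) :
    Concl (Fintype.card F) p M := by
  classical
  have hpp : p.Prime := Fact.out
  have h2 := two_ne_zero_of_odd hodd
  have h4 : 4 ≤ Fintype.card F := by omega
  have hp : p ≠ 2 := by
    intro hp2
    apply h2
    have := CharP.cast_eq_zero F p
    rw [hp2] at this
    exact_mod_cast this
  have hcardM : Nat.card M = 12 := by
    rw [Nat.card_congr e.toEquiv]; exact Cfsg.Agent.Helper46.Dk.card_A4'
  obtain ⟨V, hV, hVM, hMN⟩ := klein_of_A4 M e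
  -- traces
  have htr : ∀ g : SL2F, QuotientGroup.mk' (Subgroup.center SL2F) g ∈ M →
      tr g ∈ (⊥ : Subfield F) := by
    intro g hg
    have h1 := a4_orders' (e ⟨_, hg⟩)
    rcases h1 with h1 | h1
    · apply tr_mem_of_sq
      apply pow_mem_center_of_mk_pow
      have : (⟨_, hg⟩ : M) ^ 2 = 1 := by
        apply e.injective; rw [map_pow, h1, map_one]
      exact congrArg Subtype.val this
    · apply tr_mem_of_cube
      apply pow_mem_center_of_mk_pow
      have : (⟨_, hg⟩ : M) ^ 3 = 1 := by
        apply e.injective; rw [map_pow, h1, map_one]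
      exact congrArg Subtype.val this
  obtain ⟨α, hα⟩ := exists_aut_le_stdPSL hodd ⊥ M V hV hVM htr
  have hM' := isCoatom_map_equiv α M hM
  have eM : M ≃* M.map α.toMonoidHom := M.equivMapOfInjective α.toMonoidHom α.injective
  rcases hM'.le_iff.1 hα with htop | heq
  · -- `q = p`
    have hbt := eq_top_of_stdPSL_eq_top _ htop
    have hq := card_eq_char_of_bot_eq_top p hp hbt
    have hVbot : V ≠ ⊥ := by
      intro h
      have := hV.card_four
      rw [h, Subgroup.card_bot] at this
      omega
    have hVtop : V ≠ ⊤ := by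
      intro h
      apply hM.1
      rw [eq_top_iff, ← h]; exact hVM
    have hNV := (hM.le_iff.1 hMN).resolve_left (normalizer_ne_top' h4 V hVbot hVtop)
    have h8 : Fintype.card F % 8 = 3 ∨ Fintype.card F % 8 = 5 := by
      rcases card_normalizer_klein hodd V hV with ⟨-, h24⟩ | ⟨h8, -⟩
      · rw [hNV, hcardM] at h24; omega
      · exact h8
    right; right; right; right; right; right; left
    refine ⟨hq, by rw [← hq]; exact h8, ?_, ⟨e⟩⟩
    intro h10
    rw [← hq] at h10
    -- an `A₅` overgroup
    have h5dvd : 5 ∣ Fintype.card F * (Fintype.card F ^ 2 - 1) := by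
      have h1 : Fintype.card F ^ 2 % 5 = 1 := by
        rw [Nat.pow_mod]
        have : Fintype.card F % 5 = 1 ∨ Fintype.card F % 5 = 4 := by omega
        rcases this with h | h <;> rw [h]
      have : 5 ∣ Fintype.card F ^ 2 - 1 := by omega
      exact this.mul_left _
    obtain ⟨H, ⟨eH⟩⟩ := (Cfsg.Agent.S0804.result (F := F) rfl).2 h5dvd
    obtain ⟨H', hH'card, hH'⟩ := normalizer_le_of_A5 hodd h8 V hV H eH
    rw [hNV] at hH'
    rcases hM.le_iff.1 hH' with h | h
    · have hG := two_mul_card_PSL2 (F := F) hodd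
      have : Nat.card PSL2F = 60 := by
        rw [← hH'card, h]
        exact (Nat.card_congr (Subgroup.topEquiv (G := PSL2F)).toEquiv).symm
      rw [this] at hG
      have hq11 : 11 ≤ Fintype.card F := by
        rcases Nat.lt_or_ge (Fintype.card F) 11 with hlt | hge
        · exfalso
          interval_cases (Fintype.card F) <;> omega
        · exact hge
      have := mul_sq_pred_strictMono (a := 5) (b := Fintype.card F) (by norm_num) (by omega)
      omega
    · rw [h, hcardM] at hH'card
      omega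
  · -- `M' = stdPSL ⊥`
    rw [← heq] at hM'
    obtain ⟨r, hr, hr2, hq⟩ := coatom_stdPSL_degree p hodd h5 ⊥ hM'
    obtain ⟨φ⟩ := nonempty_stdPSL_equiv (⊥ : Subfield F)
    exact concl_psl ⊥ ((eM.trans (MulEquiv.subgroupCongr heq.symm)).trans φ) r hr hr2 hq

end Cfsg.Agent.Helper46.Mx
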