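import Mathlib
import Cfsg.Agent.Helper46.MxDesc
import Cfsg.Agent.Helper46.MxPGL
import Cfsg.Agent.Helper46.MxKleinPSL
import Cfsg.Agent.Helper46.MxConcl
import Cfsg.Agent.Helper46.MxA4

set_option autoImplicit false

/-!
# Maximal subgroups of `PSL₂(q)`, `q` odd: the case `M ≅ S₄`
-/

namespace Cfsg.Agent.Helper46.Mx

open Matrix Cfsg.Agent.Helper46 Cfsg.Agent.Helper46.Dk Cfsg.Agent.Helper41

section Generic

theorem even_of_pow_mod_eight {p m : ℕ} (hp : p % 8 = 3 ∨ p % 8 = 5)
    (h : p ^ m % 8 = 1 ∨ p ^ m % 8 = 7) : Even m := by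
  by_contra hodd
  rw [Nat.not_even_iff_odd] at hodd
  obtain ⟨t, rfl⟩ := hodd
  have h2 : p ^ 2 % 8 = 1 := by
    rw [Nat.pow_mod]
    rcases hp with h | h <;> rw [h]
  have h1 : p ^ (2 * t + 1) % 8 = p % 8 := by
    rw [pow_succ, pow_mul, Nat.mul_mod, Nat.pow_mod, h2, one_pow]
    omega
  omega

theorem mem_normalizer_of_map_conj_eq {G : Type*} [Group G] (V : Subgroup G) (h : G)
    (hh : V.map (MulAut.conj h).toMonoidHom = V) : h ∈ Subgroup.normalizer (V : Set G) := by
  apply mem_normalizer_of_conj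
  · intro y hy
    rw [← hh]
    exact ⟨y, hy, rfl⟩
  · intro y hy
    rw [← hh] at hy
    obtain ⟨v, hv, rfl⟩ := hy
    have : h⁻¹ * (MulAut.conj h).toMonoidHom v * h = v := by
      show h⁻¹ * (h * v * h⁻¹) * h = v
      group
    rw [this]; exact hv

end Generic

section PGLRange

variable {K F : Type*} [Field K] [Field F]

theorem pglEmbHom_toGL (ι : K →+* F) (hsq : ∀ x : K, IsSquare (ι x))
    (A : Matrix.SpecialLinearGroup (Fin 2) K) :
    pglEmbHom ι hsq (Matrix.SpecialLinearGroup.toGL A) = pslEmbHom ι A := by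
  rw [pglEmbHom_apply]
  show _ = QuotientGroup.mk' _ (Matrix.SpecialLinearGroup.map ι A)
  apply psl_mk_eq_of_smul _ _ (sqrtDet ι hsq (Matrix.SpecialLinearGroup.toGL A))⁻¹
  rw [normSL_coe]
  rfl

theorem pslRange_le_pglRange (ι : K →+* F) (hsq : ∀ x : K, IsSquare (ι x)) :
    (pslEmbHom ι).range ≤ (pglEmbHom ι hsq).range := by
  rintro _ ⟨A, rfl⟩
  exact ⟨Matrix.SpecialLinearGroup.toGL A, pglEmbHom_toGL ι hsq A⟩

theorem nonempty_pglRange_equiv (ι : K →+* F) (hsq : ∀ x : K, IsSquare (ι x)) :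
    Nonempty ((pglEmbHom ι hsq).range ≃* Matrix.ProjGenLinGroup (Fin 2) K) := by
  have e : GL (Fin 2) K ⧸ Subgroup.center (GL (Fin 2) K) ≃* (pglEmbHom ι hsq).range :=
    (QuotientGroup.quotientMulEquivOfEq (pglEmbHom_ker ι hsq)).symm.trans
      (QuotientGroup.quotientKerEquivRange (pglEmbHom ι hsq))
  exact ⟨e.symm⟩

end PGLRange

section PSL

variable {F : Type*} [Field F] [Fintype F]

local notation "M2F" => Matrix (Fin 2) (Fin 2) F
local notation "SL2F" => Matrix.SpecialLinearGroup (Fin 2) F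
local notation "PSL2F" => Matrix.ProjectiveSpecialLinearGroup (Fin 2) F

variable (p : ℕ) [Fact p.Prime] [CharP F p]

include p in
/-- the case `M ≅ S₄` -/
theorem s4_case (hodd : Odd (Fintype.card F)) (h5 : 5 ≤ Fintype.card F)
    (M : Subgroup PSL2F) (hM : IsCoatom M) (e : M ≃* Equiv.Perm (Fin 4)) :
    Concl (Fintype.card F) p M := by
  classical
  have hpp : p.Prime := Fact.out
  have h2 := two_ne_zero_of_odd hodd
  have h4 : 4 ≤ Fintype.card F := by omega
  have hp : p ≠ 2 := by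
    intro hp2
    apply h2
    have := CharP.cast_eq_zero F p
    rw [hp2] at this
    exact_mod_cast this
  have hcardM : Nat.card M = 24 := by
    rw [Nat.card_congr e.toEquiv]; exact Cfsg.Agent.Helper46.Dk.card_S4'
  obtain ⟨V, M0, hV, hVM0, hM0M, hMN, ⟨e0⟩⟩ := klein_of_S4 M e
  have hVM : V ≤ M := hVM0.trans hM0M
  have hVbot : V ≠ ⊥ := by
    intro h
    have := hV.card_four
    rw [h, Subgroup.card_bot] at this
    omega
  have hVtop : V ≠ ⊤ := by
    intro h
    apply hM.1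
    rw [eq_top_iff, ← h]; exact hVM
  have hNV := (hM.le_iff.1 hMN).resolve_left (normalizer_ne_top' h4 V hVbot hVtop)
  have hq8 : Fintype.card F % 8 = 1 ∨ Fintype.card F % 8 = 7 := by
    rcases card_normalizer_klein hodd V hV with ⟨h8, -⟩ | ⟨-, h12⟩
    · exact h8
    · rw [hNV, hcardM] at h12; omega
  -- traces of `M0`
  have htr : ∀ g : SL2F, QuotientGroup.mk' (Subgroup.center SL2F) g ∈ M0 →
      tr g ∈ (⊥ : Subfield F) := by
    intro g hg
    have h1 := a4_orders' (e0 ⟨_, hg⟩)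
    rcases h1 with h1 | h1
    · apply tr_mem_of_sq
      apply pow_mem_center_of_mk_pow
      have : (⟨_, hg⟩ : M0) ^ 2 = 1 := by
        apply e0.injective; rw [map_pow, h1, map_one]
      exact congrArg Subtype.val this
    · apply tr_mem_of_cube
      apply pow_mem_center_of_mk_pow
      have : (⟨_, hg⟩ : M0) ^ 3 = 1 := by
        apply e0.injective; rw [map_pow, h1, map_one]
      exact congrArg Subtype.val this
  obtain ⟨α, hα⟩ := exists_aut_le_stdPSL hodd ⊥ M0 V hV hVM0 htr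
  have hM' := isCoatom_map_equiv α M hM
  have eM : M ≃* M.map α.toMonoidHom := M.equivMapOfInjective α.toMonoidHom α.injective
  set M' := M.map α.toMonoidHom with hM'def
  set V' := V.map α.toMonoidHom with hV'def
  set N0 := stdPSL (⊥ : Subfield F) with hN0
  have hcardM' : Nat.card M' = 24 := by rw [← Nat.card_congr eM.toEquiv, hcardM]
  have hV'K : IsKleinFour V' :=
    isKleinFour_of_mulEquiv hV (V.equivMapOfInjective α.toMonoidHom α.injective)
  have hV'N0 : V' ≤ N0 := (Subgroup.map_mono hVM0).trans hα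
  have hNV' : Subgroup.normalizer (V' : Set PSL2F) = M' := by
    rw [hV'def, hM'def, ← hNV]
    exact (Subgroup.map_equiv_normalizer_eq V α).symm
  have hcardbot : Nat.card (⊥ : Subfield F) = p := card_bot p hp
  have hp8 : p % 8 = 1 ∨ p % 8 = 7 ∨ p % 8 = 3 ∨ p % 8 = 5 := by
    have := Nat.odd_iff.1 (hpp.odd_of_ne_two hp)
    omega
  have hp8' : (p % 8 = 1 ∨ p % 8 = 7) ∨ (p % 8 = 3 ∨ p % 8 = 5) := by
    rcases hp8 with h | h | h | h
    · exact Or.inl (Or.inl h)
    · exact Or.inl (Or.inr h)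
    · exact Or.inr (Or.inl h)
    · exact Or.inr (Or.inr h)
  rcases hp8' with h8 | h8
  · -- `p ≡ ±1 (mod 8)`
    have h24 := card_normalizer_inf_stdPSL_24 (⊥ : Subfield F) (by rw [hcardbot]; exact h8) V'
      hV'N0 hV'K
    rw [hNV'] at h24
    have hinf : M' ⊓ N0 = M' :=
      Subgroup.eq_of_le_of_card_ge inf_le_left (by rw [h24, hcardM'])
    have hle : M' ≤ N0 := by rw [← hinf]; exact inf_le_right
    rcases hM'.le_iff.1 hle with htop | heq
    · have hbt := eq_top_of_stdPSL_eq_top _ htop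
      have hq := card_eq_char_of_bot_eq_top p hp hbt
      right; right; right; right; right; right; right
      exact ⟨hq, h8, ⟨e⟩⟩
    · rw [← heq] at hM'
      obtain ⟨r, hr, hr2, hq⟩ := coatom_stdPSL_degree p hodd h5 ⊥ hM'
      obtain ⟨φ⟩ := nonempty_stdPSL_equiv (⊥ : Subfield F)
      exact concl_psl ⊥ ((eM.trans (MulEquiv.subgroupCongr heq.symm)).trans φ) r hr hr2 hq
  · -- `p ≡ ±3 (mod 8)`: the degree is even
    letI : Fintype (⊥ : Subfield F) := Fintype.ofFinite _
    obtain ⟨j, m, hj, hm, hKj, hFm⟩ := card_subfield p (⊥ : Subfield F)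
    have hmeven : Even m := by
      apply even_of_pow_mod_eight h8
      rw [← hcardbot, ← hFm]; exact hq8
    have hsq : ∀ x : (⊥ : Subfield F), IsSquare ((⊥ : Subfield F).subtype x) :=
      isSquare_of_even_degree (⊥ : Subfield F).subtype m hmeven hodd
        (by rw [← Nat.card_eq_fintype_card, ← hFm])
    set H1 := (pglEmbHom (⊥ : Subfield F).subtype hsq).range with hH1
    have hN0H1 : N0 ≤ H1 := by
      rw [hN0, stdPSL_eq_range]
      exact pslRange_le_pglRange _ hsq
    obtain ⟨ψ⟩ := nonempty_pglRange_equiv (⊥ : Subfield F).subtype hsq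
    have hcardH1 : Nat.card H1 = 2 * Nat.card N0 := by
      rw [Nat.card_congr ψ.toEquiv, card_PGL2, ← Nat.card_eq_fintype_card,
        two_mul_card_stdPSL hodd ⊥]
    have hN0pos : 0 < Nat.card N0 := Nat.card_pos
    -- an element of `H1` outside `N0`
    obtain ⟨h0, hh0, hh0N⟩ : ∃ x ∈ H1, x ∉ N0 := by
      by_contra hcon
      push_neg at hcon
      have : H1 = N0 := le_antisymm hcon hN0H1
      rw [this] at hcardH1
      omega
    set W := V'.map (MulAut.conj h0).toMonoidHom with hW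
    have hWK : IsKleinFour W := isKleinFour_map_conj V' hV'K h0
    have hWN0 : W ≤ N0 := by
      rintro _ ⟨v, hv, rfl⟩
      exact conj_mem_of_card_eq_two_mul N0 H1 hN0H1 hcardH1 hh0 (hV'N0 hv)
    obtain ⟨g, hgN0, hgW⟩ := klein_conj_in_stdPSL (⊥ : Subfield F) (by rw [hcardbot]; exact h8)
      V' W hV'N0 hWN0 hV'K hWK
    -- `h = g⁻¹ h0` normalizes `V'`
    have hhV : V'.map (MulAut.conj (g⁻¹ * h0)).toMonoidHom = V' := by
      ext x
      constructor
      · rintro ⟨v, hv, rfl⟩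
        have h1 : (MulAut.conj h0).toMonoidHom v ∈ W := ⟨v, hv, rfl⟩
        rw [hgW] at h1
        obtain ⟨v', hv', hvv'⟩ := h1
        have : (MulAut.conj (g⁻¹ * h0)).toMonoidHom v = v' := by
          show g⁻¹ * h0 * v * (g⁻¹ * h0)⁻¹ = v'
          have h3 : g * v' * g⁻¹ = h0 * v * h0⁻¹ := hvv'
          have : g⁻¹ * h0 * v * (g⁻¹ * h0)⁻¹ = g⁻¹ * (h0 * v * h0⁻¹) * g := by group
          rw [this, ← h3]; group
        rw [this]; exact hv'
      · intro hx
        have h1 : (MulAut.conj g).toMonoidHom x ∈ W := by rw [hgW]; exact ⟨x, hx, rfl⟩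
        obtain ⟨v, hv, hvx⟩ := h1
        refine ⟨v, hv, ?_⟩
        show g⁻¹ * h0 * v * (g⁻¹ * h0)⁻¹ = x
        have h3 : h0 * v * h0⁻¹ = g * x * g⁻¹ := hvx
        have : g⁻¹ * h0 * v * (g⁻¹ * h0)⁻¹ = g⁻¹ * (h0 * v * h0⁻¹) * g := by group
        rw [this, h3]; group
    have hhM' : g⁻¹ * h0 ∈ M' := by
      rw [← hNV']
      exact mem_normalizer_of_map_conj_eq V' _ hhV
    have hhH1 : g⁻¹ * h0 ∈ H1 := H1.mul_mem (H1.inv_mem (hN0H1 hgN0)) hh0
    have hhN0 : g⁻¹ * h0 ∉ N0 := by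
      intro hcon
      apply hh0N
      have : h0 = g * (g⁻¹ * h0) := by group
      rw [this]; exact N0.mul_mem hgN0 hcon
    -- `M' ⊓ H1 = M'`
    have h12 := card_normalizer_inf_stdPSL_12 (⊥ : Subfield F) (by rw [hcardbot]; exact h8) V'
      hV'N0 hV'K
    rw [hNV'] at h12
    have hle1 : M' ⊓ N0 ≤ M' ⊓ H1 := inf_le_inf_left M' hN0H1
    have hd1 : 12 ∣ Nat.card (M' ⊓ H1 : Subgroup PSL2F) := by
      rw [← h12]; exact Subgroup.card_dvd_of_le hle1
    have hd2 : Nat.card (M' ⊓ H1 : Subgroup PSL2F) ∣ 24 := by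
      rw [← hcardM']; exact Subgroup.card_dvd_of_le inf_le_left
    have hne12 : Nat.card (M' ⊓ H1 : Subgroup PSL2F) ≠ 12 := by
      intro hcon
      have : M' ⊓ N0 = M' ⊓ H1 := Subgroup.eq_of_le_of_card_ge hle1 (by rw [hcon, h12])
      apply hhN0
      have hmem : g⁻¹ * h0 ∈ M' ⊓ H1 := ⟨hhM', hhH1⟩
      rw [← this] at hmem
      exact hmem.2
    have hcard24 : Nat.card (M' ⊓ H1 : Subgroup PSL2F) = 24 := by
      obtain ⟨a, ha⟩ := hd1
      rw [ha] at hd2 hne12
      have ha2 : a ∣ 2 := by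
        have : 12 * a ∣ 12 * 2 := hd2
        exact (Nat.mul_dvd_mul_iff_left (by norm_num)).1 this
      rcases (Nat.dvd_prime Nat.prime_two).1 ha2 with h | h
      · rw [h] at hne12; exact absurd rfl hne12
      · rw [ha, h]
    have hM'H1 : M' ≤ H1 := by
      have : M' ⊓ H1 = M' := Subgroup.eq_of_le_of_card_ge inf_le_left (by rw [hcard24, hcardM'])
      rw [← this]; exact inf_le_right
    rcases hM'.le_iff.1 hM'H1 with htop | heq
    · -- `H1 = ⊤` is impossible
      exfalso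
      have hN0top : N0 ≠ ⊤ := by
        intro h
        rw [htop, h] at hcardH1
        have := Nat.card_pos (α := (⊤ : Subgroup PSL2F))
        omega
      apply normalizer_ne_top' h4 N0 (stdPSL_ne_bot h2 ⊥) hN0top
      rw [eq_top_iff]
      intro x _
      have hx : x ∈ H1 := by rw [htop]; trivial
      apply mem_normalizer_of_conj
      · intro y hy
        exact conj_mem_of_card_eq_two_mul N0 H1 hN0H1 hcardH1 hx hy
      · intro y hy
        have := conj_mem_of_card_eq_two_mul N0 H1 hN0H1 hcardH1 (H1.inv_mem hx) hy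
        rwa [inv_inv] at this
    · -- `M' = H1 ≅ PGL₂(p)`
      have hKM : N0 ≤ M' := by rw [← heq]; exact hN0H1
      have hq := coatom_pgl_type p hodd h5 ⊥ M' hM' hKM (by rw [← heq]; exact hcardH1)
      exact concl_pgl ⊥ ((eM.trans (MulEquiv.subgroupCongr heq.symm)).trans ψ) hq

end PSL

end Cfsg.Agent.Helper46.Mx
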