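import Mathlib
import Cfsg.Agent.Helper46.MxDesc
import Cfsg.Agent.Helper46.MxPGL
import Cfsg.Agent.Helper46.MxConcl
import Cfsg.Agent.Helper41.DkDescent

set_option autoImplicit false

/-!
# Maximal subgroups of `PSL₂(q)`, `q` odd: the subfield case of the refined Dickson theorem
-/

namespace Cfsg.Agent.Helper46.Mx

open Matrix Cfsg.Agent.Helper46.Dk Cfsg.Agent.Helper41 Cfsg.Agent.Helper41.DkR

section Abstract

/-- the `PSL₂(K)` conclusion for an abstract finite field -/
theorem concl_psl' {q p : ℕ} {H : Type*} [Group H] {K : Type*} [Field K] [Finite K]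
    (e : H ≃* Matrix.ProjectiveSpecialLinearGroup (Fin 2) K) (r : ℕ) (hr : r.Prime)
    (hr2 : Odd r) (hq : q = Nat.card K ^ r) : Concl q p H := by
  classical
  letI : Fintype K := Fintype.ofFinite K
  letI : Fintype (Shrink.{0} K) := Fintype.ofEquiv K (equivShrink.{0} K)
  have hcard' : Fintype.card (Shrink.{0} K) = Nat.card K := by
    rw [Nat.card_eq_fintype_card]
    exact Fintype.card_congr (equivShrink.{0} K).symm
  let e' : K ≃+* Shrink.{0} K := (Shrink.ringEquiv.{0} K).symm
  obtain ⟨e2⟩ := Cfsg.Agent.Helper46.nonempty_psl_congr e'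
  right; right; right; right; left
  exact ⟨Shrink.{0} K, inferInstance, inferInstance, r, hr, hr2, by rw [hcard', hq],
    ⟨e.trans e2⟩⟩

/-- the `PGL₂(K)` conclusion for an abstract finite field -/
theorem concl_pgl' {q p : ℕ} {H : Type*} [Group H] {K : Type*} [Field K] [Finite K]
    (e : H ≃* Matrix.ProjGenLinGroup (Fin 2) K) (hq : q = Nat.card K ^ 2) : Concl q p H := by
  classical
  letI : Fintype K := Fintype.ofFinite K
  letI : Fintype (Shrink.{0} K) := Fintype.ofEquiv K (equivShrink.{0} K)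
  have hcard' : Fintype.card (Shrink.{0} K) = Nat.card K := by
    rw [Nat.card_eq_fintype_card]
    exact Fintype.card_congr (equivShrink.{0} K).symm
  let e' : K ≃+* Shrink.{0} K := (Shrink.ringEquiv.{0} K).symm
  obtain ⟨e2⟩ := Cfsg.Agent.Helper46.nonempty_pgl_congr e'
  right; right; right; left
  exact ⟨Shrink.{0} K, inferInstance, inferInstance, by rw [hcard', hq], ⟨e.trans e2⟩⟩

end Abstract

section Quat

variable {F : Type*} [Field F]

local notation "SL2F" => Matrix.SpecialLinearGroup (Fin 2) F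

/-- trace conditions give the quaternion relations -/
theorem quat_of_traces (I J : SL2F) (hI : tr I = 0) (hJ : tr J = 0) (hIJ : tr (I * J) = 0) :
    I.1 * I.1 = -1 ∧ J.1 * J.1 = -1 ∧ J.1 * I.1 = -(I.1 * J.1) := by
  have hdI := det' I
  have hdJ := det' J
  unfold tr at hI hJ hIJ
  rw [mul_00, mul_11] at hIJ
  refine ⟨?_, ?_, ?_⟩
  · apply eq_of_entries
    · rw [mul_entry]; simp only [Matrix.neg_apply, Matrix.one_apply_eq]
      linear_combination I.1 0 0 * hI - hdI
    · rw [mul_entry]; simp only [Matrix.neg_apply]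
      rw [Matrix.one_apply_ne (by decide)]
      linear_combination I.1 0 1 * hI
    · rw [mul_entry]; simp only [Matrix.neg_apply]
      rw [Matrix.one_apply_ne (by decide)]
      linear_combination I.1 1 0 * hI
    · rw [mul_entry]; simp only [Matrix.neg_apply, Matrix.one_apply_eq]
      linear_combination I.1 1 1 * hI - hdI
  · apply eq_of_entries
    · rw [mul_entry]; simp only [Matrix.neg_apply, Matrix.one_apply_eq]
      linear_combination J.1 0 0 * hJ - hdJ
    · rw [mul_entry]; simp only [Matrix.neg_apply]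
      rw [Matrix.one_apply_ne (by decide)]
      linear_combination J.1 0 1 * hJ
    · rw [mul_entry]; simp only [Matrix.neg_apply]
      rw [Matrix.one_apply_ne (by decide)]
      linear_combination J.1 1 0 * hJ
    · rw [mul_entry]; simp only [Matrix.neg_apply, Matrix.one_apply_eq]
      linear_combination J.1 1 1 * hJ - hdJ
  · apply eq_of_entries
    · rw [mul_entry]; simp only [Matrix.neg_apply]; rw [mul_entry]
      linear_combination hIJ - I.1 1 1 * hJ + J.1 0 0 * hI
    · rw [mul_entry]; simp only [Matrix.neg_apply]; rw [mul_entry]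
      linear_combination I.1 0 1 * hJ + J.1 0 1 * hI
    · rw [mul_entry]; simp only [Matrix.neg_apply]; rw [mul_entry]
      linear_combination I.1 1 0 * hJ + J.1 1 0 * hI
    · rw [mul_entry]; simp only [Matrix.neg_apply]; rw [mul_entry]
      linear_combination hIJ - I.1 0 0 * hJ + J.1 1 1 * hI

end Quat

section Finite

variable {F : Type*} [Field F] [Fintype F]

local notation "M2F" => Matrix (Fin 2) (Fin 2) F
local notation "SL2F" => Matrix.SpecialLinearGroup (Fin 2) F
local notation "PSL2F" => Matrix.ProjectiveSpecialLinearGroup (Fin 2) F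
local notation "Ebar" => AlgebraicClosure F
local notation "SL2E" => Matrix.SpecialLinearGroup (Fin 2) (AlgebraicClosure F)

/-- the order of the image in `PSL₂` of a subgroup of `SL₂` containing the center -/
theorem card_map_mk_mul_two (h2 : (2 : F) ≠ 0) (C : Subgroup SL2F)
    (hZC : Subgroup.center SL2F ≤ C) :
    Nat.card (C.map (QuotientGroup.mk' (Subgroup.center SL2F))) * 2 = Nat.card C := by
  classical
  set π := QuotientGroup.mk' (Subgroup.center SL2F) with hπ
  have e1 := Subgroup.relIndex_ker π (K := C)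
  rw [hπ, QuotientGroup.ker_mk'] at e1
  have e2 := ((Subgroup.center SL2F).subgroupOf C).index_mul_card
  rw [Nat.card_congr (Subgroup.subgroupOfEquivOfLe hZC).toEquiv,
    Cfsg.Agent.Helper5.card_center_SL2_of_two_ne_zero h2] at e2
  rw [← e1]
  exact e2

/-- membership in the image of a subgroup containing the center -/
theorem mem_of_mk_mem_map (C : Subgroup SL2F) (hZC : Subgroup.center SL2F ≤ C) (g : SL2F)
    (hg : QuotientGroup.mk' (Subgroup.center SL2F) g ∈
      C.map (QuotientGroup.mk' (Subgroup.center SL2F))) : g ∈ C := by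
  obtain ⟨h, hh, hhg⟩ := hg
  have hz : h⁻¹ * g ∈ Subgroup.center SL2F := QuotientGroup.eq.1 hhg
  have : g = h * (h⁻¹ * g) := by group
  rw [this]
  exact C.mul_mem hh (hZC hz)

theorem tr_lamHom (c : SL2E) (g : SL2F) :
    tr (lamHom c g) = algebraMap F Ebar (tr g) := by
  rw [lamHom_apply, tr_conj]
  unfold tr
  rw [map_add]
  rfl

/-- the center lies in every `overSL` -/
theorem center_le_overSL (c : SL2E) (K' : Subfield Ebar) :
    Subgroup.center SL2F ≤ overSL (F := F) c K' := by
  intro z hz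
  show lamHom c z ∈ slSub K'
  have hz' := hz
  rw [mem_center_iff'] at hz
  obtain ⟨h01, h10, h00⟩ := hz
  have hW : Matrix.SpecialLinearGroup.map (algebraMap F Ebar) z ∈ Subgroup.center SL2E := by
    rw [mem_center_iff']
    refine ⟨?_, ?_, ?_⟩
    · show algebraMap F Ebar (z.1 0 1) = 0
      rw [h01, map_zero]
    · show algebraMap F Ebar (z.1 1 0) = 0
      rw [h10, map_zero]
    · show algebraMap F Ebar (z.1 0 0) = algebraMap F Ebar (z.1 1 1)
      rw [h00]
  have hcomm : lamHom c z = Matrix.SpecialLinearGroup.map (algebraMap F Ebar) z := by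
    rw [lamHom_apply, Subgroup.mem_center_iff.1 hW c]
    group
  rw [hcomm, mem_slSub_iff]
  have hzK := center_le_ratSub (⊥ : Subfield F) hz'
  rw [mem_ratSub] at hzK
  have hbot : ∀ x : F, x ∈ (⊥ : Subfield F) → algebraMap F Ebar x ∈ K' := by
    intro x hx
    have : (⊥ : Subfield F) ≤ K'.comap (algebraMap F Ebar) := bot_le
    exact this hx
  exact ⟨hbot _ hzK.1, hbot _ hzK.2.1, hbot _ hzK.2.2.1, hbot _ hzK.2.2.2⟩

variable (p : ℕ) [Fact p.Prime] [CharP F p]

include p in
/-- the subfield case -/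
theorem subfield_case (hodd : Odd (Fintype.card F)) (h5 : 5 ≤ Fintype.card F)
    (M : Subgroup PSL2F) (hM : IsCoatom M) (hfr : SubfieldFrame (liftRep M)) :
    Concl (Fintype.card F) p M := by
  classical
  have h2 := two_ne_zero_of_odd hodd
  obtain ⟨c, Kt, hfin, hcont, -, hiso⟩ := hfr
  haveI := hfin
  letI : Fintype Kt := Fintype.ofFinite Kt
  set φ := algebraMap F Ebar with hφ
  have hφinj : Function.Injective φ := φ.injective
  have hcont' : ∀ X : SL2E, X ∈ slSub Kt → ∃ γ : ↥(liftSL M), lamHom c γ.1 = X := by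
    intro X hX
    rw [mem_slSub_iff] at hX
    obtain ⟨γ, hγ⟩ := hcont X hX.1 hX.2.1 hX.2.2.1 hX.2.2.2
    exact ⟨γ, hγ⟩
  -- `Kt` lies in the image of `F`
  have hKle : Kt ≤ φ.fieldRange := by
    intro a ha
    obtain ⟨γ, hγ⟩ := hcont (mk4 a 1 (-1) 0 (by ring)) ha Kt.one_mem (Kt.neg_mem Kt.one_mem)
      Kt.zero_mem
    have htr : tr (conjRep (liftRep M) c γ) = a := by
      rw [hγ]; unfold tr; simp
    rw [conjRep_apply, tr_conj, tr_liftRep] at htr
    exact ⟨_, htr⟩
  set K : Subfield F := Kt.comap φ with hK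
  have hcardK : Nat.card K = Nat.card Kt := by
    let f : K → Kt := fun x => ⟨φ x.1, x.2⟩
    have hf : Function.Bijective f := by
      constructor
      · intro x y hxy
        apply Subtype.ext
        apply hφinj
        exact congrArg Subtype.val hxy
      · rintro ⟨a, ha⟩
        obtain ⟨x, hx⟩ := hKle ha
        exact ⟨⟨x, by show φ x ∈ Kt; rw [hx]; exact ha⟩, Subtype.ext hx⟩
    exact Nat.card_congr (Equiv.ofBijective f hf)
  have hKodd : Odd (Nat.card K) := odd_card_subfield hodd K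
  -- the group `N0`
  set N0 : Subgroup SL2F := overSL (F := F) c Kt with hN0
  have hZN0 : Subgroup.center SL2F ≤ N0 := center_le_overSL c Kt
  have hN0M : N0 ≤ liftSL M := by
    intro g hg
    obtain ⟨γ, hγ⟩ := hcont' (lamHom c g) hg
    have : γ.1 = g := lamHom_injective c hγ
    rw [← this]; exact γ.2
  have hcardN0 : Nat.card N0 = Nat.card K * (Nat.card K ^ 2 - 1) := by
    rw [hcardK, Nat.card_eq_fintype_card (α := Kt)]
    apply card_overSL M c Kt hKle
    · exact hcont (uU 1) Kt.one_mem Kt.one_mem Kt.zero_mem Kt.one_mem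
    · exact hcont (vV 1) Kt.one_mem Kt.zero_mem Kt.one_mem Kt.one_mem
    · apply hcont (uU 1 * vV 1)
      · rw [mul_00]; simp only [uU, vV, mk4_00, mk4_01, mk4_10]
        exact Kt.add_mem (Kt.mul_mem Kt.one_mem Kt.one_mem) (Kt.mul_mem Kt.one_mem Kt.one_mem)
      · rw [mul_01]; simp only [uU, vV, mk4_00, mk4_01, mk4_11]
        exact Kt.add_mem (Kt.mul_mem Kt.one_mem Kt.zero_mem) (Kt.mul_mem Kt.one_mem Kt.one_mem)
      · rw [mul_10]; simp only [uU, vV, mk4_00, mk4_10, mk4_11]
        exact Kt.add_mem (Kt.mul_mem Kt.zero_mem Kt.one_mem) (Kt.mul_mem Kt.one_mem Kt.one_mem)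
      · rw [mul_11]; simp only [uU, vV, mk4_01, mk4_10, mk4_11]
        exact Kt.add_mem (Kt.mul_mem Kt.zero_mem Kt.zero_mem) (Kt.mul_mem Kt.one_mem Kt.one_mem)
  have htrN0 : ∀ g ∈ N0, tr g ∈ K := by
    intro g hg
    show φ (tr g) ∈ Kt
    rw [← tr_lamHom c g]
    have hg' : lamHom c g ∈ slSub Kt := hg
    rw [mem_slSub_iff] at hg'
    unfold tr
    exact Kt.add_mem hg'.1 hg'.2.2.2
  set π := QuotientGroup.mk' (Subgroup.center SL2F) with hπ
  set M0 : Subgroup PSL2F := N0.map π with hM0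
  have hM0M : M0 ≤ M := by
    rintro _ ⟨g, hg, rfl⟩
    exact hN0M hg
  have hcardM0 : 2 * Nat.card M0 = Nat.card K * (Nat.card K ^ 2 - 1) := by
    rw [← hcardN0, ← card_map_mk_mul_two h2 N0 hZN0, mul_comm]
  -- a quaternion pair in `N0`
  obtain ⟨y, z, hy, hz, hyz⟩ := exists_sum_sq hodd K
  have hyz' : φ y * (-φ y) - φ z * φ z = 1 := by
    have := congrArg φ hyz
    rw [map_add, map_add, map_pow, map_pow, map_one, map_zero] at this
    linear_combination -this
  obtain ⟨γI, hγI⟩ := hcont' (mk4 0 (-1) 1 0 (by ring)) (by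
    rw [mem_slSub_iff]
    exact ⟨Kt.zero_mem, Kt.neg_mem Kt.one_mem, Kt.one_mem, Kt.zero_mem⟩)
  obtain ⟨γJ, hγJ⟩ := hcont' (mk4 (φ y) (φ z) (φ z) (-φ y) hyz') (by
    rw [mem_slSub_iff]
    exact ⟨hy, hz, hz, Kt.neg_mem hy⟩)
  have hI0 : tr γI.1 = 0 := by
    apply hφinj
    rw [← tr_lamHom c, hγI, map_zero]
    unfold tr; simp
  have hJ0 : tr γJ.1 = 0 := by
    apply hφinj
    rw [← tr_lamHom c, hγJ, map_zero]
    unfold tr; simp
  have hIJ0 : tr (γI.1 * γJ.1) = 0 := by
    apply hφinj
    rw [← tr_lamHom c, map_mul, hγI, hγJ, map_zero]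
    unfold tr
    rw [mul_00, mul_11]; simp
  obtain ⟨hII, hJJ, hJI⟩ := quat_of_traces γI.1 γJ.1 hI0 hJ0 hIJ0
  have hIN0 : γI.1 ∈ N0 := by
    show lamHom c γI.1 ∈ slSub Kt
    rw [hγI, mem_slSub_iff]
    exact ⟨Kt.zero_mem, Kt.neg_mem Kt.one_mem, Kt.one_mem, Kt.zero_mem⟩
  have hJN0 : γJ.1 ∈ N0 := by
    show lamHom c γJ.1 ∈ slSub Kt
    rw [hγJ, mem_slSub_iff]
    exact ⟨hy, hz, hz, Kt.neg_mem hy⟩
  obtain ⟨α, hα⟩ := exists_conj_le_stdPSL h2 K M0 γI.1 γJ.1 hII hJJ hJI
    ⟨_, hIN0, rfl⟩ ⟨_, hJN0, rfl⟩ y z hy hz hyz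
    (fun g hg => htrN0 g (mem_of_mk_mem_map N0 hZN0 g hg))
  have hαeq : M0.map α.toMonoidHom = stdPSL K := by
    apply Subgroup.eq_of_le_of_card_ge hα
    have h1 := two_mul_card_stdPSL hodd K
    have h3 : Nat.card (M0.map α.toMonoidHom) = Nat.card M0 :=
      Subgroup.card_map_of_injective α.injective
    omega
  have hM' := isCoatom_map_equiv α M hM
  have eM : M ≃* M.map α.toMonoidHom := M.equivMapOfInjective α.toMonoidHom α.injective
  have hKM : stdPSL K ≤ M.map α.toMonoidHom := by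
    rw [← hαeq]; exact Subgroup.map_mono hM0M
  obtain ⟨e0⟩ := nonempty_equiv_quotient M
  have hKtodd : Odd (Fintype.card Kt) := by
    rw [← Nat.card_eq_fintype_card, ← hcardK]; exact hKodd
  rcases hiso with he1 | he1
  · -- `PSL₂`
    obtain ⟨e1⟩ := he1
    have hcardM : 2 * Nat.card (M.map α.toMonoidHom) = Nat.card K * (Nat.card K ^ 2 - 1) := by
      rw [← Nat.card_congr eM.toEquiv, ← Nat.card_congr e0.toEquiv, Nat.card_congr e1.toEquiv,
        two_mul_card_PSL2 (F := Kt) hKtodd, ← Nat.card_eq_fintype_card, hcardK]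
    have heq : stdPSL K = M.map α.toMonoidHom := by
      apply Subgroup.eq_of_le_of_card_ge hKM
      have h1 := two_mul_card_stdPSL hodd K
      omega
    rw [← heq] at hM'
    obtain ⟨r, hr, hr2, hq⟩ := coatom_stdPSL_degree p hodd h5 K hM'
    exact concl_psl' (e0.symm.trans e1) r hr hr2 (by rw [hq, hcardK])
  · -- `PGL₂`
    obtain ⟨e1⟩ := he1
    have hcardM : Nat.card (M.map α.toMonoidHom) = 2 * Nat.card (stdPSL K) := by
      rw [← Nat.card_congr eM.toEquiv, ← Nat.card_congr e0.toEquiv, Nat.card_congr e1.toEquiv,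
        Cfsg.Agent.Helper46.card_PGL2 (K := Kt), ← Nat.card_eq_fintype_card, ← hcardK,
        two_mul_card_stdPSL hodd K]
    have hq := coatom_pgl_type p hodd h5 K (M.map α.toMonoidHom) hM' hKM hcardM
    exact concl_pgl' (e0.symm.trans e1) (by rw [hq, hcardK])

end Finite

end Cfsg.Agent.Helper46.Mx
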