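import Mathlib
import Cfsg.Agent.Helper46.MxStd
import Cfsg.Agent.Helper46.SubfieldPSL
import Cfsg.Agent.Helper41.PSL2Klein

set_option autoImplicit false

/-!
# `PGL₂(F)` and its subgroup `PSL₂(F)`: basic structure of a maximal subgroup not containing
`PSL₂(F)`
-/

namespace Cfsg.Agent.Helper46.Pg

open Matrix Cfsg.Agent.Helper46 Cfsg.Agent.Helper46.Dk Cfsg.Agent.Helper46.Mx Cfsg.Agent.Helper41

section Generic

variable {G : Type*} [Group G]

/-- a subgroup without subgroups of index two lies in every subgroup of index two -/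
theorem le_of_no_index_two [Finite G] (L Y : Subgroup G) (hL : L.index = 2)
    (hY : ∀ N : Subgroup Y, N.index ≠ 2) : Y ≤ L := by
  haveI := Subgroup.normal_of_index_eq_two hL
  have h1 : L.relIndex Y ∣ 2 := by
    rw [← hL]; exact Subgroup.relIndex_dvd_index_of_normal L Y
  rcases (Nat.dvd_prime Nat.prime_two).1 h1 with h | h
  · exact Subgroup.relIndex_eq_one.1 h
  · exact absurd h (hY _)

/-- a subgroup of odd order lies in every subgroup of index two -/
theorem le_of_odd_card [Finite G] (L Y : Subgroup G) (hL : L.index = 2)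
    (hY : Odd (Nat.card Y)) : Y ≤ L := by
  apply le_of_no_index_two L Y hL
  intro N hN
  have := N.index_mul_card
  rw [hN] at this
  rw [← this] at hY
  exact (Nat.not_even_iff_odd.2 hY) (even_two.mul_right _)

/-- the intersection of a coatom with a subgroup of index two not contained in it -/
theorem two_mul_card_inf_of_coatom [Finite G] (L M : Subgroup G) (hL : L.index = 2)
    (hM : IsCoatom M) (hLM : ¬ L ≤ M) : 2 * Nat.card (M ⊓ L : Subgroup G) = Nat.card M := by
  haveI := Subgroup.normal_of_index_eq_two hL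
  have h1 : L.relIndex M ∣ 2 := by
    rw [← hL]; exact Subgroup.relIndex_dvd_index_of_normal L M
  have h2 : L.relIndex M = 2 := by
    rcases (Nat.dvd_prime Nat.prime_two).1 h1 with h | h
    · exfalso
      have hML : M ≤ L := Subgroup.relIndex_eq_one.1 h
      have hLtop : L ≠ ⊤ := by
        intro h'
        rw [h', Subgroup.index_top] at hL
        omega
      have := (hM.le_iff.1 hML).resolve_left hLtop
      exact hLM (le_of_eq this)
    · exact h
  have h3 := (L.subgroupOf M).index_mul_card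
  have h4 : Nat.card (L.subgroupOf M) = Nat.card (M ⊓ L : Subgroup G) := by
    rw [inf_comm, ← Subgroup.inf_subgroupOf_right L M]
    exact Nat.card_congr (Subgroup.subgroupOfEquivOfLe inf_le_right).toEquiv
  have h5 : (L.subgroupOf M).index = 2 := h2
  rw [h5, h4] at h3
  exact h3

/-- a coatom which is a small `2`-group -/
theorem not_coatom_of_small_two_group [Finite G] (M : Subgroup G) (hM : IsCoatom M) (n : ℕ)
    (hn : n ≤ 2) (hcard : Nat.card M = 2 ^ n) (h8 : 2 ^ 3 ∣ Nat.card G) (hG : Nat.card G ≠ 8) :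
    False := by
  haveI : Fact (Nat.Prime 2) := ⟨Nat.prime_two⟩
  obtain ⟨K, hK, hMK⟩ := Sylow.exists_subgroup_card_pow_prime_le 2 h8 M hcard (by omega)
  rcases hM.le_iff.1 hMK with h | h
  · apply hG
    rw [← Nat.card_congr (Subgroup.topEquiv (G := G)).toEquiv, ← h, hK]
    norm_num
  · rw [h, hcard] at hK
    have : n = 3 := Nat.pow_right_injective (le_refl 2) hK
    omega

end Generic

section PGL

variable {F : Type*} [Field F] [Fintype F]

local notation "GL2F" => GL (Fin 2) F
local notation "SL2F" => Matrix.SpecialLinearGroup (Fin 2) F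
local notation "PSL2F" => Matrix.ProjectiveSpecialLinearGroup (Fin 2) F
local notation "PGL2F" => Matrix.ProjGenLinGroup (Fin 2) F

/-- the image of `SL₂(F)` in `PGL₂(F)` -/
def Lsub (F : Type*) [Field F] : Subgroup (Matrix.ProjGenLinGroup (Fin 2) F) :=
  (Matrix.ProjGenLinGroup.mk.comp Matrix.SpecialLinearGroup.toGL).range

omit [Fintype F] in
theorem Lsub_eq_range : Lsub F = (Matrix.ProjectiveSpecialLinearGroup.toPGL (n := Fin 2) (R := F)).range := by
  ext x
  constructor
  · rintro ⟨A, rfl⟩
    exact ⟨QuotientGroup.mk A, rfl⟩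
  · rintro ⟨y, rfl⟩
    obtain ⟨A, rfl⟩ := QuotientGroup.mk_surjective y
    exact ⟨A, rfl⟩

/-- `PSL₂(F) ≃* L` -/
noncomputable def thetaL (F : Type*) [Field F] :
    Matrix.ProjectiveSpecialLinearGroup (Fin 2) F ≃* Lsub F :=
  (MonoidHom.ofInjective Matrix.ProjectiveSpecialLinearGroup.toPGL_injective).trans
    (MulEquiv.subgroupCongr Lsub_eq_range.symm)

omit [Fintype F] in
theorem thetaL_coe (x : PSL2F) :
    ((thetaL F x : Lsub F) : PGL2F) = Matrix.ProjectiveSpecialLinearGroup.toPGL x := rfl

theorem finite_PGL2F : Finite PGL2F :=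
  Finite.of_surjective _ (Matrix.ProjGenLinGroup.mk_surjective (n := Fin 2) (R := F))

theorem card_PGL2F : Nat.card PGL2F = Fintype.card F * (Fintype.card F ^ 2 - 1) := card_PGL2

theorem two_mul_card_Lsub (hodd : Odd (Fintype.card F)) :
    2 * Nat.card (Lsub F) = Fintype.card F * (Fintype.card F ^ 2 - 1) := by
  rw [← Nat.card_congr (thetaL F).toEquiv]
  exact two_mul_card_PSL2 hodd

theorem index_Lsub (hodd : Odd (Fintype.card F)) : (Lsub F).index = 2 := by
  haveI := finite_PGL2F (F := F)
  have h1 := (Lsub F).index_mul_card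
  have h2 := two_mul_card_Lsub (F := F) hodd
  rw [card_PGL2F, ← h2] at h1
  have hpos : 0 < Nat.card (Lsub F) := Nat.card_pos
  have : (Lsub F).index * Nat.card (Lsub F) = 2 * Nat.card (Lsub F) := h1
  exact Nat.eq_of_mul_eq_mul_right hpos this

theorem eight_dvd_card_PGL2F (hodd : Odd (Fintype.card F)) : 2 ^ 3 ∣ Nat.card PGL2F := by
  rw [card_PGL2F]
  obtain ⟨t, ht⟩ := hodd
  rw [ht]
  have h1 : (2 * t + 1) ^ 2 - 1 = 4 * (t * (t + 1)) := by
    have : (2 * t + 1) ^ 2 = 4 * (t * (t + 1)) + 1 := by ring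
    omega
  rw [h1]
  have h2 : 2 ∣ t * (t + 1) := (Nat.even_mul_succ_self t).two_dvd
  obtain ⟨s, hs⟩ := h2
  rw [hs]
  exact ⟨(2 * t + 1) * s, by ring⟩

/-- a subgroup of `L` normalized by a maximal subgroup not containing `L` -/
theorem normalizer_eq_of_le_Lsub (h5 : 5 ≤ Fintype.card F)
    (M : Subgroup PGL2F) (hM : IsCoatom M) (S : Subgroup PGL2F) (hSL : S ≤ Lsub F)
    (hS1 : S ≠ ⊥) (hS2 : S ≠ Lsub F) (hMS : M ≤ Subgroup.normalizer (S : Set PGL2F)) :
    Subgroup.normalizer (S : Set PGL2F) = M := by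
  rcases hM.le_iff.1 hMS with h | h
  · exfalso
    haveI : S.Normal := Subgroup.normalizer_eq_top_iff.1 h
    haveI := Cfsg.Agent.Helper5.isSimpleGroup_PSL2_of_card (F := F) (by omega)
    have hn : (S.comap (Matrix.ProjectiveSpecialLinearGroup.toPGL (n := Fin 2) (R := F))).Normal :=
      Subgroup.Normal.comap inferInstance _
    have hmc := Subgroup.map_comap_eq (Matrix.ProjectiveSpecialLinearGroup.toPGL (n := Fin 2) (R := F)) S
    rw [← Lsub_eq_range, inf_eq_right.2 hSL] at hmc
    rcases hn.eq_bot_or_eq_top with h' | h'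
    · apply hS1
      rw [← hmc, h', Subgroup.map_bot]
    · apply hS2
      rw [← hmc, h', ← MonoidHom.range_eq_map, Lsub_eq_range]
  · exact h

end PGL

end Cfsg.Agent.Helper46.Pg
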