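import Mathlib
import Cfsg.Agent.Helper46.PgA
import Cfsg.Agent.Helper46.MxField

set_option autoImplicit false

/-!
# The standard copy of `PGL₂(K)` in `PGL₂(F)` for a subfield `K` of `F`
-/

namespace Cfsg.Agent.Helper46.Pg

open Matrix Cfsg.Agent.Helper46 Cfsg.Agent.Helper46.Dk Cfsg.Agent.Helper46.Mx Cfsg.Agent.Helper41

section General

variable {K : Type*} [Field K]

/-- central elements of `GL₂` entrywise -/
theorem gl2_mem_center_iff (g : GL (Fin 2) K) :
    g ∈ Subgroup.center (GL (Fin 2) K) ↔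
      (g : Matrix (Fin 2) (Fin 2) K) 0 1 = 0 ∧ (g : Matrix (Fin 2) (Fin 2) K) 1 0 = 0 ∧
        (g : Matrix (Fin 2) (Fin 2) K) 0 0 = (g : Matrix (Fin 2) (Fin 2) K) 1 1 := by
  rw [Matrix.GeneralLinearGroup.center_eq_range_scalar]
  constructor
  · rintro ⟨u, rfl⟩
    simp
  · rintro ⟨h1, h2, h3⟩
    have hdet := gl_det_ne_zero g
    rw [Matrix.det_fin_two, h1, h2, ← h3] at hdet
    have ha : (g : Matrix (Fin 2) (Fin 2) K) 0 0 ≠ 0 := by
      intro h0; apply hdet; rw [h0]; ring
    refine ⟨Units.mk0 _ ha, ?_⟩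
    apply Units.ext
    ext i j
    fin_cases i <;> fin_cases j <;> simp [h1, h2, ← h3]

variable {F : Type*} [Field F]

/-- the map `PGL₂(K) → PGL₂(F)` induced by a field homomorphism is injective -/
theorem pgmap_injective (f : K →+* F) :
    Function.Injective (Matrix.ProjGenLinGroup.map (n := Fin 2) f) := by
  rw [injective_iff_map_eq_one]
  intro x hx
  induction x using Matrix.ProjGenLinGroup.induction_on with | mk g =>
  rw [Matrix.ProjGenLinGroup.map_mk, Matrix.ProjGenLinGroup.mk_eq_one, gl2_mem_center_iff] at hx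
  rw [Matrix.ProjGenLinGroup.mk_eq_one, gl2_mem_center_iff]
  obtain ⟨h1, h2, h3⟩ := hx
  have e : ∀ i j, (Matrix.GeneralLinearGroup.map f g : Matrix (Fin 2) (Fin 2) F) i j =
      f ((g : Matrix (Fin 2) (Fin 2) K) i j) := fun i j => rfl
  rw [e] at h1 h2
  rw [e, e] at h3
  refine ⟨f.injective (by rw [h1, map_zero]), f.injective (by rw [h2, map_zero]), f.injective h3⟩

theorem toGL_map (f : K →+* F) (A : Matrix.SpecialLinearGroup (Fin 2) K) :
    Matrix.SpecialLinearGroup.toGL (Matrix.SpecialLinearGroup.map f A) =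
      Matrix.GeneralLinearGroup.map f (Matrix.SpecialLinearGroup.toGL A) := by
  apply Units.ext
  rfl

end General

section GK

variable {F : Type*} [Field F]

local notation "M2F" => Matrix (Fin 2) (Fin 2) F
local notation "GL2F" => GL (Fin 2) F
local notation "SL2F" => Matrix.SpecialLinearGroup (Fin 2) F
local notation "PSL2F" => Matrix.ProjectiveSpecialLinearGroup (Fin 2) F
local notation "PGL2F" => Matrix.ProjGenLinGroup (Fin 2) F

/-- the standard copy of `PGL₂(K)` in `PGL₂(F)` -/
def GK (K : Subfield F) : Subgroup PGL2F := (Matrix.ProjGenLinGroup.map (n := Fin 2) K.subtype).range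

theorem nonempty_GK_equiv (K : Subfield F) :
    Nonempty (GK K ≃* Matrix.ProjGenLinGroup (Fin 2) K) :=
  ⟨(MonoidHom.ofInjective (pgmap_injective K.subtype)).symm⟩

theorem card_GK (K : Subfield F) [Finite K] :
    Nat.card (GK K) = Nat.card K * (Nat.card K ^ 2 - 1) := by
  classical
  let _ : Fintype K := Fintype.ofFinite K
  obtain ⟨e⟩ := nonempty_GK_equiv K
  rw [Nat.card_congr e.toEquiv, card_PGL2, Nat.card_eq_fintype_card]

theorem GK_mono {K K' : Subfield F} (h : K ≤ K') : GK K ≤ GK K' := by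
  have e : K.subtype = K'.subtype.comp (Subfield.inclusion h) := by
    ext x; rfl
  unfold GK
  rw [e, Matrix.ProjGenLinGroup.map_comp, MonoidHom.range_comp]
  exact Subgroup.map_le_range _ _

/-- the image of the standard `PSL₂(K)` lies in the standard `PGL₂(K)` -/
theorem map_stdPSL_le_GK (K : Subfield F) :
    (stdPSL K).map (Matrix.ProjectiveSpecialLinearGroup.toPGL (n := Fin 2) (R := F)) ≤ GK K := by
  rw [stdPSL_eq_range]
  rintro _ ⟨_, ⟨A, rfl⟩, rfl⟩
  refine ⟨Matrix.ProjGenLinGroup.mk (Matrix.SpecialLinearGroup.toGL A), ?_⟩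
  rw [Matrix.ProjGenLinGroup.map_mk, ← toGL_map]
  rfl

/-- conjugation by an invertible matrix: compatibility of `conjPSL` with `toPGL` -/
theorem toPGL_conjPSL (P Q : M2F) (hPQ : P * Q = 1) (hQP : Q * P = 1) (x : PSL2F) :
    Matrix.ProjectiveSpecialLinearGroup.toPGL (conjPSL P Q hPQ hQP x) =
      Matrix.ProjGenLinGroup.mk (⟨P, Q, hPQ, hQP⟩ : GL2F) *
        Matrix.ProjectiveSpecialLinearGroup.toPGL x *
        (Matrix.ProjGenLinGroup.mk (⟨P, Q, hPQ, hQP⟩ : GL2F))⁻¹ := by
  obtain ⟨g, rfl⟩ := QuotientGroup.mk'_surjective (Subgroup.center SL2F) x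
  rw [conjPSL_mk]
  show Matrix.ProjGenLinGroup.mk (Matrix.SpecialLinearGroup.toGL (conjSL P Q hPQ hQP g)) =
    Matrix.ProjGenLinGroup.mk (⟨P, Q, hPQ, hQP⟩ : GL2F) *
      Matrix.ProjGenLinGroup.mk (Matrix.SpecialLinearGroup.toGL g) *
      (Matrix.ProjGenLinGroup.mk (⟨P, Q, hPQ, hQP⟩ : GL2F))⁻¹
  rw [← map_inv, ← map_mul, ← map_mul]
  congr 1
  apply Units.ext
  rfl

theorem eq_top_of_card_eq [Fintype F] (K : Subfield F) (h : Nat.card K = Fintype.card F) :
    K = ⊤ := by
  rw [eq_top_iff]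
  intro x _
  by_contra hx
  have hss : (K : Set F) ⊂ Set.univ := ⟨Set.subset_univ _, fun h => hx (h (Set.mem_univ x))⟩
  have := Set.ncard_lt_ncard hss (Set.toFinite _)
  rw [Set.ncard_univ, ← Nat.card_coe_set_eq, Nat.card_eq_fintype_card (α := F)] at this
  have h' : Nat.card (K : Set F) = Nat.card K := rfl
  omega

theorem GK_top : GK (⊤ : Subfield F) = ⊤ := by
  rw [eq_top_iff]
  intro x _
  induction x using Matrix.ProjGenLinGroup.induction_on with | mk g =>
  refine ⟨Matrix.ProjGenLinGroup.mk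
    (Matrix.GeneralLinearGroup.map (Subfield.topEquiv (K := F)).symm.toRingHom g), ?_⟩
  rw [Matrix.ProjGenLinGroup.map_mk]
  congr 1

/-- if all elements of `K` are squares in `F` then the standard `PGL₂(K)` lies in the image of
`SL₂(F)` -/
theorem GK_le_Lsub (K : Subfield F) (hsq : ∀ x : K, IsSquare (K.subtype x)) : GK K ≤ Lsub F := by
  rintro _ ⟨x, rfl⟩
  induction x using Matrix.ProjGenLinGroup.induction_on with | mk g =>
  rw [Matrix.ProjGenLinGroup.map_mk]
  refine ⟨normSL K.subtype hsq g, ?_⟩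
  show Matrix.ProjGenLinGroup.mk (Matrix.SpecialLinearGroup.toGL (normSL K.subtype hsq g)) =
    Matrix.ProjGenLinGroup.mk (Matrix.GeneralLinearGroup.map K.subtype g)
  rw [Matrix.ProjGenLinGroup.mk_eq_mk_iff]
  have hs := sqrtDet_ne_zero K.subtype hsq g
  refine ⟨Units.mk0 (sqrtDet K.subtype hsq g) hs, ?_⟩
  apply Units.ext
  rw [Units.val_mul, Matrix.SpecialLinearGroup.coe_GL_coe_matrix, normSL_coe,
    Matrix.GeneralLinearGroup.coe_scalar]
  ext i j
  have e : (Matrix.GeneralLinearGroup.map K.subtype g : Matrix (Fin 2) (Fin 2) F) i j =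
      K.subtype ((g : Matrix (Fin 2) (Fin 2) K) i j) := rfl
  rw [e]
  fin_cases i <;> fin_cases j <;>
    simp [Matrix.mul_apply, Fin.sum_univ_two, Matrix.scalar_apply] <;> field_simp

section Finite

variable [Fintype F] (p : ℕ) [Fact p.Prime] [CharP F p]

include p in
/-- if the standard `PGL₂(K)` is maximal and does not lie in the image of `SL₂(F)` then `[F : K]`
is an odd prime -/
theorem coatom_GK_degree (hodd : Odd (Fintype.card F)) (K : Subfield F) (hM : IsCoatom (GK K))
    (hL : ¬ GK K ≤ Lsub F) :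
    ∃ r : ℕ, r.Prime ∧ Odd r ∧ Fintype.card F = Nat.card K ^ r := by
  classical
  letI : Fintype K := Fintype.ofFinite K
  haveI := finite_PGL2F (F := F)
  have h2 := two_ne_zero_of_odd hodd
  have hp : p ≠ 2 := by
    intro hp2
    apply h2
    have := CharP.cast_eq_zero F p
    rw [hp2] at this
    exact_mod_cast this
  obtain ⟨j, m, hj, hm, hKj, hFm⟩ := card_subfield p K
  have hk1 : 1 < Nat.card K := by
    rw [Nat.card_eq_fintype_card]; exact Fintype.one_lt_card
  have hm1 : m ≠ 1 := by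
    intro h
    rw [h, pow_one] at hFm
    apply hM.1
    rw [eq_top_of_card_eq K hFm.symm, GK_top]
  rcases Nat.even_or_odd m with hev | hod
  · exfalso
    apply hL
    apply GK_le_Lsub
    exact isSquare_of_even_degree K.subtype m hev hodd
      (by rw [← Nat.card_eq_fintype_card (α := K), ← hFm])
  · set r := Nat.minFac m with hr
    have hrp : r.Prime := Nat.minFac_prime hm1
    have hrm : r ∣ m := Nat.minFac_dvd m
    have hrodd : Odd r := hod.of_dvd_nat hrm
    by_cases hrm' : r = m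
    · exact ⟨r, hrp, hrodd, by rw [hrm']; exact hFm⟩
    exfalso
    obtain ⟨m', hm'⟩ := hrm
    have hm'1 : 1 < m' := by
      rcases Nat.lt_or_ge 1 m' with h | h
      · exact h
      · exfalso
        interval_cases m'
        · omega
        · apply hrm'; rw [hm', mul_one]
    have hF : Fintype.card F = p ^ (j * m) := by rw [hFm, hKj, pow_mul]
    have hK'card : Nat.card (frobFixed (F := F) p hp (j * r)) = p ^ (j * r) :=
      card_frobFixed p hp (j * m) (j * r) (Nat.mul_pos hj hrp.pos) ⟨m', by rw [hm']; ring⟩ hF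
    set K' := frobFixed (F := F) p hp (j * r) with hK'
    have hKK' : K ≤ K' := subfield_le_of_card p hp K K' r hrp.pos (by rw [hK'card, hKj, pow_mul])
    have hle := GK_mono hKK'
    have hk'k : Nat.card K' = Nat.card K ^ r := by rw [hK'card, hKj, pow_mul]
    have hc1 := card_GK K
    have hc2 := card_GK K'
    rcases hM.le_iff.1 hle with h | h
    · -- `K' = F`
      have hc : Nat.card K' = Fintype.card F := by
        apply mul_sq_pred_inj Nat.card_pos Fintype.card_pos
        rw [← hc2, h, ← card_PGL2F]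
        exact Nat.card_congr (Subgroup.topEquiv (G := Matrix.ProjGenLinGroup (Fin 2) F)).toEquiv
      rw [hk'k, hFm] at hc
      have := Nat.pow_right_injective hk1 hc
      exact hrm' this
    · have : Nat.card K' = Nat.card K := by
        apply mul_sq_pred_inj Nat.card_pos Nat.card_pos
        rw [← hc1, ← hc2, h]
      rw [hk'k] at this
      have h1 : Nat.card K ^ r = Nat.card K ^ 1 := by rw [pow_one]; exact this
      have := Nat.pow_right_injective hk1 h1
      exact hrp.one_lt.ne' this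

end Finite

end GK

section Conclusion

/-- the conclusion of the theorem on maximal subgroups of `PGL₂(q)`, for an abstract group -/
def ConclPG (q : ℕ) (H : Type*) [Group H] : Prop :=
  Nat.card H = q * (q - 1) ∨
  (q ≠ 5 ∧ Nonempty (H ≃* DihedralGroup (q - 1))) ∨
  Nonempty (H ≃* DihedralGroup (q + 1)) ∨
  (q.Prime ∧ (q % 8 = 3 ∨ q % 8 = 5) ∧ Nonempty (H ≃* Equiv.Perm (Fin 4))) ∨
  (∃ (F₀ : Type) (_ : Field F₀) (_ : Fintype F₀) (r : ℕ), r.Prime ∧ Odd r ∧
      q = Fintype.card F₀ ^ r ∧ Nonempty (H ≃* Matrix.ProjGenLinGroup (Fin 2) F₀))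

theorem ConclPG.congr {q : ℕ} {H H' : Type*} [Group H] [Group H'] (e : H ≃* H')
    (h : ConclPG q H) : ConclPG q H' := by
  rcases h with h | ⟨h1, ⟨e1⟩⟩ | he1 | ⟨h1, h2, ⟨e1⟩⟩ | ⟨F₀, i1, i2, r, hr, hr2, hq, ⟨e1⟩⟩
  · left; rw [← Nat.card_congr e.toEquiv]; exact h
  · right; left; exact ⟨h1, ⟨e.symm.trans e1⟩⟩
  · obtain ⟨e1⟩ := he1
    right; right; left; exact ⟨e.symm.trans e1⟩
  · right; right; right; left; exact ⟨h1, h2, ⟨e.symm.trans e1⟩⟩
  · right; right; right; right; exact ⟨F₀, i1, i2, r, hr, hr2, hq, ⟨e.symm.trans e1⟩⟩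

/-- the `PGL₂(K)` conclusion for an abstract finite field -/
theorem conclPG_pgl {q : ℕ} {H : Type*} [Group H] {K : Type*} [Field K] [Finite K]
    (e : H ≃* Matrix.ProjGenLinGroup (Fin 2) K) (r : ℕ) (hr : r.Prime) (hr2 : Odd r)
    (hq : q = Nat.card K ^ r) : ConclPG q H := by
  classical
  letI : Fintype K := Fintype.ofFinite K
  letI : Fintype (Shrink.{0} K) := Fintype.ofEquiv K (equivShrink.{0} K)
  have hcard' : Fintype.card (Shrink.{0} K) = Nat.card K := by
    rw [Nat.card_eq_fintype_card]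
    exact Fintype.card_congr (equivShrink.{0} K).symm
  let e' : K ≃+* Shrink.{0} K := (Shrink.ringEquiv.{0} K).symm
  obtain ⟨e2⟩ := Cfsg.Agent.Helper46.nonempty_pgl_congr e'
  right; right; right; right
  exact ⟨Shrink.{0} K, inferInstance, inferInstance, r, hr, hr2, by rw [hcard', hq],
    ⟨e.trans e2⟩⟩

end Conclusion

end Cfsg.Agent.Helper46.Pg
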