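import Mathlib
import Cfsg.Agent.Helper46.MxTorus

set_option autoImplicit false

/-!
# Lemmas on `PSL₂(F)`, `|F|` odd: Sylow `p`-subgroups are TI, cyclic subgroups are not
self-normalizing, the order of the normalizer of a torus
-/

namespace Cfsg.Agent.Helper46.Pg

open Matrix Cfsg.Agent.Helper46 Cfsg.Agent.Helper46.Dk Cfsg.Agent.Helper46.Mx Cfsg.Agent.Helper41
  Cfsg.Agent.Helper41.DkR

variable {F : Type*} [Field F]

local notation "SL2F" => Matrix.SpecialLinearGroup (Fin 2) F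
local notation "PSL2F" => Matrix.ProjectiveSpecialLinearGroup (Fin 2) F

/-- conjugating a nontrivial unipotent element into the unipotent subgroup forces the Borel
subgroup -/
theorem mem_borelP_of_conj_mem_uniP (z u : PSL2F) (hu : u ∈ uniP (F := F)) (hne : u ≠ 1)
    (h : z * u * z⁻¹ ∈ uniP (F := F)) : z ∈ borelP (F := F) := by
  obtain ⟨g, rfl⟩ := QuotientGroup.mk'_surjective (Subgroup.center SL2F) z
  obtain ⟨x, hx, rfl⟩ := hu
  set π := QuotientGroup.mk' (Subgroup.center SL2F) with hπ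
  have hx01 : x.1 0 1 ≠ 0 := by
    intro h0
    apply hne
    have : x = 1 := by
      apply ext'
      · rw [hx.2.1]; rfl
      · rw [h0]; rfl
      · rw [hx.1]; rfl
      · rw [hx.2.2]; rfl
    rw [this, map_one]
  rw [← map_inv, ← map_mul, ← map_mul] at h
  obtain ⟨u', hu', hu'eq⟩ := h
  have hz : u'⁻¹ * (g * x * g⁻¹) ∈ Subgroup.center SL2F := QuotientGroup.eq.1 hu'eq
  have hB : g * x * g⁻¹ ∈ (BB : Subgroup SL2F) := by
    have h2 : g * x * g⁻¹ = u' * (u'⁻¹ * (g * x * g⁻¹)) := by group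
    rw [h2]
    exact Subgroup.mul_mem _ (PU_le_BB (UU_le_PU hu')) (center_le_BB hz)
  exact Subgroup.mem_map_of_mem _ (mem_BB_of_conj_PU (UU_le_PU hx) hx01 hB)

/-- the unipotent subgroup is commutative -/
theorem uniP_comm (a b : PSL2F) (ha : a ∈ uniP (F := F)) (hb : b ∈ uniP (F := F)) :
    a * b = b * a := by
  obtain ⟨x, hx, rfl⟩ := ha
  obtain ⟨y, hy, rfl⟩ := hb
  rw [← map_mul, ← map_mul]
  congr 1
  apply ext'
  · rw [mul_00, mul_00, hx.1, hy.1, hx.2.1, hy.2.1]; ring
  · rw [mul_01, mul_01, hx.2.1, hy.2.1, hx.2.2, hy.2.2]; ring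
  · rw [mul_10, mul_10, hx.1, hy.1]; ring
  · rw [mul_11, mul_11, hx.1, hy.1, hx.2.2, hy.2.2]; ring

variable [Fintype F] (p : ℕ) [Fact p.Prime] [CharP F p]

/-- Sylow `p`-subgroups of `PSL₂(F)` are trivial intersection subgroups -/
theorem sylow_eq_of_common_element (P Q : Sylow p PSL2F) (u : PSL2F) (hu1 : u ≠ 1)
    (huP : u ∈ (P : Subgroup PSL2F)) (huQ : u ∈ (Q : Subgroup PSL2F)) :
    (P : Subgroup PSL2F) = Q := by
  obtain ⟨x, hP, -⟩ := exists_conj_sylowP p P
  obtain ⟨y, hQ, -⟩ := exists_conj_sylowP p Q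
  rw [hP] at huP
  rw [hQ] at huQ
  obtain ⟨u₁, hu₁, hu₁eq⟩ := huP
  obtain ⟨u₂, hu₂, hu₂eq⟩ := huQ
  have e1 : x * u₁ * x⁻¹ = u := hu₁eq
  have e2 : y * u₂ * y⁻¹ = u := hu₂eq
  have hu₁1 : u₁ ≠ 1 := by
    rintro rfl
    apply hu1
    rw [← e1]; group
  have hz : (y⁻¹ * x) * u₁ * (y⁻¹ * x)⁻¹ ∈ uniP (F := F) := by
    have : (y⁻¹ * x) * u₁ * (y⁻¹ * x)⁻¹ = y⁻¹ * (x * u₁ * x⁻¹) * y := by group
    rw [this, e1, ← e2]
    have : y⁻¹ * (y * u₂ * y⁻¹) * y = u₂ := by group
    rw [this]; exact hu₂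
  have hzB := mem_borelP_of_conj_mem_uniP _ u₁ hu₁ hu₁1 hz
  rw [← normalizer_uniP] at hzB
  -- `x U x⁻¹ = y U y⁻¹`
  rw [hP, hQ]
  ext w
  constructor
  · rintro ⟨v, hv, rfl⟩
    refine ⟨(y⁻¹ * x) * v * (y⁻¹ * x)⁻¹, ?_, ?_⟩
    · exact ((Subgroup.mem_normalizer_iff.1 hzB) v).1 hv
    · show y * ((y⁻¹ * x) * v * (y⁻¹ * x)⁻¹) * y⁻¹ = x * v * x⁻¹
      group
  · rintro ⟨v, hv, rfl⟩
    refine ⟨(y⁻¹ * x)⁻¹ * v * (y⁻¹ * x), ?_, ?_⟩
    · have := ((Subgroup.mem_normalizer_iff.1 (Subgroup.inv_mem _ hzB)) v).1 hv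
      rwa [inv_inv] at this
    · show x * ((y⁻¹ * x)⁻¹ * v * (y⁻¹ * x)) * x⁻¹ = y * v * y⁻¹
      group

/-- Sylow `p`-subgroups of `PSL₂(F)` are commutative -/
theorem sylow_comm (P : Sylow p PSL2F) (a b : PSL2F) (ha : a ∈ (P : Subgroup PSL2F))
    (hb : b ∈ (P : Subgroup PSL2F)) : a * b = b * a := by
  obtain ⟨x, hP, -⟩ := exists_conj_sylowP p P
  rw [hP] at ha hb
  obtain ⟨a', ha', rfl⟩ := ha
  obtain ⟨b', hb', rfl⟩ := hb
  show x * a' * x⁻¹ * (x * b' * x⁻¹) = x * b' * x⁻¹ * (x * a' * x⁻¹)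
  have := uniP_comm a' b' ha' hb'
  calc x * a' * x⁻¹ * (x * b' * x⁻¹) = x * (a' * b') * x⁻¹ := by group
    _ = x * (b' * a') * x⁻¹ := by rw [this]
    _ = x * b' * x⁻¹ * (x * a' * x⁻¹) := by group

/-- the normalizer of a nontrivial subgroup of a Sylow `p`-subgroup normalizes the Sylow
subgroup -/
theorem normalizer_le_normalizer_sylow (P : Sylow p PSL2F) (U : Subgroup PSL2F)
    (hU : U ≤ (P : Subgroup PSL2F)) (hU1 : U ≠ ⊥) :
    Subgroup.normalizer (U : Set PSL2F) ≤ Subgroup.normalizer ((P : Subgroup PSL2F) : Set PSL2F) := by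
  intro n hn
  obtain ⟨u, hu1⟩ := (Subgroup.ne_bot_iff_exists_ne_one).1 hU1
  have hu1' : (u : PSL2F) ≠ 1 := fun h => hu1 (Subtype.ext h)
  have hnu : n * u * n⁻¹ ∈ U := ((Subgroup.mem_normalizer_iff.1 hn) u).1 u.2
  -- the conjugate Sylow subgroup
  have hnP : n * u * n⁻¹ ∈ ((n • P : Sylow p PSL2F) : Subgroup PSL2F) := by
    rw [Sylow.coe_subgroup_smul]
    exact ⟨u, hU u.2, rfl⟩
  have hne : n * (u : PSL2F) * n⁻¹ ≠ 1 := by
    intro h
    apply hu1'
    have : (u : PSL2F) = n⁻¹ * (n * u * n⁻¹) * n := by group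
    rw [this, h]; group
  have heq := sylow_eq_of_common_element p (n • P) P _ hne hnP (hU hnu)
  have hsm : n • P = P := Sylow.ext heq
  exact Sylow.smul_eq_iff_mem_normalizer.1 hsm

include p in
/-- a nontrivial cyclic subgroup is not self-normalizing -/
theorem normalizer_ne_self_of_isCyclic (hodd : Odd (Fintype.card F)) (h5 : 5 ≤ Fintype.card F)
    (X : Subgroup PSL2F) (hX1 : X ≠ ⊥) (hc : IsCyclic X) :
    Subgroup.normalizer (X : Set PSL2F) ≠ X := by
  classical
  intro hN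
  have hpp : p.Prime := Fact.out
  obtain ⟨x, hx⟩ := IsCyclic.exists_generator (α := ↥X)
  have hord : orderOf x = Nat.card X := orderOf_eq_card_of_forall_mem_zpowers hx
  have hord' : orderOf (x : PSL2F) = Nat.card X := by rw [Subgroup.orderOf_coe, hord]
  have hXz : X = Subgroup.zpowers (x : PSL2F) := by
    apply le_antisymm
    · intro m hm
      obtain ⟨i, hi⟩ := Subgroup.mem_zpowers_iff.1 (hx ⟨m, hm⟩)
      rw [Subgroup.mem_zpowers_iff]
      refine ⟨i, ?_⟩
      have := congrArg Subtype.val hi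
      simpa using this
    · exact Subgroup.zpowers_le.2 x.2
  have hn2 : 2 ≤ Nat.card X := by
    have : 0 < Nat.card X := Nat.card_pos
    have h1 : Nat.card X ≠ 1 := by
      intro h
      exact hX1 (Subgroup.card_eq_one.1 h)
    omega
  have h := Cfsg.Agent.Helper41.psl2_orderOf_dvd p (x : PSL2F)
  rw [gcd_two_pred_of_odd hodd, hord'] at h
  rcases h with h | h
  · -- a `p`-group
    have hcard : Nat.card X = p := by
      rcases (Nat.dvd_prime hpp).1 h with h1 | h1
      · omega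
      · exact h1
    have hpg : IsPGroup p X := IsPGroup.of_card (n := 1) (by rw [hcard, pow_one])
    obtain ⟨P, hP⟩ := hpg.exists_le_sylow
    have hPX : (P : Subgroup PSL2F) ≤ X := by
      rw [← hN]
      intro y hy
      apply mem_normalizer_of_conj
      · intro z hz
        have := sylow_comm p P y z hy (hP hz)
        have e : y * z * y⁻¹ = z := by rw [this]; group
        rw [e]; exact hz
      · intro z hz
        have := sylow_comm p P y z hy (hP hz)
        have e : y⁻¹ * z * y = z := by rw [mul_assoc, ← this]; group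
        rw [e]; exact hz
    have hPeq : (P : Subgroup PSL2F) = X := le_antisymm hPX hP
    have hidx := index_normalizer_sylowP p P
    rw [hPeq, hN] at hidx
    have h1 := X.index_mul_card
    rw [hidx, hcard] at h1
    have hG := two_mul_card_PSL2 (F := F) hodd
    rw [← h1] at hG
    -- `2 (q+1) p = q (q² - 1)` with `p ≤ q`
    have hpq : p ≤ Fintype.card F := Nat.le_of_dvd Fintype.card_pos (char_dvd_card p)
    have e1 : Fintype.card F ^ 2 - 1 = (Fintype.card F - 1) * (Fintype.card F + 1) :=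
      Cfsg.Agent.Helper46.Dk.sq_sub_one_eq _ (by omega)
    rw [e1] at hG
    have e2 : 2 * ((Fintype.card F + 1) * p) = (2 * p) * (Fintype.card F + 1) := by ring
    have e3 : Fintype.card F * ((Fintype.card F - 1) * (Fintype.card F + 1)) =
        (Fintype.card F * (Fintype.card F - 1)) * (Fintype.card F + 1) := by ring
    rw [e2, e3] at hG
    have e4 := Nat.eq_of_mul_eq_mul_right (by omega : 0 < Fintype.card F + 1) hG
    have e5 : 2 * Fintype.card F < Fintype.card F * (Fintype.card F - 1) := by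
      rw [mul_comm 2]
      exact Nat.mul_lt_mul_of_pos_left (by omega) (by omega)
    have e6 : 2 * p ≤ 2 * Fintype.card F := by omega
    omega
  · have hcop : Nat.Coprime (Nat.card X) p :=
      coprime_of_dvd_half p hpp (char_dvd_card p) hodd h
    obtain ⟨w, hw2, hrel, hw⟩ := exists_inverting_involution p (x : PSL2F) hord' hn2 hcop
    have hwN := mem_normalizer_zpowers_of_invert hw2 hrel
    rw [← hXz] at hwN hw
    rw [hN] at hwN
    exact hw hwN

include p in
/-- the normalizer of a cyclic subgroup of order `m ≥ 3` prime to `p`: if it has order `2m` then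
`2m = q ∓ 1` -/
theorem card_of_normalizer_zpowers (hodd : Odd (Fintype.card F))
    (s₀ : PSL2F) (m : ℕ) (hm : orderOf s₀ = m) (hm3 : 3 ≤ m) (hpm : ¬ p ∣ m)
    (hN : Nat.card (Subgroup.normalizer ((Subgroup.zpowers s₀ : Subgroup PSL2F) : Set PSL2F)) =
      2 * m) :
    2 * m = Fintype.card F - 1 ∨ 2 * m = Fintype.card F + 1 := by
  classical
  have hpp : p.Prime := Fact.out
  set S := Subgroup.zpowers s₀ with hS
  set N := Subgroup.normalizer (S : Set PSL2F) with hNdef
  have hcardS : Nat.card S = m := by rw [hS, Nat.card_zpowers, hm]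
  obtain ⟨A, hA⟩ := QuotientGroup.mk'_surjective (Subgroup.center SL2F) s₀
  have hcop : Nat.Coprime m p := by
    rw [Nat.coprime_comm, hpp.coprime_iff_not_dvd]; exact hpm
  have ht := tr_sq_ne_four_of_orderOf p A (by rw [hA]; exact hm) (by omega) hcop
  set T := (Subgroup.centralizer ({A} : Set SL2F)).map
    (QuotientGroup.mk' (Subgroup.center SL2F)) with hT
  have hTN : T ≤ N := by
    rintro _ ⟨g, hg, rfl⟩
    apply mem_normalizer_zpowers_of_commute
    rw [← hA, ← map_mul, ← map_mul]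
    congr 1
    exact Subgroup.mem_centralizer_singleton_iff.1 hg
  have hST : S ≤ T := by
    rw [hS, Subgroup.zpowers_le, ← hA]
    exact ⟨A, Subgroup.mem_centralizer_singleton_iff.2 rfl, rfl⟩
  have hd1 : m ∣ Nat.card T := by
    rw [← hcardS]; exact Subgroup.card_dvd_of_le hST
  have hd2 : Nat.card T ∣ 2 * m := by
    rw [← hN]; exact Subgroup.card_dvd_of_le hTN
  have hTm : Nat.card T = m := by
    obtain ⟨a, ha⟩ := hd1
    rw [ha, mul_comm m a] at hd2
    have ha2 : a ∣ 2 := (Nat.mul_dvd_mul_iff_right (by omega)).1 hd2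
    rcases (Nat.dvd_prime Nat.prime_two).1 ha2 with h | h
    · rw [ha, h, mul_one]
    · exfalso
      have hTN' : T = N := Subgroup.eq_of_le_of_card_ge hTN (by rw [hN, ha, h, mul_comm])
      have hns := Cfsg.Agent.Helper41.not_scalar_of_trace_sq_ne_four (A : Matrix (Fin 2) (Fin 2) F)
        A.det_coe (by
          have htr : Matrix.trace (A : Matrix (Fin 2) (Fin 2) F) = tr A := by
            rw [Matrix.trace_fin_two]; rfl
          rw [htr]; exact ht)
      have hcomm : ∀ x ∈ T, ∀ y ∈ T, x * y = y * x := by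
        rintro _ ⟨g, hg, rfl⟩ _ ⟨h', hh', rfl⟩
        rw [← map_mul, ← map_mul, Cfsg.Agent.Helper41.sl2_centralizer_comm A g h' hns hg hh']
      obtain ⟨w, hw2, hrel, hw⟩ := exists_inverting_involution p s₀ hm (by omega) hcop
      have hwN : w ∈ N := mem_normalizer_zpowers_of_invert hw2 hrel
      rw [← hTN'] at hwN
      have hsT : s₀ ∈ T := hST (Subgroup.mem_zpowers s₀)
      have hc := hcomm w hwN s₀ hsT
      have e : s₀ = s₀⁻¹ := by
        rw [← hrel, hc]; group
      have hsq : s₀ ^ 2 = 1 := by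
        rw [pow_two]
        calc s₀ * s₀ = s₀ * s₀⁻¹ := by rw [← e]
          _ = 1 := mul_inv_cancel s₀
      have := orderOf_dvd_of_pow_eq_one hsq
      rw [hm] at this
      have := Nat.le_of_dvd (by norm_num) this
      omega
  rcases two_mul_card_torus hodd A ht with h | h
  · left; rw [← h, ← hT, hTm]
  · right; rw [← h, ← hT, hTm]

end Cfsg.Agent.Helper46.Pg
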