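import Mathlib
import Cfsg.Agent.Helper46.PgB
import Cfsg.Agent.Helper46.PgC
import Cfsg.Agent.Helper5.SLn
import Cfsg.Agent.Helper46.MxKleinPSL

set_option autoImplicit false

namespace Cfsg.Agent.Helper46.Pg

open Matrix Cfsg.Agent.Helper46 Cfsg.Agent.Helper46.Dk Cfsg.Agent.Helper46.Mx Cfsg.Agent.Helper41

section NoIndexTwo

theorem no_index_two_of_equiv {H H' : Type*} [Group H] [Group H'] (e : H ≃* H')
    (h : ∀ N : Subgroup H', N.index ≠ 2) : ∀ N : Subgroup H, N.index ≠ 2 := by
  intro N hN
  apply h (N.map e.toMonoidHom)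
  rw [← hN]
  exact Subgroup.index_map_equiv N e

theorem card_image_sq_A4 :
    (Finset.univ.image (fun x : alternatingGroup (Fin 4) => x * x)).card = 9 := by
  decide

theorem no_index_two_A4 : ∀ N : Subgroup (alternatingGroup (Fin 4)), N.index ≠ 2 := by
  classical
  intro N hN
  have h1 := N.index_mul_card
  rw [hN, Cfsg.Agent.Helper46.Dk.card_A4'] at h1
  have h2 : (Finset.univ.image (fun x : alternatingGroup (Fin 4) => x * x)) ⊆
      Finset.univ.filter (fun x => x ∈ N) := by
    intro y hy
    obtain ⟨x, -, rfl⟩ := Finset.mem_image.1 hy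
    rw [Finset.mem_filter]
    exact ⟨Finset.mem_univ _, Subgroup.mul_self_mem_of_index_two hN x⟩
  have h3 := Finset.card_le_card h2
  rw [card_image_sq_A4] at h3
  have h4 : (Finset.univ.filter (fun x => x ∈ N)).card = Nat.card N := by
    rw [Nat.card_eq_fintype_card, Fintype.card_subtype]
  omega

theorem no_index_two_A5 : ∀ N : Subgroup (alternatingGroup (Fin 5)), N.index ≠ 2 := by
  intro N hN
  haveI := Subgroup.normal_of_index_eq_two hN
  haveI := alternatingGroup.isSimpleGroup_five
  rcases Subgroup.Normal.eq_bot_or_eq_top (H := N) inferInstance with h | h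
  · rw [h, Subgroup.index_bot, Cfsg.Agent.Helper46.Dk.card_A5'] at hN
    omega
  · rw [h, Subgroup.index_top] at hN
    omega

theorem no_index_two_PSL2 {K : Type*} [Field K] (h2 : (2 : K) ≠ 0) :
    ∀ N : Subgroup (Matrix.ProjectiveSpecialLinearGroup (Fin 2) K), N.index ≠ 2 := by
  intro N hN
  have htop : N = ⊤ := by
    rw [eq_top_iff]
    intro x _
    obtain ⟨A, rfl⟩ := QuotientGroup.mk'_surjective _ x
    refine Cfsg.Agent.Helper5.transvection_induction
      (fun A => QuotientGroup.mk' (Subgroup.center (Matrix.SpecialLinearGroup (Fin 2) K)) A ∈ N)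
      ?_ ?_ A
    · intro i j hij a
      have e : Matrix.SpecialLinearGroup.transvection hij a =
          Matrix.SpecialLinearGroup.transvection hij (a / 2) *
            Matrix.SpecialLinearGroup.transvection hij (a / 2) := by
        apply Subtype.ext
        show Matrix.transvection i j a = Matrix.transvection i j (a / 2) *
          Matrix.transvection i j (a / 2)
        rw [Matrix.transvection_mul_transvection_same i j hij]
        congr 1
        field_simp
        ring
      show QuotientGroup.mk' _ (Matrix.SpecialLinearGroup.transvection hij a) ∈ N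
      rw [e, map_mul]
      exact Subgroup.mul_self_mem_of_index_two hN _
    · intro A B hA hB
      show QuotientGroup.mk' _ (A * B) ∈ N
      rw [map_mul]
      exact N.mul_mem hA hB
  rw [htop, Subgroup.index_top] at hN
  omega

end NoIndexTwo

section Small

/-- a group of order four is cyclic or a Klein four-group -/
theorem isCyclic_or_isKleinFour_of_card_four {H : Type*} [Group H] (h : Nat.card H = 4) :
    IsCyclic H ∨ IsKleinFour H := by
  classical
  haveI : Finite H := Nat.finite_of_card_ne_zero (by rw [h]; norm_num)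
  by_cases hx : ∃ x : H, orderOf x = 4
  · obtain ⟨x, hx⟩ := hx
    left
    exact isCyclic_of_orderOf_eq_card x (by rw [hx, h])
  · right
    push_neg at hx
    have hsq : ∀ x : H, x ^ 2 = 1 := by
      intro x
      have h1 : orderOf x ∣ 4 := by rw [← h]; exact orderOf_dvd_natCard x
      have h2 : orderOf x ≤ 4 := Nat.le_of_dvd (by norm_num) h1
      have h3 : 0 < orderOf x := orderOf_pos x
      have h4 : orderOf x = 1 ∨ orderOf x = 2 := by
        have := hx x
        interval_cases (orderOf x) <;> simp_all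
      rcases h4 with h4 | h4
      · rw [orderOf_eq_one_iff] at h4
        rw [h4, one_pow]
      · rw [← h4]; exact pow_orderOf_eq_one x
    refine ⟨h, ?_⟩
    have hd : Monoid.exponent H ∣ 2 := Monoid.exponent_dvd_of_forall_pow_eq_one hsq
    rcases (Nat.dvd_prime Nat.prime_two).1 hd with h1 | h1
    · exfalso
      rw [Monoid.exp_eq_one_iff] at h1
      have := Nat.card_eq_one_iff_unique.2 ⟨h1, ⟨1⟩⟩
      omega
    · exact h1

/-- a `p`-element normalizing a Sylow `p`-subgroup lies in it -/
theorem mem_sylow_of_pow_eq_one {G : Type*} [Group G] (p : ℕ) [Fact p.Prime] (P : Sylow p G)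
    (y : G) (hy : y ∈ Subgroup.normalizer ((P : Subgroup G) : Set G)) (k : ℕ)
    (hk : y ^ (p ^ k) = 1) : y ∈ (P : Subgroup G) := by
  have hR : IsPGroup p (Subgroup.zpowers y) := by
    rintro ⟨g, hg⟩
    obtain ⟨j, rfl⟩ := Subgroup.mem_zpowers_iff.1 hg
    refine ⟨k, ?_⟩
    apply Subtype.ext
    show (y ^ j) ^ (p ^ k) = 1
    rw [← zpow_natCast, ← _root_.zpow_mul, mul_comm, _root_.zpow_mul, zpow_natCast, hk, _root_.one_zpow]
  have h1 : Subgroup.zpowers y ⊓ Subgroup.normalizer ((P : Subgroup G) : Set G) =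
      Subgroup.zpowers y ⊓ (P : Subgroup G) := hR.inf_normalizer_sylow P
  have h2 : Subgroup.zpowers y ≤ Subgroup.normalizer ((P : Subgroup G) : Set G) :=
    Subgroup.zpowers_le.2 hy
  rw [inf_eq_left.2 h2] at h1
  have : Subgroup.zpowers y ≤ (P : Subgroup G) := by
    rw [h1]; exact inf_le_right
  exact this (Subgroup.mem_zpowers y)

/-- conjugation preserving a generator preserves the cyclic subgroup -/
theorem conj_mem_zpowers {G : Type*} [Group G] {g d : G}
    (h : g * d * g⁻¹ ∈ Subgroup.zpowers d) :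
    ∀ y ∈ Subgroup.zpowers d, g * y * g⁻¹ ∈ Subgroup.zpowers d := by
  intro y hy
  obtain ⟨j, rfl⟩ := Subgroup.mem_zpowers_iff.1 hy
  have : g * d ^ j * g⁻¹ = (g * d * g⁻¹) ^ j := by
    rw [conj_zpow]
  rw [this]
  exact Subgroup.zpow_mem _ h j

end Small

section Native

variable {F : Type*} [Field F] [Fintype F]

local notation "SL2F" => Matrix.SpecialLinearGroup (Fin 2) F
local notation "PSL2F" => Matrix.ProjectiveSpecialLinearGroup (Fin 2) F
local notation "PGL2F" => Matrix.ProjGenLinGroup (Fin 2) F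
local notation "τ" => (Matrix.ProjectiveSpecialLinearGroup.toPGL (n := Fin 2) (R := F))

omit [Fintype F] in
theorem map_comap_tau (M : Subgroup PGL2F) : (M.comap τ).map τ = M ⊓ Lsub F := by
  rw [Subgroup.map_comap_eq, Lsub_eq_range, inf_comm]

omit [Fintype F] in
theorem comap_tau_bot : (⊥ : Subgroup PGL2F).comap τ = ⊥ := by
  rw [MonoidHom.comap_bot]
  exact (MonoidHom.ker_eq_bot_iff _).2 Matrix.ProjectiveSpecialLinearGroup.toPGL_injective

theorem lsub_normal (hodd : Odd (Fintype.card F)) : (Lsub F).Normal :=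
  Subgroup.normal_of_index_eq_two (index_Lsub hodd)

theorem card_PGL2F_ge (h5 : 5 ≤ Fintype.card F) : 120 ≤ Nat.card PGL2F := by
  rw [card_PGL2F]
  have h1 : 25 ≤ Fintype.card F ^ 2 := by
    calc 25 = 5 ^ 2 := by norm_num
      _ ≤ Fintype.card F ^ 2 := Nat.pow_le_pow_left h5 2
  calc 120 = 5 * 24 := by norm_num
    _ ≤ Fintype.card F * (Fintype.card F ^ 2 - 1) := Nat.mul_le_mul h5 (by omega)

theorem two_mul_card_comap (hodd : Odd (Fintype.card F)) (M : Subgroup PGL2F) (hM : IsCoatom M)
    (hML : ¬ Lsub F ≤ M) : 2 * Nat.card (M.comap τ) = Nat.card M := by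
  haveI := finite_PGL2F (F := F)
  rw [← two_mul_card_inf_of_coatom (Lsub F) M (index_Lsub hodd) hM hML, ← map_comap_tau,
    Subgroup.card_map_of_injective Matrix.ProjectiveSpecialLinearGroup.toPGL_injective]

/-- the normalizer in `PSL₂(F)` of the preimage of a subgroup normalized by `M` -/
theorem normalizer_comap_eq (h5 : 5 ≤ Fintype.card F) (M : Subgroup PGL2F) (hM : IsCoatom M)
    (S : Subgroup PGL2F) (hSL : S ≤ Lsub F) (hS1 : S ≠ ⊥) (hS2 : S ≠ Lsub F)
    (hMS : M ≤ Subgroup.normalizer (S : Set PGL2F)) :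
    Subgroup.normalizer ((S.comap τ : Subgroup PSL2F) : Set PSL2F) = M.comap τ := by
  rw [← Subgroup.comap_normalizer_eq_of_le_range (by rw [← Lsub_eq_range]; exact hSL),
    normalizer_eq_of_le_Lsub h5 M hM S hSL hS1 hS2 hMS]

/-- `M ∩ L` is self-normalizing in `L` -/
theorem normalizer_comap_self (hodd : Odd (Fintype.card F)) (h5 : 5 ≤ Fintype.card F)
    (M : Subgroup PGL2F) (hM : IsCoatom M) (hML : ¬ Lsub F ≤ M) (hX1 : M.comap τ ≠ ⊥) :
    Subgroup.normalizer ((M.comap τ : Subgroup PSL2F) : Set PSL2F) = M.comap τ := by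
  haveI hLn := lsub_normal (F := F) hodd
  have e : (M ⊓ Lsub F).comap τ = M.comap τ := by
    rw [← map_comap_tau,
      Subgroup.comap_map_eq_self_of_injective Matrix.ProjectiveSpecialLinearGroup.toPGL_injective]
  have h := normalizer_comap_eq h5 M hM (M ⊓ Lsub F) inf_le_right ?_ ?_ ?_
  · rwa [e] at h
  · intro h0
    apply hX1
    rw [← e, h0, comap_tau_bot]
  · intro h
    apply hML
    rw [← h]; exact inf_le_left
  · intro m hm
    apply mem_normalizer_of_conj
    · intro y hy
      exact ⟨M.mul_mem (M.mul_mem hm hy.1) (M.inv_mem hm), hLn.conj_mem y hy.2 m⟩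
    · intro y hy
      refine ⟨M.mul_mem (M.mul_mem (M.inv_mem hm) hy.1) hm, ?_⟩
      have := hLn.conj_mem y hy.2 m⁻¹
      rwa [inv_inv] at this

variable (p : ℕ) [Fact p.Prime] [CharP F p]

include p in
theorem not_isCyclic_comap (hodd : Odd (Fintype.card F)) (h5 : 5 ≤ Fintype.card F)
    (M : Subgroup PGL2F) (hM : IsCoatom M) (hML : ¬ Lsub F ≤ M) (hc : IsCyclic (M.comap τ)) :
    False := by
  haveI := finite_PGL2F (F := F)
  by_cases hX1 : M.comap τ = ⊥
  · have h1 := two_mul_card_comap hodd M hM hML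
    rw [hX1, Subgroup.card_bot] at h1
    have h120 := card_PGL2F_ge (F := F) h5
    exact not_coatom_of_small_two_group M hM 1 (by norm_num) (by rw [← h1]; norm_num)
      (eight_dvd_card_PGL2F hodd) (by omega)
  · exact normalizer_ne_self_of_isCyclic p hodd h5 _ hX1 hc
      (normalizer_comap_self hodd h5 M hM hML hX1)

theorem not_isKleinFour_comap (hodd : Odd (Fintype.card F)) (h5 : 5 ≤ Fintype.card F)
    (M : Subgroup PGL2F) (hM : IsCoatom M) (hML : ¬ Lsub F ≤ M)
    (hV : IsKleinFour (M.comap τ)) : False := by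
  have h4 := hV.card_four
  have hX1 : M.comap τ ≠ ⊥ := by
    intro h
    rw [h, Subgroup.card_bot] at h4
    omega
  have hN := normalizer_comap_self hodd h5 M hM hML hX1
  rcases card_normalizer_klein hodd _ hV with ⟨-, h24⟩ | ⟨-, h12⟩
  · rw [hN, h4] at h24; omega
  · rw [hN, h4] at h12; omega

include p in
/-- the dihedral case -/
theorem dihedral_concl (hodd : Odd (Fintype.card F)) (h5 : 5 ≤ Fintype.card F)
    (M : Subgroup PGL2F) (hM : IsCoatom M) (hML : ¬ Lsub F ≤ M) (n : ℕ) (c : M)
    (hc : orderOf c = n) (hpn : ¬ p ∣ n) (e : M ≃* DihedralGroup n) :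
    ConclPG (Fintype.card F) M := by
  classical
  haveI := finite_PGL2F (F := F)
  haveI hLn := lsub_normal (F := F) hodd
  have hcardM : Nat.card M = 2 * n := by
    rw [Nat.card_congr e.toEquiv, DihedralGroup.nat_card]
  have hX := two_mul_card_comap hodd M hM hML
  have hcardX : Nat.card (M.comap τ) = n := by omega
  have hG8 := eight_dvd_card_PGL2F (F := F) hodd
  have hG120 := card_PGL2F_ge (F := F) h5
  rcases Nat.lt_or_ge n 3 with hn | hn3
  · exfalso
    interval_cases n
    · have := Nat.card_pos (α := M)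
      omega
    · exact not_coatom_of_small_two_group M hM 1 (by norm_num) (by rw [hcardM]; norm_num) hG8 (by omega)
    · exact not_coatom_of_small_two_group M hM 2 (by norm_num) (by rw [hcardM]; norm_num) hG8 (by omega)
  set c' : PGL2F := (c : PGL2F) with hc'
  have hc'ord : orderOf c' = n := by rw [hc', Subgroup.orderOf_coe, hc]
  set C := Subgroup.zpowers c' with hC
  have hCM : C ≤ M := Subgroup.zpowers_le.2 c.2
  have hcardC : Nat.card C = n := by rw [hC, Nat.card_zpowers, hc'ord]
  have hconjC : ∀ g ∈ M, g * c' * g⁻¹ ∈ C := fun g hg =>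
    conj_mem_of_card_eq_two_mul C M hCM (by rw [hcardM, hcardC]) hg (Subgroup.mem_zpowers c')
  set d : PGL2F := c' ^ 2 with hd
  have hdL : d ∈ Lsub F := Subgroup.sq_mem_of_index_two (index_Lsub hodd) c'
  have hdM : d ∈ M := M.pow_mem c.2 2
  have hd1 : d ≠ 1 := by
    intro h
    have := orderOf_dvd_of_pow_eq_one h
    rw [hc'ord] at this
    have := Nat.le_of_dvd (by norm_num) this
    omega
  set S := Subgroup.zpowers d with hS
  have hSL : S ≤ Lsub F := Subgroup.zpowers_le.2 hdL
  have hSM : S ≤ M := Subgroup.zpowers_le.2 hdM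
  have hS1 : S ≠ ⊥ := by
    intro h
    apply hd1
    have : d ∈ S := Subgroup.mem_zpowers d
    rw [h] at this
    exact Subgroup.mem_bot.1 this
  have hS2 : S ≠ Lsub F := by
    intro h
    apply hML
    rw [← h]; exact hSM
  have hconjd : ∀ g ∈ M, g * d * g⁻¹ ∈ S := by
    intro g hg
    obtain ⟨i, hi⟩ := Subgroup.mem_zpowers_iff.1 (hconjC g hg)
    have : g * d * g⁻¹ = d ^ i := by
      rw [hd, ← conj_pow, ← hi]
      rw [← zpow_natCast (c' ^ i) 2, ← zpow_natCast c' 2, ← _root_.zpow_mul, ← _root_.zpow_mul,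
        mul_comm]
    rw [this]
    exact Subgroup.zpow_mem _ (Subgroup.mem_zpowers d) i
  have hMS : M ≤ Subgroup.normalizer (S : Set PGL2F) := by
    intro g hg
    apply mem_normalizer_of_conj
    · exact conj_mem_zpowers (hconjd g hg)
    · intro y hy
      have := conj_mem_zpowers (hconjd g⁻¹ (M.inv_mem hg)) y hy
      rwa [inv_inv] at this
  have hN := normalizer_comap_eq h5 M hM S hSL hS1 hS2 hMS
  obtain ⟨s₀, hs₀⟩ : ∃ s₀ : PSL2F, τ s₀ = d := by
    rw [Lsub_eq_range] at hdL
    exact hdL
  have hScomap : S.comap τ = Subgroup.zpowers s₀ := by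
    rw [hS, ← hs₀, ← MonoidHom.map_zpowers,
      Subgroup.comap_map_eq_self_of_injective Matrix.ProjectiveSpecialLinearGroup.toPGL_injective]
  rw [hScomap] at hN
  have hs₀ord : orderOf s₀ = orderOf d := by
    rw [← hs₀, orderOf_injective τ Matrix.ProjectiveSpecialLinearGroup.toPGL_injective]
  have hdord : orderOf d = n / Nat.gcd n 2 := by rw [hd, orderOf_pow, hc'ord]
  rcases Nat.even_or_odd n with hev | hod
  · obtain ⟨m, hm⟩ := hev
    have hg : Nat.gcd n 2 = 2 := by
      apply Nat.gcd_eq_right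
      exact ⟨m, by omega⟩
    have hs₀m : orderOf s₀ = m := by
      rw [hs₀ord, hdord, hg, hm]
      omega
    have hNcard : Nat.card (Subgroup.normalizer
        ((Subgroup.zpowers s₀ : Subgroup PSL2F) : Set PSL2F)) = 2 * m := by
      rw [hN, hcardX, hm]; ring
    rcases Nat.lt_or_ge m 3 with hm3 | hm3
    · exfalso
      have h4 : Nat.card (M.comap τ) = 4 := by omega
      rcases isCyclic_or_isKleinFour_of_card_four h4 with h | h
      · exact not_isCyclic_comap p hodd h5 M hM hML h
      · exact not_isKleinFour_comap hodd h5 M hM hML h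
    · have hpm : ¬ p ∣ m := fun h => hpn (by rw [hm]; exact dvd_add h h)
      rcases card_of_normalizer_zpowers p hodd s₀ m hs₀m hm3 hpm hNcard with h | h
      · right; left
        refine ⟨by omega, ?_⟩
        have : n = Fintype.card F - 1 := by omega
        rw [← this]; exact ⟨e⟩
      · right; right; left
        have : n = Fintype.card F + 1 := by omega
        rw [← this]; exact ⟨e⟩
  · exfalso
    have hg : Nat.gcd n 2 = 1 := by
      exact Nat.coprime_two_right.2 hod
    have hs₀n : orderOf s₀ = n := by rw [hs₀ord, hdord, hg, Nat.div_one]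
    have hle : Subgroup.zpowers s₀ ≤ M.comap τ := by
      rw [← hN]; exact Subgroup.le_normalizer
    have heq : Subgroup.zpowers s₀ = M.comap τ :=
      Subgroup.eq_of_le_of_card_ge hle (by rw [hcardX, Nat.card_zpowers, hs₀n])
    apply not_isCyclic_comap p hodd h5 M hM hML
    rw [← heq]
    infer_instance

include p in
/-- the Borel case -/
theorem borel_concl (hodd : Odd (Fintype.card F)) (h5 : 5 ≤ Fintype.card F)
    (M : Subgroup PGL2F) (hM : IsCoatom M) (hML : ¬ Lsub F ≤ M) (U : Subgroup PGL2F)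
    (hUM : U ≤ M) (hU1 : U ≠ ⊥) (hUp : IsPGroup p U)
    (hMU : M ≤ Subgroup.normalizer (U : Set PGL2F)) :
    Nat.card M = Fintype.card F * (Fintype.card F - 1) := by
  classical
  haveI := finite_PGL2F (F := F)
  haveI hLn := lsub_normal (F := F) hodd
  have hpp : p.Prime := Fact.out
  have h2 := two_ne_zero_of_odd hodd
  have hp2 : p ≠ 2 := by
    intro hp2
    apply h2
    have := CharP.cast_eq_zero F p
    rw [hp2] at this
    exact_mod_cast this
  have hinj := Matrix.ProjectiveSpecialLinearGroup.toPGL_injective (n := Fin 2) (R := F)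
  have hUL : U ≤ Lsub F := by
    apply le_of_odd_card _ _ (index_Lsub hodd)
    obtain ⟨k, hk⟩ := hUp.exists_card_eq
    rw [hk]
    exact (hpp.odd_of_ne_two hp2).pow
  have hU2 : U ≠ Lsub F := by
    intro h
    apply hML
    rw [← h]; exact hUM
  have hN := normalizer_comap_eq h5 M hM U hUL hU1 hU2 hMU
  set U' := U.comap τ with hU'
  have hU'p : IsPGroup p U' := hUp.comap_of_injective τ hinj
  have hU'map : U'.map τ = U := by
    rw [hU', map_comap_tau, inf_eq_left.2 hUL]
  have hU'1 : U' ≠ ⊥ := by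
    intro h
    apply hU1
    rw [← hU'map, h, Subgroup.map_bot]
  obtain ⟨P, hP⟩ := hU'p.exists_le_sylow
  have hXNP : M.comap τ ≤ Subgroup.normalizer ((P : Subgroup PSL2F) : Set PSL2F) := by
    rw [← hN]
    exact normalizer_le_normalizer_sylow p P U' hP hU'1
  have hPX : (P : Subgroup PSL2F) ≤ M.comap τ := by
    rw [← hN]
    intro y hy
    apply mem_normalizer_of_conj
    · intro z hz
      have := sylow_comm p P y z hy (hP hz)
      have e : y * z * y⁻¹ = z := by rw [this]; group
      rw [e]; exact hz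
    · intro z hz
      have := sylow_comm p P y z hy (hP hz)
      have e : y⁻¹ * z * y = z := by rw [mul_assoc, ← this]; group
      rw [e]; exact hz
  have hconj : ∀ m ∈ M, ∀ z ∈ (P : Subgroup PSL2F).map τ,
      m * z * m⁻¹ ∈ (P : Subgroup PSL2F).map τ := by
    rintro m hm _ ⟨y, hy, rfl⟩
    have h1 : m * τ y * m⁻¹ ∈ M ⊓ Lsub F :=
      ⟨M.mul_mem (M.mul_mem hm (hPX hy)) (M.inv_mem hm),
        hLn.conj_mem _ (by rw [Lsub_eq_range]; exact ⟨y, rfl⟩) m⟩
    rw [← map_comap_tau] at h1
    obtain ⟨y', hy'X, hy'⟩ := h1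
    refine ⟨y', ?_, hy'⟩
    obtain ⟨k, hk⟩ := (P.2 : IsPGroup p (P : Subgroup PSL2F)) ⟨y, hy⟩
    have hyk : y ^ (p ^ k) = 1 := congrArg Subtype.val hk
    apply mem_sylow_of_pow_eq_one p P y' (hXNP hy'X) k
    apply hinj
    rw [map_pow, hy', conj_pow, ← map_pow, hyk, map_one]
    simp
  have hMP : M ≤ Subgroup.normalizer (((P : Subgroup PSL2F).map τ : Subgroup PGL2F) : Set PGL2F) := by
    intro m hm
    apply mem_normalizer_of_conj
    · exact hconj m hm
    · intro z hz
      have := hconj m⁻¹ (M.inv_mem hm) z hz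
      rwa [inv_inv] at this
  have hPne : (P : Subgroup PSL2F).map τ ≠ ⊥ := by
    intro h
    apply hU1
    rw [← hU'map, eq_bot_iff, ← h]
    exact Subgroup.map_mono hP
  have hPL : (P : Subgroup PSL2F).map τ ≤ Lsub F := by
    rw [Lsub_eq_range]; exact Subgroup.map_le_range _ _
  have hP2 : (P : Subgroup PSL2F).map τ ≠ Lsub F := by
    intro h
    apply hML
    rw [← h]
    rintro _ ⟨y, hy, rfl⟩
    exact hPX hy
  have hN2 := normalizer_comap_eq h5 M hM _ hPL hPne hP2 hMP
  rw [Subgroup.comap_map_eq_self_of_injective hinj] at hN2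
  have h1 := two_mul_card_normalizer_sylow p hodd P
  rw [hN2] at h1
  have h3 := two_mul_card_comap hodd M hM hML
  omega

end Native

end Cfsg.Agent.Helper46.Pg
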