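import Mathlib
import Cfsg.Agent.Helper46.PgD
import Cfsg.Agent.Helper46.MxS4
import Cfsg.Agent.Helper46.MxSub
import Cfsg.Agent.Helper41.MaxEven

set_option autoImplicit false

namespace Cfsg.Agent.Helper46.Pg

open Matrix Cfsg.Agent.Helper46 Cfsg.Agent.Helper46.Dk Cfsg.Agent.Helper46.Mx Cfsg.Agent.Helper41
  Cfsg.Agent.Helper41.DkR

section Dickson

variable {E : Type*} [Field E] [Fintype E]

local notation "SL2E" => Matrix.SpecialLinearGroup (Fin 2) E
local notation "PSL2E" => Matrix.ProjectiveSpecialLinearGroup (Fin 2) E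

/-- Dickson's list for a subgroup of `PSL₂(E)`, in terms of the subgroup -/
theorem dickson_sub (p : ℕ) [Fact p.Prime] [CharP E p] (H : Subgroup PSL2E) :
    IsCyclic H ∨
    (∃ (n : ℕ) (c : H), orderOf c = n ∧ ¬ p ∣ n ∧ Nonempty (H ≃* DihedralGroup n)) ∨
    (BorelType p H ∧ p ∣ Nat.card H) ∨
    Nonempty (H ≃* alternatingGroup (Fin 4)) ∨
    Nonempty (H ≃* Equiv.Perm (Fin 4)) ∨
    Nonempty (H ≃* alternatingGroup (Fin 5)) ∨
    SubfieldFrame (liftRep H) := by
  classical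
  haveI : CharP (AlgebraicClosure E) p :=
    charP_of_injective_algebraMap (algebraMap E (AlgebraicClosure E)).injective p
  haveI : Finite ↥(liftSL H) := inferInstance
  obtain ⟨e⟩ := nonempty_equiv_quotient H
  rcases dickson_refined (ρ := liftRep H) p (liftRep_injective H) with h1 | ⟨n, a, ha, hnp, ⟨e1⟩⟩ |
    ⟨x₀, hx₀, htop⟩ | ⟨-, ⟨e1⟩⟩ | ⟨-, ⟨e1⟩⟩ | ⟨-, ⟨e1⟩⟩ | h
  · left
    exact e.isCyclic.1 h1
  · right; left
    exact ⟨n, e a, by rw [MulEquiv.orderOf_eq, ha], hnp, ⟨e.symm.trans e1⟩⟩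
  · right; right; left
    refine ⟨borelType_of_uni p H x₀ hx₀ htop, ?_⟩
    have hpp : p.Prime := Fact.out
    set π := QuotientGroup.mk' (Subgroup.center SL2E) with hπ
    have hxH : π x₀.1 ∈ H := x₀.2
    have hne : π x₀.1 ≠ 1 := by
      intro h
      apply hx₀.1
      rw [mem_Zr_liftRep]
      exact (QuotientGroup.eq_one_iff _).1 h
    have htr : (tr x₀.1) ^ 2 = 4 := by
      have h1 := hx₀.2
      rw [tr_liftRep] at h1
      apply (algebraMap E (AlgebraicClosure E)).injective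
      rw [map_pow, h1, map_ofNat]
    have hord2 : 2 ≤ orderOf (π x₀.1) := by
      have h0 : 0 < orderOf (π x₀.1) := orderOf_pos _
      have h1 : orderOf (π x₀.1) ≠ 1 := fun h => hne (orderOf_eq_one_iff.1 h)
      omega
    have hncop : ¬ Nat.Coprime (orderOf (π x₀.1)) p := by
      intro hcop
      exact tr_sq_ne_four_of_orderOf p x₀.1 rfl hord2 hcop htr
    have hdvd : p ∣ orderOf (π x₀.1) := by
      by_contra hnd
      exact hncop ((Nat.Prime.coprime_iff_not_dvd hpp).2 hnd).symm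
    have h2 : orderOf (π x₀.1) ∣ Nat.card H := by
      have := orderOf_dvd_natCard (⟨π x₀.1, hxH⟩ : H)
      rwa [← Subgroup.orderOf_coe] at this
    exact hdvd.trans h2
  · right; right; right; left
    exact ⟨e.symm.trans e1⟩
  · right; right; right; right; left
    exact ⟨e.symm.trans e1⟩
  · right; right; right; right; right; left
    exact ⟨e.symm.trans e1⟩
  · right; right; right; right; right; right
    exact h

/-- a nontrivial normal `p`-subgroup from the Borel case -/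
theorem exists_normal_pgroup_of_borel {G : Type*} [Group G] [Finite G] (p : ℕ) [Fact p.Prime]
    (ψ : G →* PSL2E) (hψ : Function.Injective ψ) (M : Subgroup G)
    (hB : BorelType p (M.map ψ)) (hp : p ∣ Nat.card M) :
    ∃ U : Subgroup G, U ≤ M ∧ U ≠ ⊥ ∧ IsPGroup p U ∧
      M ≤ Subgroup.normalizer (U : Set G) := by
  classical
  have hpp : p.Prime := Fact.out
  obtain ⟨P, g, hle⟩ := hB
  set Ψ : G →* PSL2E := (MulAut.conj g).toMonoidHom.comp ψ with hΨ
  have hΨinj : Function.Injective Ψ := (MulAut.conj g).injective.comp hψ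
  have hN : ∀ m ∈ M, Ψ m ∈ Subgroup.normalizer ((P : Subgroup PSL2E) : Set PSL2E) := by
    intro m hm
    apply hle
    exact ⟨ψ m, ⟨m, hm, rfl⟩, rfl⟩
  refine ⟨(P : Subgroup PSL2E).comap Ψ ⊓ M, inf_le_right, ?_, ?_, ?_⟩
  · obtain ⟨y, hy⟩ := exists_prime_orderOf_dvd_card' (G := M) p hp
    intro hbot
    have hyP : Ψ (y : G) ∈ (P : Subgroup PSL2E) := by
      apply mem_sylow_of_pow_eq_one p P _ (hN _ y.2) 1
      rw [pow_one, ← map_pow]
      have : (y : G) ^ p = 1 := by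
        have := pow_orderOf_eq_one y
        rw [hy] at this
        exact_mod_cast congrArg Subtype.val this
      rw [this, map_one]
    have hmem : (y : G) ∈ (P : Subgroup PSL2E).comap Ψ ⊓ M := ⟨hyP, y.2⟩
    rw [hbot, Subgroup.mem_bot] at hmem
    have hy1 : y = 1 := Subtype.ext hmem
    rw [hy1, orderOf_one] at hy
    exact hpp.one_lt.ne hy
  · have h1 : IsPGroup p ((P : Subgroup PSL2E).comap Ψ) := P.2.comap_of_injective Ψ hΨinj
    exact h1.to_le inf_le_left
  · intro m hm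
    have hconj : ∀ m ∈ M, ∀ u ∈ (P : Subgroup PSL2E).comap Ψ ⊓ M,
        m * u * m⁻¹ ∈ (P : Subgroup PSL2E).comap Ψ ⊓ M := by
      intro m hm u hu
      refine ⟨?_, M.mul_mem (M.mul_mem hm hu.2) (M.inv_mem hm)⟩
      show Ψ (m * u * m⁻¹) ∈ (P : Subgroup PSL2E)
      rw [map_mul, map_mul, map_inv]
      exact ((Subgroup.mem_normalizer_iff.1 (hN m hm)) (Ψ u)).1 hu.1
    apply mem_normalizer_of_conj
    · exact hconj m hm
    · intro u hu
      have := hconj m⁻¹ (M.inv_mem hm) u hu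
      rwa [inv_inv] at this

end Dickson

section Embedding

variable {F : Type*} [Field F] [Fintype F]

local notation "SL2F" => Matrix.SpecialLinearGroup (Fin 2) F
local notation "PSL2F" => Matrix.ProjectiveSpecialLinearGroup (Fin 2) F
local notation "PGL2F" => Matrix.ProjGenLinGroup (Fin 2) F

/-- `PGL₂(F)` embeds into `PSL₂(E)` for the quadratic extension `E` of `F`, compatibly with the
natural map on `PSL₂(F)` -/
theorem exists_embedding (p : ℕ) [Fact p.Prime] [CharP F p] (hodd : Odd (Fintype.card F)) :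
    ∃ (E : Type) (_ : Field E) (_ : Fintype E) (_ : CharP E p) (ι : F →+* E)
      (ψ : PGL2F →* Matrix.ProjectiveSpecialLinearGroup (Fin 2) E),
      Fintype.card E = Fintype.card F ^ 2 ∧ Function.Injective ψ ∧
      ∀ A : SL2F, ψ (Matrix.ProjGenLinGroup.mk (Matrix.SpecialLinearGroup.toGL A)) =
        pslEmbHom ι A := by
  classical
  obtain ⟨f, hpp, hq⟩ := FiniteField.card F p
  have hf0 : 2 * (f : ℕ) ≠ 0 := by
    have := f.pos
    omega
  letI : Fintype (GaloisField p (2 * f)) := Fintype.ofFinite _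
  have hcardE : Fintype.card (GaloisField p (2 * f)) = Fintype.card F ^ 2 := by
    rw [← Nat.card_eq_fintype_card, GaloisField.card p _ hf0, hq, ← pow_mul, mul_comm]
  have hoddE : Odd (Fintype.card (GaloisField p (2 * f))) := by
    rw [hcardE]; exact hodd.pow
  obtain ⟨ι⟩ := exists_ringHom_of_card_pow (K := F) (F := GaloisField p (2 * f)) 2 (by norm_num)
    hcardE.symm
  have hsq : ∀ x : F, IsSquare (ι x) :=
    isSquare_of_even_degree ι 2 even_two hoddE hcardE.symm
  have hf : (pglEmbHom ι hsq).comp (Matrix.GeneralLinearGroup.scalar (Fin 2)) = 1 := by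
    ext u
    rw [MonoidHom.comp_apply, MonoidHom.one_apply, ← MonoidHom.mem_ker, pglEmbHom_ker,
      Matrix.GeneralLinearGroup.center_eq_range_scalar]
    exact ⟨u, rfl⟩
  refine ⟨GaloisField p (2 * f), inferInstance, inferInstance, inferInstance, ι,
    Matrix.ProjGenLinGroup.lift (pglEmbHom ι hsq) hf, hcardE, ?_, ?_⟩
  · rw [injective_iff_map_eq_one]
    intro x hx
    induction x using Matrix.ProjGenLinGroup.induction_on with | mk g =>
    rw [Matrix.ProjGenLinGroup.lift_mk, ← MonoidHom.mem_ker, pglEmbHom_ker] at hx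
    exact Matrix.ProjGenLinGroup.mk_eq_one.2 hx
  · intro A
    rw [Matrix.ProjGenLinGroup.lift_mk]
    exact pglEmbHom_toGL ι hsq A

end Embedding

section Frame

variable {F : Type*} [Field F]

local notation "M2F" => Matrix (Fin 2) (Fin 2) F
local notation "SL2F" => Matrix.SpecialLinearGroup (Fin 2) F
local notation "PSL2F" => Matrix.ProjectiveSpecialLinearGroup (Fin 2) F
local notation "Ebar" => AlgebraicClosure F
local notation "SL2E" => Matrix.SpecialLinearGroup (Fin 2) (AlgebraicClosure F)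

/-- `exists_conj_le_stdPSL`, exposing the conjugating matrices -/
theorem exists_conj_le_stdPSL' (h2 : (2 : F) ≠ 0) (K : Subfield F) (M : Subgroup PSL2F)
    (I J : SL2F) (hII : I.1 * I.1 = -1) (hJJ : J.1 * J.1 = -1) (hJI : J.1 * I.1 = -(I.1 * J.1))
    (hI : QuotientGroup.mk' (Subgroup.center SL2F) I ∈ M)
    (hJ : QuotientGroup.mk' (Subgroup.center SL2F) J ∈ M)
    (y z : F) (hy : y ∈ K) (hz : z ∈ K) (hyz : 1 + y ^ 2 + z ^ 2 = 0)
    (htr : ∀ g : SL2F, QuotientGroup.mk' (Subgroup.center SL2F) g ∈ M → tr g ∈ K) :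
    ∃ (P Q : M2F) (hPQ : P * Q = 1) (hQP : Q * P = 1),
      M.map (conjPSL P Q hPQ hQP).toMonoidHom ≤ stdPSL K := by
  obtain ⟨P, Q, hPQ, hQP, hdesc⟩ := quat_descent h2 K I.1 J.1 hII hJJ hJI y z hy hz hyz
  refine ⟨P, Q, hPQ, hQP, ?_⟩
  rintro _ ⟨x, hx, rfl⟩
  obtain ⟨g, rfl⟩ := QuotientGroup.mk'_surjective (Subgroup.center SL2F) x
  show conjPSL P Q hPQ hQP _ ∈ _
  rw [conjPSL_mk]
  apply mem_stdPSL_of_entries
  rw [conjSL_coe]
  have htr' : ∀ h : SL2F, h.1.trace = tr h := by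
    intro h
    rw [Matrix.trace_fin_two]; rfl
  apply hdesc
  · rw [htr']; exact htr g hx
  · have : g.1 * I.1 = (g * I).1 := rfl
    rw [this, htr']
    apply htr
    rw [map_mul]; exact M.mul_mem hx hI
  · have : g.1 * J.1 = (g * J).1 := rfl
    rw [this, htr']
    apply htr
    rw [map_mul]; exact M.mul_mem hx hJ
  · have : g.1 * (I.1 * J.1) = (g * (I * J)).1 := rfl
    rw [this, htr']
    apply htr
    rw [map_mul, map_mul]; exact M.mul_mem hx (M.mul_mem hI hJ)

variable [Fintype F]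

/-- `exists_aut_le_stdPSL`, exposing the conjugating matrices -/
theorem exists_aut_le_stdPSL' (hodd : Odd (Fintype.card F)) (K : Subfield F)
    (M V : Subgroup PSL2F) (hV : IsKleinFour V) (hVM : V ≤ M)
    (htr : ∀ g : SL2F, QuotientGroup.mk' (Subgroup.center SL2F) g ∈ M → tr g ∈ K) :
    ∃ (P Q : M2F) (hPQ : P * Q = 1) (hQP : Q * P = 1),
      M.map (conjPSL P Q hPQ hQP).toMonoidHom ≤ stdPSL K := by
  classical
  have h2 := two_ne_zero_of_odd hodd
  obtain ⟨a, b, haV, hbV, ha1, hb1, hne⟩ := exists_pair_of_isKleinFour V hV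
  haveI := hV
  obtain ⟨hmem, -⟩ := closure_pair_eq_of_isKleinFour V haV hbV ha1 hb1 hne
  rw [mem_commInvPairs] at hmem
  obtain ⟨-, -, haa, hbb, -, hab⟩ := hmem
  obtain ⟨I, J, hq, hI, hJ⟩ := exists_quatPair_of_commInv hodd a b ha1 hb1 haa hbb hne hab
  obtain ⟨y, z, hy, hz, hyz⟩ := exists_sum_sq hodd K
  apply exists_conj_le_stdPSL' h2 K M I J hq.II hq.JJ hq.JI _ _ y z hy hz hyz htr
  · show (QuotientGroup.mk I : PSL2F) ∈ M
    rw [hI]; exact hVM haV
  · show (QuotientGroup.mk J : PSL2F) ∈ M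
    rw [hJ]; exact hVM hbV

/-- the subfield case of Dickson's theorem: a conjugate contains the standard `PSL₂(K)` -/
theorem frame_conj (hodd : Odd (Fintype.card F)) (M : Subgroup PSL2F)
    (hfr : SubfieldFrame (liftRep M)) :
    ∃ (K : Subfield F) (P Q : M2F) (hPQ : P * Q = 1) (hQP : Q * P = 1),
      stdPSL K ≤ M.map (conjPSL P Q hPQ hQP).toMonoidHom ∧
      ((∀ N : Subgroup M, N.index ≠ 2) ∨ Nat.card M = Nat.card K * (Nat.card K ^ 2 - 1)) := by
  classical
  have h2 := two_ne_zero_of_odd hodd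
  obtain ⟨c, Kt, hfin, hcont, -, hiso⟩ := hfr
  haveI := hfin
  letI : Fintype Kt := Fintype.ofFinite Kt
  set φ := algebraMap F Ebar with hφ
  have hφinj : Function.Injective φ := φ.injective
  have hcont' : ∀ X : SL2E, X ∈ slSub Kt → ∃ γ : ↥(liftSL M), lamHom c γ.1 = X := by
    intro X hX
    rw [mem_slSub_iff] at hX
    obtain ⟨γ, hγ⟩ := hcont X hX.1 hX.2.1 hX.2.2.1 hX.2.2.2
    exact ⟨γ, hγ⟩
  have hKle : Kt ≤ φ.fieldRange := by
    intro a ha
    obtain ⟨γ, hγ⟩ := hcont (mk4 a 1 (-1) 0 (by ring)) ha Kt.one_mem (Kt.neg_mem Kt.one_mem)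
      Kt.zero_mem
    have htr : tr (conjRep (liftRep M) c γ) = a := by
      rw [hγ]; unfold tr; simp
    rw [conjRep_apply, tr_conj, tr_liftRep] at htr
    exact ⟨_, htr⟩
  set K : Subfield F := Kt.comap φ with hK
  have hcardK : Nat.card K = Nat.card Kt := by
    let f : K → Kt := fun x => ⟨φ x.1, x.2⟩
    have hf : Function.Bijective f := by
      constructor
      · intro x y hxy
        apply Subtype.ext
        apply hφinj
        exact congrArg Subtype.val hxy
      · rintro ⟨a, ha⟩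
        obtain ⟨x, hx⟩ := hKle ha
        exact ⟨⟨x, by show φ x ∈ Kt; rw [hx]; exact ha⟩, Subtype.ext hx⟩
    exact Nat.card_congr (Equiv.ofBijective f hf)
  have hKodd : Odd (Nat.card K) := odd_card_subfield hodd K
  set N0 : Subgroup SL2F := overSL (F := F) c Kt with hN0
  have hZN0 : Subgroup.center SL2F ≤ N0 := center_le_overSL c Kt
  have hN0M : N0 ≤ liftSL M := by
    intro g hg
    obtain ⟨γ, hγ⟩ := hcont' (lamHom c g) hg
    have : γ.1 = g := lamHom_injective c hγ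
    rw [← this]; exact γ.2
  have hcardN0 : Nat.card N0 = Nat.card K * (Nat.card K ^ 2 - 1) := by
    rw [hcardK, Nat.card_eq_fintype_card (α := Kt)]
    apply card_overSL M c Kt hKle
    · exact hcont (uU 1) Kt.one_mem Kt.one_mem Kt.zero_mem Kt.one_mem
    · exact hcont (vV 1) Kt.one_mem Kt.zero_mem Kt.one_mem Kt.one_mem
    · apply hcont (uU 1 * vV 1)
      · rw [mul_00]; simp only [uU, vV, mk4_00, mk4_01, mk4_10]
        exact Kt.add_mem (Kt.mul_mem Kt.one_mem Kt.one_mem) (Kt.mul_mem Kt.one_mem Kt.one_mem)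
      · rw [mul_01]; simp only [uU, vV, mk4_00, mk4_01, mk4_11]
        exact Kt.add_mem (Kt.mul_mem Kt.one_mem Kt.zero_mem) (Kt.mul_mem Kt.one_mem Kt.one_mem)
      · rw [mul_10]; simp only [uU, vV, mk4_00, mk4_10, mk4_11]
        exact Kt.add_mem (Kt.mul_mem Kt.zero_mem Kt.one_mem) (Kt.mul_mem Kt.one_mem Kt.one_mem)
      · rw [mul_11]; simp only [uU, vV, mk4_01, mk4_10, mk4_11]
        exact Kt.add_mem (Kt.mul_mem Kt.zero_mem Kt.zero_mem) (Kt.mul_mem Kt.one_mem Kt.one_mem)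
  have htrN0 : ∀ g ∈ N0, tr g ∈ K := by
    intro g hg
    show φ (tr g) ∈ Kt
    rw [← tr_lamHom c g]
    have hg' : lamHom c g ∈ slSub Kt := hg
    rw [mem_slSub_iff] at hg'
    unfold tr
    exact Kt.add_mem hg'.1 hg'.2.2.2
  set π := QuotientGroup.mk' (Subgroup.center SL2F) with hπ
  set M0 : Subgroup PSL2F := N0.map π with hM0
  have hM0M : M0 ≤ M := by
    rintro _ ⟨g, hg, rfl⟩
    exact hN0M hg
  have hcardM0 : 2 * Nat.card M0 = Nat.card K * (Nat.card K ^ 2 - 1) := by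
    rw [← hcardN0, ← card_map_mk_mul_two h2 N0 hZN0, mul_comm]
  obtain ⟨y, z, hy, hz, hyz⟩ := exists_sum_sq hodd K
  have hyz' : φ y * (-φ y) - φ z * φ z = 1 := by
    have := congrArg φ hyz
    rw [map_add, map_add, map_pow, map_pow, map_one, map_zero] at this
    linear_combination -this
  obtain ⟨γI, hγI⟩ := hcont' (mk4 0 (-1) 1 0 (by ring)) (by
    rw [mem_slSub_iff]
    exact ⟨Kt.zero_mem, Kt.neg_mem Kt.one_mem, Kt.one_mem, Kt.zero_mem⟩)
  obtain ⟨γJ, hγJ⟩ := hcont' (mk4 (φ y) (φ z) (φ z) (-φ y) hyz') (by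
    rw [mem_slSub_iff]
    exact ⟨hy, hz, hz, Kt.neg_mem hy⟩)
  have hI0 : tr γI.1 = 0 := by
    apply hφinj
    rw [← tr_lamHom c, hγI, map_zero]
    unfold tr; simp
  have hJ0 : tr γJ.1 = 0 := by
    apply hφinj
    rw [← tr_lamHom c, hγJ, map_zero]
    unfold tr; simp
  have hIJ0 : tr (γI.1 * γJ.1) = 0 := by
    apply hφinj
    rw [← tr_lamHom c, map_mul, hγI, hγJ, map_zero]
    unfold tr
    rw [mul_00, mul_11]; simp
  obtain ⟨hII, hJJ, hJI⟩ := quat_of_traces γI.1 γJ.1 hI0 hJ0 hIJ0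
  have hIN0 : γI.1 ∈ N0 := by
    show lamHom c γI.1 ∈ slSub Kt
    rw [hγI, mem_slSub_iff]
    exact ⟨Kt.zero_mem, Kt.neg_mem Kt.one_mem, Kt.one_mem, Kt.zero_mem⟩
  have hJN0 : γJ.1 ∈ N0 := by
    show lamHom c γJ.1 ∈ slSub Kt
    rw [hγJ, mem_slSub_iff]
    exact ⟨hy, hz, hz, Kt.neg_mem hy⟩
  obtain ⟨P, Q, hPQ, hQP, hα⟩ := exists_conj_le_stdPSL' h2 K M0 γI.1 γJ.1 hII hJJ hJI
    ⟨_, hIN0, rfl⟩ ⟨_, hJN0, rfl⟩ y z hy hz hyz
    (fun g hg => htrN0 g (mem_of_mk_mem_map N0 hZN0 g hg))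
  set α := conjPSL P Q hPQ hQP with hαdef
  have hαeq : M0.map α.toMonoidHom = stdPSL K := by
    apply Subgroup.eq_of_le_of_card_ge hα
    have h1 := two_mul_card_stdPSL hodd K
    have h3 : Nat.card (M0.map α.toMonoidHom) = Nat.card M0 :=
      Subgroup.card_map_of_injective α.injective
    omega
  have hKM : stdPSL K ≤ M.map α.toMonoidHom := by
    rw [← hαeq]; exact Subgroup.map_mono hM0M
  refine ⟨K, P, Q, hPQ, hQP, hKM, ?_⟩
  obtain ⟨e0⟩ := nonempty_equiv_quotient M
  rcases hiso with he1 | he1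
  · obtain ⟨e1⟩ := he1
    left
    apply no_index_two_of_equiv (e0.symm.trans e1)
    apply no_index_two_PSL2
    intro h
    apply h2
    apply hφinj
    have := congrArg Kt.subtype h
    rw [map_ofNat, map_zero] at this
    rw [map_ofNat, map_zero]
    exact this
  · obtain ⟨e1⟩ := he1
    right
    rw [← Nat.card_congr e0.toEquiv, Nat.card_congr e1.toEquiv,
      Cfsg.Agent.Helper46.card_PGL2 (K := Kt), ← Nat.card_eq_fintype_card, ← hcardK]

end Frame

end Cfsg.Agent.Helper46.Pg
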