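import Mathlib
import Cfsg.Agent.Helper46.PgE

set_option autoImplicit false

/-!
# Dickson's list for subgroups of `PSL₂(E)` of order prime to the characteristic

A subgroup of `PSL₂(E)` (`E` a finite field of characteristic `p`) whose order is prime to `p` is
cyclic, dihedral, or isomorphic to `A₄`, `S₄` or `A₅`.
-/

namespace Cfsg.Agent.Helper46.Pg

open Matrix Cfsg.Agent.Helper46 Cfsg.Agent.Helper46.Dk Cfsg.Agent.Helper46.Mx Cfsg.Agent.Helper41
  Cfsg.Agent.Helper41.DkR

section

variable {E : Type*} [Field E] [Fintype E]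

local notation "SL2E" => Matrix.SpecialLinearGroup (Fin 2) E
local notation "PSL2E" => Matrix.ProjectiveSpecialLinearGroup (Fin 2) E

/-- in the subfield case the order of the subgroup is divisible by the characteristic -/
theorem dvd_card_of_subfieldFrame (p : ℕ) [Fact p.Prime] [CharP E p] (H : Subgroup PSL2E)
    (hfr : SubfieldFrame (liftRep H)) : p ∣ Nat.card H := by
  classical
  haveI : CharP (AlgebraicClosure E) p :=
    charP_of_injective_algebraMap (algebraMap E (AlgebraicClosure E)).injective p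
  obtain ⟨c, Kt, -, hcont, -, -⟩ := hfr
  obtain ⟨γ, hγ⟩ := hcont (uU 1) Kt.one_mem Kt.one_mem Kt.zero_mem Kt.one_mem
  rw [conjRep_apply] at hγ
  -- `γ ^ p = 1`
  have hup : (uU (1 : AlgebraicClosure E)) ^ p = 1 := by
    have key : ∀ n : ℕ, (uU (1 : AlgebraicClosure E)) ^ n = uU (n : AlgebraicClosure E) := by
      intro n
      induction n with
      | zero =>
        apply Dk.ext' <;> simp [uU]
      | succ n ih =>
        rw [pow_succ, ih]
        apply Dk.ext' <;> simp [uU, mul_00, mul_01, mul_10, mul_11, add_comm]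
    rw [key, CharP.cast_eq_zero]
    apply Dk.ext' <;> simp [uU]
  have hρp : (liftRep H γ) ^ p = 1 := by
    have : liftRep H γ = c⁻¹ * uU 1 * c := by rw [← hγ]; group
    rw [this]
    have e : (c⁻¹ * uU 1 * c) ^ p = c⁻¹ * (uU 1) ^ p * c := by
      have := conj_pow (a := c⁻¹) (b := uU (1 : AlgebraicClosure E)) (i := p)
      rw [inv_inv] at this
      exact this
    rw [e, hup]; group
  have hγp : γ ^ p = 1 := by
    apply liftRep_injective H
    rw [map_pow, hρp, map_one]
  set π := QuotientGroup.mk' (Subgroup.center SL2E) with hπ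
  have hmem : π γ.1 ∈ H := γ.2
  set h : H := ⟨π γ.1, hmem⟩ with hh
  have hhp : h ^ p = 1 := by
    apply Subtype.ext
    rw [Subgroup.coe_pow, Subgroup.coe_one]
    show (π γ.1) ^ p = 1
    rw [← map_pow]
    have : (γ.1 : SL2E) ^ p = 1 := by
      have := congrArg Subtype.val hγp
      rwa [Subgroup.coe_pow, Subgroup.coe_one] at this
    rw [this, map_one]
  have hh1 : h ≠ 1 := by
    intro h1
    have h2 : π γ.1 = 1 := congrArg Subtype.val h1
    have h3 : (γ.1 : SL2E) ∈ Subgroup.center SL2E := by
      rw [← QuotientGroup.ker_mk' (Subgroup.center SL2E)]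
      exact h2
    rw [Matrix.SpecialLinearGroup.mem_center_iff] at h3
    obtain ⟨r, -, hr⟩ := h3
    -- `liftRep γ` is scalar, so `uU 1` is scalar
    have hsc : (liftRep H γ).1 = Matrix.scalar (Fin 2) (algebraMap E (AlgebraicClosure E) r) := by
      ext i j
      rw [liftRep_entry, ← hr]
      fin_cases i <;> fin_cases j <;> simp [Matrix.scalar_apply, Matrix.diagonal]
    have hu : (uU (1 : AlgebraicClosure E)).1 =
        Matrix.scalar (Fin 2) (algebraMap E (AlgebraicClosure E) r) := by
      rw [← hγ, Matrix.SpecialLinearGroup.coe_mul, Matrix.SpecialLinearGroup.coe_mul, hsc]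
      have hcomm : (c.1 : Matrix (Fin 2) (Fin 2) (AlgebraicClosure E)) *
          Matrix.scalar (Fin 2) (algebraMap E (AlgebraicClosure E) r) =
          Matrix.scalar (Fin 2) (algebraMap E (AlgebraicClosure E) r) * c.1 :=
        (Matrix.scalar_commute _ (fun _ => Commute.all _ _) _).eq.symm
      rw [hcomm, Matrix.mul_assoc, ← Matrix.SpecialLinearGroup.coe_mul, mul_inv_cancel,
        Matrix.SpecialLinearGroup.coe_one, Matrix.mul_one]
    have h01 := congrFun (congrFun hu 0) 1
    simp [uU, Matrix.scalar_apply, Matrix.diagonal] at h01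
  have hord : orderOf h = p := by
    have hpp : p.Prime := Fact.out
    rcases (Nat.dvd_prime hpp).1 (orderOf_dvd_of_pow_eq_one hhp) with h1 | h1
    · exact absurd (orderOf_eq_one_iff.1 h1) hh1
    · exact h1
  rw [← hord]
  exact orderOf_dvd_natCard h

/-- Dickson's list for a subgroup of `PSL₂(E)` of order prime to the characteristic -/
theorem dickson_pprime (p : ℕ) [Fact p.Prime] [CharP E p] (H : Subgroup PSL2E)
    (hp : ¬ p ∣ Nat.card H) :
    IsCyclic H ∨
    (∃ (n : ℕ) (c : H), orderOf c = n ∧ Nonempty (H ≃* DihedralGroup n)) ∨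
    Nonempty (H ≃* alternatingGroup (Fin 4)) ∨
    Nonempty (H ≃* Equiv.Perm (Fin 4)) ∨
    Nonempty (H ≃* alternatingGroup (Fin 5)) := by
  rcases dickson_sub p H with h | ⟨n, c, hc, -, he⟩ | ⟨-, hd⟩ | h | h | h | hfr
  · exact Or.inl h
  · exact Or.inr (Or.inl ⟨n, c, hc, he⟩)
  · exact absurd hd hp
  · exact Or.inr (Or.inr (Or.inl h))
  · exact Or.inr (Or.inr (Or.inr (Or.inl h)))
  · exact Or.inr (Or.inr (Or.inr (Or.inr h)))
  · exact absurd (dvd_card_of_subfieldFrame p H hfr) hp

end

end Cfsg.Agent.Helper46.Pg
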