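import Mathlib
import Cfsg.Agent.Helper46.MxTorus
import Cfsg.Agent.Helper46.MxKleinPSL
import Cfsg.Agent.Helper46.MxConcl
import Cfsg.Agent.Helper41.DicksonMax
import Cfsg.Agent.S0804

set_option autoImplicit false

/-!
# Maximal subgroups of `PSL₂(q)`, `q` odd: the dihedral case, including the small exceptions
-/

namespace Cfsg.Agent.Helper46.Mx

open Matrix Cfsg.Agent.Helper46.Dk Cfsg.Agent.Helper41 Cfsg.Agent.Helper41.DkR

section Generic

variable {G : Type*} [Group G] [Finite G]

/-- a subgroup whose order is the full power of `r` dividing `|G|` is conjugate into any subgroup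
whose order is divisible by that power -/
theorem exists_conj_le_of_card_pow (r k : ℕ) [Fact r.Prime] (M S : Subgroup G)
    (hM : Nat.card M = r ^ k) (hS : r ^ k ∣ Nat.card S) (hG : ¬ r ^ (k + 1) ∣ Nat.card G) :
    ∃ g : G, M ≤ S.map (MulAut.conj g).toMonoidHom := by
  classical
  have hr : r.Prime := Fact.out
  obtain ⟨K, hK⟩ := Sylow.exists_subgroup_card_pow_prime r hS
  set P₁ := K.map S.subtype with hP₁
  have hP₁card : Nat.card P₁ = r ^ k := by
    rw [hP₁, Subgroup.card_map_of_injective S.subtype_injective, hK]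
  have hP₁S : P₁ ≤ S := by
    rintro _ ⟨x, -, rfl⟩
    exact x.2
  have key : ∀ P : Subgroup G, Nat.card P = r ^ k → ∃ Q : Sylow r G, (Q : Subgroup G) = P := by
    intro P hP
    have hPp : IsPGroup r P := IsPGroup.of_card hP
    obtain ⟨Q, hQ⟩ := hPp.exists_le_sylow
    refine ⟨Q, ?_⟩
    symm
    apply Subgroup.eq_of_le_of_card_ge hQ
    obtain ⟨m, hm⟩ := IsPGroup.iff_card.1 Q.2
    rw [hm, hP]
    have hdvd : r ^ m ∣ Nat.card G := hm ▸ Subgroup.card_subgroup_dvd_card _
    have hmk : m ≤ k := by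
      by_contra hlt
      have hlt' : k + 1 ≤ m := by omega
      exact hG ((pow_dvd_pow r hlt').trans hdvd)
    exact Nat.pow_le_pow_right hr.pos hmk
  obtain ⟨Q₁, hQ₁⟩ := key P₁ hP₁card
  obtain ⟨Q₂, hQ₂⟩ := key M hM
  obtain ⟨g, hg⟩ := MulAction.exists_smul_eq G Q₁ Q₂
  refine ⟨g, ?_⟩
  rw [← hQ₂, ← hg, Sylow.coe_subgroup_smul, hQ₁]
  rintro _ ⟨x, hx, rfl⟩
  exact ⟨x, hP₁S hx, rfl⟩

/-- a coatom which is an `r`-group of full order is not properly contained in a proper subgroup
of order divisible by its order -/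
theorem sylow_small_false (M : Subgroup G) (hM : IsCoatom M) (r k : ℕ) [Fact r.Prime]
    (hcardM : Nat.card M = r ^ k) (hG : ¬ r ^ (k + 1) ∣ Nat.card G) (S : Subgroup G)
    (hS : r ^ k ∣ Nat.card S) (hS1 : Nat.card S ≠ r ^ k) (hS2 : Nat.card S ≠ Nat.card G) :
    False := by
  obtain ⟨g, hg⟩ := exists_conj_le_of_card_pow r k M S hcardM hS hG
  have hcard : Nat.card (S.map (MulAut.conj g).toMonoidHom) = Nat.card S :=
    Subgroup.card_map_of_injective (MulAut.conj g).injective
  rcases hM.le_iff.1 hg with h | h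
  · apply hS2
    rw [← hcard, h]
    exact Nat.card_congr (Subgroup.topEquiv (G := G)).toEquiv
  · apply hS1
    rw [← hcard, h, hcardM]

/-- a coatom `N(⟨c⟩)` of order `2r`, `r` an odd prime with `r² ∤ |G|`, cannot exist when some
other subgroup contains an element of order `r` inverted by an involution -/
theorem dihedral_small_false (M : Subgroup G) (hM : IsCoatom M) (r : ℕ) [Fact r.Prime]
    (hr2 : r ≠ 2) (c : G) (hc : orderOf c = r)
    (hN : Subgroup.normalizer ((Subgroup.zpowers c : Subgroup G) : Set G) = M)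
    (hcardM : Nat.card M = 2 * r) (hG : ¬ r ^ 2 ∣ Nat.card G) (S : Subgroup G) (c0 t0 : G)
    (hc0 : c0 ∈ S) (ht0 : t0 ∈ S) (hc0r : orderOf c0 = r) (ht02 : orderOf t0 = 2)
    (hinv : t0 * c0 * t0⁻¹ = c0⁻¹) (hS1 : Nat.card S ≠ 2 * r) (hS2 : Nat.card S ≠ Nat.card G) :
    False := by
  classical
  have hr : r.Prime := Fact.out
  have h1 : Nat.card (Subgroup.zpowers c) = r ^ 1 := by rw [Nat.card_zpowers, hc, pow_one]
  have h2 : r ^ 1 ∣ Nat.card (Subgroup.zpowers c0) := by rw [Nat.card_zpowers, hc0r, pow_one]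
  obtain ⟨g, hg⟩ := exists_conj_le_of_card_pow r 1 (Subgroup.zpowers c) (Subgroup.zpowers c0) h1 h2 hG
  set φ := (MulAut.conj g).toMonoidHom with hφ
  have hmap : (Subgroup.zpowers c0).map φ = Subgroup.zpowers (φ c0) := MonoidHom.map_zpowers φ c0
  have hord1 : orderOf (φ c0) = r := by
    rw [hφ]
    show orderOf ((MulAut.conj g) c0) = r
    rw [MulEquiv.orderOf_eq, hc0r]
  have heq : Subgroup.zpowers c = Subgroup.zpowers (φ c0) := by
    rw [← hmap]
    apply Subgroup.eq_of_le_of_card_ge hg
    rw [hmap, Nat.card_zpowers, Nat.card_zpowers, hord1, hc]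
  have hord2 : orderOf (φ t0) = 2 := by
    rw [hφ]
    show orderOf ((MulAut.conj g) t0) = 2
    rw [MulEquiv.orderOf_eq, ht02]
  have ht2 : φ t0 * φ t0 = 1 := by
    rw [← pow_two, ← hord2]; exact pow_orderOf_eq_one _
  have hinv' : φ t0 * φ c0 * (φ t0)⁻¹ = (φ c0)⁻¹ := by
    rw [← map_inv, ← map_mul, ← map_mul, hinv, map_inv]
  have htM : φ t0 ∈ M := by
    rw [← hN, heq]
    exact mem_normalizer_zpowers_of_invert ht2 hinv'
  have hcM : φ c0 ∈ M := by
    rw [← hN, heq]
    exact Subgroup.le_normalizer (Subgroup.mem_zpowers _)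
  set S' := S.map φ with hS'
  have hcard : Nat.card S' = Nat.card S :=
    Subgroup.card_map_of_injective (MulAut.conj g).injective
  set L := M ⊓ S' with hL
  have hcL : φ c0 ∈ L := ⟨hcM, ⟨c0, hc0, rfl⟩⟩
  have htL : φ t0 ∈ L := ⟨htM, ⟨t0, ht0, rfl⟩⟩
  have hd1 : r ∣ Nat.card L := by
    rw [← hord1]; exact Subgroup.orderOf_dvd_natCard L hcL
  have hd2 : 2 ∣ Nat.card L := by
    rw [← hord2]; exact Subgroup.orderOf_dvd_natCard L htL
  have hcop : Nat.Coprime 2 r := by
    rw [Nat.coprime_primes Nat.prime_two hr]; exact fun h => hr2 h.symm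
  have hd : 2 * r ∣ Nat.card L := hcop.mul_dvd_of_dvd_of_dvd hd2 hd1
  have hLM : L = M := by
    apply Subgroup.eq_of_le_of_card_ge inf_le_left
    rw [hcardM]
    exact Nat.le_of_dvd Nat.card_pos hd
  have hMS : M ≤ S' := by rw [← hLM]; exact inf_le_right
  rcases hM.le_iff.1 hMS with h | h
  · apply hS2
    rw [← hcard, h]
    exact Nat.card_congr (Subgroup.topEquiv (G := G)).toEquiv
  · apply hS1
    rw [← hcard, h, hcardM]

end Generic

section Elements

/-- an element of order three of `S₄` inverted by an involution -/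
theorem s4_invert : ∃ c t : Equiv.Perm (Fin 4), orderOf c = 3 ∧ orderOf t = 2 ∧
    t * c * t⁻¹ = c⁻¹ := by
  refine ⟨Equiv.swap 0 1 * Equiv.swap 1 2, Equiv.swap 0 1, ?_, ?_, by decide⟩
  · apply orderOf_eq_prime (by decide) (by decide)
  · apply orderOf_eq_prime (by decide) (by decide)

/-- an element of order five of `A₅` inverted by an involution -/
theorem a5_invert : ∃ c t : alternatingGroup (Fin 5), orderOf c = 5 ∧ orderOf t = 2 ∧
    t * c * t⁻¹ = c⁻¹ := by
  refine ⟨⟨Equiv.swap 0 1 * Equiv.swap 1 2 * Equiv.swap 2 3 * Equiv.swap 3 4, by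
      rw [Equiv.Perm.mem_alternatingGroup]; decide⟩,
    ⟨Equiv.swap 0 3 * Equiv.swap 1 2, by rw [Equiv.Perm.mem_alternatingGroup]; decide⟩, ?_, ?_, ?_⟩
  · haveI : Fact (Nat.Prime 5) := ⟨by norm_num⟩
    apply orderOf_eq_prime (by decide) (by decide)
  · apply orderOf_eq_prime (by decide) (by decide)
  · decide

end Elements

section PSL

variable {F : Type*} [Field F] [Fintype F]

local notation "M2F" => Matrix (Fin 2) (Fin 2) F
local notation "SL2F" => Matrix.SpecialLinearGroup (Fin 2) F
local notation "PSL2F" => Matrix.ProjectiveSpecialLinearGroup (Fin 2) F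

/-- a maximal dihedral subgroup `D_n`, `n ≥ 3`, is the normalizer of its rotation subgroup -/
theorem normalizer_zpowers_of_dihedral (h4 : 4 ≤ Fintype.card F)
    (M : Subgroup PSL2F) (hM : IsCoatom M) (n : ℕ) (c : M) (hc : orderOf c = n) (hn3 : 3 ≤ n)
    (e : M ≃* DihedralGroup n) :
    Subgroup.normalizer ((Subgroup.zpowers (c : PSL2F) : Subgroup PSL2F) : Set PSL2F) = M := by
  classical
  haveI : NeZero n := ⟨by omega⟩
  have hcardM : Nat.card M = 2 * n := by
    rw [Nat.card_congr e.toEquiv, DihedralGroup.nat_card]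
  have hc' : orderOf (c : PSL2F) = n := by rw [Subgroup.orderOf_coe, hc]
  set S := Subgroup.zpowers (c : PSL2F) with hS
  have hSM : S ≤ M := Subgroup.zpowers_le.2 c.2
  have hcardS : Nat.card S = n := by rw [hS, Nat.card_zpowers, hc']
  have hMN : M ≤ Subgroup.normalizer (S : Set PSL2F) := by
    intro x hx
    apply mem_normalizer_of_conj
    · intro y hy
      exact conj_mem_of_card_eq_two_mul S M hSM (by rw [hcardM, hcardS]) hx hy
    · intro y hy
      have := conj_mem_of_card_eq_two_mul S M hSM (by rw [hcardM, hcardS]) (M.inv_mem hx) hy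
      rwa [inv_inv] at this
  have hSbot : S ≠ ⊥ := by
    intro h
    rw [h, Subgroup.card_bot] at hcardS
    omega
  have hStop : S ≠ ⊤ := by
    intro h
    apply hM.1
    rw [eq_top_iff, ← h]; exact hSM
  have hN := normalizer_ne_top' h4 S hSbot hStop
  exact ((hM.le_iff.1 hMN).resolve_left hN)

theorem card_PSL2_of_card_eq (hodd : Odd (Fintype.card F)) (q : ℕ) (hq : Fintype.card F = q) :
    2 * Nat.card PSL2F = q * (q ^ 2 - 1) := by
  rw [← hq]; exact two_mul_card_PSL2 hodd

variable (p : ℕ) [Fact p.Prime] [CharP F p]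

include p in
/-- the dihedral case -/
theorem dihedral_case (hodd : Odd (Fintype.card F)) (h5 : 5 ≤ Fintype.card F)
    (M : Subgroup PSL2F) (hM : IsCoatom M) (n : ℕ) (c : M) (hc : orderOf c = n)
    (hpn : ¬ p ∣ n) (e : M ≃* DihedralGroup n) : Concl (Fintype.card F) p M := by
  classical
  have h4 : 4 ≤ Fintype.card F := by omega
  have hcardM : Nat.card M = 2 * n := by
    rw [Nat.card_congr e.toEquiv, DihedralGroup.nat_card]
  have hG := two_mul_card_PSL2 (F := F) hodd
  rcases Nat.lt_or_ge n 3 with hn | hn3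
  · exfalso
    interval_cases n
    · have := Nat.card_pos (α := M)
      omega
    · haveI : Fact (Nat.Prime 2) := ⟨Nat.prime_two⟩
      exact not_isCyclic_of_coatom_odd p hodd h5 M hM (isCyclic_of_prime_card (p := 2) hcardM)
    · -- Klein four
      have hV : IsKleinFour M := isKleinFour_of_mulEquiv (inferInstance : IsKleinFour (DihedralGroup 2)) e.symm
      have hVbot : M ≠ ⊥ := by
        intro h
        rw [h, Subgroup.card_bot] at hcardM
        omega
      have hNM := normalizer_eq_of_coatom h4 M hM hVbot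
      rcases card_normalizer_klein hodd M hV with ⟨-, h24⟩ | ⟨-, h12⟩
      · rw [hNM, hcardM] at h24; omega
      · rw [hNM, hcardM] at h12; omega
  · have hNc := normalizer_zpowers_of_dihedral h4 M hM n c hc hn3 e
    have hc' : orderOf (c : PSL2F) = n := by rw [Subgroup.orderOf_coe, hc]
    -- the small overgroups
    have hS4 : Fintype.card F % 8 = 1 ∨ Fintype.card F % 8 = 7 →
        ∃ (S : Subgroup PSL2F) (c0 t0 : PSL2F), Nat.card S = 24 ∧ c0 ∈ S ∧ t0 ∈ S ∧
          orderOf c0 = 3 ∧ orderOf t0 = 2 ∧ t0 * c0 * t0⁻¹ = c0⁻¹ := by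
      intro h8
      obtain ⟨S, ⟨eS⟩⟩ := exists_perm_four_subgroup (F := F) h8
      obtain ⟨c1, t1, hc1, ht1, hinv⟩ := s4_invert
      refine ⟨S, (eS.symm c1 : PSL2F), (eS.symm t1 : PSL2F), ?_, (eS.symm c1).2, (eS.symm t1).2,
        ?_, ?_, ?_⟩
      · rw [Nat.card_congr eS.toEquiv]; exact Cfsg.Agent.Helper46.Dk.card_S4'
      · rw [Subgroup.orderOf_coe, MulEquiv.orderOf_eq, hc1]
      · rw [Subgroup.orderOf_coe, MulEquiv.orderOf_eq, ht1]
      · have := congrArg (fun x => ((eS.symm x : S) : PSL2F)) hinv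
        simpa using this
    have hA5 : 5 ∣ Fintype.card F * (Fintype.card F ^ 2 - 1) →
        ∃ (S : Subgroup PSL2F) (c0 t0 : PSL2F), Nat.card S = 60 ∧ c0 ∈ S ∧ t0 ∈ S ∧
          orderOf c0 = 5 ∧ orderOf t0 = 2 ∧ t0 * c0 * t0⁻¹ = c0⁻¹ := by
      intro h5d
      obtain ⟨S, ⟨eS⟩⟩ := (Cfsg.Agent.S0804.result (F := F) rfl).2 h5d
      obtain ⟨c1, t1, hc1, ht1, hinv⟩ := a5_invert
      refine ⟨S, (eS.symm c1 : PSL2F), (eS.symm t1 : PSL2F), ?_, (eS.symm c1).2, (eS.symm t1).2,
        ?_, ?_, ?_⟩
      · rw [Nat.card_congr eS.toEquiv]; exact Cfsg.Agent.Helper46.Dk.card_A5'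
      · rw [Subgroup.orderOf_coe, MulEquiv.orderOf_eq, hc1]
      · rw [Subgroup.orderOf_coe, MulEquiv.orderOf_eq, ht1]
      · have := congrArg (fun x => ((eS.symm x : S) : PSL2F)) hinv
        simpa using this
    rcases dihedral_of_coatom_odd p hodd h5 M hM n c hc hn3 hpn e with h | h
    · rcases Nat.lt_or_ge (Fintype.card F) 13 with hlt | hge
      · exfalso
        obtain ⟨k, hk⟩ := hodd
        have hk' : k = 3 ∨ k = 4 ∨ k = 5 := by omega
        rcases hk' with rfl | rfl | rfl
        · -- `q = 7`, `|M| = 6`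
          have hn : n = 3 := by omega
          subst hn
          rw [hk] at hG
          obtain ⟨S, c0, t0, hS, hc0, ht0, hc03, ht02, hinv⟩ := hS4 (by omega)
          haveI : Fact (Nat.Prime 3) := ⟨by norm_num⟩
          exact dihedral_small_false M hM 3 (by norm_num) (c : PSL2F) hc' hNc hcardM
            (by intro hd; have : Nat.card PSL2F = 168 := by omega
                rw [this] at hd; omega)
            S c0 t0 hc0 ht0 hc03 ht02 hinv (by omega) (by omega)
        · -- `q = 9`, `|M| = 8`
          have hn : n = 4 := by omega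
          subst hn
          rw [hk] at hG
          obtain ⟨S, c0, t0, hS, -⟩ := hS4 (by omega)
          haveI : Fact (Nat.Prime 2) := ⟨Nat.prime_two⟩
          exact sylow_small_false M hM 2 3 (by rw [hcardM]; norm_num) (by
              intro hd; have : Nat.card PSL2F = 360 := by omega
              rw [this] at hd; omega) S (by rw [hS]; norm_num) (by omega) (by omega)
        · -- `q = 11`, `|M| = 10`
          have hn : n = 5 := by omega
          subst hn
          rw [hk] at hG
          obtain ⟨S, c0, t0, hS, hc0, ht0, hc03, ht02, hinv⟩ := hA5 (by rw [hk]; norm_num)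
          haveI : Fact (Nat.Prime 5) := ⟨by norm_num⟩
          exact dihedral_small_false M hM 5 (by norm_num) (c : PSL2F) hc' hNc hcardM
            (by intro hd; have : Nat.card PSL2F = 660 := by omega
                rw [this] at hd; omega)
            S c0 t0 hc0 ht0 hc03 ht02 hinv (by omega) (by omega)
      · right; left
        exact ⟨hge, n, h, ⟨e⟩⟩
    · by_cases h7 : Fintype.card F = 7
      · exfalso
        have hn : n = 4 := by omega
        subst hn
        rw [h7] at hG
        obtain ⟨S, c0, t0, hS, -⟩ := hS4 (by omega)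
        haveI : Fact (Nat.Prime 2) := ⟨Nat.prime_two⟩
        exact sylow_small_false M hM 2 3 (by rw [hcardM]; norm_num) (by
            intro hd; have : Nat.card PSL2F = 168 := by omega
            rw [this] at hd; omega) S (by rw [hS]; norm_num) (by omega) (by omega)
      · by_cases h9 : Fintype.card F = 9
        · exfalso
          have hn : n = 5 := by omega
          subst hn
          rw [h9] at hG
          obtain ⟨S, c0, t0, hS, hc0, ht0, hc03, ht02, hinv⟩ := hA5 (by rw [h9]; norm_num)
          haveI : Fact (Nat.Prime 5) := ⟨by norm_num⟩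
          exact dihedral_small_false M hM 5 (by norm_num) (c : PSL2F) hc' hNc hcardM
            (by intro hd; have : Nat.card PSL2F = 360 := by omega
                rw [this] at hd; omega)
            S c0 t0 hc0 ht0 hc03 ht02 hinv (by omega) (by omega)
        · right; right; left
          exact ⟨h7, h9, n, h, ⟨e⟩⟩

end PSL

end Cfsg.Agent.Helper46.Mx
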