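import Mathlib
import Cfsg.Agent.Helper46.MxDesc
import Cfsg.Agent.Helper46.MxSmall
import Cfsg.Agent.S0804

set_option autoImplicit false

/-!
# Maximal subgroups of `PSL₂(q)`, `q` odd: the case `M ≅ A₅`
-/

namespace Cfsg.Agent.Helper46.Mx

open Matrix Cfsg.Agent.Helper46.Dk Cfsg.Agent.Helper41

variable {F : Type*} [Field F] [Fintype F]

local notation "M2F" => Matrix (Fin 2) (Fin 2) F
local notation "SL2F" => Matrix.SpecialLinearGroup (Fin 2) F
local notation "PSL2F" => Matrix.ProjectiveSpecialLinearGroup (Fin 2) F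

set_option maxRecDepth 100000 in
theorem a5_orders : ∀ σ : alternatingGroup (Fin 5), σ ^ 2 = 1 ∨ σ ^ 3 = 1 ∨ σ ^ 5 = 1 := by
  decide

/-- an element of order five gives a square root of five -/
theorem exists_sq_five_of_orderOf (m : PSL2F) (hm : orderOf m = 5) : ∃ s : F, s * s = 5 := by
  obtain ⟨g, rfl⟩ := QuotientGroup.mk'_surjective (Subgroup.center SL2F) m
  have h5 : g ^ 5 ∈ Subgroup.center SL2F :=
    pow_mem_center_of_mk_pow g 5 (by rw [← hm]; exact pow_orderOf_eq_one _)
  have hg : g ∉ Subgroup.center SL2F := by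
    intro hg
    have : QuotientGroup.mk' (Subgroup.center SL2F) g = 1 := (QuotientGroup.eq_one_iff g).2 hg
    rw [this, orderOf_one] at hm
    omega
  have h1 := tr_of_pow_five_mem_center g hg h5
  exact ⟨2 * (tr g) ^ 2 - 3, by linear_combination 4 * h1⟩

variable (p : ℕ) [Fact p.Prime] [CharP F p]

/-- a square root of an element of the prime field lies in the fixed field of `Frob²` -/
theorem sqrt_mem_frobFixed_two (hp : p ≠ 2) (s : F) (n : ℕ) (hs : s * s = (n : F)) :
    s ^ p = s ∨ (s ^ p = -s ∧ s ∈ frobFixed (F := F) p hp 2) := by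
  have hpp : p.Prime := Fact.out
  have hodd : Odd p := hpp.odd_of_ne_two hp
  have hn : (n : F) ^ p = n := by
    have h1 : (n : F) ∈ frobFixed (F := F) p hp 1 := natCast_mem _ n
    rw [mem_frobFixed, pow_one] at h1
    exact h1
  have h1 : (s ^ p) * (s ^ p) = s * s := by
    rw [← mul_pow, hs, hn]
  have h2 : (s ^ p - s) * (s ^ p + s) = 0 := by linear_combination h1
  rcases mul_eq_zero.1 h2 with h | h
  · left; linear_combination h
  · right
    have h3 : s ^ p = -s := by linear_combination h
    refine ⟨h3, ?_⟩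
    rw [mem_frobFixed, pow_two, pow_mul, h3, hodd.neg_pow, h3, neg_neg]

include p in
/-- five is a square in the prime field when `p ≡ ±1 (mod 10)` -/
theorem exists_sq_five_bot (hp : p ≠ 2) (h10 : p % 10 = 1 ∨ p % 10 = 9) :
    ∃ u : F, u ∈ (⊥ : Subfield F) ∧ u * u = 5 := by
  have e1 : ((1 : ℕ) : ZMod 5) = 1 * 1 := by decide
  have e4 : ((4 : ℕ) : ZMod 5) = 2 * 2 := by decide
  haveI : Fact (Nat.Prime 5) := ⟨by norm_num⟩
  have h1 : IsSquare ((p : ℕ) : ZMod 5) := by
    have hp5 : p % 5 = 1 ∨ p % 5 = 4 := by omega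
    have hcast : ((p : ℕ) : ZMod 5) = ((p % 5 : ℕ) : ZMod 5) := by
      rw [ZMod.natCast_mod]
    rw [hcast]
    rcases hp5 with h | h
    · rw [h]; exact ⟨1, e1⟩
    · rw [h]; exact ⟨2, e4⟩
  have h2 := (ZMod.exists_sq_eq_prime_iff_of_mod_four_eq_one (p := 5) (q := p) (by norm_num) hp).1 h1
  obtain ⟨u, hu⟩ := h2
  let ψ : ZMod p →+* F := ZMod.castHom (dvd_refl p) F
  refine ⟨ψ u, ?_, ?_⟩
  · have : u = ((u.val : ℕ) : ZMod p) := by rw [ZMod.natCast_val, ZMod.cast_id', id]
    rw [this, map_natCast]
    exact natCast_mem _ _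
  · rw [← map_mul, ← hu, map_natCast]
    norm_num

include p in
/-- the case `M ≅ A₅` -/
theorem a5_case (hodd : Odd (Fintype.card F)) (h5 : 5 ≤ Fintype.card F)
    (M : Subgroup PSL2F) (hM : IsCoatom M) (e : M ≃* alternatingGroup (Fin 5)) :
    Concl (Fintype.card F) p M := by
  classical
  have hpp : p.Prime := Fact.out
  have h2 := two_ne_zero_of_odd hodd
  have h4 : 4 ≤ Fintype.card F := by omega
  have hp : p ≠ 2 := by
    intro hp2
    apply h2
    have := CharP.cast_eq_zero F p
    rw [hp2] at this
    exact_mod_cast this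
  have hcardM : Nat.card M = 60 := by
    rw [Nat.card_congr e.toEquiv]; exact Cfsg.Agent.Helper46.Dk.card_A5'
  obtain ⟨V, w, hV, hVM, -, -, -⟩ := klein_of_A5 M e
  -- a square root of five
  obtain ⟨c5, -, hc5, -, -⟩ := a5_invert
  have hm5 : orderOf ((e.symm c5 : M) : PSL2F) = 5 := by
    rw [Subgroup.orderOf_coe, MulEquiv.orderOf_eq, hc5]
  obtain ⟨s, hs⟩ := exists_sq_five_of_orderOf _ hm5
  set K' : Subfield F := Subfield.closure ({s} : Set F) with hK'
  have hsK' : s ∈ K' := Subfield.subset_closure (Set.mem_singleton s)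
  -- traces
  have htr : ∀ g : SL2F, QuotientGroup.mk' (Subgroup.center SL2F) g ∈ M → tr g ∈ K' := by
    intro g hg
    have hpow : ∀ n : ℕ, (e ⟨_, hg⟩) ^ n = 1 → g ^ n ∈ Subgroup.center SL2F := by
      intro n hn
      apply pow_mem_center_of_mk_pow
      have : (⟨_, hg⟩ : M) ^ n = 1 := by
        apply e.injective; rw [map_pow, hn, map_one]
      exact congrArg Subtype.val this
    rcases a5_orders (e ⟨_, hg⟩) with h1 | h1 | h1
    · exact tr_mem_of_sq K' g (hpow 2 h1)
    · exact tr_mem_of_cube K' g (hpow 3 h1)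
    · exact tr_mem_of_pow_five h2 K' s hsK' hs g (hpow 5 h1)
  obtain ⟨α, hα⟩ := exists_aut_le_stdPSL hodd K' M V hV hVM htr
  have hM' := isCoatom_map_equiv α M hM
  have eM : M ≃* M.map α.toMonoidHom := M.equivMapOfInjective α.toMonoidHom α.injective
  rcases hM'.le_iff.1 hα with htop | heq
  · -- `F` is generated by `s`
    have hKtop := eq_top_of_stdPSL_eq_top _ htop
    have h5dvd : 5 ∣ Fintype.card F * (Fintype.card F ^ 2 - 1) :=
      (Cfsg.Agent.S0804.result (F := F) rfl).1 ⟨M, ⟨e⟩⟩
    have hG := two_mul_card_PSL2 (F := F) hodd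
    have hMtop : M ≠ ⊤ := hM.1
    have hcardG : Nat.card PSL2F ≠ 60 := by
      intro h
      apply hMtop
      apply Subgroup.eq_top_of_card_eq
      rw [hcardM, h]
    have hq5 : Fintype.card F ≠ 5 := by
      intro h
      rw [h] at hG
      omega
    obtain ⟨f, hf⟩ := FiniteField.card F p
    -- the Frobenius on `s`
    have hs' : s * s = ((5 : ℕ) : F) := by rw [hs]; norm_num
    have hsF2 : s ∈ frobFixed (F := F) p hp 2 := by
      rcases sqrt_mem_frobFixed_two p hp s 5 hs' with h | ⟨-, h⟩
      · have : s ∈ frobFixed (F := F) p hp 1 := by rw [mem_frobFixed, pow_one]; exact h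
        exact frobFixed_mono p hp 1 2 this
      · exact h
    have hle2 : Fintype.card F ≤ p ^ 2 := by
      have h1 : K' ≤ frobFixed (F := F) p hp 2 := by
        rw [hK', Subfield.closure_le]
        intro x hx
        rw [Set.mem_singleton_iff] at hx
        rw [hx]; exact hsF2
      rw [hKtop] at h1
      have h3 := card_frobFixed_le p hp 2 (by norm_num) (F := F)
      have h4 : frobFixed (F := F) p hp 2 = ⊤ := top_le_iff.1 h1
      rw [h4] at h3
      rw [← Nat.card_eq_fintype_card]
      have h5 : Nat.card (⊤ : Subfield F) = Nat.card F :=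
        Nat.card_congr (Subfield.topEquiv (K := F)).toEquiv
      omega
    have hf2 : (f : ℕ) = 1 ∨ (f : ℕ) = 2 := by
      have hfpos : 0 < (f : ℕ) := f.pos
      rw [hf.2] at hle2
      have := (Nat.pow_le_pow_iff_right hpp.one_lt).1 hle2
      omega
    -- `s ∈ ⊥` iff `q = p`
    have hsbot : s ∈ (⊥ : Subfield F) → Fintype.card F = p := by
      intro hsb
      apply card_eq_char_of_bot_eq_top p hp
      rw [← hKtop, hK']
      apply le_antisymm bot_le
      rw [Subfield.closure_le]
      intro x hx
      rw [Set.mem_singleton_iff] at hx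
      rw [hx]; exact hsb
    have hp5 : p = 5 → Fintype.card F = p := by
      intro hp5
      apply hsbot
      have h0 : (5 : F) = 0 := by
        have := CharP.cast_eq_zero F p
        rw [hp5] at this
        exact_mod_cast this
      rw [h0] at hs
      have : s = 0 := mul_self_eq_zero.1 hs
      rw [this]; exact Subfield.zero_mem _
    have hq10 : Fintype.card F % 10 = 1 ∨ Fintype.card F % 10 = 9 := by
      have hq2 : Fintype.card F % 2 = 1 := Nat.odd_iff.1 hodd
      have h5' : ¬ 5 ∣ Fintype.card F := by
        intro hd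
        rw [hf.2] at hd
        have := (Nat.prime_dvd_prime_iff_eq (by norm_num) hpp).1
          ((by norm_num : Nat.Prime 5).dvd_of_dvd_pow hd)
        have h6 := hp5 this.symm
        rw [h6, ← this] at hq5
        exact hq5 rfl
      have h6 : 5 ∣ Fintype.card F ^ 2 - 1 :=
        ((Nat.Prime.dvd_mul (by norm_num)).1 h5dvd).resolve_left h5'
      have hmod : Fintype.card F % 5 = 1 ∨ Fintype.card F % 5 = 4 := by
        have h7 : Fintype.card F ^ 2 % 5 = 1 := by
          have hpos : 1 ≤ Fintype.card F ^ 2 := Nat.one_le_pow _ _ (by omega)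
          omega
        rw [Nat.pow_mod] at h7
        have : Fintype.card F % 5 < 5 := Nat.mod_lt _ (by norm_num)
        interval_cases (Fintype.card F % 5) <;> simp_all
      omega
    right; right; right; right; right; left
    refine ⟨hq10, ?_, ⟨e⟩⟩
    by_cases hsb : s ∈ (⊥ : Subfield F)
    · left; exact hsbot hsb
    · right
      have hqp : Fintype.card F ≠ p := by
        intro hqp
        apply hsb
        have hbt : (⊥ : Subfield F) = ⊤ := by
          have h1 := subfield_eq_frobFixed p hp (⊥ : Subfield F) 1 one_pos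
            (by rw [card_bot p hp, pow_one])
          have h2 := subfield_eq_frobFixed p hp (⊤ : Subfield F) 1 one_pos
            (by rw [Nat.card_congr (Subfield.topEquiv (K := F)).toEquiv,
              Nat.card_eq_fintype_card, hqp, pow_one])
          rw [h1, h2]
        rw [hbt]; exact Subfield.mem_top s
      have hq2 : Fintype.card F = p ^ 2 := by
        rcases hf2 with h | h
        · exfalso; apply hqp; rw [hf.2, h, pow_one]
        · rw [hf.2, h]
      refine ⟨hq2, ?_⟩
      have hpodd : p % 2 = 1 := Nat.odd_iff.1 (hpp.odd_of_ne_two hp)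
      by_contra hcon
      have h10 : p % 10 = 1 ∨ p % 10 = 9 ∨ p % 10 = 5 := by omega
      rcases h10 with h | h | h
      · obtain ⟨u, hu, huu⟩ := exists_sq_five_bot (F := F) p hp (Or.inl h)
        have : (s - u) * (s + u) = 0 := by linear_combination hs - huu
        rcases mul_eq_zero.1 this with h' | h'
        · apply hsb
          have : s = u := by linear_combination h'
          rw [this]; exact hu
        · apply hsb
          have : s = -u := by linear_combination h'
          rw [this]; exact Subfield.neg_mem _ hu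
      · obtain ⟨u, hu, huu⟩ := exists_sq_five_bot (F := F) p hp (Or.inr h)
        have : (s - u) * (s + u) = 0 := by linear_combination hs - huu
        rcases mul_eq_zero.1 this with h' | h'
        · apply hsb
          have : s = u := by linear_combination h'
          rw [this]; exact hu
        · apply hsb
          have : s = -u := by linear_combination h'
          rw [this]; exact Subfield.neg_mem _ hu
      · have h5p : 5 ∣ p := by omega
        have := (Nat.prime_dvd_prime_iff_eq (by norm_num) hpp).1 h5p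
        exact hqp (hp5 this.symm)
  · -- `M' = stdPSL K'`
    rw [← heq] at hM'
    obtain ⟨r, hr, hr2, hq⟩ := coatom_stdPSL_degree p hodd h5 K' hM'
    obtain ⟨φ⟩ := nonempty_stdPSL_equiv K'
    exact concl_psl K' ((eM.trans (MulEquiv.subgroupCongr heq.symm)).trans φ) r hr hr2 hq

end Cfsg.Agent.Helper46.Mx
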