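import Mathlib
import Cfsg.Agent.Helper46.PgE

set_option autoImplicit false

namespace Cfsg.Agent.Helper46.Pg

open Matrix Cfsg.Agent.Helper46 Cfsg.Agent.Helper46.Dk Cfsg.Agent.Helper46.Mx Cfsg.Agent.Helper41
  Cfsg.Agent.Helper41.DkR

section Final

variable {F : Type*} [Field F] [Fintype F]

local notation "M2F" => Matrix (Fin 2) (Fin 2) F
local notation "GL2F" => GL (Fin 2) F
local notation "SL2F" => Matrix.SpecialLinearGroup (Fin 2) F
local notation "PSL2F" => Matrix.ProjectiveSpecialLinearGroup (Fin 2) F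
local notation "PGL2F" => Matrix.ProjGenLinGroup (Fin 2) F
local notation "τ" => (Matrix.ProjectiveSpecialLinearGroup.toPGL (n := Fin 2) (R := F))

theorem lsub_ne_top (hodd : Odd (Fintype.card F)) : Lsub F ≠ ⊤ := by
  intro h
  have := index_Lsub (F := F) hodd
  rw [h, Subgroup.index_top] at this
  omega

theorem not_le_lsub (hodd : Odd (Fintype.card F)) (M : Subgroup PGL2F) (hM : IsCoatom M)
    (hML : ¬ Lsub F ≤ M) : ¬ M ≤ Lsub F := by
  intro h
  rcases hM.le_iff.1 h with h1 | h1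
  · exact lsub_ne_top hodd h1
  · exact hML (le_of_eq h1)

theorem le_normalizer_inf_lsub (hodd : Odd (Fintype.card F)) (M : Subgroup PGL2F) :
    M ≤ Subgroup.normalizer ((M ⊓ Lsub F : Subgroup PGL2F) : Set PGL2F) := by
  haveI hLn := lsub_normal (F := F) hodd
  intro m hm
  apply mem_normalizer_of_conj
  · intro y hy
    exact ⟨M.mul_mem (M.mul_mem hm hy.1) (M.inv_mem hm), hLn.conj_mem y hy.2 m⟩
  · intro y hy
    refine ⟨M.mul_mem (M.mul_mem (M.inv_mem hm) hy.1) hm, ?_⟩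
    have := hLn.conj_mem y hy.2 m⁻¹
    rwa [inv_inv] at this

/-- conjugation by an invertible matrix on subgroups: compatibility with `toPGL` -/
theorem map_tau_conj (P Q : M2F) (hPQ : P * Q = 1) (hQP : Q * P = 1) (S' : Subgroup PSL2F) :
    (S'.map (conjPSL P Q hPQ hQP).toMonoidHom).map τ =
      (S'.map τ).map (MulAut.conj (Matrix.ProjGenLinGroup.mk (⟨P, Q, hPQ, hQP⟩ : GL2F))).toMonoidHom := by
  rw [Subgroup.map_map, Subgroup.map_map]
  congr 1
  ext x
  exact toPGL_conjPSL P Q hPQ hQP x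

theorem comap_conj_eq (P Q : M2F) (hPQ : P * Q = 1) (hQP : Q * P = 1) (M : Subgroup PGL2F) :
    (M.map (MulAut.conj (Matrix.ProjGenLinGroup.mk (⟨P, Q, hPQ, hQP⟩ : GL2F))).toMonoidHom).comap τ =
      (M.comap τ).map (conjPSL P Q hPQ hQP).toMonoidHom := by
  set g : PGL2F := Matrix.ProjGenLinGroup.mk (⟨P, Q, hPQ, hQP⟩ : GL2F) with hg
  set α := conjPSL P Q hPQ hQP with hα
  ext x
  constructor
  · rintro ⟨m, hm, hmx⟩
    refine ⟨α.symm x, ?_, α.apply_symm_apply x⟩
    show τ (α.symm x) ∈ M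
    have h1 := toPGL_conjPSL P Q hPQ hQP (α.symm x)
    rw [← hα, α.apply_symm_apply, ← hg] at h1
    have h2 : g * m * g⁻¹ = g * τ (α.symm x) * g⁻¹ := by
      rw [← h1]; exact hmx
    have : τ (α.symm x) = m := (mul_left_cancel (mul_right_cancel h2)).symm
    rw [this]; exact hm
  · rintro ⟨x0, hx0, rfl⟩
    show τ (α x0) ∈ M.map (MulAut.conj g).toMonoidHom
    rw [hα, toPGL_conjPSL, ← hg]
    exact ⟨τ x0, hx0, rfl⟩

theorem not_lsub_le_conj (hodd : Odd (Fintype.card F)) (g : PGL2F) (M : Subgroup PGL2F)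
    (hML : ¬ Lsub F ≤ M) : ¬ Lsub F ≤ M.map (MulAut.conj g).toMonoidHom := by
  haveI hLn := lsub_normal (F := F) hodd
  intro h
  apply hML
  intro x hx
  have h1 : g * x * g⁻¹ ∈ Lsub F := hLn.conj_mem x hx g
  obtain ⟨m, hm, hmx⟩ := h h1
  have : m = x := (MulAut.conj g).injective hmx
  rw [← this]; exact hm

variable (p : ℕ) [Fact p.Prime] [CharP F p]

include p in
theorem concl_of_eq_GK (hodd : Odd (Fintype.card F)) (K : Subfield F) (M : Subgroup PGL2F)
    (hM : IsCoatom M) (hML : ¬ Lsub F ≤ M) (h : M = GK K) : ConclPG (Fintype.card F) M := by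
  subst h
  obtain ⟨r, hr, hr2, hq⟩ := coatom_GK_degree p hodd K hM (not_le_lsub hodd _ hM hML)
  obtain ⟨e⟩ := nonempty_GK_equiv K
  exact conclPG_pgl e r hr hr2 hq

include p in
/-- the subfield case, final step -/
theorem subfield_final (hodd : Odd (Fintype.card F)) (h5 : 5 ≤ Fintype.card F) (K : Subfield F)
    (M : Subgroup PGL2F) (hM : IsCoatom M) (hML : ¬ Lsub F ≤ M)
    (P Q : M2F) (hPQ : P * Q = 1) (hQP : Q * P = 1)
    (h : (M.comap τ).map (conjPSL P Q hPQ hQP).toMonoidHom = stdPSL K)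
    (hcard : Nat.card M = Nat.card K * (Nat.card K ^ 2 - 1)) : ConclPG (Fintype.card F) M := by
  classical
  haveI := finite_PGL2F (F := F)
  have h2 := two_ne_zero_of_odd hodd
  have hinj := Matrix.ProjectiveSpecialLinearGroup.toPGL_injective (n := Fin 2) (R := F)
  set g : PGL2F := Matrix.ProjGenLinGroup.mk (⟨P, Q, hPQ, hQP⟩ : GL2F) with hg
  set M₁ := M.map (MulAut.conj g).toMonoidHom with hM₁def
  have hM₁ : IsCoatom M₁ := isCoatom_map_equiv (MulAut.conj g) M hM
  have hML₁ : ¬ Lsub F ≤ M₁ := not_lsub_le_conj hodd g M hML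
  have eM : M ≃* M₁ := M.equivMapOfInjective _ (MulAut.conj g).injective
  have hcomap : M₁.comap τ = stdPSL K := by rw [hM₁def, hg, comap_conj_eq, h]
  have hX₁ : (stdPSL K).map τ = M₁ ⊓ Lsub F := by rw [← hcomap, map_comap_tau]
  have hN : Subgroup.normalizer (((stdPSL K).map τ : Subgroup PGL2F) : Set PGL2F) = M₁ := by
    rw [hX₁]
    apply normalizer_eq_of_le_Lsub h5 M₁ hM₁ (M₁ ⊓ Lsub F) inf_le_right
    · rw [← hX₁]
      intro h0
      exact stdPSL_ne_bot h2 K ((Subgroup.map_eq_bot_iff_of_injective _ hinj).1 h0)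
    · intro h'
      apply hML₁
      rw [← h']; exact inf_le_left
    · exact le_normalizer_inf_lsub hodd M₁
  have hc2 : Nat.card (GK K) = 2 * Nat.card ((stdPSL K).map τ : Subgroup PGL2F) := by
    rw [card_GK, Subgroup.card_map_of_injective hinj, two_mul_card_stdPSL hodd K]
  have hGK : GK K ≤ M₁ := by
    rw [← hN]
    intro x hx
    apply mem_normalizer_of_conj
    · intro y hy
      exact conj_mem_of_card_eq_two_mul _ (GK K) (map_stdPSL_le_GK K) hc2 hx hy
    · intro y hy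
      have := conj_mem_of_card_eq_two_mul _ (GK K) (map_stdPSL_le_GK K) hc2
        ((GK K).inv_mem hx) hy
      rwa [inv_inv] at this
  have hEq : GK K = M₁ :=
    Subgroup.eq_of_le_of_card_ge hGK (by rw [card_GK, ← Nat.card_congr eM.toEquiv, hcard])
  exact (concl_of_eq_GK p hodd K M₁ hM₁ hML₁ hEq.symm).congr eM.symm

include p in
/-- the case `M ≅ S₄` -/
theorem s4_final (hodd : Odd (Fintype.card F)) (h5 : 5 ≤ Fintype.card F)
    (M : Subgroup PGL2F) (hM : IsCoatom M) (hML : ¬ Lsub F ≤ M)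
    (e : M ≃* Equiv.Perm (Fin 4)) : ConclPG (Fintype.card F) M := by
  classical
  haveI := finite_PGL2F (F := F)
  haveI hLn := lsub_normal (F := F) hodd
  have hpp : p.Prime := Fact.out
  have h2 := two_ne_zero_of_odd hodd
  have hp : p ≠ 2 := by
    intro hp2
    apply h2
    have := CharP.cast_eq_zero F p
    rw [hp2] at this
    exact_mod_cast this
  have hinj := Matrix.ProjectiveSpecialLinearGroup.toPGL_injective (n := Fin 2) (R := F)
  have hcardM : Nat.card M = 24 := by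
    rw [Nat.card_congr e.toEquiv]; exact Cfsg.Agent.Helper46.Dk.card_S4'
  have hcardX : Nat.card (M.comap τ) = 12 := by
    have := two_mul_card_comap hodd M hM hML
    omega
  obtain ⟨V, M0, hV, hVM0, hM0M, hMN, ⟨e0⟩⟩ := klein_of_S4 M e
  have hM0L : M0 ≤ Lsub F := le_of_no_index_two (Lsub F) M0 (index_Lsub hodd)
    (no_index_two_of_equiv e0 no_index_two_A4)
  have hVL : V ≤ Lsub F := hVM0.trans hM0L
  have hVM : V ≤ M := hVM0.trans hM0M
  have hV4 := hV.card_four
  have hV1 : V ≠ ⊥ := by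
    intro h
    rw [h, Subgroup.card_bot] at hV4
    omega
  have hV2 : V ≠ Lsub F := by
    intro h
    apply hML
    rw [← h]; exact hVM
  have hNV := normalizer_comap_eq h5 M hM V hVL hV1 hV2 hMN
  set V' := V.comap τ with hV'
  set X' := M.comap τ with hX'
  have hV'map : V'.map τ = V := by rw [hV', map_comap_tau, inf_eq_left.2 hVL]
  have hV'K : IsKleinFour V' := isKleinFour_of_mulEquiv hV
    ((V'.equivMapOfInjective τ hinj).trans (MulEquiv.subgroupCongr hV'map)).symm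
  have hV'X : V' ≤ X' := Subgroup.comap_mono hVM
  have hq8 : Fintype.card F % 8 = 3 ∨ Fintype.card F % 8 = 5 := by
    rcases card_normalizer_klein hodd V' hV'K with ⟨-, h24⟩ | ⟨h8, -⟩
    · rw [hNV, hcardX] at h24; omega
    · exact h8
  have hM0comap : M0.comap τ = X' := by
    apply Subgroup.eq_of_le_of_card_ge (Subgroup.comap_mono hM0M)
    have : Nat.card (M0.comap τ) = Nat.card M0 := by
      rw [← Subgroup.card_map_of_injective hinj, map_comap_tau, inf_eq_left.2 hM0L]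
    rw [this, Nat.card_congr e0.toEquiv, Cfsg.Agent.Helper46.Dk.card_A4', hcardX]
  have htr : ∀ g : SL2F, QuotientGroup.mk' (Subgroup.center SL2F) g ∈ X' →
      tr g ∈ (⊥ : Subfield F) := by
    intro g hg
    rw [← hM0comap] at hg
    have hg' : τ (QuotientGroup.mk' (Subgroup.center SL2F) g) ∈ M0 := hg
    have h1 := a4_orders' (e0 ⟨_, hg'⟩)
    rcases h1 with h1 | h1
    · apply tr_mem_of_sq
      apply pow_mem_center_of_mk_pow
      have h3 : (⟨_, hg'⟩ : M0) ^ 2 = 1 := by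
        apply e0.injective; rw [map_pow, h1, map_one]
      have h4 := congrArg Subtype.val h3
      apply hinj
      rw [map_pow, map_one]
      exact h4
    · apply tr_mem_of_cube
      apply pow_mem_center_of_mk_pow
      have h3 : (⟨_, hg'⟩ : M0) ^ 3 = 1 := by
        apply e0.injective; rw [map_pow, h1, map_one]
      have h4 := congrArg Subtype.val h3
      apply hinj
      rw [map_pow, map_one]
      exact h4
  obtain ⟨P, Q, hPQ, hQP, hα⟩ := exists_aut_le_stdPSL' hodd ⊥ X' V' hV'K hV'X htr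
  set α := conjPSL P Q hPQ hQP with hαdef
  set g : PGL2F := Matrix.ProjGenLinGroup.mk (⟨P, Q, hPQ, hQP⟩ : GL2F) with hg
  set M₁ := M.map (MulAut.conj g).toMonoidHom with hM₁def
  have hM₁ : IsCoatom M₁ := isCoatom_map_equiv (MulAut.conj g) M hM
  have hML₁ : ¬ Lsub F ≤ M₁ := not_lsub_le_conj hodd g M hML
  have eM : M ≃* M₁ := M.equivMapOfInjective _ (MulAut.conj g).injective
  have hcardM₁ : Nat.card M₁ = 24 := by rw [← Nat.card_congr eM.toEquiv, hcardM]
  have hcomap : M₁.comap τ = X'.map α.toMonoidHom := by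
    rw [hM₁def, hg, comap_conj_eq]
  set X₁' := X'.map α.toMonoidHom with hX₁'
  set V₁' := V'.map α.toMonoidHom with hV₁'
  have hV₁'K : IsKleinFour V₁' :=
    isKleinFour_of_mulEquiv hV'K (V'.equivMapOfInjective α.toMonoidHom α.injective)
  set N0' := stdPSL (⊥ : Subfield F) with hN0'
  have hV₁'X₁ : V₁' ≤ X₁' := Subgroup.map_mono hV'X
  have hNV₁' : Subgroup.normalizer (V₁' : Set PSL2F) = X₁' := by
    have h1 : Subgroup.normalizer (V₁' : Set PSL2F) =
        (Subgroup.normalizer (V' : Set PSL2F)).map α.toMonoidHom :=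
      (Subgroup.map_equiv_normalizer_eq V' α).symm
    rw [h1, hNV]
  have hcardX₁' : Nat.card X₁' = 12 := by
    rw [hX₁', Subgroup.card_map_of_injective (f := α.toMonoidHom) α.injective, hcardX]
  have hcardbot : Nat.card (⊥ : Subfield F) = p := card_bot p hp
  have hp8 : p % 8 = 3 ∨ p % 8 = 5 := by
    have hpodd := Nat.odd_iff.1 (hpp.odd_of_ne_two hp)
    by_contra hcon
    have h8 : p % 8 = 1 ∨ p % 8 = 7 := by omega
    have h24 := card_normalizer_inf_stdPSL_24 (⊥ : Subfield F) (by rw [hcardbot]; exact h8) V₁'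
      (hV₁'X₁.trans hα) hV₁'K
    rw [hNV₁'] at h24
    have h25 := Subgroup.card_le_of_le
      (inf_le_left : (X₁' ⊓ stdPSL (⊥ : Subfield F) : Subgroup PSL2F) ≤ X₁')
    rw [h24, hcardX₁'] at h25
    omega
  set H1 := GK (⊥ : Subfield F) with hH1
  set N0 := N0'.map τ with hN0
  have hN0H1 : N0 ≤ H1 := map_stdPSL_le_GK ⊥
  have hN0L : N0 ≤ Lsub F := by
    rw [Lsub_eq_range]; exact Subgroup.map_le_range _ _
  have hcardH1 : Nat.card H1 = 2 * Nat.card N0 := by
    rw [hH1, card_GK, hN0, Subgroup.card_map_of_injective hinj, two_mul_card_stdPSL hodd ⊥]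
  have hN0pos : 0 < Nat.card N0 := Nat.card_pos
  obtain ⟨h0, hh0, hh0N⟩ : ∃ x ∈ H1, x ∉ N0 := by
    by_contra hcon
    push_neg at hcon
    have : H1 = N0 := le_antisymm hcon hN0H1
    rw [this] at hcardH1
    omega
  set V₁ := V₁'.map τ with hV₁
  have hV₁K : IsKleinFour V₁ :=
    isKleinFour_of_mulEquiv hV₁'K (V₁'.equivMapOfInjective τ hinj)
  have hV₁N0 : V₁ ≤ N0 := Subgroup.map_mono (hV₁'X₁.trans hα)
  set W := V₁.map (MulAut.conj h0).toMonoidHom with hW
  have hWK : IsKleinFour W := isKleinFour_map_conj V₁ hV₁K h0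
  have hWN0 : W ≤ N0 := by
    rintro _ ⟨v, hv, rfl⟩
    exact conj_mem_of_card_eq_two_mul N0 H1 hN0H1 hcardH1 hh0 (hV₁N0 hv)
  set W' := W.comap τ with hW'
  have hW'map : W'.map τ = W := by
    rw [hW', map_comap_tau, inf_eq_left.2 (hWN0.trans hN0L)]
  have hW'N0 : W' ≤ N0' := by
    intro x hx
    obtain ⟨y, hy, hyx⟩ := hWN0 hx
    rw [← hinj hyx]; exact hy
  have hW'K : IsKleinFour W' := isKleinFour_of_mulEquiv hWK
    ((W'.equivMapOfInjective τ hinj).trans (MulEquiv.subgroupCongr hW'map)).symm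
  obtain ⟨g1, hg1N0, hg1W⟩ := klein_conj_in_stdPSL (⊥ : Subfield F)
    (by rw [hcardbot]; exact hp8) V₁' W' (hV₁'X₁.trans hα) hW'N0 hV₁'K hW'K
  -- `W = V₁^(τ g1)`
  have hWeq : W = V₁.map (MulAut.conj (τ g1)).toMonoidHom := by
    have e0 : (τ : PSL2F →* PGL2F).comp (MulAut.conj g1).toMonoidHom =
        (MulAut.conj (τ g1)).toMonoidHom.comp τ := by
      ext x
      simp
    rw [← hW'map, hg1W, Subgroup.map_map, e0, ← Subgroup.map_map]
  -- `h = (τ g1)⁻¹ h0` normalizes `V₁`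
  have hhV : V₁.map (MulAut.conj ((τ g1)⁻¹ * h0)).toMonoidHom = V₁ := by
    have e1 : (MulAut.conj ((τ g1)⁻¹ * h0)).toMonoidHom =
        (MulAut.conj (τ g1)⁻¹).toMonoidHom.comp (MulAut.conj h0).toMonoidHom := by
      ext x
      simp [mul_assoc]
    rw [e1, ← Subgroup.map_map, ← hW, hWeq, Subgroup.map_map]
    have e2 : (MulAut.conj (τ g1)⁻¹).toMonoidHom.comp (MulAut.conj (τ g1)).toMonoidHom =
        MonoidHom.id PGL2F := by
      ext x
      simp [mul_assoc]
    rw [e2, Subgroup.map_id]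
  -- `N_G(V₁) = M₁`
  have hV₁conj : V₁ = V.map (MulAut.conj g).toMonoidHom := by
    rw [hV₁, hV₁', hαdef, map_tau_conj, hV'map]
  have hV₁L : V₁ ≤ Lsub F := hV₁N0.trans hN0L
  have hV₁4 := hV₁K.card_four
  have hV₁1 : V₁ ≠ ⊥ := by
    intro h
    rw [h, Subgroup.card_bot] at hV₁4
    omega
  have hM₁N : M₁ ≤ Subgroup.normalizer (V₁ : Set PGL2F) := by
    rw [hV₁conj, ← Subgroup.map_equiv_normalizer_eq V (MulAut.conj g)]
    exact Subgroup.map_mono hMN
  have hV₁M₁ : V₁ ≤ M₁ := by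
    rw [hV₁conj]; exact Subgroup.map_mono hVM
  have hV₁2 : V₁ ≠ Lsub F := by
    intro h
    apply hML₁
    rw [← h]; exact hV₁M₁
  have hNV₁ := normalizer_eq_of_le_Lsub h5 M₁ hM₁ V₁ hV₁L hV₁1 hV₁2 hM₁N
  have hhM₁ : (τ g1)⁻¹ * h0 ∈ M₁ := by
    rw [← hNV₁]
    exact mem_normalizer_of_map_conj_eq V₁ _ hhV
  have hg1N0' : τ g1 ∈ N0 := ⟨g1, hg1N0, rfl⟩
  have hhH1 : (τ g1)⁻¹ * h0 ∈ H1 := H1.mul_mem (H1.inv_mem (hN0H1 hg1N0')) hh0
  have hhN0 : (τ g1)⁻¹ * h0 ∉ N0 := by
    intro hcon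
    apply hh0N
    have : h0 = τ g1 * ((τ g1)⁻¹ * h0) := by group
    rw [this]; exact N0.mul_mem hg1N0' hcon
  -- `X₁ = τ(X₁') ≤ M₁ ⊓ H1`
  set X₁ := X₁'.map τ with hX₁
  have hX₁M₁ : X₁ ≤ M₁ := by
    rw [hX₁, ← hcomap, map_comap_tau]; exact inf_le_left
  have hX₁N0 : X₁ ≤ N0 := Subgroup.map_mono hα
  have hcardX₁ : Nat.card X₁ = 12 := by
    rw [hX₁, Subgroup.card_map_of_injective hinj, hcardX₁']
  have hle1 : X₁ ≤ M₁ ⊓ H1 := le_inf hX₁M₁ (hX₁N0.trans hN0H1)
  have hd1 : 12 ∣ Nat.card (M₁ ⊓ H1 : Subgroup PGL2F) := by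
    rw [← hcardX₁]; exact Subgroup.card_dvd_of_le hle1
  have hd2 : Nat.card (M₁ ⊓ H1 : Subgroup PGL2F) ∣ 24 := by
    rw [← hcardM₁]; exact Subgroup.card_dvd_of_le inf_le_left
  have hne12 : Nat.card (M₁ ⊓ H1 : Subgroup PGL2F) ≠ 12 := by
    intro hcon
    have : X₁ = M₁ ⊓ H1 := Subgroup.eq_of_le_of_card_ge hle1 (by rw [hcon, hcardX₁])
    apply hhN0
    have hmem : (τ g1)⁻¹ * h0 ∈ M₁ ⊓ H1 := ⟨hhM₁, hhH1⟩
    rw [← this] at hmem
    exact hX₁N0 hmem
  have hcard24 : Nat.card (M₁ ⊓ H1 : Subgroup PGL2F) = 24 := by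
    obtain ⟨a, ha⟩ := hd1
    rw [ha] at hd2 hne12
    have ha2 : a ∣ 2 := by
      have : 12 * a ∣ 12 * 2 := hd2
      exact (Nat.mul_dvd_mul_iff_left (by norm_num)).1 this
    rcases (Nat.dvd_prime Nat.prime_two).1 ha2 with h | h
    · rw [h] at hne12; exact absurd rfl hne12
    · rw [ha, h]
  have hM₁H1 : M₁ ≤ H1 := by
    have : M₁ ⊓ H1 = M₁ := Subgroup.eq_of_le_of_card_ge inf_le_left (by rw [hcard24, hcardM₁])
    rw [← this]; exact inf_le_right
  rcases hM₁.le_iff.1 hM₁H1 with htop | heq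
  · -- `GK ⊥ = ⊤`: `q = p`
    have hq : Fintype.card F = p := by
      have h1 : Nat.card H1 = Nat.card PGL2F := by
        rw [htop]
        exact Nat.card_congr (Subgroup.topEquiv (G := PGL2F)).toEquiv
      rw [hH1, card_GK, card_PGL2F, hcardbot] at h1
      exact (mul_sq_pred_inj hpp.pos Fintype.card_pos h1).symm
    right; right; right; left
    exact ⟨by rw [hq]; exact hpp, hq8, ⟨e⟩⟩
  · exact (concl_of_eq_GK p hodd ⊥ M₁ hM₁ hML₁ heq.symm).congr eM.symm

end Final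

end Cfsg.Agent.Helper46.Pg
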