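import Mathlib
import Cfsg.Agent.Helper46.PgF

set_option autoImplicit false

namespace Cfsg.Agent.Helper46.Pg

open Matrix Cfsg.Agent.Helper46 Cfsg.Agent.Helper46.Dk Cfsg.Agent.Helper46.Mx Cfsg.Agent.Helper41
  Cfsg.Agent.Helper41.DkR

section Traces

variable {F : Type*} [Field F]

local notation "M2F" => Matrix (Fin 2) (Fin 2) F
local notation "SL2F" => Matrix.SpecialLinearGroup (Fin 2) F

theorem tr_conjSL (P Q : M2F) (hPQ : P * Q = 1) (hQP : Q * P = 1) (g : SL2F) :
    tr (conjSL P Q hPQ hQP g) = tr g := by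
  have h1 : tr (conjSL P Q hPQ hQP g) = (P * g.1 * Q).trace := by
    rw [Matrix.trace_fin_two]; rfl
  rw [h1, Matrix.trace_mul_cycle, hQP, Matrix.one_mul, Matrix.trace_fin_two]
  rfl

theorem tr_slmap {E : Type*} [Field E] (ι : F →+* E) (g : SL2F) :
    tr (Matrix.SpecialLinearGroup.map ι g) = ι (tr g) := by
  unfold tr
  rw [map_add]
  rfl

end Traces

section Subfield

variable {F : Type*} [Field F] [Fintype F]

local notation "M2F" => Matrix (Fin 2) (Fin 2) F
local notation "GL2F" => GL (Fin 2) F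
local notation "SL2F" => Matrix.SpecialLinearGroup (Fin 2) F
local notation "PSL2F" => Matrix.ProjectiveSpecialLinearGroup (Fin 2) F
local notation "PGL2F" => Matrix.ProjGenLinGroup (Fin 2) F
local notation "τ" => (Matrix.ProjectiveSpecialLinearGroup.toPGL (n := Fin 2) (R := F))

variable (p : ℕ) [Fact p.Prime] [CharP F p]

include p in
/-- the subfield case -/
theorem subfield_main (hodd : Odd (Fintype.card F)) (h5 : 5 ≤ Fintype.card F)
    (M : Subgroup PGL2F) (hM : IsCoatom M) (hML : ¬ Lsub F ≤ M)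
    {E : Type*} [Field E] [Fintype E] (ι : F →+* E)
    (ψ : PGL2F →* Matrix.ProjectiveSpecialLinearGroup (Fin 2) E)
    (hcardE : Fintype.card E = Fintype.card F ^ 2) (hψ : Function.Injective ψ)
    (hψτ : ∀ A : SL2F, ψ (Matrix.ProjGenLinGroup.mk (Matrix.SpecialLinearGroup.toGL A)) =
      pslEmbHom ι A)
    (hfr : SubfieldFrame (liftRep (M.map ψ))) : ConclPG (Fintype.card F) M := by
  classical
  haveI := finite_PGL2F (F := F)
  have h2 := two_ne_zero_of_odd hodd
  have hoddE : Odd (Fintype.card E) := by rw [hcardE]; exact hodd.pow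
  have h2E := two_ne_zero_of_odd hoddE
  have hinj := Matrix.ProjectiveSpecialLinearGroup.toPGL_injective (n := Fin 2) (R := F)
  obtain ⟨K₂, P₂, Q₂, hPQ₂, hQP₂, hstd, hcases⟩ := frame_conj hoddE (M.map ψ) hfr
  have eM : M ≃* M.map ψ := M.equivMapOfInjective ψ hψ
  rcases hcases with hno | hcard
  · exfalso
    exact not_le_lsub hodd M hM hML (le_of_no_index_two (Lsub F) M (index_Lsub hodd)
      (no_index_two_of_equiv eM hno))
  have hcardM : Nat.card M = Nat.card K₂ * (Nat.card K₂ ^ 2 - 1) := by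
    rw [Nat.card_congr eM.toEquiv, hcard]
  set α₂ := conjPSL P₂ Q₂ hPQ₂ hQP₂ with hα₂
  set Ψ : PGL2F →* Matrix.ProjectiveSpecialLinearGroup (Fin 2) E := α₂.toMonoidHom.comp ψ with hΨ
  have hΨinj : Function.Injective Ψ := α₂.injective.comp hψ
  have hstd' : stdPSL K₂ ≤ M.map Ψ := by
    rw [hΨ, ← Subgroup.map_map]; exact hstd
  set Y := (stdPSL K₂).comap Ψ with hY
  have hYM : Y ≤ M := by
    intro y hy
    obtain ⟨m, hm, hmy⟩ := hstd' hy
    rw [← hΨinj hmy]; exact hm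
  have hYmap : Y.map Ψ = stdPSL K₂ :=
    Subgroup.map_comap_eq_self (hstd'.trans (Subgroup.map_le_range _ _))
  obtain ⟨φ₂⟩ := nonempty_stdPSL_equiv K₂
  have eY : Y ≃* stdPSL K₂ :=
    (Y.equivMapOfInjective Ψ hΨinj).trans (MulEquiv.subgroupCongr hYmap)
  have h2K₂ : (2 : K₂) ≠ 0 := by
    intro h
    apply h2E
    have := congrArg K₂.subtype h
    rw [map_ofNat, map_zero] at this
    exact this
  have hYno : ∀ N : Subgroup Y, N.index ≠ 2 :=
    no_index_two_of_equiv (eY.trans φ₂) (no_index_two_PSL2 h2K₂)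
  have hYL : Y ≤ Lsub F := le_of_no_index_two (Lsub F) Y (index_Lsub hodd) hYno
  set X' := M.comap τ with hX'
  set Θ : PSL2F →* Matrix.ProjectiveSpecialLinearGroup (Fin 2) E := Ψ.comp τ with hΘ
  have hΘinj : Function.Injective Θ := hΨinj.comp hinj
  have c3 := two_mul_card_stdPSL hoddE K₂
  have c4 := two_mul_card_comap hodd M hM hML
  have hY' : (stdPSL K₂).comap Θ = X' := by
    have h1 : (stdPSL K₂).comap Θ = Y.comap τ := (Subgroup.comap_comap _ _ _).symm
    rw [h1]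
    apply Subgroup.eq_of_le_of_card_ge (Subgroup.comap_mono hYM)
    have c1 : Nat.card (Y.comap τ) = Nat.card Y := by
      rw [← Subgroup.card_map_of_injective hinj, map_comap_tau, inf_eq_left.2 hYL]
    have c2 : Nat.card Y = Nat.card (stdPSL K₂) := Nat.card_congr eY.toEquiv
    omega
  have hΘmk : ∀ A : SL2F, Θ (QuotientGroup.mk' (Subgroup.center SL2F) A) =
      QuotientGroup.mk' _ (conjSL P₂ Q₂ hPQ₂ hQP₂ (Matrix.SpecialLinearGroup.map ι A)) := by
    intro A
    show α₂ (ψ (Matrix.ProjGenLinGroup.mk (Matrix.SpecialLinearGroup.toGL A))) = _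
    rw [hψτ]
    rfl
  have hT : ∀ (A : SL2F) (B : Matrix.SpecialLinearGroup (Fin 2) E),
      Θ (QuotientGroup.mk' (Subgroup.center SL2F) A) = QuotientGroup.mk' _ B →
      ∃ r : E, (r = 1 ∨ r = -1) ∧ tr B = r * ι (tr A) := by
    intro A B hAB
    rw [hΘmk] at hAB
    obtain ⟨r, hr, hB⟩ := coe_eq_smul_of_mk_eq _ _ hAB
    refine ⟨r, hr, ?_⟩
    have h3 : tr (conjSL P₂ Q₂ hPQ₂ hQP₂ (Matrix.SpecialLinearGroup.map ι A)) = ι (tr A) := by
      rw [tr_conjSL, tr_slmap]
    rw [← h3]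
    unfold tr
    have e00 := congrFun (congrFun hB 0) 0
    have e11 := congrFun (congrFun hB 1) 1
    simp only [Matrix.smul_apply, smul_eq_mul] at e00 e11
    rw [e00, e11]
    ring
  set K : Subfield F := K₂.comap ι with hK
  have htrX : ∀ A : SL2F, QuotientGroup.mk' (Subgroup.center SL2F) A ∈ X' → tr A ∈ K := by
    intro A hA
    rw [← hY'] at hA
    have h1 : Θ (QuotientGroup.mk' (Subgroup.center SL2F) A) ∈ stdPSL K₂ := hA
    rw [hΘmk, mem_stdPSL_iff, mem_ratSub] at h1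
    show ι (tr A) ∈ K₂
    rw [← tr_slmap, ← tr_conjSL P₂ Q₂ hPQ₂ hQP₂]
    unfold tr
    exact K₂.add_mem h1.1 h1.2.2.2
  have hstdΘ : ∀ B : Matrix.SpecialLinearGroup (Fin 2) E, B ∈ ratSub K₂ →
      ∃ A : SL2F, QuotientGroup.mk' (Subgroup.center SL2F) A ∈ X' ∧
        Θ (QuotientGroup.mk' (Subgroup.center SL2F) A) = QuotientGroup.mk' _ B := by
    intro B hB
    have h1 : QuotientGroup.mk' _ B ∈ stdPSL K₂ := (mem_stdPSL_iff K₂ B).2 hB
    rw [← hYmap] at h1
    obtain ⟨y, hy, hyB⟩ := h1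
    have hyL := hYL hy
    rw [Lsub_eq_range] at hyL
    obtain ⟨x, rfl⟩ := hyL
    obtain ⟨A, rfl⟩ := QuotientGroup.mk'_surjective _ x
    exact ⟨A, hYM hy, hyB⟩
  have hK₂le : K₂ ≤ ι.fieldRange := by
    intro a ha
    obtain ⟨A, -, hAB⟩ := hstdΘ (mk4 a 1 (-1) 0 (by ring)) (by
      rw [mem_ratSub]
      exact ⟨ha, K₂.one_mem, K₂.neg_mem K₂.one_mem, K₂.zero_mem⟩)
    obtain ⟨r, hr, htr⟩ := hT A _ hAB
    have ha' : a = r * ι (tr A) := by
      rw [← htr]; unfold tr; simp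
    rcases hr with rfl | rfl
    · exact ⟨tr A, by rw [ha', one_mul]⟩
    · exact ⟨-tr A, by rw [ha', map_neg]; ring⟩
  have hcardK : Nat.card K = Nat.card K₂ := by
    let f : K → K₂ := fun x => ⟨ι x.1, x.2⟩
    have hf : Function.Bijective f := by
      constructor
      · intro x y hxy
        apply Subtype.ext
        apply ι.injective
        exact congrArg Subtype.val hxy
      · rintro ⟨a, ha⟩
        obtain ⟨x, hx⟩ := hK₂le ha
        exact ⟨⟨x, by show ι x ∈ K₂; rw [hx]; exact ha⟩, Subtype.ext hx⟩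
    exact Nat.card_congr (Equiv.ofBijective f hf)
  -- a quaternion pair in `X'`
  obtain ⟨y₂, z₂, hy₂, hz₂, hyz₂⟩ := exists_sum_sq hoddE K₂
  have hyz₂' : y₂ * (-y₂) - z₂ * z₂ = 1 := by linear_combination -hyz₂
  obtain ⟨I, hIX, hIΘ⟩ := hstdΘ (mk4 0 (-1) 1 0 (by ring)) (by
    rw [mem_ratSub]
    exact ⟨K₂.zero_mem, K₂.neg_mem K₂.one_mem, K₂.one_mem, K₂.zero_mem⟩)
  obtain ⟨J, hJX, hJΘ⟩ := hstdΘ (mk4 y₂ z₂ z₂ (-y₂) hyz₂') (by
    rw [mem_ratSub]
    exact ⟨hy₂, hz₂, hz₂, K₂.neg_mem hy₂⟩)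
  have hzero : ∀ (A : SL2F) (B : Matrix.SpecialLinearGroup (Fin 2) E),
      Θ (QuotientGroup.mk' (Subgroup.center SL2F) A) = QuotientGroup.mk' _ B → tr B = 0 →
      tr A = 0 := by
    intro A B hAB hB0
    obtain ⟨r, hr, htr⟩ := hT A B hAB
    rw [hB0] at htr
    have hr0 : r ≠ 0 := by
      rcases hr with rfl | rfl
      · exact one_ne_zero
      · exact neg_ne_zero.2 one_ne_zero
    have := (mul_eq_zero.1 htr.symm).resolve_left hr0
    exact ι.injective (by rw [this, map_zero])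
  have hI0 : tr I = 0 := hzero I _ hIΘ (by unfold tr; simp)
  have hJ0 : tr J = 0 := hzero J _ hJΘ (by unfold tr; simp)
  have hIJ0 : tr (I * J) = 0 := by
    apply hzero (I * J) (mk4 0 (-1) 1 0 (by ring) * mk4 y₂ z₂ z₂ (-y₂) hyz₂')
    · rw [map_mul, map_mul, map_mul, hIΘ, hJΘ]
    · unfold tr
      rw [mul_00, mul_11]; simp
  obtain ⟨hII, hJJ, hJI⟩ := quat_of_traces I J hI0 hJ0 hIJ0
  obtain ⟨y, z, hy, hz, hyz⟩ := exists_sum_sq hodd K
  obtain ⟨P, Q, hPQ, hQP, hα⟩ := exists_conj_le_stdPSL' h2 K X' I J hII hJJ hJI hIX hJX y z hy hz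
    hyz htrX
  have hαeq : X'.map (conjPSL P Q hPQ hQP).toMonoidHom = stdPSL K := by
    apply Subgroup.eq_of_le_of_card_ge hα
    have c5 := two_mul_card_stdPSL hodd K
    have c6 : Nat.card (X'.map (conjPSL P Q hPQ hQP).toMonoidHom) = Nat.card X' :=
      Subgroup.card_map_of_injective (f := (conjPSL P Q hPQ hQP).toMonoidHom)
        (conjPSL P Q hPQ hQP).injective
    rw [hcardK] at c5
    have c7 : 2 * Nat.card (stdPSL K) = 2 * Nat.card X' := by rw [c5, c4, hcardM]
    omega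
  exact subfield_final p hodd h5 K M hM hML P Q hPQ hQP hαeq (by rw [hcardM, hcardK])

end Subfield

section Main

variable {F : Type*} [Field F] [Fintype F]

local notation "SL2F" => Matrix.SpecialLinearGroup (Fin 2) F
local notation "PSL2F" => Matrix.ProjectiveSpecialLinearGroup (Fin 2) F
local notation "PGL2F" => Matrix.ProjGenLinGroup (Fin 2) F
local notation "τ" => (Matrix.ProjectiveSpecialLinearGroup.toPGL (n := Fin 2) (R := F))

/-- maximal subgroups of `PGL₂(q)`, `q` odd, not containing `PSL₂(q)` -/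
theorem concl_main (hodd : Odd (Fintype.card F)) (h3 : 3 < Fintype.card F)
    (M : Subgroup PGL2F) (hM : IsCoatom M) (hML : ¬ Lsub F ≤ M) :
    ConclPG (Fintype.card F) M := by
  classical
  obtain ⟨p, hchar⟩ := CharP.exists F
  haveI := hchar
  obtain ⟨n, hpp, hq⟩ := FiniteField.card F p
  haveI : Fact p.Prime := ⟨hpp⟩
  have h5 : 5 ≤ Fintype.card F := by
    obtain ⟨t, ht⟩ := hodd
    omega
  haveI := finite_PGL2F (F := F)
  have hinj := Matrix.ProjectiveSpecialLinearGroup.toPGL_injective (n := Fin 2) (R := F)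
  obtain ⟨E, _, _, _, ι, ψ, hcardE, hψ, hψτ⟩ := exists_embedding p hodd
  have eM : M ≃* M.map ψ := M.equivMapOfInjective ψ hψ
  rcases dickson_sub p (M.map ψ) with h1 | ⟨n, c, hc, hnp, ⟨e1⟩⟩ | ⟨hB, hp⟩ | he1 | he1 | he1 |
    hfr
  · exfalso
    haveI hMc : IsCyclic M := eM.isCyclic.2 h1
    apply not_isCyclic_comap p hodd h5 M hM hML
    let f : M.comap τ →* M := (τ : PSL2F →* PGL2F).subgroupComap M
    apply isCyclic_of_injective f
    intro x y hxy
    apply Subtype.ext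
    apply hinj
    exact congrArg Subtype.val hxy
  · exact dihedral_concl p hodd h5 M hM hML n (eM.symm c) (by rw [MulEquiv.orderOf_eq, hc]) hnp
      (eM.trans e1)
  · left
    obtain ⟨U, hUM, hU1, hUp, hMU⟩ := exists_normal_pgroup_of_borel p ψ hψ M hB
      (by rwa [← Nat.card_congr eM.toEquiv] at hp)
    exact borel_concl p hodd h5 M hM hML U hUM hU1 hUp hMU
  · exfalso
    obtain ⟨e1⟩ := he1
    exact not_le_lsub hodd M hM hML (le_of_no_index_two (Lsub F) M (index_Lsub hodd)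
      (no_index_two_of_equiv (eM.trans e1) no_index_two_A4))
  · obtain ⟨e1⟩ := he1
    exact s4_final p hodd h5 M hM hML (eM.trans e1)
  · exfalso
    obtain ⟨e1⟩ := he1
    exact not_le_lsub hodd M hM hML (le_of_no_index_two (Lsub F) M (index_Lsub hodd)
      (no_index_two_of_equiv (eM.trans e1) no_index_two_A5))
  · exact subfield_main p hodd h5 M hM hML ι ψ hcardE hψ hψτ hfr

end Main

end Cfsg.Agent.Helper46.Pg
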