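import Mathlib
import Cfsg.Agent.Helper46.PgG
import Cfsg.Agent.Helper46.MxA5

set_option autoImplicit false

namespace Cfsg.Agent.Helper46.Pg

open Matrix Cfsg.Agent.Helper46 Cfsg.Agent.Helper46.Dk Cfsg.Agent.Helper46.Mx Cfsg.Agent.Helper41

section SmallGroups

set_option maxRecDepth 100000 in
theorem s4_orders : ∀ σ : Equiv.Perm (Fin 4), σ ^ 2 = 1 ∨ σ ^ 3 = 1 ∨ σ ^ 4 = 1 := by decide

theorem orderOf_le_of_A5 {H : Type*} [Group H] (e : H ≃* alternatingGroup (Fin 5)) (s : H) :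
    orderOf s ≤ 5 := by
  rw [← MulEquiv.orderOf_eq e]
  rcases Mx.a5_orders (e s) with h | h | h
  · exact (Nat.le_of_dvd (by norm_num) (orderOf_dvd_of_pow_eq_one h)).trans (by norm_num)
  · exact (Nat.le_of_dvd (by norm_num) (orderOf_dvd_of_pow_eq_one h)).trans (by norm_num)
  · exact Nat.le_of_dvd (by norm_num) (orderOf_dvd_of_pow_eq_one h)

theorem orderOf_le_of_A4 {H : Type*} [Group H] (e : H ≃* alternatingGroup (Fin 4)) (s : H) :
    orderOf s ≤ 3 := by
  rw [← MulEquiv.orderOf_eq e]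
  rcases a4_orders' (e s) with h | h
  · exact (Nat.le_of_dvd (by norm_num) (orderOf_dvd_of_pow_eq_one h)).trans (by norm_num)
  · exact Nat.le_of_dvd (by norm_num) (orderOf_dvd_of_pow_eq_one h)

theorem orderOf_le_of_S4 {H : Type*} [Group H] (e : H ≃* Equiv.Perm (Fin 4)) (s : H) :
    orderOf s ≤ 4 := by
  rw [← MulEquiv.orderOf_eq e]
  rcases s4_orders (e s) with h | h | h
  · exact (Nat.le_of_dvd (by norm_num) (orderOf_dvd_of_pow_eq_one h)).trans (by norm_num)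
  · exact (Nat.le_of_dvd (by norm_num) (orderOf_dvd_of_pow_eq_one h)).trans (by norm_num)
  · exact Nat.le_of_dvd (by norm_num) (orderOf_dvd_of_pow_eq_one h)

theorem a4_noncomm : ∃ a b : alternatingGroup (Fin 4),
    a ^ 3 = 1 ∧ a ≠ 1 ∧ b ^ 3 = 1 ∧ b ≠ 1 ∧ a * b ≠ b * a := by decide

theorem dihedral_comm_of_order_three (k : ℕ) (a b : DihedralGroup k) (ha : a ^ 3 = 1) (ha1 : a ≠ 1)
    (hb : b ^ 3 = 1) (hb1 : b ≠ 1) : a * b = b * a := by
  have key : ∀ i : ZMod k, (DihedralGroup.sr i) ^ 3 ≠ 1 := by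
    intro i h
    have h2 : (DihedralGroup.sr i) ^ 3 = DihedralGroup.sr i := by
      rw [pow_succ, pow_two, DihedralGroup.sr_mul_self, one_mul]
    rw [h2, DihedralGroup.one_def] at h
    cases h
  cases a with
  | r i =>
    cases b with
    | r j => simp [add_comm]
    | sr j => exact absurd hb (key j)
  | sr i => exact absurd ha (key i)

/-- a subgroup isomorphic to `A₄` is not contained in a dihedral subgroup -/
theorem not_le_dihedral_of_A4 {G : Type*} [Group G] (X Y : Subgroup G) (hXY : X ≤ Y)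
    (eX : X ≃* alternatingGroup (Fin 4)) (k : ℕ) (eY : Y ≃* DihedralGroup k) : False := by
  obtain ⟨a, b, ha, ha1, hb, hb1, hab⟩ := a4_noncomm
  let ι : X →* Y := Subgroup.inclusion hXY
  have hι : Function.Injective ι := Subgroup.inclusion_injective hXY
  set a' := eY (ι (eX.symm a)) with ha'
  set b' := eY (ι (eX.symm b)) with hb'
  have h1 : a' ^ 3 = 1 := by rw [ha', ← map_pow, ← map_pow, ← map_pow, ha, map_one, map_one, map_one]
  have h2 : b' ^ 3 = 1 := by rw [hb', ← map_pow, ← map_pow, ← map_pow, hb, map_one, map_one, map_one]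
  have h3 : a' ≠ 1 := by
    intro h
    apply ha1
    have := eY.injective (h.trans (map_one eY).symm)
    have := hι (this.trans (map_one ι).symm)
    exact eX.symm.injective (this.trans (map_one eX.symm).symm)
  have h4 : b' ≠ 1 := by
    intro h
    apply hb1
    have := eY.injective (h.trans (map_one eY).symm)
    have := hι (this.trans (map_one ι).symm)
    exact eX.symm.injective (this.trans (map_one eX.symm).symm)
  have h5 := dihedral_comm_of_order_three k a' b' h1 h3 h2 h4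
  apply hab
  rw [ha', hb', ← map_mul, ← map_mul, ← map_mul, ← map_mul, ← map_mul, ← map_mul] at h5
  exact eX.symm.injective (hι (eY.injective h5))

end SmallGroups

section Arith

theorem prime_ne_pow {q q₁ r : ℕ} (hq : q.Prime) (hr : 2 ≤ r) (h : q = q₁ ^ r) : False := by
  rw [h] at hq
  have := Nat.Prime.eq_one_of_pow hq
  omega

end Arith

section Recursion

variable {F₁ : Type*} [Field F₁] [Fintype F₁]

/-- `PGL₂(q₁)` has no subgroup of order `q₁² - 1` containing an element of order `(q₁² - 1)/2` -/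
theorem no_big_cyclic_in_PGL2 (hodd₁ : Odd (Fintype.card F₁)) (h5₁ : 5 ≤ Fintype.card F₁)
    (X : Subgroup (Matrix.ProjGenLinGroup (Fin 2) F₁))
    (hcard : Nat.card X = Fintype.card F₁ ^ 2 - 1) (s : Matrix.ProjGenLinGroup (Fin 2) F₁)
    (hs : s ∈ X) (hso : 2 * orderOf s = Fintype.card F₁ ^ 2 - 1) : False := by
  classical
  haveI := finite_PGL2F (F := F₁)
  set a := Fintype.card F₁ with ha
  have hG := card_PGL2F (F := F₁)
  rw [← ha] at hG
  have hsq : a ^ 2 = a * (a - 1) + a := by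
    obtain ⟨t, ht⟩ : ∃ t, a = t + 5 := ⟨a - 5, by omega⟩
    rw [ht]
    have : t + 5 - 1 = t + 4 := by omega
    rw [this]; ring
  have hsq' : a ^ 2 - 1 = (a - 1) * (a + 1) := Cfsg.Agent.Helper46.Dk.sq_sub_one_eq _ (by omega)
  have h25 : 25 ≤ a ^ 2 := by
    calc 25 = 5 ^ 2 := by norm_num
      _ ≤ a ^ 2 := Nat.pow_le_pow_left h5₁ 2
  have hXtop : X ≠ ⊤ := by
    intro h
    have h1 : Nat.card X = Nat.card (Matrix.ProjGenLinGroup (Fin 2) F₁) := by
      rw [h]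
      exact Nat.card_congr (Subgroup.topEquiv (G := Matrix.ProjGenLinGroup (Fin 2) F₁)).toEquiv
    rw [hcard, hG] at h1
    have : 1 * (a ^ 2 - 1) < a * (a ^ 2 - 1) := Nat.mul_lt_mul_of_pos_right (by omega) (by omega)
    omega
  obtain ⟨Z, hZ, hXZ⟩ := (eq_top_or_exists_le_coatom X).resolve_left hXtop
  have hdvd : (a ^ 2 - 1) ∣ Nat.card Z := by
    rw [← hcard]; exact Subgroup.card_dvd_of_le hXZ
  have hZpos : 0 < Nat.card Z := Nat.card_pos
  have hle : a ^ 2 - 1 ≤ Nat.card Z := Nat.le_of_dvd hZpos hdvd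
  by_cases hLZ : Lsub F₁ ≤ Z
  · have h1 : Z.index ∣ (Lsub F₁).index := Subgroup.index_dvd_of_le hLZ
    rw [index_Lsub (F := F₁) hodd₁] at h1
    have h2 := Z.index_mul_card
    rw [hG] at h2
    rcases (Nat.dvd_prime Nat.prime_two).1 h1 with h | h
    · exact hZ.1 (Subgroup.index_eq_one.1 h)
    · rw [h] at h2
      obtain ⟨c, hc⟩ := hdvd
      rw [hc] at h2
      have h3 : (2 * c) * (a ^ 2 - 1) = a * (a ^ 2 - 1) := by rw [← h2]; ring
      have h4 := Nat.eq_of_mul_eq_mul_right (by omega) h3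
      obtain ⟨t, ht⟩ := hodd₁
      omega
  · have hC := concl_main hodd₁ (by omega) Z hZ hLZ
    rcases hC with h | ⟨-, ⟨e⟩⟩ | he | ⟨-, -, ⟨e⟩⟩ | ⟨F₂, i1, i2, r, hr, hr2, hq, ⟨e⟩⟩
    · rw [← ha] at h
      omega
    · have hc : Nat.card Z = 2 * (a - 1) := by
        rw [Nat.card_congr e.toEquiv, DihedralGroup.nat_card]
      rw [hc, hsq'] at hle
      have : (a - 1) * 6 ≤ (a - 1) * (a + 1) := Nat.mul_le_mul_left _ (by omega)
      omega
    · obtain ⟨e⟩ := he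
      have hc : Nat.card Z = 2 * (a + 1) := by
        rw [Nat.card_congr e.toEquiv, DihedralGroup.nat_card]
      rw [hc, hsq'] at hle
      have : 4 * (a + 1) ≤ (a - 1) * (a + 1) := Nat.mul_le_mul_right _ (by omega)
      omega
    · have hc : Nat.card Z = 24 := by
        rw [Nat.card_congr e.toEquiv]; exact Cfsg.Agent.Helper46.Dk.card_S4'
      rw [hc] at hle
      have h1 := orderOf_le_of_S4 e ⟨s, hXZ hs⟩
      rw [Subgroup.orderOf_mk] at h1
      omega
    · have hc : Nat.card Z = Fintype.card F₂ * (Fintype.card F₂ ^ 2 - 1) := by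
        rw [Nat.card_congr e.toEquiv, card_PGL2F]
      rw [← ha] at hq
      have hr3 : 3 ≤ r := by
        have := hr.two_le
        obtain ⟨t, ht⟩ := hr2
        omega
      set b := Fintype.card F₂ with hb
      have hb1 : 1 < b := Fintype.one_lt_card
      have h1 : b ^ 3 ≤ a := by
        rw [hq]; exact Nat.pow_le_pow_right (by omega) hr3
      have h2 : b * (b ^ 2 - 1) ≤ b ^ 3 := by
        calc b * (b ^ 2 - 1) ≤ b * b ^ 2 := Nat.mul_le_mul_left _ (Nat.sub_le _ _)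
          _ = b ^ 3 := by ring
      have h3 : a ^ 2 - 1 ≤ a := by
        rw [hc] at hle
        exact hle.trans (h2.trans h1)
      have h4a : a * 4 ≤ a * (a - 1) := Nat.mul_le_mul_left _ (by omega)
      omega

end Recursion

section ConclC

/-- the conclusion of the theorem on maximal subgroups of `PSL₂(q)` with orders made explicit -/
def ConclC (q p : ℕ) (H : Type*) [Group H] : Prop :=
  2 * Nat.card H = q * (q - 1) ∨
  (13 ≤ q ∧ Nat.card H = q - 1 ∧ ∃ k : ℕ, Nonempty (H ≃* DihedralGroup k)) ∨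
  (Nat.card H = q + 1 ∧ ∃ k : ℕ, Nonempty (H ≃* DihedralGroup k)) ∨
  (∃ (F₁ : Type) (_ : Field F₁) (_ : Fintype F₁), q = Fintype.card F₁ ^ 2 ∧
      Nat.card H = Fintype.card F₁ * (Fintype.card F₁ ^ 2 - 1) ∧
      Nonempty (H ≃* Matrix.ProjGenLinGroup (Fin 2) F₁)) ∨
  (∃ (q₁ r p₁ a : ℕ), r.Prime ∧ Odd r ∧ q = q₁ ^ r ∧ 2 * Nat.card H = q₁ * (q₁ ^ 2 - 1) ∧
      p₁.Prime ∧ 0 < a ∧ q₁ = p₁ ^ a) ∨
  ((q % 10 = 1 ∨ q % 10 = 9) ∧ (q = p ∨ q = p ^ 2) ∧ Nat.card H = 60 ∧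
      Nonempty (H ≃* alternatingGroup (Fin 5))) ∨
  (q = p ∧ (p % 8 = 3 ∨ p % 8 = 5) ∧ ¬ (p % 10 = 1 ∨ p % 10 = 9) ∧ Nat.card H = 12 ∧
      Nonempty (H ≃* alternatingGroup (Fin 4))) ∨
  (q = p ∧ (p % 8 = 1 ∨ p % 8 = 7) ∧ Nat.card H = 24 ∧ Nonempty (H ≃* Equiv.Perm (Fin 4)))

theorem exists_prime_pow_card (K : Type*) [Field K] [Fintype K] :
    ∃ p₁ a : ℕ, p₁.Prime ∧ 0 < a ∧ Fintype.card K = p₁ ^ a := by
  obtain ⟨p₁, hp₁⟩ := CharP.exists K
  haveI := hp₁
  obtain ⟨a, hpp, ha⟩ := FiniteField.card K p₁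
  exact ⟨p₁, a, hpp, a.pos, ha⟩

theorem Concl.toC {q p : ℕ} {H : Type*} [Group H] (hq : Odd q) (h : Concl q p H) :
    ConclC q p H := by
  rcases h with h | ⟨h1, k, hk, ⟨e1⟩⟩ | ⟨h1, h2, k, hk, ⟨e1⟩⟩ | ⟨F₀, i1, i2, hq0, ⟨e1⟩⟩ |
    ⟨F₀, i1, i2, r, hr, hr2, hq0, ⟨e1⟩⟩ | ⟨h1, h2, ⟨e1⟩⟩ | ⟨h1, h2, h3, ⟨e1⟩⟩ | ⟨h1, h2, ⟨e1⟩⟩
  · left; exact h
  · right; left
    refine ⟨h1, ?_, k, ⟨e1⟩⟩
    rw [Nat.card_congr e1.toEquiv, DihedralGroup.nat_card, hk]
  · right; right; left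
    refine ⟨?_, k, ⟨e1⟩⟩
    rw [Nat.card_congr e1.toEquiv, DihedralGroup.nat_card, hk]
  · right; right; right; left
    refine ⟨F₀, i1, i2, hq0, ?_, ⟨e1⟩⟩
    rw [Nat.card_congr e1.toEquiv, card_PGL2F]
  · right; right; right; right; left
    obtain ⟨p₁, a, hp₁, ha, hK⟩ := exists_prime_pow_card F₀
    refine ⟨Fintype.card F₀, r, p₁, a, hr, hr2, hq0, ?_, hp₁, ha, hK⟩
    rw [Nat.card_congr e1.toEquiv]
    apply two_mul_card_PSL2
    rw [hq0] at hq
    exact (Nat.odd_pow_iff hr.ne_zero).1 hq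
  · right; right; right; right; right; left
    refine ⟨h1, ?_, ?_, ⟨e1⟩⟩
    · rcases h2 with h | ⟨h, -⟩
      · exact Or.inl h
      · exact Or.inr h
    · rw [Nat.card_congr e1.toEquiv]; exact Cfsg.Agent.Helper46.Dk.card_A5'
  · right; right; right; right; right; right; left
    refine ⟨h1, h2, h3, ?_, ⟨e1⟩⟩
    rw [Nat.card_congr e1.toEquiv]; exact Cfsg.Agent.Helper46.Dk.card_A4'
  · right; right; right; right; right; right; right
    refine ⟨h1, h2, ?_, ⟨e1⟩⟩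
    rw [Nat.card_congr e1.toEquiv]; exact Cfsg.Agent.Helper46.Dk.card_S4'

end ConclC

end Cfsg.Agent.Helper46.Pg
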