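import Cfsg.Agent.Helper46.CosetGraph
import Cfsg.Agent.Helper46.SylowIn

set_option autoImplicit false

namespace Cfsg.Agent.Helper46

open Cfsg

section General

variable {X : Type*} [Group X]

theorem le_normalizer_of_conj_mem {H N : Subgroup X}
    (h : ∀ g ∈ H, ∀ n ∈ N, g * n * g⁻¹ ∈ N) : H ≤ Subgroup.normalizer (N : Set X) := by
  intro g hg
  rw [Subgroup.mem_normalizer_iff]
  intro n
  refine ⟨h g hg n, fun hn => ?_⟩
  have := h g⁻¹ (inv_mem hg) _ hn
  simpa [mul_assoc] using this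

theorem finite_map_of_finite {Y : Type*} [Group Y] (H : Subgroup X) [Finite H] (f : X →* Y) :
    Finite (H.map f) := by
  have : Function.Surjective (fun h : H => (⟨f h, ⟨h, h.2, rfl⟩⟩ : H.map f)) := by
    rintro ⟨_, ⟨x, hx, rfl⟩⟩
    exact ⟨⟨x, hx⟩, rfl⟩
  exact Finite.of_surjective _ this

theorem finite_of_le {H K : Subgroup X} [Finite H] (hKH : K ≤ H) : Finite K :=
  Finite.of_injective (Subgroup.inclusion hKH) (Subgroup.inclusion_injective hKH)

theorem mem_map_equiv_iff {φ : X ≃* X} {H : Subgroup X} {g : X} :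
    g ∈ H.map φ.toMonoidHom ↔ φ.symm g ∈ H := by
  constructor
  · rintro ⟨h, hh, rfl⟩; simpa using hh
  · intro h; exact ⟨φ.symm g, h, by simp⟩

/-- `O_p` commutes with automorphisms of the ambient group. -/
theorem pCoreOf_map_equiv {p : ℕ} [Fact p.Prime] (φ : X ≃* X) (H : Subgroup X) [Finite H] :
    pCoreOf p (H.map φ.toMonoidHom) = (pCoreOf p H).map φ.toMonoidHom := by
  have key : ∀ (ψ : X ≃* X) (K : Subgroup X) [Finite K],
      (pCoreOf p K).map ψ.toMonoidHom ≤ pCoreOf p (K.map ψ.toMonoidHom) := by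
    intro ψ K _
    apply le_pCoreOf
    · exact Subgroup.map_mono (pCoreOf_le K)
    · exact (pCoreOf_isPGroup K).map _
    · apply le_normalizer_of_conj_mem
      rintro _ ⟨g, hg, rfl⟩ _ ⟨n, hn, rfl⟩
      refine ⟨g * n * g⁻¹, ?_, by simp⟩
      exact (Subgroup.mem_normalizer_iff.1 (pCoreOf_normalized K hg) n).1 hn
  apply le_antisymm
  · have : Finite (H.map φ.toMonoidHom) := finite_map_of_finite H _
    have h2 := key φ.symm (H.map φ.toMonoidHom)
    have h3 : (H.map φ.toMonoidHom).map φ.symm.toMonoidHom = H := by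
      ext x; rw [mem_map_equiv_iff, mem_map_equiv_iff]; simp
    rw [h3] at h2
    intro x hx
    rw [mem_map_equiv_iff]
    apply h2
    exact ⟨x, hx, rfl⟩
  · exact key φ H

theorem omegaOne_map_equiv {p : ℕ} (φ : X ≃* X) (A : Subgroup X) :
    omegaOne p (A.map φ.toMonoidHom) = (omegaOne p A).map φ.toMonoidHom := by
  unfold omegaOne
  rw [MonoidHom.map_closure]
  congr 1
  ext x
  constructor
  · rintro ⟨⟨a, ha, rfl⟩, hx⟩
    refine ⟨a, ⟨ha, ?_⟩, rfl⟩
    apply φ.injective
    simpa using hx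
  · rintro ⟨a, ⟨ha, hap⟩, rfl⟩
    refine ⟨⟨a, ha, rfl⟩, ?_⟩
    show (φ a) ^ p = 1
    rw [← map_pow, hap, map_one]

theorem omegaOne_le {p : ℕ} (A : Subgroup X) : omegaOne p A ≤ A := by
  unfold omegaOne
  rw [Subgroup.closure_le]
  intro x hx; exact hx.1

theorem omegaOne_mono {p : ℕ} {A B : Subgroup X} (h : A ≤ B) : omegaOne p A ≤ omegaOne p B := by
  unfold omegaOne
  apply Subgroup.closure_mono
  intro x hx; exact ⟨h hx.1, hx.2⟩

theorem centralizer_map_equiv (φ : X ≃* X) (A : Subgroup X) :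
    Subgroup.centralizer ((A.map φ.toMonoidHom : Subgroup X) : Set X) =
      (Subgroup.centralizer (A : Set X)).map φ.toMonoidHom := by
  ext g
  rw [mem_map_equiv_iff, Subgroup.mem_centralizer_iff, Subgroup.mem_centralizer_iff]
  constructor
  · intro h a ha
    have := h (φ a) ⟨a, ha, rfl⟩
    apply φ.injective
    simpa using this
  · rintro h _ ⟨a, ha, rfl⟩
    have := congrArg φ (h a ha)
    simpa using this

theorem center_part_map_equiv (φ : X ≃* X) (A : Subgroup X) :
    (A.map φ.toMonoidHom) ⊓ Subgroup.centralizer ((A.map φ.toMonoidHom : Subgroup X) : Set X) =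
      (A ⊓ Subgroup.centralizer (A : Set X)).map φ.toMonoidHom := by
  rw [centralizer_map_equiv, Subgroup.map_inf _ _ _ φ.injective]

/-- The image in `X` of a conjugate Sylow subgroup. -/
theorem sylow_smul_map {p : ℕ} {H : Subgroup X} (S : Sylow p H) (g : H) :
    ((g • S : Sylow p H) : Subgroup H).map H.subtype =
      ((S : Subgroup H).map H.subtype).map (MulAut.conj (g : X)).toMonoidHom := by
  ext x
  constructor
  · rintro ⟨y, hy, rfl⟩
    rw [SetLike.mem_coe, Sylow.coe_subgroup_smul, Subgroup.mem_pointwise_smul_iff_inv_smul_mem] at hy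
    refine ⟨(g : X)⁻¹ * y * g, ⟨g⁻¹ * y * g, ?_, by simp⟩, ?_⟩
    · simp only [MulAut.smul_def, MulAut.conj_apply, map_inv, MulAut.inv_apply,
        MulAut.conj_symm_apply] at hy
      exact hy
    · simp [MulAut.conj_apply, mul_assoc]
  · rintro ⟨_, ⟨y, hy, rfl⟩, rfl⟩
    refine ⟨g * y * g⁻¹, ?_, by simp [MulAut.conj_apply]⟩
    rw [SetLike.mem_coe, Sylow.coe_subgroup_smul, Subgroup.mem_pointwise_smul_iff_inv_smul_mem]
    have hy' : y ∈ (S : Subgroup H) := hy
    simpa [MulAut.smul_def, MulAut.conj_apply, mul_assoc] using hy'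

/-- The term of `sylowCenterClosure` attached to a subgroup `P` of `X`. -/
def omegaZ (p : ℕ) (P : Subgroup X) : Subgroup X :=
  omegaOne p (P ⊓ Subgroup.centralizer (P : Set X))

theorem omegaZ_map_equiv {p : ℕ} (φ : X ≃* X) (P : Subgroup X) :
    (omegaZ p P).map φ.toMonoidHom = omegaZ p (P.map φ.toMonoidHom) := by
  unfold omegaZ
  rw [center_part_map_equiv, omegaOne_map_equiv]

theorem sylowCenterClosure_eq {p : ℕ} (H : Subgroup X) :
    sylowCenterClosure p H = ⨆ S : Sylow p H, omegaZ p ((S : Subgroup H).map H.subtype) := rfl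

/-- `H` normalizes `sylowCenterClosure p H`. -/
theorem sylowCenterClosure_normalized {p : ℕ} (H : Subgroup X) :
    H ≤ Subgroup.normalizer (sylowCenterClosure p H : Set X) := by
  apply le_normalizer_of_conj_mem
  intro g hg n hn
  have hmap : (sylowCenterClosure p H).map (MulAut.conj g).toMonoidHom ≤ sylowCenterClosure p H := by
    rw [sylowCenterClosure_eq, Subgroup.map_iSup]
    apply iSup_le
    intro S
    set g' : H := ⟨g, hg⟩ with hg'
    set S' : Sylow p H := g' • S with hS'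
    have h1 : (omegaZ p ((S : Subgroup H).map H.subtype)).map (MulAut.conj g).toMonoidHom =
        omegaZ p ((S' : Subgroup H).map H.subtype) := by
      rw [omegaZ_map_equiv, hS', sylow_smul_map S g']
    rw [h1]
    exact le_iSup (fun S : Sylow p H => omegaZ p ((S : Subgroup H).map H.subtype)) S'
  exact hmap ⟨n, hn, by simp [MulAut.conj_apply]⟩

theorem sylowCenterClosure_le {p : ℕ} (H : Subgroup X) : sylowCenterClosure p H ≤ H := by
  unfold sylowCenterClosure
  apply iSup_le
  intro S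
  exact (omegaOne_le _).trans (inf_le_left.trans (Subgroup.map_subtype_le _))

theorem omega_center_le_sylowCenterClosure {p : ℕ} {P H : Subgroup X} (h : IsSylIn p P H) :
    omegaOne p (P ⊓ Subgroup.centralizer (P : Set X)) ≤ sylowCenterClosure p H := by
  obtain ⟨S, rfl⟩ := h
  rw [sylowCenterClosure_eq]
  exact le_iSup (fun S : Sylow p H => omegaZ p ((S : Subgroup H).map H.subtype)) S

/-- Characteristic `p` in ambient form. -/
def IsCharPIn (p : ℕ) (H : Subgroup X) : Prop :=
  H ⊓ Subgroup.centralizer (pCoreOf p H : Set X) ≤ pCoreOf p H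

theorem isCharPIn_of_subtype {p : ℕ} {H : Subgroup X}
    (h : Subgroup.centralizer (pCore p H : Set H) ≤ pCore p H) : IsCharPIn p H := by
  intro g hg
  obtain ⟨hgH, hgC⟩ := hg
  have : (⟨g, hgH⟩ : H) ∈ Subgroup.centralizer (pCore p H : Set H) := by
    rw [Subgroup.mem_centralizer_iff]
    intro y hy
    have hy' : (y : X) ∈ pCoreOf p H := ⟨y, hy, rfl⟩
    have := (Subgroup.mem_centralizer_iff.1 hgC) (y : X) hy'
    ext
    simpa using this
  exact ⟨⟨g, hgH⟩, h this, rfl⟩

theorem IsCharPIn.map_equiv {p : ℕ} [Fact p.Prime] {H : Subgroup X} [Finite H] (h : IsCharPIn p H)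
    (φ : X ≃* X) : IsCharPIn p (H.map φ.toMonoidHom) := by
  unfold IsCharPIn at h ⊢
  rw [pCoreOf_map_equiv, centralizer_map_equiv, ← Subgroup.map_inf _ _ _ φ.injective]
  exact Subgroup.map_mono h

/-- In a group of characteristic `p`, `Z_H ≤ O_p(H)`. -/
theorem sylowCenterClosure_le_pCoreOf {p : ℕ} [Fact p.Prime] {H : Subgroup X} [Finite H]
    (h : IsCharPIn p H) : sylowCenterClosure p H ≤ pCoreOf p H := by
  unfold sylowCenterClosure
  apply iSup_le
  intro S
  have hS : IsSylIn p ((S : Subgroup H).map H.subtype) H := ⟨S, rfl⟩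
  refine (omegaOne_le _).trans (le_trans ?_ h)
  apply le_inf
  · exact inf_le_left.trans hS.le
  · refine inf_le_right.trans (Subgroup.centralizer_le ?_)
    exact hS.pCoreOf_le

end General

section Graph

variable {X : Type*} [Group X] {p : ℕ} [Fact p.Prime] {M₁ M₂ : Subgroup X}

theorem cg_finite_stabilizer (h : IsCharPAmalgamPair p M₁ M₂) (δ : CosetVertex M₁ M₂) :
    Finite (MulAction.stabilizer X δ) := by
  obtain ⟨_, hf1, hf2, _⟩ := h
  rcases cg_vertex_cases δ with ⟨x, rfl⟩ | ⟨x, rfl⟩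
  · rw [cg_stabilizer_inl]; exact finite_map_of_finite M₁ _
  · rw [cg_stabilizer_inr]; exact finite_map_of_finite M₂ _

theorem cg_charp_stabilizer (h : IsCharPAmalgamPair p M₁ M₂) (δ : CosetVertex M₁ M₂) :
    IsCharPIn p (MulAction.stabilizer X δ) := by
  obtain ⟨_, hf1, hf2, _, _, _, hc1, hc2⟩ := h
  rcases cg_vertex_cases δ with ⟨x, rfl⟩ | ⟨x, rfl⟩
  · rw [cg_stabilizer_inl]; exact (isCharPIn_of_subtype hc1).map_equiv (MulAut.conj x)
  · rw [cg_stabilizer_inr]; exact (isCharPIn_of_subtype hc2).map_equiv (MulAut.conj x)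

theorem cg_card_inf (h : IsCharPAmalgamPair p M₁ M₂) :
    (Nat.card (M₁ ⊓ M₂ : Subgroup X)).factorization p = (Nat.card M₁).factorization p ∧
    (Nat.card (M₁ ⊓ M₂ : Subgroup X)).factorization p = (Nat.card M₂).factorization p := by
  obtain ⟨_, hf1, hf2, _, _, hS, _, _⟩ := h
  have : Finite (M₁ ⊓ M₂ : Subgroup X) := finite_of_le (inf_le_left : M₁ ⊓ M₂ ≤ M₁)
  obtain ⟨S⟩ : Nonempty (Sylow p (M₁ ⊓ M₂ : Subgroup X)) := inferInstance
  obtain ⟨P₁⟩ : Nonempty (Sylow p M₁) := inferInstance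
  obtain ⟨P₂⟩ : Nonempty (Sylow p M₂) := inferInstance
  obtain ⟨h1, h2⟩ := hS S P₁ P₂
  rw [S.card_eq_multiplicity, P₁.card_eq_multiplicity] at h1
  rw [S.card_eq_multiplicity, P₂.card_eq_multiplicity] at h2
  have hp : 1 < p := (Fact.out : p.Prime).one_lt
  exact ⟨Nat.pow_right_injective hp h1, Nat.pow_right_injective hp h2⟩

theorem cg_card_edge (h : IsCharPAmalgamPair p M₁ M₂) {δ μ : CosetVertex M₁ M₂}
    (hadj : (cosetGraph M₁ M₂).Adj δ μ) :
    (Nat.card (edgeStabilizer δ μ)).factorization p =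
      (Nat.card (MulAction.stabilizer X δ)).factorization p := by
  obtain ⟨h1, h2⟩ := cg_card_inf h
  rw [cg_adj_iff] at hadj
  obtain ⟨x, ⟨rfl, rfl⟩ | ⟨rfl, rfl⟩⟩ := hadj
  · rw [cg_edgeStabilizer, cg_stabilizer_inl,
      Subgroup.card_map_of_injective (MulAut.conj x).injective,
      Subgroup.card_map_of_injective (MulAut.conj x).injective]
    exact h1
  · have : edgeStabilizer (Sum.inr (x : X ⧸ M₂) : CosetVertex M₁ M₂) (Sum.inl (x : X ⧸ M₁)) =
        edgeStabilizer (Sum.inl (x : X ⧸ M₁) : CosetVertex M₁ M₂) (Sum.inr (x : X ⧸ M₂)) := inf_comm _ _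
    rw [this, cg_edgeStabilizer, cg_stabilizer_inr,
      Subgroup.card_map_of_injective (MulAut.conj x).injective,
      Subgroup.card_map_of_injective (MulAut.conj x).injective]
    exact h2

/-- A Sylow `p`-subgroup of an edge stabilizer is a Sylow `p`-subgroup of the vertex stabilizer. -/
theorem cg_sylIn_edge_vertex (h : IsCharPAmalgamPair p M₁ M₂) {δ μ : CosetVertex M₁ M₂}
    (hadj : (cosetGraph M₁ M₂).Adj δ μ) {P : Subgroup X} (hP : IsSylIn p P (edgeStabilizer δ μ)) :
    IsSylIn p P (MulAction.stabilizer X δ) := by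
  have := cg_finite_stabilizer h δ
  exact IsSylIn.of_le inf_le_left (cg_card_edge h hadj) hP

theorem cg_sylIn_edge_vertex' (h : IsCharPAmalgamPair p M₁ M₂) {δ μ : CosetVertex M₁ M₂}
    (hadj : (cosetGraph M₁ M₂).Adj δ μ) {P : Subgroup X} (hP : IsSylIn p P (edgeStabilizer δ μ)) :
    IsSylIn p P (MulAction.stabilizer X μ) := by
  have e : edgeStabilizer δ μ = edgeStabilizer μ δ := inf_comm _ _
  rw [e] at hP
  exact cg_sylIn_edge_vertex h hadj.symm hP

theorem cg_exists_sylIn_edge (δ μ : CosetVertex M₁ M₂) :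
    ∃ P : Subgroup X, IsSylIn p P (edgeStabilizer δ μ) := by
  obtain ⟨S⟩ : Nonempty (Sylow p (edgeStabilizer δ μ)) := inferInstance
  exact ⟨_, S, rfl⟩

/-- `Q_δ` lies in every edge stabilizer at `δ`. -/
theorem cg_vertexQ_le_edge (h : IsCharPAmalgamPair p M₁ M₂) {δ μ : CosetVertex M₁ M₂}
    (hadj : (cosetGraph M₁ M₂).Adj δ μ) : vertexQ p δ ≤ edgeStabilizer δ μ := by
  obtain ⟨P, hP⟩ := cg_exists_sylIn_edge (p := p) δ μ
  have := cg_finite_stabilizer h δ
  exact (cg_sylIn_edge_vertex h hadj hP).pCoreOf_le.trans hP.le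

theorem cg_vertexQ_le_neighbourKernel (h : IsCharPAmalgamPair p M₁ M₂) (δ : CosetVertex M₁ M₂) :
    vertexQ p δ ≤ neighbourKernel δ := by
  unfold neighbourKernel
  apply le_inf
  · exact pCoreOf_le _
  · apply le_iInf₂
    intro μ hμ
    exact (cg_vertexQ_le_edge h hμ).trans inf_le_right

theorem cg_neighbourKernel_le_of_adj {δ μ : CosetVertex M₁ M₂} (hadj : (cosetGraph M₁ M₂).Adj δ μ) :
    neighbourKernel δ ≤ MulAction.stabilizer X μ := by
  unfold neighbourKernel
  exact inf_le_right.trans (iInf₂_le μ hadj)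

theorem cg_neighbourKernel_le (δ : CosetVertex M₁ M₂) :
    neighbourKernel δ ≤ MulAction.stabilizer X δ := by
  unfold neighbourKernel
  exact inf_le_left

theorem cg_vertexZ_le_vertexQ (h : IsCharPAmalgamPair p M₁ M₂) (δ : CosetVertex M₁ M₂) :
    vertexZ p δ ≤ vertexQ p δ := by
  have := cg_finite_stabilizer h δ
  exact sylowCenterClosure_le_pCoreOf (cg_charp_stabilizer h δ)

theorem cg_vertexZ_le_neighbourKernel (h : IsCharPAmalgamPair p M₁ M₂) (δ : CosetVertex M₁ M₂) :
    vertexZ p δ ≤ neighbourKernel δ :=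
  (cg_vertexZ_le_vertexQ h δ).trans (cg_vertexQ_le_neighbourKernel h δ)

end Graph

section Dist

variable {V : Type*} {G : SimpleGraph V}

/-- On a shortest path, the vertex before the end. -/
theorem exists_adj_dist_pred (hG : G.Connected) {u v : V} {n : ℕ} (h : G.dist u v = n + 1) :
    ∃ w, G.Adj w v ∧ G.dist u w = n := by
  obtain ⟨q, hq⟩ := hG.exists_walk_length_eq_dist u v
  have hnil : ¬ q.Nil := by
    rw [SimpleGraph.Walk.not_nil_iff_lt_length]; omega
  refine ⟨q.penultimate, SimpleGraph.Walk.adj_penultimate hnil, ?_⟩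
  have h1 : G.dist u q.penultimate ≤ n := by
    have := SimpleGraph.dist_le q.dropLast
    rw [SimpleGraph.Walk.length_dropLast] at this
    omega
  have h2 : G.dist u v ≤ G.dist u q.penultimate + G.dist q.penultimate v := hG.dist_triangle
  have h3 : G.dist q.penultimate v = 1 :=
    SimpleGraph.dist_eq_one_iff_adj.2 (SimpleGraph.Walk.adj_penultimate hnil)
  omega

/-- On a shortest path, the vertex after the start. -/
theorem exists_adj_dist_succ (hG : G.Connected) {u v : V} {n : ℕ} (h : G.dist u v = n + 1) :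
    ∃ w, G.Adj u w ∧ G.dist w v = n := by
  rw [SimpleGraph.dist_comm] at h
  obtain ⟨w, hw, hd⟩ := exists_adj_dist_pred hG h
  exact ⟨w, hw.symm, by rw [SimpleGraph.dist_comm]; exact hd⟩

end Dist

section Critical

variable {X : Type*} [Group X] {p : ℕ} [Fact p.Prime] {M₁ M₂ : Subgroup X}

omit [Fact p.Prime] in
theorem cg_criticalDistance_le {δ μ : CosetVertex M₁ M₂} (h : ¬ vertexZ p δ ≤ neighbourKernel μ) :
    criticalDistance p M₁ M₂ ≤ (cosetGraph M₁ M₂).dist δ μ :=
  Nat.sInf_le ⟨δ, μ, rfl, h⟩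

omit [Fact p.Prime] in
theorem cg_vertexZ_le_of_dist_lt {δ μ : CosetVertex M₁ M₂}
    (h : (cosetGraph M₁ M₂).dist δ μ < criticalDistance p M₁ M₂) :
    vertexZ p δ ≤ neighbourKernel μ := by
  by_contra hcon
  exact absurd (cg_criticalDistance_le hcon) (not_le.2 h)

theorem cg_criticalDistance_pos (h : IsCharPAmalgamPair p M₁ M₂) {α α' : CosetVertex M₁ M₂}
    (hc : IsCriticalPair p α α') : 0 < criticalDistance p M₁ M₂ := by
  rw [Nat.pos_iff_ne_zero]
  intro h0
  have hconn := cg_connected h.1.1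
  have := hc.2
  rw [h0, hconn.dist_eq_zero_iff] at this
  subst this
  exact hc.1 (cg_vertexZ_le_neighbourKernel h α)

/-- For a critical pair `(α, α')`: `Z_α ≤ G_α'`. -/
theorem cg_critical_vertexZ_le (h : IsCharPAmalgamPair p M₁ M₂) {α α' : CosetVertex M₁ M₂}
    (hc : IsCriticalPair p α α') : vertexZ p α ≤ MulAction.stabilizer X α' := by
  have hconn := cg_connected h.1.1
  have hpos := cg_criticalDistance_pos h hc
  obtain ⟨n, hn⟩ : ∃ n, criticalDistance p M₁ M₂ = n + 1 := ⟨_, (Nat.succ_pred_eq_of_pos hpos).symm⟩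
  have hd : (cosetGraph M₁ M₂).dist α α' = n + 1 := by rw [hc.2, hn]
  obtain ⟨γ, hγ, hdγ⟩ := exists_adj_dist_pred hconn hd
  have : vertexZ p α ≤ neighbourKernel γ := cg_vertexZ_le_of_dist_lt (by rw [hdγ, hn]; omega)
  exact this.trans (cg_neighbourKernel_le_of_adj hγ)

/-- For a critical pair `(α, α')`: `Z_α' ≤ G_α`. -/
theorem cg_critical_vertexZ_le' (h : IsCharPAmalgamPair p M₁ M₂) {α α' : CosetVertex M₁ M₂}
    (hc : IsCriticalPair p α α') : vertexZ p α' ≤ MulAction.stabilizer X α := by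
  have hconn := cg_connected h.1.1
  have hpos := cg_criticalDistance_pos h hc
  obtain ⟨n, hn⟩ : ∃ n, criticalDistance p M₁ M₂ = n + 1 := ⟨_, (Nat.succ_pred_eq_of_pos hpos).symm⟩
  have hd : (cosetGraph M₁ M₂).dist α' α = n + 1 := by rw [SimpleGraph.dist_comm, hc.2, hn]
  obtain ⟨γ, hγ, hdγ⟩ := exists_adj_dist_pred hconn hd
  have : vertexZ p α' ≤ neighbourKernel γ := cg_vertexZ_le_of_dist_lt (by rw [hdγ, hn]; omega)
  exact this.trans (cg_neighbourKernel_le_of_adj hγ)

omit [Fact p.Prime] in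
theorem cg_vertexZ_normalized (δ : CosetVertex M₁ M₂) :
    MulAction.stabilizer X δ ≤ Subgroup.normalizer (vertexZ p δ : Set X) :=
  sylowCenterClosure_normalized _

theorem cg_critical_commutator_le (h : IsCharPAmalgamPair p M₁ M₂) {α α' : CosetVertex M₁ M₂}
    (hc : IsCriticalPair p α α') :
    ⁅vertexZ p α, vertexZ p α'⁆ ≤ vertexZ p α ⊓ vertexZ p α' := by
  have h1 := cg_critical_vertexZ_le h hc
  have h2 := cg_critical_vertexZ_le' h hc
  rw [Subgroup.commutator_le]
  intro a ha b hb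
  rw [commutatorElement_def, Subgroup.mem_inf]
  refine ⟨?_, ?_⟩
  · -- b ∈ G_α normalizes Z_α
    have hb' := cg_vertexZ_normalized (p := p) α (h2 hb)
    have : b * a⁻¹ * b⁻¹ ∈ vertexZ p α := (Subgroup.mem_normalizer_iff.1 hb' _).1 (inv_mem ha)
    have e : a * b * a⁻¹ * b⁻¹ = a * (b * a⁻¹ * b⁻¹) := by group
    rw [e]; exact mul_mem ha this
  · have ha' := cg_vertexZ_normalized (p := p) α' (h1 ha)
    have : a * b * a⁻¹ ∈ vertexZ p α' := (Subgroup.mem_normalizer_iff.1 ha' _).1 hb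
    exact mul_mem this (inv_mem hb)

theorem map_conj_eq_of_mem_normalizer {N : Subgroup X} {g : X}
    (hg : g ∈ Subgroup.normalizer (N : Set X)) : N.map (MulAut.conj g).toMonoidHom = N := by
  ext x
  rw [cg_mem_map_conj]
  have hg' : g⁻¹ ∈ Subgroup.normalizer (N : Set X) := inv_mem hg
  have := (Subgroup.mem_normalizer_iff.1 hg' x)
  rw [inv_inv] at this
  exact this.symm

/-- For a critical pair `(α, α')`, `Z_α` is not `Ω₁(Z(T))` for a Sylow `p`-subgroup `T` of `G_α`. -/
theorem cg_critical_vertexZ_ne (h : IsCharPAmalgamPair p M₁ M₂) {α α' : CosetVertex M₁ M₂}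
    (hc : IsCriticalPair p α α') {T : Subgroup X} (hT : IsSylIn p T (MulAction.stabilizer X α)) :
    vertexZ p α ≠ omegaOne p (T ⊓ Subgroup.centralizer (T : Set X)) := by
  intro heq
  have hconn := cg_connected h.1.1
  have hpos := cg_criticalDistance_pos h hc
  obtain ⟨n, hn⟩ : ∃ n, criticalDistance p M₁ M₂ = n + 1 := ⟨_, (Nat.succ_pred_eq_of_pos hpos).symm⟩
  have hd : (cosetGraph M₁ M₂).dist α α' = n + 1 := by rw [hc.2, hn]
  obtain ⟨β, hβ, hdβ⟩ := exists_adj_dist_succ hconn hd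
  have hZβ : vertexZ p β ≤ neighbourKernel α' := cg_vertexZ_le_of_dist_lt (by rw [hdβ, hn]; omega)
  obtain ⟨P, hP⟩ := cg_exists_sylIn_edge (p := p) α β
  have hPα := cg_sylIn_edge_vertex h hβ hP
  have hPβ := cg_sylIn_edge_vertex' h hβ hP
  have := cg_finite_stabilizer h α
  obtain ⟨g, hg, rfl⟩ := hT.exists_conj hPα
  have e1 : omegaZ p (T.map (MulAut.conj g).toMonoidHom) = vertexZ p α := by
    rw [← omegaZ_map_equiv]
    have : omegaZ p T = vertexZ p α := heq.symm
    rw [this]
    exact map_conj_eq_of_mem_normalizer (cg_vertexZ_normalized α hg)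
  have e2 : omegaZ p (T.map (MulAut.conj g).toMonoidHom) ≤ vertexZ p β :=
    omega_center_le_sylowCenterClosure hPβ
  rw [e1] at e2
  exact hc.1 (e2.trans hZβ)

end Critical

section PElementClosure

variable {X : Type*} [Group X] {p : ℕ}

theorem pElementClosure_le (H : Subgroup X) : pElementClosure p H ≤ H := by
  unfold pElementClosure
  rw [Subgroup.closure_le]
  intro x hx; exact hx.1

theorem le_pElementClosure [Fact p.Prime] {Q H : Subgroup X} (hQ : Q ≤ H) (hp : IsPGroup p Q) :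
    Q ≤ pElementClosure p H := by
  intro x hx
  apply Subgroup.subset_closure
  refine ⟨hQ hx, ?_⟩
  obtain ⟨k, hk⟩ := (IsPGroup.iff_orderOf.1 hp) ⟨x, hx⟩
  exact ⟨k, by rw [← hk, ← Subgroup.orderOf_coe]⟩

theorem pElementClosure_normalized (H : Subgroup X) :
    H ≤ Subgroup.normalizer (pElementClosure p H : Set X) := by
  apply le_normalizer_of_conj_mem
  intro g hg n hn
  have hmap : (pElementClosure p H).map (MulAut.conj g).toMonoidHom ≤ pElementClosure p H := by
    unfold pElementClosure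
    rw [MonoidHom.map_closure]
    apply Subgroup.closure_mono
    rintro _ ⟨x, ⟨hx, k, hk⟩, rfl⟩
    refine ⟨?_, k, ?_⟩
    · simp only [MulEquiv.coe_toMonoidHom, MulAut.conj_apply]
      exact mul_mem (mul_mem hg hx) (inv_mem hg)
    · rw [← hk]
      exact MulEquiv.orderOf_eq (MulAut.conj g) x
  exact hmap ⟨n, hn, by simp [MulAut.conj_apply]⟩

/-- The centre of a subgroup, in ambient form. -/
theorem center_map_subtype (R : Subgroup X) :
    (Subgroup.center R).map R.subtype = R ⊓ Subgroup.centralizer (R : Set X) := by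
  ext x
  rw [Subgroup.mem_inf, Subgroup.mem_map]
  constructor
  · rintro ⟨z, hz, rfl⟩
    refine ⟨z.2, ?_⟩
    rw [Subgroup.mem_centralizer_iff]
    intro r hr
    have := Subgroup.mem_center_iff.1 hz ⟨r, hr⟩
    exact congrArg Subtype.val this
  · rintro ⟨hxR, hxC⟩
    refine ⟨⟨x, hxR⟩, ?_, rfl⟩
    rw [Subgroup.mem_center_iff]
    intro r
    ext
    exact (Subgroup.mem_centralizer_iff.1 hxC) r r.2

theorem centralizer_normalized_of_normalized {H R : Subgroup X}
    (h : H ≤ Subgroup.normalizer (R : Set X)) :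
    H ≤ Subgroup.normalizer ((R ⊓ Subgroup.centralizer (R : Set X) : Subgroup X) : Set X) := by
  apply le_normalizer_of_conj_mem
  intro g hg n hn
  rw [Subgroup.mem_inf] at hn ⊢
  refine ⟨(Subgroup.mem_normalizer_iff.1 (h hg) n).1 hn.1, ?_⟩
  rw [Subgroup.mem_centralizer_iff]
  intro r hr
  have hg' : g⁻¹ ∈ Subgroup.normalizer (R : Set X) := inv_mem (h hg)
  have hr' : g⁻¹ * r * g ∈ R := by
    have := (Subgroup.mem_normalizer_iff.1 hg' r).1 hr
    simpa using this
  have := (Subgroup.mem_centralizer_iff.1 hn.2) _ hr'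
  calc r * (g * n * g⁻¹) = g * ((g⁻¹ * r * g) * n) * g⁻¹ := by group
    _ = g * (n * (g⁻¹ * r * g)) * g⁻¹ := by rw [this]
    _ = g * n * g⁻¹ * r := by group

theorem omegaOne_normalized_of_normalized {H Y : Subgroup X}
    (h : H ≤ Subgroup.normalizer (Y : Set X)) :
    H ≤ Subgroup.normalizer (omegaOne p Y : Set X) := by
  apply le_normalizer_of_conj_mem
  intro g hg n hn
  have : (omegaOne p Y).map (MulAut.conj g).toMonoidHom = omegaOne p Y := by
    rw [← omegaOne_map_equiv, map_conj_eq_of_mem_normalizer (h hg)]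
  rw [← this]
  exact ⟨n, hn, by simp [MulAut.conj_apply]⟩

/-- A finite `p`-group with trivial `Ω₁` is trivial. -/
theorem eq_bot_of_omegaOne_eq_bot [Fact p.Prime] {Y : Subgroup X} (hp : IsPGroup p Y)
    (h : omegaOne p Y = ⊥) : Y = ⊥ := by
  rw [eq_bot_iff]
  intro y hy
  obtain ⟨k, hk⟩ := (IsPGroup.iff_orderOf.1 hp) ⟨y, hy⟩
  have hk' : orderOf y = p ^ k := by rw [← hk, ← Subgroup.orderOf_coe]
  rcases k with _ | k
  · rw [pow_zero, orderOf_eq_one_iff] at hk'
    rw [Subgroup.mem_bot]; exact hk'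
  · exfalso
    have h1 : y ^ (p ^ k) ∈ omegaOne p Y := by
      apply Subgroup.subset_closure
      refine ⟨pow_mem hy _, ?_⟩
      rw [← pow_mul, ← pow_succ, ← hk', pow_orderOf_eq_one]
    rw [h, Subgroup.mem_bot, ← orderOf_dvd_iff_pow_eq_one, hk'] at h1
    have hp1 : 1 < p := (Fact.out : p.Prime).one_lt
    rw [Nat.pow_dvd_pow_iff_le_right hp1] at h1
    omega

end PElementClosure

section Centerless

variable {X : Type*} [Group X] {p : ℕ} [Fact p.Prime] {M₁ M₂ : Subgroup X}

theorem cg_center_pElementClosure_eq_bot (h : IsCharPAmalgamPair p M₁ M₂)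
    {α β : CosetVertex M₁ M₂} (hβ : (cosetGraph M₁ M₂).Adj α β)
    {T : Subgroup X} (hT : IsSylIn p T (edgeStabilizer α β))
    (L : Subgroup X) (hL : L ≤ MulAction.stabilizer X β)
    (hLc : L ≤ Subgroup.centralizer (omegaOne p (T ⊓ Subgroup.centralizer (T : Set X)) : Set X))
    (hLt : ∀ ν ν' : CosetVertex M₁ M₂, (cosetGraph M₁ M₂).Adj β ν → (cosetGraph M₁ M₂).Adj β ν' →
      ∃ g ∈ L, g • ν = ν') :
    Subgroup.center ↥(pElementClosure p (MulAction.stabilizer X α)) = ⊥ := by
  set H := MulAction.stabilizer X α with hH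
  set R := pElementClosure p H with hR
  have hfin := cg_finite_stabilizer h α
  set Y : Subgroup X := R ⊓ Subgroup.centralizer (R : Set X) with hY
  have hRH : R ≤ H := pElementClosure_le H
  have hTα : IsSylIn p T H := cg_sylIn_edge_vertex h hβ hT
  have hQT : pCoreOf p H ≤ T := hTα.pCoreOf_le
  have hTR : T ≤ R := le_pElementClosure hTα.le hTα.isPGroup
  have hQR : pCoreOf p H ≤ R := hQT.trans hTR
  have hYQ : Y ≤ pCoreOf p H := by
    refine le_trans ?_ (cg_charp_stabilizer h α)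
    apply le_inf
    · exact inf_le_left.trans hRH
    · exact inf_le_right.trans (Subgroup.centralizer_le hQR)
  have hYp : IsPGroup p Y := (pCoreOf_isPGroup H).to_le hYQ
  have hYT : Y ≤ T ⊓ Subgroup.centralizer (T : Set X) := by
    apply le_inf
    · exact hYQ.trans hQT
    · exact inf_le_right.trans (Subgroup.centralizer_le hTR)
  set W := omegaOne p Y with hW
  have hWle : W ≤ omegaOne p (T ⊓ Subgroup.centralizer (T : Set X)) := omegaOne_mono hYT
  have hHY : H ≤ Subgroup.normalizer (Y : Set X) :=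
    centralizer_normalized_of_normalized (pElementClosure_normalized H)
  have hHW : H ≤ Subgroup.normalizer (W : Set X) := omegaOne_normalized_of_normalized hHY
  have hLW : L ≤ Subgroup.normalizer (W : Set X) := by
    intro l hl
    have hc := hLc hl
    rw [Subgroup.mem_centralizer_iff] at hc
    rw [Subgroup.mem_normalizer_iff]
    intro w
    constructor
    · intro hw
      have := hc w (hWle hw)
      have e : l * w * l⁻¹ = w := by rw [← this]; group
      rw [e]; exact hw
    · intro hw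
      have := hc _ (hWle hw)
      have e : l * w * l⁻¹ = w := by
        have h2 : l * w * l⁻¹ * l = l * (l * w * l⁻¹) := this
        have h3 : l * w = l * (l * w * l⁻¹) := by rw [← h2]; group
        exact (mul_left_cancel h3).symm
      rw [← e]; exact hw
  have hWbot : W = ⊥ := by
    apply cg_amalgam_trivial h.1 α β hβ W
    · exact (omegaOne_le Y).trans (hYT.trans (inf_le_left.trans hT.le))
    · intro ν ν' hν hν'
      obtain ⟨g, hg, hgν⟩ := cg_neighbours_transitive α ν ν' hν hν'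
      exact ⟨g, ⟨hHW hg, hg⟩, hgν⟩
    · intro ν ν' hν hν'
      obtain ⟨g, hg, hgν⟩ := hLt ν ν' hν hν'
      exact ⟨g, ⟨hLW hg, hL hg⟩, hgν⟩
  have hYbot : Y = ⊥ := eq_bot_of_omegaOne_eq_bot hYp hWbot
  rw [eq_bot_iff]
  intro z hz
  have : (z : X) ∈ (Subgroup.center R).map R.subtype := ⟨z, hz, rfl⟩
  rw [center_map_subtype, ← hY, hYbot, Subgroup.mem_bot] at this
  rw [Subgroup.mem_bot]
  ext
  exact this

end Centerless

section Spe

variable {X : Type*} [Group X] {p : ℕ} [Fact p.Prime] {M₁ M₂ : Subgroup X}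

/-- A Sylow subgroup of `H` contained in an intermediate subgroup `K` is Sylow in `K`. -/
theorem IsSylIn.of_ge {P K H : Subgroup X} [Finite H] (h : IsSylIn p P H) (hPK : P ≤ K) (hKH : K ≤ H) :
    IsSylIn p P K := by
  have : Finite K := finite_of_le hKH
  apply isSylIn_of_card hPK
  rw [h.card]
  congr 1
  apply le_antisymm
  · have h1 : p ^ (Nat.card H).factorization p ∣ Nat.card K := by
      rw [← h.card]; exact Subgroup.card_dvd_of_le hPK
    exact (Nat.Prime.pow_dvd_iff_le_factorization Fact.out (Nat.card_pos).ne').1 h1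
  · have h1 : p ^ (Nat.card K).factorization p ∣ Nat.card H :=
      (Nat.ordProj_dvd _ _).trans (Subgroup.card_dvd_of_le hKH)
    exact (Nat.Prime.pow_dvd_iff_le_factorization Fact.out (Nat.card_pos).ne').1 h1

theorem IsSylIn.map_symm {P H : Subgroup X} [Finite H] (φ : X ≃* X)
    (h : IsSylIn p P (H.map φ.toMonoidHom)) : IsSylIn p (P.map φ.symm.toMonoidHom) H := by
  have : Finite (H.map φ.toMonoidHom) := finite_map_of_finite H _
  apply isSylIn_of_card
  · rintro _ ⟨x, hx, rfl⟩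
    have := h.le hx
    rw [mem_map_equiv_iff] at this
    exact this
  · rw [Subgroup.card_map_of_injective φ.symm.injective, h.card,
      Subgroup.card_map_of_injective φ.injective]

theorem mem_normalizer_map_symm {P : Subgroup X} (φ : X ≃* X) {g : X}
    (hg : g ∈ Subgroup.normalizer (P : Set X)) :
    φ.symm g ∈ Subgroup.normalizer ((P.map φ.symm.toMonoidHom : Subgroup X) : Set X) := by
  rw [Subgroup.mem_normalizer_iff] at hg ⊢
  intro x
  rw [mem_map_equiv_iff, mem_map_equiv_iff]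
  simp only [MulEquiv.symm_symm, map_mul, map_inv, MulEquiv.apply_symm_apply]
  exact hg (φ x)

/-- The normalizer condition of `IsSpeAmalgamPair`, transported to an arbitrary edge. -/
theorem cg_spe_normalizer_le (h : IsSpeAmalgamPair p M₁ M₂) {δ ν : CosetVertex M₁ M₂}
    (hadj : (cosetGraph M₁ M₂).Adj δ ν) {P : Subgroup X} (hP : IsSylIn p P (edgeStabilizer δ ν)) :
    MulAction.stabilizer X δ ⊓ Subgroup.normalizer (P : Set X) ≤ edgeStabilizer δ ν := by
  obtain ⟨hchar, hN, _, _⟩ := h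
  have hf1 : Finite M₁ := hchar.2.1
  have hfin : Finite (M₁ ⊓ M₂ : Subgroup X) := finite_of_le (inf_le_left : M₁ ⊓ M₂ ≤ M₁)
  rw [cg_adj_iff] at hadj
  obtain ⟨x, ⟨rfl, rfl⟩ | ⟨rfl, rfl⟩⟩ := hadj
  · rw [cg_edgeStabilizer] at hP ⊢
    have hP0 := hP.map_symm (MulAut.conj x)
    obtain ⟨S, hS⟩ := hP0
    obtain ⟨_, h2⟩ := hN S
    rw [hS] at h2
    intro g hg
    rw [Subgroup.mem_inf] at hg
    obtain ⟨hg1, hg2⟩ := hg
    rw [mem_map_equiv_iff]
    apply h2
    rw [Subgroup.mem_inf]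
    refine ⟨?_, mem_normalizer_map_symm _ hg2⟩
    rw [cg_stabilizer_inl, mem_map_equiv_iff] at hg1
    exact hg1
  · have e : edgeStabilizer (Sum.inr (x : X ⧸ M₂) : CosetVertex M₁ M₂) (Sum.inl (x : X ⧸ M₁)) =
        edgeStabilizer (Sum.inl (x : X ⧸ M₁) : CosetVertex M₁ M₂) (Sum.inr (x : X ⧸ M₂)) := inf_comm _ _
    rw [e, cg_edgeStabilizer] at hP ⊢
    have hP0 := hP.map_symm (MulAut.conj x)
    obtain ⟨S, hS⟩ := hP0
    obtain ⟨h1, h2⟩ := hN S
    rw [hS] at h1 h2
    intro g hg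
    rw [Subgroup.mem_inf] at hg
    obtain ⟨hg1, hg2⟩ := hg
    rw [mem_map_equiv_iff]
    apply h2
    rw [h1, Subgroup.mem_inf]
    refine ⟨?_, mem_normalizer_map_symm _ hg2⟩
    rw [cg_stabilizer_inr, mem_map_equiv_iff] at hg1
    exact hg1

/-- Under the standing hypothesis, `G_δ = O^{p'}(G_δ) G_{δν}` for every neighbour `ν` of `δ`. -/
theorem cg_spe_factor (h : IsSpeAmalgamPair p M₁ M₂) {δ ν : CosetVertex M₁ M₂}
    (hadj : (cosetGraph M₁ M₂).Adj δ ν) {g : X} (hg : g ∈ MulAction.stabilizer X δ) :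
    ∃ r ∈ pElementClosure p (MulAction.stabilizer X δ), ∃ k ∈ edgeStabilizer δ ν, g = r * k := by
  obtain ⟨P, hP⟩ := cg_exists_sylIn_edge (p := p) δ ν
  have hfin := cg_finite_stabilizer h.1 δ
  have hPδ := cg_sylIn_edge_vertex h.1 hadj hP
  have hPR : P ≤ pElementClosure p (MulAction.stabilizer X δ) :=
    le_pElementClosure hPδ.le hPδ.isPGroup
  have hRδ := pElementClosure_le (p := p) (MulAction.stabilizer X δ)
  have hPR' : IsSylIn p P (pElementClosure p (MulAction.stabilizer X δ)) := hPδ.of_ge hPR hRδ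
  have : Finite (pElementClosure p (MulAction.stabilizer X δ)) := finite_of_le hRδ
  obtain ⟨r, hr, n, hn, rfl⟩ := hPR'.frattini hRδ (pElementClosure_normalized _) hg
  exact ⟨r, hr, n, cg_spe_normalizer_le h hadj hP hn, rfl⟩

theorem cg_spe_trivial (h : IsSpeAmalgamPair p M₁ M₂) {δ μ : CosetVertex M₁ M₂}
    (hμ : (cosetGraph M₁ M₂).Adj δ μ) {T : Subgroup X} (hT : IsSylIn p T (edgeStabilizer δ μ))
    (U : Subgroup X) (hUT : U ≤ T)
    (hU1 : pElementClosure p (MulAction.stabilizer X δ) ≤ Subgroup.normalizer (U : Set X))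
    (hU2 : pElementClosure p (MulAction.stabilizer X μ) ≤ Subgroup.normalizer (U : Set X)) : U = ⊥ := by
  have key : ∀ (γ : CosetVertex M₁ M₂),
      pElementClosure p (MulAction.stabilizer X γ) ≤ Subgroup.normalizer (U : Set X) →
      ∀ ν ν' : CosetVertex M₁ M₂, (cosetGraph M₁ M₂).Adj γ ν → (cosetGraph M₁ M₂).Adj γ ν' →
        ∃ g ∈ Subgroup.normalizer (U : Set X) ⊓ MulAction.stabilizer X γ, g • ν = ν' := by
    intro γ hγ ν ν' hν hν'
    obtain ⟨g, hg, hgν⟩ := cg_neighbours_transitive γ ν ν' hν hν'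
    obtain ⟨r, hr, k, hk, rfl⟩ := cg_spe_factor h hν hg
    refine ⟨r, ⟨hγ hr, pElementClosure_le _ hr⟩, ?_⟩
    have hkν : k • ν = ν := MulAction.mem_stabilizer_iff.1 hk.2
    rw [mul_smul, hkν] at hgν
    exact hgν
  exact cg_amalgam_trivial h.1.1 δ μ hμ U (hUT.trans hT.le) (key δ hU1) (key μ hU2)

end Spe

end Cfsg.Agent.Helper46
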