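import Cfsg.Agent.Helper46.Averaging
import Cfsg.Agent.Helper2.Residual

set_option autoImplicit false

namespace Cfsg.Agent.Helper46

open Cfsg
open scoped commutatorElement Pointwise

section SylowCenter

variable {G : Type*} [Group G] {p : ℕ}

/-- Every generator of `Z_L` lies in `K` ⇒ `Z_L ≤ K`. -/
theorem sylowCenterClosure_le_of_gen {L K : Subgroup G}
    (h : ∀ (S : Sylow p ↥L) (x : G), x ∈ (S : Subgroup ↥L).map L.subtype →
      x ∈ Subgroup.centralizer (((S : Subgroup ↥L).map L.subtype : Subgroup G) : Set G) → x ^ p = 1 → x ∈ K) :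
    sylowCenterClosure p L ≤ K := by
  unfold sylowCenterClosure
  apply iSup_le
  intro S
  unfold omegaOne
  rw [Subgroup.closure_le]
  rintro x ⟨hx, hxp⟩
  rw [Subgroup.mem_inf] at hx
  exact h S x hx.1 hx.2 hxp

/-- In characteristic `p`, `Z_L` is elementary abelian. -/
theorem sylowCenterClosure_elementaryAbelian [Fact p.Prime] {L : Subgroup G} [Finite L]
    (hL : IsCharPIn p L) : IsElementaryAbelian p (sylowCenterClosure p L) := by
  have hVQ : sylowCenterClosure p L ≤ pCoreOf p L := sylowCenterClosure_le_pCoreOf hL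
  have hVC : sylowCenterClosure p L ≤ Subgroup.centralizer (pCoreOf p L : Set G) := by
    apply sylowCenterClosure_le_of_gen
    intro S x _ hxC _
    have hS : IsSylIn p ((S : Subgroup ↥L).map L.subtype) L := ⟨S, rfl⟩
    exact Subgroup.centralizer_le hS.pCoreOf_le hxC
  have hcomm : ∀ a ∈ sylowCenterClosure p L, ∀ b ∈ sylowCenterClosure p L, a * b = b * a := by
    intro a ha b hb
    exact ((Subgroup.mem_centralizer_iff.1 (hVC hb)) a (hVQ ha))
  refine ⟨⟨⟨fun a b => Subtype.ext (hcomm a a.2 b b.2)⟩⟩, ?_⟩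
  -- exponent `p`
  have hle : sylowCenterClosure p L ≤
      ({ carrier := {a | a ∈ sylowCenterClosure p L ∧ a ^ p = 1}
         one_mem' := ⟨one_mem _, one_pow _⟩
         mul_mem' := fun {a b} ha hb => ⟨mul_mem ha.1 hb.1, by
           rw [(show Commute a b from hcomm a ha.1 b hb.1).mul_pow, ha.2, hb.2, one_mul]⟩
         inv_mem' := fun {a} ha => ⟨inv_mem ha.1, by rw [inv_pow, ha.2, inv_one]⟩ } : Subgroup G) := by
    apply sylowCenterClosure_le_of_gen
    intro S x hxS hxC hxp
    refine ⟨?_, hxp⟩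
    have hS : IsSylIn p ((S : Subgroup ↥L).map L.subtype) L := ⟨S, rfl⟩
    apply omega_center_le_sylowCenterClosure hS
    exact Subgroup.subset_closure ⟨Subgroup.mem_inf.2 ⟨hxS, hxC⟩, hxp⟩
  intro a ha
  exact (hle ha).2

/-- `L = O^p(L) S` for a Sylow `p`-subgroup `S` of `L`. -/
theorem exists_mul_of_residual_sylow [Fact p.Prime] {L : Subgroup G} [Finite L] (S : Sylow p ↥L)
    {l : G} (hl : l ∈ L) :
    ∃ r ∈ (pResidual p ↥L).map L.subtype, ∃ s ∈ (S : Subgroup ↥L).map L.subtype, l = r * s := by
  haveI : (pResidual p ↥L).Normal := Cfsg.Agent.Lib.pResidual_normal p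
  have h1 := Cfsg.Agent.Helper2.pResidual_sup_sylow_eq_top S
  have h2 : (⟨l, hl⟩ : ↥L) ∈ ((pResidual p ↥L ⊔ (S : Subgroup ↥L) : Subgroup ↥L) : Set ↥L) := by
    rw [h1]; exact Subgroup.mem_top _
  rw [Subgroup.normal_mul] at h2
  obtain ⟨r, hr, s, hs, hrs⟩ := h2
  refine ⟨(r : G), ⟨r, hr, rfl⟩, (s : G), ⟨s, hs, rfl⟩, ?_⟩
  have := congrArg Subtype.val hrs
  exact this.symm

/-- `[Z_L, L] = [Z_L, O^p(L)]`. -/
theorem commutator_sylowCenterClosure [Fact p.Prime] {L : Subgroup G} [Finite L] :
    ⁅sylowCenterClosure p L, L⁆ = ⁅sylowCenterClosure p L, (pResidual p ↥L).map L.subtype⁆ := by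
  haveI : (pResidual p ↥L).Normal := Cfsg.Agent.Lib.pResidual_normal p
  have hRL : (pResidual p ↥L).map L.subtype ≤ L := Subgroup.map_subtype_le _
  have hLR : L ≤ Subgroup.normalizer (((pResidual p ↥L).map L.subtype : Subgroup G) : Set G) :=
    map_subtype_normalized _
  have hLV : L ≤ Subgroup.normalizer (sylowCenterClosure p L : Set G) := sylowCenterClosure_normalized L
  have hLV₀ := commutator_normalized hLV hLR
  apply le_antisymm
  · set V₀ := ⁅sylowCenterClosure p L, (pResidual p ↥L).map L.subtype⁆ with hV₀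
    have hconj : ∀ a ∈ L, ∀ c ∈ V₀, a * c * a⁻¹ ∈ V₀ := fun a ha c hc =>
      (Subgroup.mem_normalizer_iff.1 (hLV₀ ha) c).1 hc
    have hle : sylowCenterClosure p L ≤
        ({ carrier := {v | v ∈ L ∧ ∀ l ∈ L, ⁅v, l⁆ ∈ V₀}
           one_mem' := ⟨one_mem _, fun l _ => by
             rw [commutatorElement_def]; simp⟩
           mul_mem' := fun {a b} ha hb => ⟨mul_mem ha.1 hb.1, fun l hl => by
             have e : ⁅a * b, l⁆ = a * ⁅b, l⁆ * a⁻¹ * ⁅a, l⁆ := by
               simp only [commutatorElement_def]; group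
             rw [e]
             exact mul_mem (hconj a ha.1 _ (hb.2 l hl)) (ha.2 l hl)⟩
           inv_mem' := fun {a} ha => ⟨inv_mem ha.1, fun l hl => by
             have e : ⁅a⁻¹, l⁆ = a⁻¹ * (⁅a, l⁆)⁻¹ * a⁻¹⁻¹ := by
               simp only [commutatorElement_def]; group
             rw [e]
             exact hconj a⁻¹ (inv_mem ha.1) _ (inv_mem (ha.2 l hl))⟩ } : Subgroup G) := by
      apply sylowCenterClosure_le_of_gen
      intro S x hxS hxC hxp
      refine ⟨Subgroup.map_subtype_le _ hxS, ?_⟩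
      intro l hl
      obtain ⟨r, hr, s, hs, rfl⟩ := exists_mul_of_residual_sylow S hl
      have hsx : s * x = x * s := (Subgroup.mem_centralizer_iff.1 hxC) s hs
      have e : ⁅x, r * s⁆ = ⁅x, r⁆ := by
        simp only [commutatorElement_def]
        have : x * (r * s) * x⁻¹ * (r * s)⁻¹ = x * r * (s * x⁻¹ * s⁻¹) * r⁻¹ := by group
        rw [this]
        have h2 : s * x⁻¹ * s⁻¹ = x⁻¹ := by
          have : s * x⁻¹ = x⁻¹ * s := by
            have := congrArg (fun t => x⁻¹ * t * x⁻¹) hsx
            simpa [mul_assoc] using this.symm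
          rw [this, mul_inv_cancel_right]
        rw [h2]
      rw [e]
      have hS : IsSylIn p ((S : Subgroup ↥L).map L.subtype) L := ⟨S, rfl⟩
      have hxV : x ∈ sylowCenterClosure p L := by
        apply omega_center_le_sylowCenterClosure hS
        exact Subgroup.subset_closure ⟨Subgroup.mem_inf.2 ⟨hxS, hxC⟩, hxp⟩
      exact Subgroup.commutator_mem_commutator hxV hr
    rw [Subgroup.commutator_le]
    intro v hv l hl
    exact (hle hv).2 l hl
  · exact Subgroup.commutator_mono le_rfl hRL

/-- `Z_L = Ω₁(Z(L)) [Z_L, O^p(L)]` in characteristic `p`. -/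
theorem sylowCenterClosure_eq_sup [Fact p.Prime] {L : Subgroup G} [Finite L] (hL : IsCharPIn p L) :
    sylowCenterClosure p L = omegaOne p (L ⊓ Subgroup.centralizer (L : Set G)) ⊔
      ⁅sylowCenterClosure p L, (pResidual p ↥L).map L.subtype⁆ := by
  have hRL : (pResidual p ↥L).map L.subtype ≤ L := Subgroup.map_subtype_le _
  have hLV : L ≤ Subgroup.normalizer (sylowCenterClosure p L : Set G) := sylowCenterClosure_normalized L
  have hEA := sylowCenterClosure_elementaryAbelian hL
  apply le_antisymm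
  · apply sylowCenterClosure_le_of_gen
    intro S x hxS hxC hxp
    have hS : IsSylIn p ((S : Subgroup ↥L).map L.subtype) L := ⟨S, rfl⟩
    have hxV : x ∈ sylowCenterClosure p L := by
      apply omega_center_le_sylowCenterClosure hS
      exact Subgroup.subset_closure ⟨Subgroup.mem_inf.2 ⟨hxS, hxC⟩, hxp⟩
    have h1 := coset_average hEA hLV S hxV hxC
    rw [commutator_sylowCenterClosure, sup_comm] at h1
    have hmono : sylowCenterClosure p L ⊓ Subgroup.centralizer (L : Set G) ≤
        omegaOne p (L ⊓ Subgroup.centralizer (L : Set G)) := by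
      intro y hy
      rw [Subgroup.mem_inf] at hy
      apply Subgroup.subset_closure
      exact ⟨Subgroup.mem_inf.2 ⟨sylowCenterClosure_le L hy.1, hy.2⟩, hEA.2 y hy.1⟩
    exact (sup_le_sup_right hmono _) h1
  · apply sup_le
    · unfold omegaOne
      rw [Subgroup.closure_le]
      rintro x ⟨hx, hxp⟩
      rw [Subgroup.mem_inf] at hx
      obtain ⟨S⟩ : Nonempty (Sylow p ↥L) := inferInstance
      have hS : IsSylIn p ((S : Subgroup ↥L).map L.subtype) L := ⟨S, rfl⟩
      apply omega_center_le_sylowCenterClosure hS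
      apply Subgroup.subset_closure
      refine ⟨Subgroup.mem_inf.2 ⟨?_, Subgroup.centralizer_le hS.le hx.2⟩, hxp⟩
      -- `x` lies in every Sylow subgroup, being a central `p`-element
      have hzL : Subgroup.zpowers x ≤ L := Subgroup.zpowers_le.2 hx.1
      have hzp : IsPGroup p (Subgroup.zpowers x) := by
        rintro ⟨_, ⟨k, rfl⟩⟩
        refine ⟨1, ?_⟩
        apply Subtype.ext
        show (x ^ k) ^ (p ^ 1) = 1
        rw [pow_one, ← zpow_natCast, ← zpow_mul, mul_comm, zpow_mul, zpow_natCast, hxp, one_zpow]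
      have hzn : L ≤ Subgroup.normalizer ((Subgroup.zpowers x : Subgroup G) : Set G) := by
        apply le_normalizer_of_conj_mem
        rintro g hg _ ⟨k, rfl⟩
        have hc : g * x = x * g := (Subgroup.mem_centralizer_iff.1 hx.2) g hg
        have : g * x ^ k * g⁻¹ = x ^ k := by
          have := (show Commute g x from hc).zpow_right k
          rw [this.eq, mul_inv_cancel_right]
        simp only at this ⊢
        rw [this]
        exact ⟨k, rfl⟩
      exact hS.normal_le hzL hzp hzn (Subgroup.mem_zpowers x)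
    · exact commutator_le_of_normalized (hRL.trans hLV)

end SylowCenter

end Cfsg.Agent.Helper46
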