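import Mathlib
import Cfsg.Prelude.Def_LocalEven
import Cfsg.Agent.Helper37.SL2Sylow

/-!
# Coordinates for a natural `SL₂(F)`-module inside a group

Normalised coordinates for `Cfsg.IsNaturalSL2Module F V L` with `L` acting faithfully, adapted to a
Sylow `p`-subgroup of `L` (which is sent to the upper unitriangular group).
-/

set_option autoImplicit false

namespace Cfsg.Agent.Helper46

open Matrix Cfsg.Agent.Helper37.SL2

section NatSL2

variable {G : Type*} [Group G] {F : Type*} [Field F] {V L : Subgroup G}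

/-- Coordinates of an element of `V`. -/
def nco (ψ : Additive ↥V ≃+ (Fin 2 → F)) (v : ↥V) : Fin 2 → F := ψ (Additive.ofMul v)

theorem nco_mul (ψ : Additive ↥V ≃+ (Fin 2 → F)) (v w : ↥V) :
    nco ψ (v * w) = nco ψ v + nco ψ w := by
  unfold nco
  rw [ofMul_mul, map_add]

theorem nco_one (ψ : Additive ↥V ≃+ (Fin 2 → F)) : nco ψ (1 : ↥V) = 0 := by
  unfold nco
  rw [ofMul_one, map_zero]

theorem nco_inv (ψ : Additive ↥V ≃+ (Fin 2 → F)) (v : ↥V) : nco ψ v⁻¹ = -nco ψ v := by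
  unfold nco
  rw [ofMul_inv, map_neg]

theorem nco_injective (ψ : Additive ↥V ≃+ (Fin 2 → F)) : Function.Injective (nco ψ) := by
  intro v w h
  have := ψ.injective h
  exact Additive.ofMul.injective this

theorem nco_surjective (ψ : Additive ↥V ≃+ (Fin 2 → F)) : Function.Surjective (nco ψ) := by
  intro f
  obtain ⟨a, ha⟩ := ψ.surjective f
  exact ⟨Additive.toMul a, ha⟩

theorem nco_eq_zero_iff (ψ : Additive ↥V ≃+ (Fin 2 → F)) (v : ↥V) : nco ψ v = 0 ↔ v = 1 := by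
  constructor
  · intro h
    apply nco_injective ψ
    rw [h, nco_one]
  · rintro rfl
    exact nco_one ψ

theorem natV_comm (ψ : Additive ↥V ≃+ (Fin 2 → F)) (v w : ↥V) : v * w = w * v := by
  apply nco_injective ψ
  rw [nco_mul, nco_mul, add_comm]

/-- The action hypothesis in the definition of a natural module. -/
def NatAct (ρ : ↥L →* SpecialLinearGroup (Fin 2) F) (ψ : Additive ↥V ≃+ (Fin 2 → F)) : Prop :=
  ∀ (l : ↥L) (v : ↥V), ∃ w : ↥V, (w : G) = (l : G) * (v : G) * (l : G)⁻¹ ∧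
    nco ψ w = ((ρ l : SpecialLinearGroup (Fin 2) F) : Matrix (Fin 2) (Fin 2) F).mulVec (nco ψ v)

variable {ρ : ↥L →* SpecialLinearGroup (Fin 2) F} {ψ : Additive ↥V ≃+ (Fin 2 → F)}

theorem NatAct.conj_mem (h : NatAct ρ ψ) (l : ↥L) (v : ↥V) : (l : G) * (v : G) * (l : G)⁻¹ ∈ V := by
  obtain ⟨w, hw, _⟩ := h l v
  rw [← hw]
  exact w.2

theorem NatAct.nco_conj (h : NatAct ρ ψ) (l : ↥L) (v : ↥V) :
    nco ψ ⟨(l : G) * (v : G) * (l : G)⁻¹, h.conj_mem l v⟩ =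
      ((ρ l : SpecialLinearGroup (Fin 2) F) : Matrix (Fin 2) (Fin 2) F).mulVec (nco ψ v) := by
  obtain ⟨w, hw, hw2⟩ := h l v
  have : w = ⟨(l : G) * (v : G) * (l : G)⁻¹, h.conj_mem l v⟩ := Subtype.ext hw
  rw [← this, hw2]

/-- Coordinates of a conjugate by an element mapping to `uu a`. -/
theorem NatAct.nco_conj_uu (h : NatAct ρ ψ) (l : ↥L) (a : F) (hl : ρ l = uu a) (v : ↥V) :
    nco ψ ⟨(l : G) * (v : G) * (l : G)⁻¹, h.conj_mem l v⟩ =
      ![nco ψ v 0 + a * nco ψ v 1, nco ψ v 1] := by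
  rw [h.nco_conj, hl, uu_val]
  ext i
  fin_cases i <;> simp [Matrix.mulVec, dotProduct, Fin.sum_univ_two]

/-- An element of `V` commutes with `l` iff its coordinates are fixed by `ρ l`. -/
theorem NatAct.commute_iff (h : NatAct ρ ψ) (l : ↥L) (v : ↥V) :
    (l : G) * (v : G) = (v : G) * (l : G) ↔
      ((ρ l : SpecialLinearGroup (Fin 2) F) : Matrix (Fin 2) (Fin 2) F).mulVec (nco ψ v) = nco ψ v := by
  rw [← h.nco_conj]
  constructor
  · intro hc
    congr 1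
    apply Subtype.ext
    show (l : G) * (v : G) * (l : G)⁻¹ = v
    rw [hc, mul_inv_cancel_right]
  · intro hc
    have := nco_injective ψ hc
    have h2 : (l : G) * (v : G) * (l : G)⁻¹ = v := congrArg Subtype.val this
    exact mul_inv_eq_iff_eq_mul.1 h2

/-- Coordinates of a commutator `v t v⁻¹ t⁻¹`. -/
theorem NatAct.comm_mem (h : NatAct ρ ψ) (l : ↥L) (v : ↥V) :
    (v : G) * (l : G) * (v : G)⁻¹ * (l : G)⁻¹ ∈ V := by
  have h1 := h.conj_mem l v⁻¹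
  have h2 : (v : G) * (l : G) * (v : G)⁻¹ * (l : G)⁻¹ = (v : G) * ((l : G) * ((v⁻¹ : ↥V) : G) * (l : G)⁻¹) := by
    simp [mul_assoc]
  rw [h2]
  exact V.mul_mem v.2 h1

theorem NatAct.nco_comm (h : NatAct ρ ψ) (l : ↥L) (v : ↥V) :
    nco ψ ⟨(v : G) * (l : G) * (v : G)⁻¹ * (l : G)⁻¹, h.comm_mem l v⟩ =
      nco ψ v - ((ρ l : SpecialLinearGroup (Fin 2) F) : Matrix (Fin 2) (Fin 2) F).mulVec (nco ψ v) := by
  have h2 : (⟨(v : G) * (l : G) * (v : G)⁻¹ * (l : G)⁻¹, h.comm_mem l v⟩ : ↥V) =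
      v * ⟨(l : G) * ((v⁻¹ : ↥V) : G) * (l : G)⁻¹, h.conj_mem l v⁻¹⟩ := by
    apply Subtype.ext
    simp [mul_assoc]
  rw [h2, nco_mul, h.nco_conj, nco_inv, Matrix.mulVec_neg, sub_eq_add_neg]

theorem NatAct.nco_comm_uu (h : NatAct ρ ψ) (l : ↥L) (a : F) (hl : ρ l = uu a) (v : ↥V) :
    nco ψ ⟨(v : G) * (l : G) * (v : G)⁻¹ * (l : G)⁻¹, h.comm_mem l v⟩ = ![-(a * nco ψ v 1), 0] := by
  rw [h.nco_comm, hl, uu_val]
  ext i
  fin_cases i <;> simp [Matrix.mulVec, dotProduct, Fin.sum_univ_two]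

theorem charP_of_card_eq_pow {K : Type*} [Field K] [Fintype K] {p n : ℕ} [hp : Fact p.Prime]
    (hF : Fintype.card K = p ^ n) : CharP K p := by
  obtain ⟨q, hq, m, hqp, hm⟩ := FiniteField.card' K
  have hn : n ≠ 0 := by
    rintro rfl
    have := Fintype.one_lt_card (α := K)
    rw [hF] at this
    simp at this
  have hdvd : p ∣ q ^ (m : ℕ) := by rw [← hm, hF]; exact dvd_pow_self p hn
  have : p = q := (Nat.prime_dvd_prime_iff_eq hp.out hqp).1 (hp.out.dvd_of_dvd_pow hdvd)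
  rw [this]; exact hq

/-- Normalised coordinates: the given Sylow `p`-subgroup of `L` maps onto the upper unitriangular
group. -/
theorem exists_nat_coords [Finite G] [Fintype F] {p : ℕ} [Fact p.Prime] [CharP F p]
    (hnat : Cfsg.IsNaturalSL2Module F V L) (hf : L ⊓ Subgroup.centralizer (V : Set G) = ⊥)
    (S : Sylow p ↥L) :
    ∃ (ρ : ↥L →* SpecialLinearGroup (Fin 2) F) (ψ : Additive ↥V ≃+ (Fin 2 → F)),
      Function.Bijective ρ ∧ NatAct ρ ψ ∧ ∀ l : ↥L, l ∈ S ↔ ρ l ∈ U0 := by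
  obtain ⟨hLV, ρ, ψ, hsurj, hker, hact⟩ := hnat
  have hinj : Function.Injective ρ := by
    rw [← MonoidHom.ker_eq_bot_iff, hker, Subgroup.subgroupOf_eq_bot, disjoint_iff, inf_comm]
    exact hf
  obtain ⟨g, hg⟩ := exists_smul_P0 p (S.mapSurjective hsurj)
  refine ⟨(MulAut.conj g⁻¹).toMonoidHom.comp ρ,
    ψ.trans (SpecialLinearGroup.toLin' g⁻¹).toAddEquiv, ?_, ?_, ?_⟩
  · exact (MulAut.conj g⁻¹).bijective.comp ⟨hinj, hsurj⟩
  · intro l v
    obtain ⟨w, hw, hw2⟩ := hact l v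
    refine ⟨w, hw, ?_⟩
    show (SpecialLinearGroup.toLin' g⁻¹) (ψ (Additive.ofMul w)) =
      ((g⁻¹ * ρ l * g⁻¹⁻¹ : SpecialLinearGroup (Fin 2) F) : Matrix (Fin 2) (Fin 2) F).mulVec
        ((SpecialLinearGroup.toLin' g⁻¹) (ψ (Additive.ofMul v)))
    rw [hw2, SpecialLinearGroup.toLin'_apply, SpecialLinearGroup.toLin'_apply,
      Matrix.toLin'_apply, Matrix.toLin'_apply, Matrix.mulVec_mulVec, Matrix.mulVec_mulVec]
    have h3 : ((g⁻¹ * ρ l * g⁻¹⁻¹ : SpecialLinearGroup (Fin 2) F) : Matrix (Fin 2) (Fin 2) F) *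
        ((g⁻¹ : SpecialLinearGroup (Fin 2) F) : Matrix (Fin 2) (Fin 2) F) =
        ((g⁻¹ : SpecialLinearGroup (Fin 2) F) : Matrix (Fin 2) (Fin 2) F) *
          ((ρ l : SpecialLinearGroup (Fin 2) F) : Matrix (Fin 2) (Fin 2) F) := by
      have h4 : (g⁻¹ * ρ l * g⁻¹⁻¹) * g⁻¹ = g⁻¹ * ρ l := by group
      have h5 := congrArg (fun A : SpecialLinearGroup (Fin 2) F => (A : Matrix (Fin 2) (Fin 2) F)) h4
      exact h5
    rw [h3]
  · intro l
    have h1 : ρ l ∈ (S.mapSurjective hsurj : Sylow p (SpecialLinearGroup (Fin 2) F)) ↔ l ∈ S := by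
      show ρ l ∈ (S : Subgroup ↥L).map ρ ↔ l ∈ S
      exact Subgroup.mem_map_iff_mem hinj
    rw [← h1, ← hg, mem_smul_P0]
    show _ ↔ g⁻¹ * ρ l * g⁻¹⁻¹ ∈ U0
    rw [inv_inv]

/-- `T` is the preimage in `L` of the upper unitriangular group. -/
def NatT (ρ : ↥L →* SpecialLinearGroup (Fin 2) F) (T : Subgroup G) : Prop :=
  ∀ g : G, g ∈ T ↔ ∃ hl : g ∈ L, ρ ⟨g, hl⟩ ∈ U0

theorem natT_of_sylow {p : ℕ} [Fact p.Prime] (S : Sylow p ↥L)
    (hS : ∀ l : ↥L, l ∈ S ↔ ρ l ∈ U0) : NatT ρ ((S : Subgroup ↥L).map L.subtype) := by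
  intro g
  constructor
  · rintro ⟨l, hl, rfl⟩
    exact ⟨l.2, (hS l).1 hl⟩
  · rintro ⟨hl, h⟩
    exact ⟨⟨g, hl⟩, (hS _).2 h, rfl⟩

variable {T : Subgroup G}

theorem NatT.le (hT : NatT ρ T) : T ≤ L := fun g hg => ((hT g).1 hg).1

theorem NatT.exists_uu (hT : NatT ρ T) (hsurj : Function.Surjective ρ) (a : F) :
    ∃ t : ↥L, (t : G) ∈ T ∧ ρ t = uu a := by
  obtain ⟨t, ht⟩ := hsurj (uu a)
  refine ⟨t, (hT t).2 ⟨t.2, ?_⟩, ht⟩
  show ρ t ∈ U0
  rw [ht]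
  exact uu_mem a

theorem NatT.exists_of_mem (hT : NatT ρ T) {t : G} (ht : t ∈ T) :
    ∃ (l : ↥L) (a : F), (l : G) = t ∧ ρ l = uu a := by
  obtain ⟨hl, h⟩ := (hT t).1 ht
  obtain ⟨a, ha⟩ := mem_U0.1 h
  exact ⟨⟨t, hl⟩, a, rfl, ha.symm⟩

theorem uu_eq_one_iff (a : F) : uu a = 1 ↔ a = 0 := by
  constructor
  · intro h
    have h1 := congrArg (fun A : SpecialLinearGroup (Fin 2) F => (A : Matrix (Fin 2) (Fin 2) F) 0 1) h
    simpa [uu_val] using h1
  · rintro rfl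
    apply Subtype.ext
    rw [uu_val]
    ext i j
    fin_cases i <;> fin_cases j <;> simp

theorem NatT.ne_zero_of_ne_one (hinj : Function.Injective ρ) {l : ↥L} {a : F}
    (hl : ρ l = uu a) (h1 : (l : G) ≠ 1) : a ≠ 0 := by
  rintro rfl
  apply h1
  rw [(uu_eq_one_iff (0 : F)).2 rfl] at hl
  have : l = 1 := hinj (by rw [hl, map_one])
  rw [this]; rfl

/-- `C_V(T)` in coordinates. -/
theorem NatT.mem_centralizer_iff (hT : NatT ρ T) (hact : NatAct ρ ψ) (hsurj : Function.Surjective ρ)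
    (v : ↥V) : (v : G) ∈ Subgroup.centralizer (T : Set G) ↔ nco ψ v 1 = 0 := by
  rw [Subgroup.mem_centralizer_iff]
  constructor
  · intro h
    obtain ⟨t, htT, ht⟩ := hT.exists_uu hsurj 1
    have h1 := (hact.commute_iff t v).1 (h _ htT)
    rw [← hact.nco_conj, hact.nco_conj_uu t 1 ht] at h1
    have h2 := congrFun h1 0
    simpa using h2
  · intro h t ht
    obtain ⟨l, a, rfl, hl⟩ := hT.exists_of_mem ht
    rw [hact.commute_iff, ← hact.nco_conj, hact.nco_conj_uu l a hl, h]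
    ext i
    fin_cases i
    · simp
    · simpa using h.symm

/-- `C_V(s)` in coordinates for `s ∈ T` nontrivial. -/
theorem NatAct.mem_centralizer_singleton_iff (hact : NatAct ρ ψ) {l : ↥L} {a : F} (hl : ρ l = uu a)
    (ha : a ≠ 0) (v : ↥V) :
    (v : G) ∈ Subgroup.centralizer ({(l : G)} : Set G) ↔ nco ψ v 1 = 0 := by
  rw [Subgroup.mem_centralizer_iff]
  constructor
  · intro h
    have h1 := (hact.commute_iff l v).1 (h _ rfl)
    rw [← hact.nco_conj, hact.nco_conj_uu l a hl] at h1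
    have h2 := congrFun h1 0
    simpa [ha] using h2
  · intro h t ht
    rw [Set.mem_singleton_iff] at ht
    subst ht
    rw [hact.commute_iff, ← hact.nco_conj, hact.nco_conj_uu l a hl, h]
    ext i
    fin_cases i
    · simp
    · simpa using h.symm

theorem NatT.mem_inf_iff (hT : NatT ρ T) (hact : NatAct ρ ψ) (hsurj : Function.Surjective ρ)
    (g : G) : g ∈ V ⊓ Subgroup.centralizer (T : Set G) ↔ ∃ hv : g ∈ V, nco ψ ⟨g, hv⟩ 1 = 0 := by
  rw [Subgroup.mem_inf]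
  constructor
  · rintro ⟨hv, hc⟩
    exact ⟨hv, (hT.mem_centralizer_iff hact hsurj ⟨g, hv⟩).1 hc⟩
  · rintro ⟨hv, h⟩
    exact ⟨hv, (hT.mem_centralizer_iff hact hsurj ⟨g, hv⟩).2 h⟩

theorem nco_eq_of_snd_zero {v : ↥V} (h : nco ψ v 1 = 0) : nco ψ v = ![nco ψ v 0, 0] := by
  ext i
  fin_cases i
  · simp
  · simpa using h

/-- The commutator `[V, T]` lies in `C_V(T)`. -/
theorem NatT.commutator_le (hT : NatT ρ T) (hact : NatAct ρ ψ) (hsurj : Function.Surjective ρ) :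
    ⁅V, T⁆ ≤ V ⊓ Subgroup.centralizer (T : Set G) := by
  rw [Subgroup.commutator_le]
  intro v hv t ht
  obtain ⟨l, a, rfl, hl⟩ := hT.exists_of_mem ht
  show v * (l : G) * v⁻¹ * (l : G)⁻¹ ∈ _
  rw [hT.mem_inf_iff hact hsurj]
  refine ⟨hact.comm_mem l ⟨v, hv⟩, ?_⟩
  have h1 := hact.nco_comm_uu l a hl ⟨v, hv⟩
  exact (congrFun h1 1).trans (by simp)

/-- Every element of `C_V(T)` is a commutator `v t v⁻¹ t⁻¹` for any given `v ∈ V` outside `C_V(T)`. -/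
theorem NatT.exists_comm_eq (hT : NatT ρ T) (hact : NatAct ρ ψ) (hsurj : Function.Surjective ρ)
    {v : G} (hv : v ∈ V) (hvT : v ∉ Subgroup.centralizer (T : Set G))
    {w : G} (hw : w ∈ V ⊓ Subgroup.centralizer (T : Set G)) :
    ∃ t ∈ T, w = v * t * v⁻¹ * t⁻¹ := by
  obtain ⟨hwV, hw1⟩ := (hT.mem_inf_iff hact hsurj w).1 hw
  have hy : nco ψ ⟨v, hv⟩ 1 ≠ 0 := fun h =>
    hvT ((hT.mem_centralizer_iff hact hsurj ⟨v, hv⟩).2 h)
  obtain ⟨t, htT, ht⟩ := hT.exists_uu hsurj (-(nco ψ ⟨w, hwV⟩ 0) / nco ψ ⟨v, hv⟩ 1)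
  refine ⟨t, htT, ?_⟩
  have h1 := hact.nco_comm_uu t _ ht ⟨v, hv⟩
  have h2 : nco ψ ⟨w, hwV⟩ = nco ψ ⟨(v : G) * (t : G) * (v : G)⁻¹ * (t : G)⁻¹,
      hact.comm_mem t ⟨v, hv⟩⟩ := by
    rw [h1]
    conv_lhs => rw [nco_eq_of_snd_zero hw1]
    congr 1
    field_simp
  exact congrArg Subtype.val (nco_injective ψ h2)

theorem NatT.closure_comm_eq (hT : NatT ρ T) (hact : NatAct ρ ψ) (hsurj : Function.Surjective ρ)
    {v : G} (hv : v ∈ V) (hvT : v ∉ Subgroup.centralizer (T : Set G)) :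
    Subgroup.closure {x : G | ∃ t ∈ T, x = v * t * v⁻¹ * t⁻¹} =
      V ⊓ Subgroup.centralizer (T : Set G) := by
  apply le_antisymm
  · rw [Subgroup.closure_le]
    rintro x ⟨t, ht, rfl⟩
    apply hT.commutator_le hact hsurj
    exact Subgroup.commutator_mem_commutator hv ht
  · intro w hw
    obtain ⟨t, ht, rfl⟩ := hT.exists_comm_eq hact hsurj hv hvT hw
    exact Subgroup.subset_closure ⟨t, ht, rfl⟩

theorem NatT.exists_not_mem_centralizer (hT : NatT ρ T) (hact : NatAct ρ ψ)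
    (hsurj : Function.Surjective ρ) :
    ∃ v ∈ V, v ∉ Subgroup.centralizer (T : Set G) := by
  obtain ⟨v, hv⟩ := nco_surjective ψ ![0, 1]
  refine ⟨v, v.2, fun h => ?_⟩
  have := (hT.mem_centralizer_iff hact hsurj v).1 h
  rw [hv] at this
  simp at this

theorem NatT.commutator_eq (hT : NatT ρ T) (hact : NatAct ρ ψ) (hsurj : Function.Surjective ρ) :
    ⁅V, T⁆ = V ⊓ Subgroup.centralizer (T : Set G) := by
  apply le_antisymm (hT.commutator_le hact hsurj)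
  obtain ⟨v, hv, hvT⟩ := hT.exists_not_mem_centralizer hact hsurj
  rw [← hT.closure_comm_eq hact hsurj hv hvT, Subgroup.closure_le]
  rintro x ⟨t, ht, rfl⟩
  exact Subgroup.commutator_mem_commutator hv ht

theorem NatT.commutator_zpowers_eq (hT : NatT ρ T) (hact : NatAct ρ ψ)
    (hbij : Function.Bijective ρ) {s : G} (hs : s ∈ T) (hs1 : s ≠ 1) :
    ⁅V, Subgroup.zpowers s⁆ = V ⊓ Subgroup.centralizer (T : Set G) := by
  apply le_antisymm
  · exact le_trans (Subgroup.commutator_mono le_rfl ((Subgroup.zpowers_le).2 hs))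
      (hT.commutator_le hact hbij.2)
  · intro w hw
    obtain ⟨hwV, hw1⟩ := (hT.mem_inf_iff hact hbij.2 w).1 hw
    obtain ⟨l, a, rfl, hl⟩ := hT.exists_of_mem hs
    have ha : a ≠ 0 := NatT.ne_zero_of_ne_one hbij.1 hl hs1
    obtain ⟨v, hv⟩ := nco_surjective ψ ![0, -(nco ψ ⟨w, hwV⟩ 0) / a]
    have h1 := hact.nco_comm_uu l a hl v
    have h2 : nco ψ ⟨w, hwV⟩ = nco ψ ⟨(v : G) * (l : G) * (v : G)⁻¹ * (l : G)⁻¹,
        hact.comm_mem l v⟩ := by
      rw [h1, hv]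
      conv_lhs => rw [nco_eq_of_snd_zero hw1]
      congr 1
      simp
      field_simp
    have h3 : w = (v : G) * (l : G) * (v : G)⁻¹ * (l : G)⁻¹ :=
      congrArg Subtype.val (nco_injective ψ h2)
    rw [h3]
    exact Subgroup.commutator_mem_commutator v.2 (Subgroup.mem_zpowers _)

theorem NatT.inf_centralizer_singleton_eq (hT : NatT ρ T) (hact : NatAct ρ ψ)
    (hbij : Function.Bijective ρ) {s : G} (hs : s ∈ T) (hs1 : s ≠ 1) :
    V ⊓ Subgroup.centralizer ({s} : Set G) = V ⊓ Subgroup.centralizer (T : Set G) := by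
  obtain ⟨l, a, rfl, hl⟩ := hT.exists_of_mem hs
  have ha : a ≠ 0 := NatT.ne_zero_of_ne_one hbij.1 hl hs1
  ext g
  rw [hT.mem_inf_iff hact hbij.2, Subgroup.mem_inf]
  constructor
  · rintro ⟨hv, hc⟩
    exact ⟨hv, (hact.mem_centralizer_singleton_iff hl ha ⟨g, hv⟩).1 hc⟩
  · rintro ⟨hv, h⟩
    exact ⟨hv, (hact.mem_centralizer_singleton_iff hl ha ⟨g, hv⟩).2 h⟩

theorem card_natV [Fintype F] (ψ : Additive ↥V ≃+ (Fin 2 → F)) :
    Nat.card ↥V = Fintype.card F ^ 2 := by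
  have h1 : Nat.card ↥V = Nat.card (Fin 2 → F) := Nat.card_congr (Additive.ofMul.trans ψ.toEquiv)
  rw [h1, Nat.card_eq_fintype_card, Fintype.card_fun, Fintype.card_fin]

theorem NatT.card_inf_centralizer [Fintype F] (hT : NatT ρ T) (hact : NatAct ρ ψ)
    (hsurj : Function.Surjective ρ) :
    Nat.card ↥(V ⊓ Subgroup.centralizer (T : Set G)) = Fintype.card F := by
  rw [← Nat.card_eq_fintype_card]
  apply Nat.card_eq_of_bijective
    (fun w : ↥(V ⊓ Subgroup.centralizer (T : Set G)) => nco ψ ⟨(w : G), (Subgroup.mem_inf.1 w.2).1⟩ 0)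
  constructor
  · intro w w' h
    obtain ⟨hwV, hw1⟩ := (hT.mem_inf_iff hact hsurj w).1 w.2
    obtain ⟨hwV', hw1'⟩ := (hT.mem_inf_iff hact hsurj w').1 w'.2
    have h2 : nco ψ ⟨(w : G), hwV⟩ = nco ψ ⟨(w' : G), hwV'⟩ := by
      rw [nco_eq_of_snd_zero hw1, nco_eq_of_snd_zero hw1']
      congr 1
    have h3 := nco_injective ψ h2
    have h4 : (w : G) = (w' : G) := congrArg (fun z : ↥V => (z : G)) h3
    exact Subtype.ext h4
  · intro c
    obtain ⟨v, hv⟩ := nco_surjective ψ ![c, 0]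
    have hmem : (v : G) ∈ V ⊓ Subgroup.centralizer (T : Set G) := by
      rw [hT.mem_inf_iff hact hsurj]
      refine ⟨v.2, ?_⟩
      show nco ψ v 1 = 0
      rw [hv]; simp
    refine ⟨⟨v, hmem⟩, ?_⟩
    show nco ψ v 0 = c
    rw [hv]; simp

end NatSL2

end Cfsg.Agent.Helper46
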