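import Cfsg.Prelude.Def_LocalEven

set_option autoImplicit false

namespace Cfsg.Agent.Helper46

open Cfsg

section Aff

variable (R : Type*) [CommRing R]

/-- The last row of `M` is `(0, 0, 1)`, as a statement about the row vector `e₂`. -/
theorem lastRow_iff (M : Matrix (Fin 3) (Fin 3) R) :
    (M 2 0 = 0 ∧ M 2 1 = 0 ∧ M 2 2 = 1) ↔ Matrix.vecMul (Pi.single 2 1) M = Pi.single 2 1 := by
  rw [Matrix.single_one_vecMul]
  constructor
  · rintro ⟨h0, h1, h2⟩
    ext j
    fin_cases j <;> simp [Matrix.row, h0, h1, h2]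
  · intro h
    have h0 := congrFun h 0
    have h1 := congrFun h 1
    have h2 := congrFun h 2
    simp [Matrix.row] at h0 h1 h2
    exact ⟨h0, h1, h2⟩

/-- The affine subgroup of `SL₃(R)`: matrices with last row `(0, 0, 1)`. -/
def affSub : Subgroup (Matrix.SpecialLinearGroup (Fin 3) R) where
  carrier := {M | (M : Matrix (Fin 3) (Fin 3) R) 2 0 = 0 ∧
    (M : Matrix (Fin 3) (Fin 3) R) 2 1 = 0 ∧ (M : Matrix (Fin 3) (Fin 3) R) 2 2 = 1}
  one_mem' := by simp
  mul_mem' := by
    intro a b ha hb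
    simp only [Set.mem_ofPred_eq] at ha hb ⊢
    rw [lastRow_iff] at ha hb ⊢
    rw [Matrix.SpecialLinearGroup.coe_mul, ← Matrix.vecMul_vecMul, ha, hb]
  inv_mem' := by
    intro a ha
    simp only [Set.mem_ofPred_eq] at ha ⊢
    rw [lastRow_iff] at ha ⊢
    have h1 : (a : Matrix (Fin 3) (Fin 3) R) * ((a⁻¹ : Matrix.SpecialLinearGroup (Fin 3) R) :
        Matrix (Fin 3) (Fin 3) R) = 1 := by
      rw [← Matrix.SpecialLinearGroup.coe_mul, mul_inv_cancel, Matrix.SpecialLinearGroup.coe_one]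
    calc Matrix.vecMul (Pi.single 2 1) ((a⁻¹ : Matrix.SpecialLinearGroup (Fin 3) R) : Matrix (Fin 3) (Fin 3) R)
        = Matrix.vecMul (Matrix.vecMul (Pi.single 2 1) (a : Matrix (Fin 3) (Fin 3) R))
            ((a⁻¹ : Matrix.SpecialLinearGroup (Fin 3) R) : Matrix (Fin 3) (Fin 3) R) := by rw [ha]
      _ = Pi.single 2 1 := by rw [Matrix.vecMul_vecMul, h1, Matrix.vecMul_one]

theorem mem_affSub {M : Matrix.SpecialLinearGroup (Fin 3) R} :
    M ∈ affSub R ↔ (M : Matrix (Fin 3) (Fin 3) R) 2 0 = 0 ∧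
      (M : Matrix (Fin 3) (Fin 3) R) 2 1 = 0 ∧ (M : Matrix (Fin 3) (Fin 3) R) 2 2 = 1 := Iff.rfl

theorem closure_eq_affSub :
    Subgroup.closure {M : Matrix.SpecialLinearGroup (Fin 3) R | (M : Matrix (Fin 3) (Fin 3) R) 2 0 = 0 ∧
      (M : Matrix (Fin 3) (Fin 3) R) 2 1 = 0 ∧ (M : Matrix (Fin 3) (Fin 3) R) 2 2 = 1} = affSub R :=
  Subgroup.closure_eq (affSub R)


/-- Affine points: vectors with last coordinate `1`. -/
def AffPt : Type _ := {v : Fin 3 → R // v 2 = 1}

variable {R}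

theorem affSub_mulVec_last {M : Matrix.SpecialLinearGroup (Fin 3) R} (hM : M ∈ affSub R)
    (v : Fin 3 → R) : ((M : Matrix (Fin 3) (Fin 3) R).mulVec v) 2 = v 2 := by
  obtain ⟨h0, h1, h2⟩ := hM
  simp [Matrix.mulVec, dotProduct, Fin.sum_univ_three, h0, h1, h2]

/-- The action of the affine group on affine points. -/
instance affSubAction : MulAction (affSub R) (AffPt R) where
  smul g v := ⟨((g : Matrix.SpecialLinearGroup (Fin 3) R) : Matrix (Fin 3) (Fin 3) R).mulVec v.1, by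
    rw [affSub_mulVec_last g.2]; exact v.2⟩
  one_smul v := by
    apply Subtype.ext
    show ((1 : Matrix.SpecialLinearGroup (Fin 3) R) : Matrix (Fin 3) (Fin 3) R).mulVec v.1 = v.1
    simp
  mul_smul g h v := by
    apply Subtype.ext
    show (((g : Matrix.SpecialLinearGroup (Fin 3) R) * (h : Matrix.SpecialLinearGroup (Fin 3) R) :
      Matrix.SpecialLinearGroup (Fin 3) R) : Matrix (Fin 3) (Fin 3) R).mulVec v.1 =
      ((g : Matrix.SpecialLinearGroup (Fin 3) R) : Matrix (Fin 3) (Fin 3) R).mulVec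
        (((h : Matrix.SpecialLinearGroup (Fin 3) R) : Matrix (Fin 3) (Fin 3) R).mulVec v.1)
    rw [Matrix.SpecialLinearGroup.coe_mul, Matrix.mulVec_mulVec]

theorem affSub_smul_val (g : affSub R) (v : AffPt R) :
    (g • v).1 = ((g : Matrix.SpecialLinearGroup (Fin 3) R) : Matrix (Fin 3) (Fin 3) R).mulVec v.1 := rfl

/-- The action on affine points is faithful. -/
theorem affSub_faithful : Function.Injective (MulAction.toPermHom (affSub R) (AffPt R)) := by
  rw [← MonoidHom.ker_eq_bot_iff, eq_bot_iff]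
  intro g hg
  rw [MonoidHom.mem_ker] at hg
  have hfix : ∀ v : AffPt R, g • v = v := by
    intro v
    have := congrArg (fun e : Equiv.Perm (AffPt R) => e v) hg
    simpa using this
  rw [Subgroup.mem_bot]
  apply Subtype.ext
  apply Subtype.ext
  show ((g : Matrix.SpecialLinearGroup (Fin 3) R) : Matrix (Fin 3) (Fin 3) R) = 1
  set M := ((g : Matrix.SpecialLinearGroup (Fin 3) R) : Matrix (Fin 3) (Fin 3) R) with hM
  have h0 : M.mulVec ![0, 0, 1] = ![0, 0, 1] := congrArg Subtype.val (hfix ⟨![0, 0, 1], by simp⟩)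
  have h1 : M.mulVec ![1, 0, 1] = ![1, 0, 1] := congrArg Subtype.val (hfix ⟨![1, 0, 1], by simp⟩)
  have h2 : M.mulVec ![0, 1, 1] = ![0, 1, 1] := congrArg Subtype.val (hfix ⟨![0, 1, 1], by simp⟩)
  ext i j
  have a0 := congrFun h0 i
  have a1 := congrFun h1 i
  have a2 := congrFun h2 i
  simp only [Matrix.mulVec, dotProduct, Fin.sum_univ_three] at a0 a1 a2
  fin_cases i <;> fin_cases j <;> simp at a0 a1 a2 ⊢ <;> simp_all

end Aff

theorem qd_eq_affSub (p : ℕ) : qd p = affSub (ZMod p) := closure_eq_affSub (ZMod p)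

theorem qdOver_eq_affSub (F : Type*) [Field F] : qdOver F = affSub F := closure_eq_affSub F

end Cfsg.Agent.Helper46
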