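import Mathlib
import Cfsg.Prelude.Def_LocalEven
import Cfsg.Agent.Helper46.Qd
import Cfsg.Agent.Helper46.NatSL2
import Cfsg.Agent.Helper37.SL2Sylow
import Cfsg.Agent.Lib.Cores

/-!
# The group `Qd` over a finite field: `O_p`, the `SL₂` complement, the natural module
-/

set_option autoImplicit false

namespace Cfsg.Agent.Helper46

open Cfsg Cfsg.Agent.Helper37.SL2

section QdOver

variable {F : Type*} [Field F]

/-- Entry accessor for elements of `Qd(F)`. -/
def entF (g : ↥(qdOver F)) (i j : Fin 3) : F :=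
  ((g : Matrix.SpecialLinearGroup (Fin 3) F) : Matrix (Fin 3) (Fin 3) F) i j

theorem entF_mul (g h : ↥(qdOver F)) (i j : Fin 3) :
    entF (g * h) i j = entF g i 0 * entF h 0 j + entF g i 1 * entF h 1 j + entF g i 2 * entF h 2 j := by
  unfold entF
  rw [Subgroup.coe_mul, Matrix.SpecialLinearGroup.coe_mul, Matrix.mul_apply, Fin.sum_univ_three]

theorem entF_one (i j : Fin 3) : entF (1 : ↥(qdOver F)) i j = if i = j then 1 else 0 := by
  unfold entF
  rw [Subgroup.coe_one, Matrix.SpecialLinearGroup.coe_one, Matrix.one_apply]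

theorem entF_last (g : ↥(qdOver F)) : entF g 2 0 = 0 ∧ entF g 2 1 = 0 ∧ entF g 2 2 = 1 := by
  have h : (g : Matrix.SpecialLinearGroup (Fin 3) F) ∈ affSub F :=
    (qdOver_eq_affSub F) ▸ g.2
  exact h

theorem entF_ext {g h : ↥(qdOver F)} (H : ∀ i j, entF g i j = entF h i j) : g = h := by
  apply Subtype.ext
  apply Subtype.ext
  ext i j
  exact H i j

theorem entF_det (g : ↥(qdOver F)) : entF g 0 0 * entF g 1 1 - entF g 0 1 * entF g 1 0 = 1 := by
  have hd := (g : Matrix.SpecialLinearGroup (Fin 3) F).2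
  obtain ⟨h0, h1, h2⟩ := entF_last g
  unfold entF at *
  rw [Matrix.det_fin_three, h0, h1, h2] at hd
  linear_combination hd

/-- Constructor for elements of `Qd(F)`. -/
def mkQdF (M : Matrix (Fin 3) (Fin 3) F) (hd : M.det = 1)
    (h : M 2 0 = 0 ∧ M 2 1 = 0 ∧ M 2 2 = 1) : ↥(qdOver F) :=
  ⟨⟨M, hd⟩, by rw [qdOver_eq_affSub]; exact h⟩

theorem entF_mkQdF (M : Matrix (Fin 3) (Fin 3) F) (hd : M.det = 1)
    (h : M 2 0 = 0 ∧ M 2 1 = 0 ∧ M 2 2 = 1) (i j : Fin 3) : entF (mkQdF M hd h) i j = M i j := rfl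

/-- The upper-left block, as a homomorphism onto `SL₂(F)`. -/
def qdBlock : ↥(qdOver F) →* Matrix.SpecialLinearGroup (Fin 2) F where
  toFun g := ⟨!![entF g 0 0, entF g 0 1; entF g 1 0, entF g 1 1], by
    rw [Matrix.det_fin_two_of]; exact entF_det g⟩
  map_one' := by
    apply Subtype.ext
    ext i j
    fin_cases i <;> fin_cases j <;> simp [entF_one]
  map_mul' := by
    intro g h
    obtain ⟨l0, l1, l2⟩ := entF_last h
    apply Subtype.ext
    show (!![entF (g * h) 0 0, entF (g * h) 0 1; entF (g * h) 1 0, entF (g * h) 1 1] :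
        Matrix (Fin 2) (Fin 2) F) =
      !![entF g 0 0, entF g 0 1; entF g 1 0, entF g 1 1] *
        !![entF h 0 0, entF h 0 1; entF h 1 0, entF h 1 1]
    ext i j
    fin_cases i <;> fin_cases j <;>
      simp [entF_mul, Matrix.mul_apply, Fin.sum_univ_two, l0, l1]

theorem qdBlock_val (g : ↥(qdOver F)) :
    (qdBlock g).1 = !![entF g 0 0, entF g 0 1; entF g 1 0, entF g 1 1] := rfl

/-- The embedding of `SL₂(F)` as the block-diagonal complement. -/
def qdLift (A : Matrix.SpecialLinearGroup (Fin 2) F) : ↥(qdOver F) :=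
  mkQdF !![A.1 0 0, A.1 0 1, 0; A.1 1 0, A.1 1 1, 0; 0, 0, 1]
    (by
      have := det_eq_one' A
      rw [Matrix.det_fin_three]
      simp
      linear_combination this)
    (by simp)

theorem entF_qdLift (A : Matrix.SpecialLinearGroup (Fin 2) F) (i j : Fin 3) :
    entF (qdLift A) i j =
      (!![A.1 0 0, A.1 0 1, 0; A.1 1 0, A.1 1 1, 0; 0, 0, 1] : Matrix (Fin 3) (Fin 3) F) i j := rfl

/-- `qdLift` as a homomorphism. -/
def qdLiftHom : Matrix.SpecialLinearGroup (Fin 2) F →* ↥(qdOver F) where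
  toFun := qdLift
  map_one' := by
    apply entF_ext
    intro i j
    rw [entF_qdLift, entF_one]
    fin_cases i <;> fin_cases j <;> simp
  map_mul' := by
    intro A B
    apply entF_ext
    intro i j
    rw [entF_mul, entF_qdLift, entF_qdLift, entF_qdLift, entF_qdLift, entF_qdLift, entF_qdLift,
      entF_qdLift]
    fin_cases i <;> fin_cases j <;>
      simp [Matrix.SpecialLinearGroup.coe_mul, Matrix.mul_apply, Fin.sum_univ_two]

theorem qdBlock_qdLiftHom (A : Matrix.SpecialLinearGroup (Fin 2) F) : qdBlock (qdLiftHom A) = A := by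
  apply Subtype.ext
  rw [qdBlock_val]
  ext i j
  fin_cases i <;> fin_cases j <;> rfl

theorem qdBlock_surjective : Function.Surjective (qdBlock (F := F)) :=
  fun A => ⟨qdLiftHom A, qdBlock_qdLiftHom A⟩

theorem qdLiftHom_injective : Function.Injective (qdLiftHom (F := F)) := by
  intro A B h
  rw [← qdBlock_qdLiftHom A, ← qdBlock_qdLiftHom B, h]

/-- The translation subgroup. -/
def qdTr (F : Type*) [Field F] : Subgroup ↥(qdOver F) := (qdBlock (F := F)).ker

instance qdTr_normal : (qdTr F).Normal := by unfold qdTr; infer_instance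

theorem mem_qdTr {g : ↥(qdOver F)} :
    g ∈ qdTr F ↔ entF g 0 0 = 1 ∧ entF g 0 1 = 0 ∧ entF g 1 0 = 0 ∧ entF g 1 1 = 1 := by
  unfold qdTr
  rw [MonoidHom.mem_ker]
  constructor
  · intro h
    have h1 := congrArg (fun A : Matrix.SpecialLinearGroup (Fin 2) F => A.1) h
    simp only [qdBlock_val] at h1
    have a00 := congrFun (congrFun h1 0) 0
    have a01 := congrFun (congrFun h1 0) 1
    have a10 := congrFun (congrFun h1 1) 0
    have a11 := congrFun (congrFun h1 1) 1
    simp at a00 a01 a10 a11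
    exact ⟨a00, a01, a10, a11⟩
  · rintro ⟨a00, a01, a10, a11⟩
    apply Subtype.ext
    rw [qdBlock_val, a00, a01, a10, a11]
    ext i j
    fin_cases i <;> fin_cases j <;> simp

/-- The complement. -/
def qdK (F : Type*) [Field F] : Subgroup ↥(qdOver F) := (qdLiftHom (F := F)).range

theorem mem_qdK {g : ↥(qdOver F)} : g ∈ qdK F ↔ entF g 0 2 = 0 ∧ entF g 1 2 = 0 := by
  unfold qdK
  rw [MonoidHom.mem_range]
  constructor
  · rintro ⟨A, rfl⟩
    exact ⟨rfl, rfl⟩
  · rintro ⟨h0, h1⟩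
    refine ⟨qdBlock g, ?_⟩
    obtain ⟨l0, l1, l2⟩ := entF_last g
    apply entF_ext
    intro i j
    show entF (qdLift (qdBlock g)) i j = _
    rw [entF_qdLift, qdBlock_val]
    fin_cases i <;> fin_cases j <;> simp [h0, h1, l0, l1, l2]

theorem qdK_inf_qdTr : qdK F ⊓ qdTr F = ⊥ := by
  rw [eq_bot_iff]
  rintro g ⟨⟨A, rfl⟩, hg⟩
  have h1 : qdBlock (qdLiftHom A) = 1 := hg
  rw [qdBlock_qdLiftHom] at h1
  rw [h1, map_one]
  exact Subgroup.mem_bot.2 rfl

theorem qdK_sup_qdTr : qdK F ⊔ qdTr F = ⊤ := by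
  rw [eq_top_iff]
  intro g _
  have h1 : g * (qdLiftHom (qdBlock g))⁻¹ ∈ qdTr F := by
    show qdBlock _ = 1
    rw [map_mul, map_inv, qdBlock_qdLiftHom, mul_inv_cancel]
  have h2 : qdLiftHom (qdBlock g) ∈ qdK F := ⟨_, rfl⟩
  have h3 : g = (g * (qdLiftHom (qdBlock g))⁻¹) * qdLiftHom (qdBlock g) := by group
  rw [h3, sup_comm]
  exact Subgroup.mul_mem_sup h1 h2

/-- The translation by a vector. -/
def qdTrans (v : Fin 2 → F) : ↥(qdOver F) :=
  mkQdF !![1, 0, v 0; 0, 1, v 1; 0, 0, 1] (by simp [Matrix.det_fin_three]) (by simp)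

theorem entF_qdTrans (v : Fin 2 → F) (i j : Fin 3) :
    entF (qdTrans v) i j = (!![1, 0, v 0; 0, 1, v 1; 0, 0, 1] : Matrix (Fin 3) (Fin 3) F) i j := rfl

theorem qdTrans_mem (v : Fin 2 → F) : qdTrans v ∈ qdTr F := by
  rw [mem_qdTr]
  exact ⟨rfl, rfl, rfl, rfl⟩

theorem eq_qdTrans_of_mem {g : ↥(qdOver F)} (hg : g ∈ qdTr F) :
    g = qdTrans ![entF g 0 2, entF g 1 2] := by
  obtain ⟨a00, a01, a10, a11⟩ := mem_qdTr.1 hg
  obtain ⟨l0, l1, l2⟩ := entF_last g
  apply entF_ext
  intro i j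
  rw [entF_qdTrans]
  fin_cases i <;> fin_cases j <;> simp [a00, a01, a10, a11, l0, l1, l2]

/-- Coordinates on the translation subgroup. -/
def qdTrEquiv (F : Type*) [Field F] : Additive ↥(qdTr F) ≃+ (Fin 2 → F) where
  toFun a := ![entF (Additive.toMul a).1 0 2, entF (Additive.toMul a).1 1 2]
  invFun v := Additive.ofMul ⟨qdTrans v, qdTrans_mem v⟩
  left_inv a := by
    have h := eq_qdTrans_of_mem (Additive.toMul a).2
    apply Additive.toMul.injective
    apply Subtype.ext
    exact h.symm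
  right_inv v := by
    ext i
    fin_cases i <;> rfl
  map_add' a b := by
    obtain ⟨a00, a01, a10, a11⟩ := mem_qdTr.1 (Additive.toMul a).2
    obtain ⟨l0, l1, l2⟩ := entF_last (Additive.toMul b).1
    ext i
    fin_cases i
    · show entF ((Additive.toMul a).1 * (Additive.toMul b).1) 0 2 = _
      rw [entF_mul]; simp [a00, a01, l2]; ring
    · show entF ((Additive.toMul a).1 * (Additive.toMul b).1) 1 2 = _
      rw [entF_mul]; simp [a10, a11, l2]; ring

theorem qdTrEquiv_apply (g : ↥(qdTr F)) :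
    qdTrEquiv F (Additive.ofMul g) = ![entF g.1 0 2, entF g.1 1 2] := rfl

theorem isPGroup_qdTr {p : ℕ} [Fact p.Prime] [CharP F p] : IsPGroup p ↥(qdTr F) := by
  intro g
  refine ⟨1, ?_⟩
  rw [pow_one]
  apply Additive.ofMul.injective
  apply (qdTrEquiv F).injective
  rw [ofMul_pow, map_nsmul, ofMul_one, map_zero]
  ext i
  simp [CharP.cast_eq_zero F p]

/-- The complement is isomorphic to `SL₂(F)`. -/
noncomputable def qdKEquiv (F : Type*) [Field F] :
    ↥(qdK F) ≃* Matrix.SpecialLinearGroup (Fin 2) F :=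
  (MonoidHom.ofInjective (qdLiftHom_injective (F := F))).symm

/-- The conjugation action of the complement on translations, in coordinates. -/
theorem qd_conj_entries {l v : ↥(qdOver F)} (hl : l ∈ qdK F) (hv : v ∈ qdTr F) :
    entF (l * v * l⁻¹) 0 2 = entF l 0 0 * entF v 0 2 + entF l 0 1 * entF v 1 2 ∧
    entF (l * v * l⁻¹) 1 2 = entF l 1 0 * entF v 0 2 + entF l 1 1 * entF v 1 2 := by
  obtain ⟨k0, k1⟩ := mem_qdK.1 hl
  obtain ⟨l0, l1, l2⟩ := entF_last l
  obtain ⟨m0, m1, m2⟩ := entF_last v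
  have hw : (l * v * l⁻¹) * l = l * v := by group
  have e0 := congrArg (fun g => entF g 0 2) hw
  have e1 := congrArg (fun g => entF g 1 2) hw
  simp only [entF_mul (l * v * l⁻¹) l, entF_mul l v, k0, k1, l2, m2, mul_zero, mul_one, zero_add,
    add_zero, zero_mul] at e0 e1
  exact ⟨e0, e1⟩

theorem qd_natural (F : Type*) [Field F] : Cfsg.IsNaturalSL2Module F (qdTr F) (qdK F) := by
  have hact : ∀ (l : ↥(qdK F)) (v : ↥(qdTr F)),
      ∃ w : ↥(qdTr F), (w : ↥(qdOver F)) = (l : ↥(qdOver F)) * (v : ↥(qdOver F)) *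
          (l : ↥(qdOver F))⁻¹ ∧
        qdTrEquiv F (Additive.ofMul w) =
          (((qdBlock (F := F)).comp (qdK F).subtype l : Matrix.SpecialLinearGroup (Fin 2) F) :
            Matrix (Fin 2) (Fin 2) F).mulVec (qdTrEquiv F (Additive.ofMul v)) := by
    intro l v
    refine ⟨⟨(l : ↥(qdOver F)) * (v : ↥(qdOver F)) * (l : ↥(qdOver F))⁻¹,
      (qdTr_normal (F := F)).conj_mem _ v.2 _⟩, rfl, ?_⟩
    obtain ⟨e0, e1⟩ := qd_conj_entries l.2 v.2
    rw [qdTrEquiv_apply, qdTrEquiv_apply]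
    show _ = (qdBlock (l : ↥(qdOver F))).1.mulVec _
    rw [qdBlock_val]
    ext i
    fin_cases i
    · simp [Matrix.mulVec, dotProduct, Fin.sum_univ_two, e0]
    · simp [Matrix.mulVec, dotProduct, Fin.sum_univ_two, e1]
  refine ⟨?_, (qdBlock (F := F)).comp (qdK F).subtype, qdTrEquiv F, ?_, ?_, hact⟩
  · rw [Subgroup.normalizer_eq_top]; exact le_top
  · intro A
    exact ⟨⟨qdLiftHom A, ⟨A, rfl⟩⟩, qdBlock_qdLiftHom A⟩
  · ext ⟨l, hl⟩
    rw [MonoidHom.mem_ker, Subgroup.mem_subgroupOf]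
    show qdBlock l = 1 ↔ l ∈ Subgroup.centralizer ((qdTr F : Subgroup ↥(qdOver F)) : Set ↥(qdOver F))
    constructor
    · intro h
      have h1 : l ∈ qdK F ⊓ qdTr F := ⟨hl, h⟩
      rw [qdK_inf_qdTr, Subgroup.mem_bot] at h1
      rw [h1]; exact Subgroup.one_mem _
    · intro h
      rw [Subgroup.mem_centralizer_iff] at h
      have key : ∀ v : Fin 2 → F, (qdBlock l).1.mulVec v = v := by
        intro v
        have hv := qdTrans_mem v
        have h1 : l * qdTrans v * l⁻¹ = qdTrans v := by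
          rw [← h _ hv]; group
        obtain ⟨e0, e1⟩ := qd_conj_entries hl hv
        rw [h1] at e0 e1
        rw [qdBlock_val]
        ext i
        fin_cases i
        · simp [Matrix.mulVec, dotProduct, Fin.sum_univ_two]
          exact e0.symm
        · simp [Matrix.mulVec, dotProduct, Fin.sum_univ_two]
          exact e1.symm
      apply Subtype.ext
      show (qdBlock l).1 = 1
      ext i j
      have := congrFun (key (Pi.single j 1)) i
      rw [Matrix.mulVec_single_one] at this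
      rw [Matrix.one_apply]
      simpa [Pi.single_apply, eq_comm] using this

end QdOver

section SL2core

variable {F : Type*} [Field F] [Fintype F] {p : ℕ} [Fact p.Prime] [CharP F p]

/-- `O_p(SL₂(F)) = 1`. -/
theorem pCore_sl2_eq_bot : Cfsg.pCore p (Matrix.SpecialLinearGroup (Fin 2) F) = ⊥ := by
  rw [eq_bot_iff]
  intro x hx
  have h1 : x ∈ (P0 F p : Subgroup _) := Cfsg.Agent.Lib.pCore_le_sylow (P0 F p) hx
  have h2 : x ∈ ((ll (1 : F)) • P0 F p : Sylow p (Matrix.SpecialLinearGroup (Fin 2) F)) :=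
    Cfsg.Agent.Lib.pCore_le_sylow _ hx
  rw [mem_smul_P0] at h2
  obtain ⟨a, rfl⟩ := mem_U0.1 h1
  obtain ⟨b, hb⟩ := mem_U0.1 h2
  have h3 : uu a * ll (1 : F) = ll (1 : F) * uu b := by
    rw [hb]; group
  have h4 := congrArg (fun A : Matrix.SpecialLinearGroup (Fin 2) F => A.1 0 0) h3
  simp [Matrix.SpecialLinearGroup.coe_mul, uu_val, ll_val, Matrix.mul_apply, Fin.sum_univ_two] at h4
  rw [Subgroup.mem_bot, h4]
  exact (uu_eq_one_iff (0 : F)).2 rfl

/-- `O_p(Qd(F))` is the translation subgroup. -/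
theorem pCore_qdOver : Cfsg.pCore p ↥(qdOver F) = qdTr F := by
  apply le_antisymm
  · intro g hg
    show qdBlock g = 1
    have h1 : (Cfsg.pCore p ↥(qdOver F)).map (qdBlock (F := F)) ≤
        Cfsg.pCore p (Matrix.SpecialLinearGroup (Fin 2) F) := by
      apply Cfsg.Agent.Lib.le_pCore
      · have hc : (Cfsg.pCore p ↥(qdOver F)).Characteristic :=
          Cfsg.Agent.Lib.pCore_characteristic p
        have hn : (Cfsg.pCore p ↥(qdOver F)).Normal := inferInstance
        exact Subgroup.Normal.map hn _ qdBlock_surjective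
      · exact (Cfsg.Agent.Lib.isPGroup_pCore p).map _
    have h2 : qdBlock g ∈ (Cfsg.pCore p ↥(qdOver F)).map (qdBlock (F := F)) := ⟨g, hg, rfl⟩
    have h3 := h1 h2
    rw [pCore_sl2_eq_bot] at h3
    exact Subgroup.mem_bot.1 h3
  · exact Cfsg.Agent.Lib.le_pCore inferInstance isPGroup_qdTr

end SL2core

end Cfsg.Agent.Helper46
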