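import Cfsg.Agent.Helper46.StronglyEmbedded
import Cfsg.Agent.Helper46.Averaging
import Cfsg.Agent.Helper25.PGroupBasic

set_option autoImplicit false

namespace Cfsg.Agent.Helper46

section Skeleton

variable {Γ : Type*} [Group Γ]

/-- Conjugation by an element of the normalizer, as an automorphism of the subgroup. -/
def conjAutOfNormalizer (S : Subgroup Γ) (g : Γ) (hg : g ∈ Subgroup.normalizer (S : Set Γ)) :
    ↥S ≃* ↥S where
  toFun s := ⟨g * s * g⁻¹, (Subgroup.mem_normalizer_iff.1 hg s).1 s.2⟩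
  invFun s := ⟨g⁻¹ * s * g, by
    have := (Subgroup.mem_normalizer_iff.1 (inv_mem hg) s).1 s.2
    simpa using this⟩
  left_inv s := by
    apply Subtype.ext
    simp [mul_assoc]
  right_inv s := by
    apply Subtype.ext
    simp [mul_assoc]
  map_mul' s t := by
    apply Subtype.ext
    simp [mul_assoc]

theorem conjAutOfNormalizer_coe (S : Subgroup Γ) (g : Γ)
    (hg : g ∈ Subgroup.normalizer (S : Set Γ)) (s : ↥S) :
    ((conjAutOfNormalizer S g hg s : ↥S) : Γ) = g * s * g⁻¹ := rfl

/-- A characteristic subgroup of `S` is normalized by `N(S)`. -/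
theorem normalizer_le_normalizer_of_characteristic (S : Subgroup Γ) (T : Subgroup ↥S)
    (hTc : T.Characteristic) :
    Subgroup.normalizer (S : Set Γ) ≤
      Subgroup.normalizer ((T.map S.subtype : Subgroup Γ) : Set Γ) := by
  apply le_normalizer_of_conj_mem
  rintro g hg _ ⟨t, ht, rfl⟩
  have h1 := (Subgroup.characteristic_iff_map_eq.1 hTc) (conjAutOfNormalizer S g hg)
  have h2 : conjAutOfNormalizer S g hg t ∈ T.map (conjAutOfNormalizer S g hg).toMonoidHom :=
    ⟨t, ht, rfl⟩
  rw [h1] at h2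
  exact ⟨_, h2, rfl⟩

/-- The abstract skeleton: normalizers of characteristic subgroups of a Sylow subgroup of order `p³`
containing a self-centralizing normal subgroup of order `p²` which is not characteristic in it. -/
theorem char_normalizer_skeleton [Finite Γ] {p : ℕ} [Fact p.Prime]
    (S V : Subgroup Γ) [hVn : V.Normal] (hVS : V ≤ S)
    (hcardV : Nat.card V = p ^ 2) (hcardS : Nat.card S = p ^ 3)
    (hCV : Subgroup.centralizer (V : Set Γ) ≤ V)
    (hA3 : ∀ W : Subgroup Γ, W ≤ V → W ≠ ⊥ → W ≠ V → S ≤ Subgroup.normalizer (W : Set Γ) →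
      Subgroup.normalizer (W : Set Γ) ≤ Subgroup.normalizer (S : Set Γ))
    (hA4 : ∃ φ : ↥S ≃* ↥S, (V.subgroupOf S).map φ.toMonoidHom ≠ V.subgroupOf S)
    (T : Subgroup ↥S) (hT : T ≠ ⊥) (hTc : T.Characteristic) :
    Subgroup.normalizer ((T.map S.subtype : Subgroup Γ) : Set Γ) =
      Subgroup.normalizer (S : Set Γ) := by
  apply le_antisymm _ (normalizer_le_normalizer_of_characteristic S T hTc)
  by_cases hTtop : T = ⊤
  · rw [hTtop, ← MonoidHom.range_eq_map, Subgroup.range_subtype]
  have hTS : T.map S.subtype ≤ S := Subgroup.map_subtype_le T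
  have hTne : T.map S.subtype ≠ S := by
    intro h
    apply hTtop
    rw [eq_top_iff]
    intro s _
    have : (s : Γ) ∈ T.map S.subtype := by rw [h]; exact s.2
    obtain ⟨t, ht, hts⟩ := this
    have : t = s := Subtype.ext hts
    rwa [← this]
  have hSp : IsPGroup p ↥S := IsPGroup.of_card hcardS
  haveI hTn : T.Normal := inferInstance
  -- `W = T' ⊓ V`
  have hW1 : T.map S.subtype ⊓ V ≠ ⊥ := by
    obtain ⟨z, hzT, hz1, hzc⟩ := Cfsg.Agent.Helper25.exists_mem_center_of_normal_ne_bot hSp T hT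
    intro hbot
    apply hz1
    have hzV : (z : Γ) ∈ V := by
      apply hCV
      rw [Subgroup.mem_centralizer_iff]
      intro v hv
      have := (Subgroup.mem_center_iff.1 hzc) ⟨v, hVS hv⟩
      exact congrArg Subtype.val this
    have hzW : (z : Γ) ∈ T.map S.subtype ⊓ V := Subgroup.mem_inf.2 ⟨⟨z, hzT, rfl⟩, hzV⟩
    rw [hbot, Subgroup.mem_bot] at hzW
    exact Subtype.ext hzW
  have hWV' : T.map S.subtype ⊓ V ≠ V := by
    intro h
    have hVT : V ≤ T.map S.subtype := by rw [← h]; exact inf_le_left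
    -- then `T' = V`
    have hcardT : Nat.card ↥(T.map S.subtype) = p ^ 2 := by
      have h1 : Nat.card ↥(T.map S.subtype) ∣ p ^ 3 := hcardS ▸ Subgroup.card_dvd_of_le hTS
      obtain ⟨k, hk3, hk⟩ := (Nat.dvd_prime_pow (Fact.out : p.Prime)).1 h1
      have h2 : p ^ 2 ≤ p ^ k := by
        rw [← hk, ← hcardV]
        exact Subgroup.card_le_of_le hVT
      have hk2 : 2 ≤ k := by
        by_contra hlt
        have : p ^ k < p ^ 2 := Nat.pow_lt_pow_right (Fact.out : p.Prime).one_lt (by omega)
        omega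
      have hk3' : k ≠ 3 := by
        rintro rfl
        apply hTne
        exact Subgroup.eq_of_le_of_card_ge hTS (by rw [hk, hcardS])
      have : k = 2 := by omega
      rw [hk, this]
    have hTV : T.map S.subtype = V :=
      (Subgroup.eq_of_le_of_card_ge hVT (by rw [hcardT, hcardV])).symm
    have hT' : T = V.subgroupOf S := by
      ext s
      rw [Subgroup.mem_subgroupOf, ← hTV]
      constructor
      · intro hs; exact ⟨s, hs, rfl⟩
      · rintro ⟨t, ht, hts⟩
        have : t = s := Subtype.ext hts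
        rwa [← this]
    obtain ⟨φ, hφ⟩ := hA4
    apply hφ
    rw [← hT']
    exact (Subgroup.characteristic_iff_map_eq.1 hTc) φ
  have hSW : S ≤ Subgroup.normalizer ((T.map S.subtype ⊓ V : Subgroup Γ) : Set Γ) :=
    inf_normalized (map_subtype_normalized T) Subgroup.le_normalizer_of_normal
  intro g hg
  apply hA3 _ inf_le_right hW1 hWV' hSW
  exact Subgroup.inf_normalizer_le_normalizer_inf
    (Subgroup.mem_inf.2 ⟨hg, Subgroup.le_normalizer_of_normal (Subgroup.mem_top g)⟩)

theorem normalizer_map_conj (X : Subgroup Γ) (g : Γ) :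
    Subgroup.normalizer ((X.map (MulAut.conj g).toMonoidHom : Subgroup Γ) : Set Γ) =
      (Subgroup.normalizer (X : Set Γ)).map (MulAut.conj g).toMonoidHom := by
  apply le_antisymm
  · intro n hn
    have h1 := conj_mem_normalizer_map (x := g⁻¹) hn
    have h2 : (X.map (MulAut.conj g).toMonoidHom).map (MulAut.conj g⁻¹).toMonoidHom = X := by
      rw [Subgroup.map_map]
      ext x
      simp [Subgroup.mem_map, mul_assoc]
    rw [h2] at h1
    refine ⟨g⁻¹ * n * g⁻¹⁻¹, h1, ?_⟩
    simp [mul_assoc]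
  · rintro _ ⟨n, hn, rfl⟩
    exact conj_mem_normalizer_map hn

/-- Transport of the statement along conjugation. -/
theorem good_conj (S₀ : Subgroup Γ) (g : Γ)
    (h₀ : ∀ T₀ : Subgroup ↥S₀, T₀ ≠ ⊥ → T₀.Characteristic →
      Subgroup.normalizer ((T₀.map S₀.subtype : Subgroup Γ) : Set Γ) =
        Subgroup.normalizer (S₀ : Set Γ))
    (T : Subgroup ↥(S₀.map (MulAut.conj g).toMonoidHom)) (hT : T ≠ ⊥) (hTc : T.Characteristic) :
    Subgroup.normalizer ((T.map (S₀.map (MulAut.conj g).toMonoidHom).subtype : Subgroup Γ) : Set Γ) =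
      Subgroup.normalizer ((S₀.map (MulAut.conj g).toMonoidHom : Subgroup Γ) : Set Γ) := by
  have hinj : Function.Injective (MulAut.conj g).toMonoidHom := (MulAut.conj g).injective
  obtain ⟨e, he⟩ : ∃ e : ↥S₀ ≃* ↥(S₀.map (MulAut.conj g).toMonoidHom),
      ∀ s : ↥S₀, ((e s : ↥(S₀.map (MulAut.conj g).toMonoidHom)) : Γ) =
        (MulAut.conj g).toMonoidHom (s : Γ) :=
    ⟨S₀.equivMapOfInjective _ hinj, fun s => rfl⟩
  have hes : ∀ t, e (e.symm t) = t := fun t => MulEquiv.apply_symm_apply e t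
  have hse : ∀ s, e.symm (e s) = s := fun s => MulEquiv.symm_apply_apply e s
  have hT₀1 : T.comap e.toMonoidHom ≠ ⊥ := by
    intro h
    apply hT
    rw [eq_bot_iff]
    intro t ht
    have h1 : e.symm t ∈ T.comap e.toMonoidHom := by
      show e (e.symm t) ∈ T
      rw [hes]; exact ht
    rw [h, Subgroup.mem_bot] at h1
    rw [Subgroup.mem_bot]
    have h2 : e (e.symm t) = e 1 := congrArg e h1
    rw [hes, map_one] at h2
    exact h2
  have hT₀c : (T.comap e.toMonoidHom).Characteristic := by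
    rw [Subgroup.characteristic_iff_comap_eq]
    intro ψ
    ext x
    have hfix := (Subgroup.characteristic_iff_comap_eq.1 hTc) (e.symm.trans (ψ.trans e))
    have h1 : e x ∈ T.comap (e.symm.trans (ψ.trans e)).toMonoidHom ↔ e x ∈ T := by rw [hfix]
    have h2 : (e.symm.trans (ψ.trans e)).toMonoidHom (e x) = e (ψ x) := by
      show e (ψ (e.symm (e x))) = _
      rw [hse]
    have h3 : e (ψ x) ∈ T ↔ e x ∈ T := by
      rw [← h2]; exact h1
    exact h3
  have key : T.map (S₀.map (MulAut.conj g).toMonoidHom).subtype =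
      ((T.comap e.toMonoidHom).map S₀.subtype).map (MulAut.conj g).toMonoidHom := by
    ext y
    constructor
    · rintro ⟨t, ht, rfl⟩
      refine ⟨(e.symm t : Γ), ⟨e.symm t, ?_, rfl⟩, ?_⟩
      · show e (e.symm t) ∈ T
        rw [hes]; exact ht
      · rw [← he, hes]; rfl
    · rintro ⟨_, ⟨t₀, ht₀, rfl⟩, rfl⟩
      refine ⟨e t₀, ht₀, ?_⟩
      exact he t₀
  rw [key, normalizer_map_conj, h₀ _ hT₀1 hT₀c, normalizer_map_conj]

end Skeleton

end Cfsg.Agent.Helper46
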