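-- Piece (P5) of helper88's WANTED #4213 (S5165): the kernel part `T f * C h * L τ` (`∏ h = 1`, `τ` even) of
-- `N_{Alt}(C_p ≀ K)` lies in the subgroup generated by the `N_{Alt}(B)`-conjugates of `p`-elements (helper46).
import Cfsg.Agent.Helper88.AltNorm2
import Cfsg.Agent.Helper88.AltCrit2
import Cfsg.Agent.Helper38.PCycleAlt

set_option autoImplicit false
set_option linter.unusedSectionVars false

namespace Cfsg.Agent.Helper46

open Equiv Cfsg.Agent.Helper42 Cfsg.Agent.Helper88 Cfsg.Agent.Helper88.AltM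

variable {β ρ : Type*} [Fintype β] [DecidableEq β] [Fintype ρ] [DecidableEq ρ] {p : ℕ} [Fact p.Prime]

/-- a sign whose odd power is `1` is `1` -/
theorem altLoc_sign_eq_one_of_pow {u : ℤˣ} {n : ℕ} (hn : Odd n) (h : u ^ n = 1) : u = 1 := by
  rcases Int.units_eq_one_or u with h1 | h1
  · exact h1
  · rw [h1, hn.neg_one_pow] at h
    exact absurd h (by decide)

theorem altLoc_T_mem_normalizer (f : β → ZMod p) :
    (T f : Perm (Pt β ρ p)) ∈ Subgroup.normalizer ((Bs β ρ p : Subgroup (Perm (Pt β ρ p))) : Set (Perm (Pt β ρ p))) :=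
  Subgroup.le_normalizer (T_mem_Bs f)

theorem altLoc_L_mem_normalizer (σ : Perm β) :
    (L σ : Perm (Pt β ρ p)) ∈ Subgroup.normalizer ((Bs β ρ p : Subgroup (Perm (Pt β ρ p))) : Set (Perm (Pt β ρ p))) := by
  apply Subgroup.mem_normalizer_fintype
  intro n hn
  obtain ⟨f, rfl⟩ := mem_Bs.mp hn
  rw [L_T_conj]
  exact T_mem_Bs _

theorem altLoc_C_mem_normalizer (h : β → (ZMod p)ˣ) :
    (C h : Perm (Pt β ρ p)) ∈ Subgroup.normalizer ((Bs β ρ p : Subgroup (Perm (Pt β ρ p))) : Set (Perm (Pt β ρ p))) := by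
  apply Subgroup.mem_normalizer_fintype
  intro n hn
  obtain ⟨f, rfl⟩ := mem_Bs.mp hn
  rw [C_T_conj]
  exact T_mem_Bs _

theorem altLoc_Ss_le_normalizer (K : Subgroup (Perm β)) :
    (Ss ρ K : Subgroup (Perm (Pt β ρ p))) ≤
      Subgroup.normalizer ((Bs β ρ p : Subgroup (Perm (Pt β ρ p))) : Set (Perm (Pt β ρ p))) := by
  intro g hg
  obtain ⟨f, σ, -, rfl⟩ := mem_Ss.mp hg
  exact Subgroup.mul_mem _ (altLoc_T_mem_normalizer f) (altLoc_L_mem_normalizer σ)

/-- If `C_p ≀ K` is a `p`-group (`p` odd) it consists of even permutations. -/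
theorem altLoc_Ss_le_alt (hp2 : p ≠ 2) (K : Subgroup (Perm β)) {m : ℕ}
    (hcard : Nat.card (Ss ρ K : Subgroup (Perm (Pt β ρ p))) = p ^ m) :
    (Ss ρ K : Subgroup (Perm (Pt β ρ p))) ≤ alternatingGroup (Pt β ρ p) := by
  have hp : p.Prime := Fact.out
  have hodd : Odd p := hp.odd_of_ne_two hp2
  intro g hg
  rw [Perm.mem_alternatingGroup]
  have h1 : g ^ p ^ m = 1 := by
    have h2 : (⟨g, hg⟩ : (Ss ρ K : Subgroup (Perm (Pt β ρ p)))) ^ p ^ m = 1 := by
      rw [← hcard]
      exact pow_card_eq_one'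
    have h3 := congrArg Subtype.val h2
    simpa using h3
  have h4 : Perm.sign g ^ p ^ m = 1 := by rw [← map_pow, h1, map_one]
  exact altLoc_sign_eq_one_of_pow (hodd.pow) h4

/-- a `p`-cycle moving `y` to `y₀` -/
theorem altLoc_exists_cycle (hβ : p ≤ Fintype.card β) {y y₀ : β} (hy : y ≠ y₀) :
    ∃ c : Perm β, c.IsCycle ∧ c.support.card = p ∧ c y = y₀ := by
  have hp : p.Prime := Fact.out
  obtain ⟨c₀, hc₀, hcard⟩ := Cfsg.Agent.Helper38.exists_isCycle_card_support (β := β) p hp.two_le hβ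
  obtain ⟨x, hx⟩ : ∃ x, c₀ x ≠ x := by
    obtain ⟨x, hx, -⟩ := hc₀
    exact ⟨x, hx⟩
  set g₁ : Perm β := Equiv.swap x y with hg₁
  set w : β := g₁ (c₀ x) with hw
  have hwy : w ≠ y := by
    intro h
    have h1 : g₁ x = y := by rw [hg₁, Equiv.swap_apply_left]
    rw [hw, ← h1] at h
    exact hx (g₁.injective h)
  set g : Perm β := Equiv.swap w y₀ * g₁ with hg
  have hgx : g x = y := by
    rw [hg, Perm.mul_apply, hg₁, Equiv.swap_apply_left, Equiv.swap_apply_of_ne_of_ne hwy.symm hy]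
  have hgc : g (c₀ x) = y₀ := by
    rw [hg, Perm.mul_apply, ← hw, Equiv.swap_apply_left]
  refine ⟨g * c₀ * g⁻¹, hc₀.conj, ?_, ?_⟩
  · rw [Perm.card_support_conj, hcard]
  · have h1 : g⁻¹ y = x := Perm.inv_eq_iff_eq.mpr hgx.symm
    rw [Perm.mul_apply, Perm.mul_apply, h1, hgc]

section main

variable [Subsingleton ρ]

/-- The criterion of helper88 in the present situation. -/
theorem altLoc_mem_ANc (hp2 : p ≠ 2) (K : Subgroup (Perm β))
    (hcard : Nat.card (Ss ρ K : Subgroup (Perm (Pt β ρ p))) =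
      p ^ (Nat.card (alternatingGroup (Pt β ρ p))).factorization p)
    {x : Perm (Pt β ρ p)}
    (hxR : x ∈ Subgroup.normalizer ((Bs β ρ p : Subgroup (Perm (Pt β ρ p))) : Set (Perm (Pt β ρ p))))
    (hx : x ^ p = 1) :
    x ∈ ANc (alternatingGroup (Pt β ρ p)) (Ss ρ K) (Bs β ρ p) := by
  have hp : p.Prime := Fact.out
  have hodd : Odd p := hp.odd_of_ne_two hp2
  have hxA : x ∈ alternatingGroup (Pt β ρ p) := by
    rw [Perm.mem_alternatingGroup]
    apply altLoc_sign_eq_one_of_pow hodd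
    rw [← map_pow, hx, map_one]
  exact mem_ANc_of_pow (p := p) (altLoc_Ss_le_alt hp2 K hcard) hcard (altLoc_Ss_le_normalizer K) hxA hxR
    (k := 1) (by rw [pow_one]; exact hx)

theorem locGen_odd_ker (hp2 : p ≠ 2) (hβ : p ≤ Fintype.card β) (K : Subgroup (Perm β))
    (hcard : Nat.card (Ss ρ K : Subgroup (Perm (Pt β ρ p))) =
      p ^ (Nat.card (alternatingGroup (Pt β ρ p))).factorization p)
    (f : β → ZMod p) (h : β → (ZMod p)ˣ) (τ : Perm β) (hh : ∏ y, h y = 1) (hτ : Perm.sign τ = 1) :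
    (T f * C h * L τ : Perm (Pt β ρ p)) ∈
      Subgroup.closure (ANc (alternatingGroup (Pt β ρ p)) (Ss ρ K) (Bs β ρ p)) := by
  have hp : p.Prime := Fact.out
  set A : Subgroup (Perm (Pt β ρ p)) :=
    Subgroup.closure (ANc (alternatingGroup (Pt β ρ p)) (Ss ρ K) (Bs β ρ p)) with hA
  -- translations
  have hT : (T f : Perm (Pt β ρ p)) ∈ A :=
    Subgroup.subset_closure (altLoc_mem_ANc hp2 K hcard (altLoc_T_mem_normalizer f) (T_pow_p f))
  -- block `p`-cycles
  have hLc : ∀ c : Perm β, c.IsCycle → c.support.card = p → (L c : Perm (Pt β ρ p)) ∈ A := by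
    intro c hc hcp
    have hcpow : c ^ p = 1 := by
      have := pow_orderOf_eq_one c
      rwa [hc.orderOf, hcp] at this
    apply Subgroup.subset_closure
    apply altLoc_mem_ANc hp2 K hcard (altLoc_L_mem_normalizer c)
    rw [← map_pow, hcpow, map_one]
  -- even block permutations
  have hL : (L τ : Perm (Pt β ρ p)) ∈ A := by
    have hτA : τ ∈ alternatingGroup β := Perm.mem_alternatingGroup.mpr hτ
    rw [← Cfsg.Agent.Helper38.closure_p_cycles_eq_alternating p hp2 hβ] at hτA
    have : τ ∈ A.comap (L : Perm β →* Perm (Pt β ρ p)) := by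
      revert hτA
      apply (Subgroup.closure_le _).mpr
      rintro c ⟨hc, hcp⟩
      exact hLc c hc hcp
    exact this
  -- scalings
  have hC : (C h : Perm (Pt β ρ p)) ∈ A := by
    classical
    by_cases hne : Nonempty β
    swap
    · have : h = 1 := by
        funext y
        exact absurd ⟨y⟩ hne
      rw [this, map_one]
      exact A.one_mem
    obtain ⟨y₀⟩ := hne
    -- the subgroup of `h` with `C h ∈ A`
    set H : Subgroup (β → (ZMod p)ˣ) := A.comap (C : (β → (ZMod p)ˣ) →* Perm (Pt β ρ p)) with hH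
    have hd : ∀ y : β, y ≠ y₀ → ∀ u : (ZMod p)ˣ,
        (Pi.mulSingle y u * Pi.mulSingle y₀ u⁻¹ : β → (ZMod p)ˣ) ∈ H := by
      intro y hy u
      obtain ⟨c, hc, hcp, hcy⟩ := altLoc_exists_cycle (p := p) hβ hy
      set k : β → (ZMod p)ˣ := Pi.mulSingle y u with hk
      have h1 : (C k * L c * (C k)⁻¹ : Perm (Pt β ρ p)) ∈ A := by
        apply Subgroup.subset_closure
        apply altLoc_mem_ANc hp2 K hcard
        · exact Subgroup.mul_mem _ (Subgroup.mul_mem _ (altLoc_C_mem_normalizer k) (altLoc_L_mem_normalizer c))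
            (Subgroup.inv_mem _ (altLoc_C_mem_normalizer k))
        · have hcpow : c ^ p = 1 := by
            have := pow_orderOf_eq_one c
            rwa [hc.orderOf, hcp] at this
          rw [conj_pow, ← map_pow, hcpow, map_one, mul_one, mul_inv_cancel]
      have h2 : (C k * L c * (C k)⁻¹ * (L c)⁻¹ : Perm (Pt β ρ p)) ∈ A :=
        A.mul_mem h1 (A.inv_mem (hLc c hc hcp))
      have h3 : (C k * L c * (C k)⁻¹ * (L c)⁻¹ : Perm (Pt β ρ p)) = C (k * (k⁻¹ ∘ c.symm)) := by
        rw [map_mul, mul_assoc (C k), mul_assoc (C k), ← map_inv, L_C_conj]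
      have h4 : (k * (k⁻¹ ∘ c.symm) : β → (ZMod p)ˣ) = Pi.mulSingle y u * Pi.mulSingle y₀ u⁻¹ := by
        funext z
        simp only [Pi.mul_apply, Function.comp_apply, Pi.inv_apply, hk]
        congr 1
        by_cases hz : z = y₀
        · subst hz
          have : c.symm z = y := by rw [← hcy, Equiv.symm_apply_apply]
          rw [this, Pi.mulSingle_eq_same, Pi.mulSingle_eq_same]
        · have : c.symm z ≠ y := by
            intro h5
            apply hz
            rw [← hcy, ← h5, Equiv.apply_symm_apply]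
          rw [Pi.mulSingle_eq_of_ne this, Pi.mulSingle_eq_of_ne hz, inv_one]
      show C (Pi.mulSingle y u * Pi.mulSingle y₀ u⁻¹) ∈ A
      rw [← h4, ← h3]
      exact h2
    have hprod : h = ∏ y ∈ Finset.univ.erase y₀, (Pi.mulSingle y (h y) * Pi.mulSingle y₀ (h y)⁻¹) := by
      funext z
      rw [Finset.prod_apply]
      by_cases hz : z = y₀
      · subst hz
        have h1 : ∀ y ∈ Finset.univ.erase z,
            (Pi.mulSingle y (h y) * Pi.mulSingle z (h y)⁻¹ : β → (ZMod p)ˣ) z = (h y)⁻¹ := by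
          intro y hy
          have hyz : z ≠ y := (Finset.ne_of_mem_erase hy).symm
          rw [Pi.mul_apply, Pi.mulSingle_eq_of_ne hyz, Pi.mulSingle_eq_same, one_mul]
        rw [Finset.prod_congr rfl h1, Finset.prod_inv_distrib]
        have h2 : h z * ∏ y ∈ Finset.univ.erase z, h y = 1 := by
          rw [Finset.mul_prod_erase _ _ (Finset.mem_univ z)]
          exact hh
        exact eq_inv_of_mul_eq_one_left h2
      · have h1 : ∀ y ∈ Finset.univ.erase y₀,
            (Pi.mulSingle y (h y) * Pi.mulSingle y₀ (h y)⁻¹ : β → (ZMod p)ˣ) z = if y = z then h z else 1 := by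
          intro y hy
          rw [Pi.mul_apply, Pi.mulSingle_eq_of_ne hz, mul_one]
          by_cases hyz : y = z
          · subst hyz
            rw [Pi.mulSingle_eq_same, if_pos rfl]
          · rw [Pi.mulSingle_eq_of_ne (Ne.symm hyz), if_neg hyz]
        rw [Finset.prod_congr rfl h1, Finset.prod_ite_eq' ]
        rw [if_pos (Finset.mem_erase.mpr ⟨hz, Finset.mem_univ z⟩)]
    have : h ∈ H := by
      rw [hprod]
      apply Subgroup.prod_mem
      intro y hy
      exact hd y (Finset.ne_of_mem_erase hy) (h y)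
    exact this
  exact A.mul_mem (A.mul_mem hT hC) hL

end main

end Cfsg.Agent.Helper46
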