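import Mathlib

set_option autoImplicit false

/-!
# Lemma X3 (for B-G section 16, helper50's S1383)

A cyclic group `K` of odd order prime to `p` acting on a nonabelian group `Q` of order `p³` such
that every nonidentity element of `K` has centralizer `Z(Q)` in `Q` has order dividing `p - 1` or
`p + 1`.  The proof uses the `p + 1` "lines" (centralizers of noncentral elements of `Q`) and the
commutator pairing.
-/

namespace Cfsg.Agent.Helper46.BG16X3

open Subgroup
open scoped commutatorElement

section PCube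

variable {P : Type*} [Group P] [Finite P] {p : ℕ} [hp : Fact p.Prime]

/-- the centre of a nonabelian group of order `p³` has order `p` -/
theorem card_center (hP : Nat.card P = p ^ 3) (hna : ∃ x y : P, x * y ≠ y * x) :
    Nat.card (center P) = p := by
  have hpg : IsPGroup p P := IsPGroup.of_card hP
  haveI : Nontrivial P := by
    obtain ⟨x, y, hxy⟩ := hna
    exact ⟨⟨x * y, y * x, hxy⟩⟩
  have hnt := hpg.center_nontrivial
  have hdvd : Nat.card (center P) ∣ p ^ 3 := hP ▸ Subgroup.card_subgroup_dvd_card _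
  obtain ⟨k, hk3, hk⟩ := (Nat.dvd_prime_pow hp.out).mp hdvd
  have hmul : Nat.card (P ⧸ center P) * Nat.card (center P) = p ^ 3 := by
    rw [← hP]; exact (Subgroup.card_eq_card_quotient_mul_card_subgroup _).symm
  have hk0 : k ≠ 0 := by
    rintro rfl
    have h1 : Nat.card (center P) = 1 := by simpa using hk
    have := Finite.one_lt_card (α := center P)
    omega
  have hk3' : k ≠ 3 := by
    rintro rfl
    have htop : center P = ⊤ := Subgroup.eq_top_of_card_eq _ (hk.trans hP.symm)
    obtain ⟨x, y, hxy⟩ := hna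
    apply hxy
    have : x ∈ center P := by rw [htop]; trivial
    exact (Subgroup.mem_center_iff.mp this y).symm
  have hk2 : k ≠ 2 := by
    rintro rfl
    have hq : Nat.card (P ⧸ center P) = p := by
      rw [hk] at hmul
      have hpos : 0 < p ^ 2 := pow_pos hp.out.pos 2
      have : Nat.card (P ⧸ center P) * p ^ 2 = p * p ^ 2 := by rw [hmul]; ring
      exact Nat.eq_of_mul_eq_mul_right hpos this
    haveI : IsCyclic (P ⧸ center P) := isCyclic_of_prime_card hq
    have hcomm := MonoidHom.isMulCommutative_of_isCyclic_of_ker_le_center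
      (QuotientGroup.mk' (center P)) (by rw [QuotientGroup.ker_mk'])
    obtain ⟨x, y, hxy⟩ := hna
    exact hxy (mul_comm' x y)
  have : k = 1 := by omega
  rw [hk, this, pow_one]

/-- commutators are central -/
theorem commutator_mem_center (hP : Nat.card P = p ^ 3) (hna : ∃ x y : P, x * y ≠ y * x)
    (x y : P) : ⁅x, y⁆ ∈ center P := by
  have hZ := card_center hP hna
  have hmul : Nat.card (P ⧸ center P) * Nat.card (center P) = p ^ 3 := by
    rw [← hP]; exact (Subgroup.card_eq_card_quotient_mul_card_subgroup _).symm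
  have hq : Nat.card (P ⧸ center P) = p ^ 2 := by
    rw [hZ] at hmul
    have : Nat.card (P ⧸ center P) * p = p ^ 2 * p := by rw [hmul]; ring
    exact Nat.eq_of_mul_eq_mul_right hp.out.pos this
  have hcomm := IsPGroup.isMulCommutative_of_card_eq_prime_sq hq
  rw [← QuotientGroup.eq_one_iff]
  have : ((⁅x, y⁆ : P) : P ⧸ center P) = ⁅(x : P ⧸ center P), (y : P ⧸ center P)⁆ := by
    simp [commutatorElement_def]
  rw [this, commutatorElement_eq_one_iff_commute]
  exact mul_comm' _ _

/-- centralizers of noncentral elements have order `p²` -/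
theorem card_centralizer (hP : Nat.card P = p ^ 3) (hna : ∃ x y : P, x * y ≠ y * x)
    {a : P} (ha : a ∉ center P) : Nat.card (centralizer ({a} : Set P)) = p ^ 2 := by
  have hZ := card_center hP hna
  have hle : center P ≤ centralizer ({a} : Set P) := Subgroup.center_le_centralizer _
  have haC : a ∈ centralizer ({a} : Set P) := by
    rw [Subgroup.mem_centralizer_singleton_iff]
  have hlt : center P < centralizer ({a} : Set P) :=
    lt_of_le_of_ne hle (fun h => ha (h ▸ haC))
  have hdvd : Nat.card (centralizer ({a} : Set P)) ∣ p ^ 3 := hP ▸ Subgroup.card_subgroup_dvd_card _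
  obtain ⟨k, hk3, hk⟩ := (Nat.dvd_prime_pow hp.out).mp hdvd
  have hgt : p < p ^ k := by
    by_contra hle'
    have h1 : Nat.card (centralizer ({a} : Set P)) ≤ Nat.card (center P) := by
      rw [hk, hZ]; omega
    exact hlt.ne (Subgroup.eq_of_le_of_card_ge hle h1)
  have hne3 : k ≠ 3 := by
    rintro rfl
    have htop : centralizer ({a} : Set P) = ⊤ := Subgroup.eq_top_of_card_eq _ (hk.trans hP.symm)
    apply ha
    rw [Subgroup.mem_center_iff]
    intro g
    have hg : g ∈ centralizer ({a} : Set P) := by rw [htop]; trivial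
    rw [Subgroup.mem_centralizer_singleton_iff] at hg
    exact hg
  have hk1 : 1 < k := by
    by_contra h
    have : k ≤ 1 := by omega
    have h2 : p ^ k ≤ p ^ 1 := Nat.pow_le_pow_right hp.out.pos this
    rw [pow_one] at h2
    omega
  have : k = 2 := by omega
  rw [hk, this]

/-- centralizers of noncentral elements are abelian -/
theorem centralizer_comm (hP : Nat.card P = p ^ 3) (hna : ∃ x y : P, x * y ≠ y * x)
    {a : P} (ha : a ∉ center P) {x y : P} (hx : x ∈ centralizer ({a} : Set P))
    (hy : y ∈ centralizer ({a} : Set P)) : x * y = y * x := by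
  have hc := IsPGroup.isMulCommutative_of_card_eq_prime_sq (card_centralizer hP hna ha)
  have := mul_comm' (⟨x, hx⟩ : centralizer ({a} : Set P)) ⟨y, hy⟩
  exact congrArg Subtype.val this

/-- commuting noncentral elements have the same centralizer -/
theorem centralizer_eq_of_commute (hP : Nat.card P = p ^ 3) (hna : ∃ x y : P, x * y ≠ y * x)
    {a b : P} (ha : a ∉ center P) (hb : b ∉ center P) (hab : a * b = b * a) :
    centralizer ({a} : Set P) = centralizer ({b} : Set P) := by
  have hbC : b ∈ centralizer ({a} : Set P) := by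
    rw [Subgroup.mem_centralizer_singleton_iff]; exact hab.symm
  apply Subgroup.eq_of_le_of_card_ge
  · intro x hx
    rw [Subgroup.mem_centralizer_singleton_iff]
    exact centralizer_comm hP hna ha hx hbC
  · rw [card_centralizer hP hna ha, card_centralizer hP hna hb]

/-- the set of "lines": centralizers of noncentral elements -/
def lines (P : Type*) [Group P] : Set (Subgroup P) :=
  {L | ∃ a : P, a ∉ center P ∧ L = centralizer ({a} : Set P)}

theorem mem_line_iff (hP : Nat.card P = p ^ 3) (hna : ∃ x y : P, x * y ≠ y * x)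
    {a x : P} (ha : a ∉ center P) (hx : x ∉ center P) :
    centralizer ({x} : Set P) = centralizer ({a} : Set P) ↔ x ∈ centralizer ({a} : Set P) := by
  constructor
  · intro h
    rw [← h, Subgroup.mem_centralizer_singleton_iff]
  · intro h
    rw [Subgroup.mem_centralizer_singleton_iff] at h
    exact (centralizer_eq_of_commute hP hna ha hx h.symm).symm

theorem card_noncentral (hP : Nat.card P = p ^ 3) (hna : ∃ x y : P, x * y ≠ y * x) :
    Nat.card {x : P // x ∉ center P} + p = p ^ 3 := by
  classical
  have h1 := Nat.card_congr (Equiv.sumCompl (fun x : P => x ∈ center P))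
  rw [Nat.card_sum] at h1
  have h2 : Nat.card {x : P // x ∈ center P} = p := card_center hP hna
  rw [h2, hP] at h1
  omega

theorem card_line_sub (hP : Nat.card P = p ^ 3) (hna : ∃ x y : P, x * y ≠ y * x)
    {a : P} (ha : a ∉ center P) :
    Nat.card {x : P // x ∈ centralizer ({a} : Set P) ∧ x ∉ center P} + p = p ^ 2 := by
  classical
  have hle : center P ≤ centralizer ({a} : Set P) := Subgroup.center_le_centralizer _
  have h1 := Nat.card_congr
    (Equiv.sumCompl (fun x : centralizer ({a} : Set P) => (x : P) ∈ center P))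
  rw [Nat.card_sum, card_centralizer hP hna ha] at h1
  have h2 : Nat.card {x : centralizer ({a} : Set P) // (x : P) ∈ center P} = p := by
    rw [← card_center hP hna]
    exact Nat.card_congr
      { toFun := fun x => ⟨x.1.1, x.2⟩
        invFun := fun z => ⟨⟨z.1, hle z.2⟩, z.2⟩
        left_inv := fun x => rfl
        right_inv := fun z => rfl }
  have h3 : Nat.card {x : centralizer ({a} : Set P) // ¬ (x : P) ∈ center P} =
      Nat.card {x : P // x ∈ centralizer ({a} : Set P) ∧ x ∉ center P} :=
    Nat.card_congr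
      { toFun := fun x => ⟨x.1.1, x.1.2, x.2⟩
        invFun := fun z => ⟨⟨z.1, z.2.1⟩, z.2.2⟩
        left_inv := fun x => rfl
        right_inv := fun z => rfl }
  rw [h2, h3] at h1
  omega

theorem card_lines (hP : Nat.card P = p ^ 3) (hna : ∃ x y : P, x * y ≠ y * x) :
    Nat.card (lines P) = p + 1 := by
  classical
  haveI : Fintype (lines P) := Fintype.ofFinite _
  let f : {x : P // x ∉ center P} → lines P := fun x => ⟨centralizer ({x.1} : Set P), x.1, x.2, rfl⟩
  have h1 := Nat.card_congr (Equiv.sigmaFiberEquiv f)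
  rw [Nat.card_sigma] at h1
  have hfib : ∀ L : lines P, Nat.card {x : {x : P // x ∉ center P} // f x = L} + p = p ^ 2 := by
    rintro ⟨L, a, ha, rfl⟩
    rw [← card_line_sub hP hna ha]
    congr 1
    apply Nat.card_congr
    exact
      { toFun := fun x => ⟨x.1.1, by
          have := congrArg Subtype.val x.2
          exact ((mem_line_iff hP hna ha x.1.2).mp this), x.1.2⟩
        invFun := fun z => ⟨⟨z.1, z.2.2⟩, Subtype.ext ((mem_line_iff hP hna ha z.2.2).mpr z.2.1)⟩
        left_inv := fun x => rfl
        right_inv := fun z => rfl }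
  have hfib' : ∀ L : lines P, Nat.card {x : {x : P // x ∉ center P} // f x = L} = p ^ 2 - p := by
    intro L; have := hfib L; omega
  simp only [hfib', Finset.sum_const, Finset.card_univ, smul_eq_mul] at h1
  have h2 := card_noncentral hP hna
  rw [← Nat.card_eq_fintype_card] at h1
  -- card lines * (p^2 - p) + p = p^3
  have hp1 : 1 < p := hp.out.one_lt
  have h3 : Nat.card (lines P) * (p ^ 2 - p) = (p + 1) * (p ^ 2 - p) := by
    have h4 : (p + 1) * (p ^ 2 - p) + p = p ^ 3 := by
      have : p ≤ p ^ 2 := by nlinarith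
      zify [this]
      ring
    omega
  have hpos : 0 < p ^ 2 - p := by
    have : p < p ^ 2 := by nlinarith
    omega
  exact Nat.eq_of_mul_eq_mul_right hpos h3

omit [Finite P] in
theorem map_mem_center_iff (φ : MulAut P) (a : P) : φ a ∈ center P ↔ a ∈ center P := by
  constructor
  · intro h
    rw [Subgroup.mem_center_iff] at h ⊢
    intro g
    have := h (φ g)
    rw [← map_mul, ← map_mul] at this
    exact φ.injective this
  · intro h
    rw [Subgroup.mem_center_iff] at h ⊢
    intro g
    have := congrArg φ (h (φ.symm g))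
    rw [map_mul, map_mul, MulEquiv.apply_symm_apply] at this
    exact this

omit [Finite P] in
theorem map_centralizer (φ : MulAut P) (a : P) :
    (centralizer ({a} : Set P)).map φ.toMonoidHom = centralizer ({φ a} : Set P) := by
  ext x
  rw [Subgroup.mem_map, Subgroup.mem_centralizer_singleton_iff]
  constructor
  · rintro ⟨y, hy, rfl⟩
    rw [Subgroup.mem_centralizer_singleton_iff] at hy
    show φ y * φ a = φ a * φ y
    rw [← map_mul, ← map_mul, hy]
  · intro h
    refine ⟨φ.symm x, ?_, φ.apply_symm_apply x⟩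
    rw [Subgroup.mem_centralizer_singleton_iff]
    apply φ.injective
    rw [map_mul, map_mul, MulEquiv.apply_symm_apply]
    exact h

omit [Finite P] in
theorem map_mem_lines (φ : MulAut P) {L : Subgroup P} (hL : L ∈ lines P) :
    L.map φ.toMonoidHom ∈ lines P := by
  obtain ⟨a, ha, rfl⟩ := hL
  exact ⟨φ a, fun h => ha ((map_mem_center_iff φ a).mp h), map_centralizer φ a⟩

/-- the action of a group of automorphisms on the lines -/
@[reducible] def linesAction (A : Subgroup (MulAut P)) : MulAction A (lines P) where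
  smul φ L := ⟨L.1.map (φ : MulAut P).toMonoidHom, map_mem_lines _ L.2⟩
  one_smul L := Subtype.ext (by
    show L.1.map (MonoidHom.id P) = L.1
    exact Subgroup.map_id _)
  mul_smul φ ψ L := Subtype.ext (by
    show L.1.map ((φ * ψ : A) : MulAut P).toMonoidHom =
      (L.1.map (ψ : MulAut P).toMonoidHom).map (φ : MulAut P).toMonoidHom
    rw [Subgroup.map_map]
    rfl)

theorem card_dvd_of_free_action' {A X : Type*} [Group A] [MulAction A X]
    (h : ∀ a : A, ∀ x : X, a • x = x → a = 1) : Nat.card A ∣ Nat.card X := by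
  have h' : ∀ x : X, MulAction.stabilizer A x = ⊥ := by
    intro x
    rw [Subgroup.eq_bot_iff_forall]
    intro a ha
    exact h a x (MulAction.mem_stabilizer_iff.mp ha)
  rw [Nat.card_congr (MulAction.selfEquivOrbitsQuotientProd h'), Nat.card_prod]
  exact dvd_mul_left _ _

/-- (a): a group of automorphisms stabilizing a line and acting with fixed points only in the
centre has order dividing `p² - p` -/
theorem card_dvd_of_stabilizes (hP : Nat.card P = p ^ 3) (hna : ∃ x y : P, x * y ≠ y * x)
    (A : Subgroup (MulAut P))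
    (hfix : ∀ φ ∈ A, φ ≠ 1 → ∀ x : P, φ x = x → x ∈ center P)
    {a : P} (ha : a ∉ center P)
    (hstab : ∀ φ ∈ A, (centralizer ({a} : Set P)).map (φ : MulAut P).toMonoidHom =
      centralizer ({a} : Set P)) :
    Nat.card A ∣ p ^ 2 - p := by
  let Y := {x : P // x ∈ centralizer ({a} : Set P) ∧ x ∉ center P}
  let act : MulAction A Y :=
    { smul := fun φ x => ⟨(φ : MulAut P) x.1, by
        have h := Subgroup.mem_map_of_mem (φ : MulAut P).toMonoidHom x.2.1
        rw [hstab φ φ.2] at h
        exact h,
        fun h => x.2.2 ((map_mem_center_iff _ _).mp h)⟩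
      one_smul := fun x => Subtype.ext rfl
      mul_smul := fun φ ψ x => Subtype.ext rfl }
  have hfree : ∀ φ : A, ∀ x : Y, φ • x = x → φ = 1 := by
    intro φ x hx
    by_contra hne
    have h1 : (φ : MulAut P) x.1 = x.1 := congrArg Subtype.val hx
    exact x.2.2 (hfix φ φ.2 (fun h => hne (Subtype.ext h)) x.1 h1)
  have h1 := card_dvd_of_free_action' hfree
  have h2 := card_line_sub hP hna ha
  have h3 : Nat.card Y = p ^ 2 - p := by
    have h4 : Nat.card Y + p = p ^ 2 := h2
    omega
  rwa [h3] at h1

omit [Finite P] in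
theorem iterate_shift (φ : MulAut P) {u x : P} (hu : φ u = u) (hx : φ x = u * x) (j : ℕ) :
    (φ ^ j) x = u ^ j * x := by
  induction j with
  | zero => simp
  | succ j ih =>
    rw [pow_succ', MulAut.mul_apply, ih, map_mul, map_pow, hu, hx, ← mul_assoc, ← pow_succ]

/-- (b0): an invariant complement of the centre in a stabilized line -/
theorem exists_eigen (hP : Nat.card P = p ^ 3) (hna : ∃ x y : P, x * y ≠ y * x)
    (φ : MulAut P) (hφZ : ∀ x ∈ center P, φ x = x)
    (hφfix : ∀ x : P, φ x = x → x ∈ center P)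
    (hφp : ∀ x : P, (φ ^ p) x = x → x ∈ center P)
    {a : P} (ha : a ∉ center P)
    (hstab : (centralizer ({a} : Set P)).map φ.toMonoidHom = centralizer ({a} : Set P)) :
    ∃ u ∈ centralizer ({a} : Set P), u ∉ center P ∧ u ^ p = 1 ∧ ∃ i : ℕ, φ u = u ^ i := by
  classical
  set L := centralizer ({a} : Set P) with hL
  have hφL : ∀ x ∈ L, φ x ∈ L := by
    intro x hx
    have h := Subgroup.mem_map_of_mem φ.toMonoidHom hx
    rw [hstab] at h
    exact h
  have hcomm : ∀ x ∈ L, ∀ y ∈ L, x * y = y * x := fun x hx y hy =>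
    centralizer_comm hP hna ha hx hy
  let δ : L →* L :=
    { toFun := fun x => ⟨φ x.1 * x.1⁻¹, L.mul_mem (hφL x.1 x.2) (L.inv_mem x.2)⟩
      map_one' := Subtype.ext (by simp)
      map_mul' := fun x y => Subtype.ext (by
        show φ (x.1 * y.1) * (x.1 * y.1)⁻¹ = (φ x.1 * x.1⁻¹) * (φ y.1 * y.1⁻¹)
        rw [map_mul, mul_inv_rev]
        have h1 : x.1⁻¹ * (φ y.1 * y.1⁻¹) = (φ y.1 * y.1⁻¹) * x.1⁻¹ :=
          hcomm _ (L.inv_mem x.2) _ (L.mul_mem (hφL y.1 y.2) (L.inv_mem y.2))
        calc φ x.1 * φ y.1 * (y.1⁻¹ * x.1⁻¹) = φ x.1 * ((φ y.1 * y.1⁻¹) * x.1⁻¹) := by group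
          _ = φ x.1 * (x.1⁻¹ * (φ y.1 * y.1⁻¹)) := by rw [h1]
          _ = (φ x.1 * x.1⁻¹) * (φ y.1 * y.1⁻¹) := by group) }
  have hδ : ∀ x : L, ((δ x : L) : P) = φ x.1 * x.1⁻¹ := fun x => rfl
  have hZL : center P ≤ L := Subgroup.center_le_centralizer _
  -- the kernel
  have hker : Nat.card δ.ker = p := by
    rw [← card_center hP hna]
    apply Nat.card_congr
    exact
      { toFun := fun x => ⟨x.1.1, hφfix _ (by
          have h := x.2
          rw [MonoidHom.mem_ker] at h
          have h2 := congrArg Subtype.val h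
          rw [hδ] at h2
          exact mul_inv_eq_one.mp h2)⟩
        invFun := fun z => ⟨⟨z.1, hZL z.2⟩, by
          rw [MonoidHom.mem_ker]
          apply Subtype.ext
          rw [hδ]
          show φ z.1 * z.1⁻¹ = 1
          rw [hφZ z.1 z.2, mul_inv_cancel]⟩
        left_inv := fun x => rfl
        right_inv := fun z => rfl }
  have hrange : Nat.card δ.range = p := by
    have h1 := Subgroup.card_eq_card_quotient_mul_card_subgroup δ.ker
    have hLc : Nat.card L = p ^ 2 := card_centralizer hP hna ha
    rw [hker, hLc,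
      Nat.card_congr (QuotientGroup.quotientKerEquivRange δ).toEquiv] at h1
    have : p * p = Nat.card δ.range * p := by rw [← h1]; ring
    exact (Nat.eq_of_mul_eq_mul_right hp.out.pos this).symm
  haveI : IsCyclic δ.range := isCyclic_of_prime_card hrange
  obtain ⟨g, hg⟩ := IsCyclic.exists_generator (α := δ.range)
  have hg1 : g ≠ 1 := by
    intro h
    have h2 : ∀ y : δ.range, y = 1 := by
      intro y
      have := hg y
      rw [h, Subgroup.zpowers_one_eq_bot, Subgroup.mem_bot] at this
      exact this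
    have h3 : Nat.card δ.range = 1 := by
      rw [Nat.card_eq_one_iff_unique]
      exact ⟨⟨fun x y => (h2 x).trans (h2 y).symm⟩, ⟨1⟩⟩
    rw [hrange] at h3
    exact hp.out.one_lt.ne' h3
  have hgp : g ^ p = 1 := by rw [← hrange]; exact pow_card_eq_one'
  obtain ⟨x, hx⟩ := g.2
  set u : P := ((g : L) : P) with hu
  have hux : φ x.1 * x.1⁻¹ = u := by rw [← hδ, hx]
  have huL : u ∈ L := (g : L).2
  have hup : u ^ p = 1 := by
    have := congrArg (fun y : δ.range => ((y : L) : P)) hgp
    simpa using this
  have hu1 : u ≠ 1 := by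
    intro h
    apply hg1
    apply Subtype.ext
    apply Subtype.ext
    exact h
  refine ⟨u, huL, ?_, hup, ?_⟩
  · intro huZ
    have h1 : φ x.1 = u * x.1 := by rw [← hux]; group
    have h2 := iterate_shift φ (hφZ u huZ) h1 p
    rw [hup, one_mul] at h2
    have h3 := hφfix _ (hφZ _ (hφp _ h2))
    apply hu1
    rw [← hux, hφZ _ (hφp _ h2), mul_inv_cancel]
  · -- `φ u` lies in the range
    have h1 : φ u = φ (φ x.1) * (φ x.1)⁻¹ := by rw [← hux, map_mul, map_inv]
    have h2 : (⟨φ u, hφL u huL⟩ : L) = δ ⟨φ x.1, hφL x.1 x.2⟩ := Subtype.ext (by rw [hδ]; exact h1)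
    have h3 : (⟨⟨φ u, hφL u huL⟩, ⟨_, h2.symm⟩⟩ : δ.range) ∈ Subgroup.zpowers g := hg _
    rw [← mem_powers_iff_mem_zpowers] at h3
    obtain ⟨i, hi⟩ := h3
    refine ⟨i, ?_⟩
    have := congrArg (fun y : δ.range => ((y : L) : P)) hi
    simpa using this.symm

omit [Finite P] in
theorem pow_mul_comm_central {x y c : P} (hc : c ∈ center P) (h : x * y = c * (y * x)) (n : ℕ) :
    x ^ n * y = c ^ n * (y * x ^ n) := by
  induction n with
  | zero => simp
  | succ n ih =>
    have hcx : ∀ g : P, g * c = c * g := fun g => (Subgroup.mem_center_iff.mp hc g)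
    calc x ^ (n + 1) * y = x ^ n * (x * y) := by rw [pow_succ, mul_assoc]
      _ = x ^ n * (c * (y * x)) := by rw [h]
      _ = c * (x ^ n * y) * x := by rw [← mul_assoc (x ^ n), hcx (x ^ n)]; group
      _ = c * (c ^ n * (y * x ^ n)) * x := by rw [ih]
      _ = c ^ (n + 1) * (y * x ^ (n + 1)) := by rw [pow_succ' c, pow_succ x]; group

omit [Finite P] in
theorem mul_pow_comm_central {x y c : P} (hc : c ∈ center P) (h : x * y = c * (y * x)) (n : ℕ) :
    x * y ^ n = c ^ n * (y ^ n * x) := by
  induction n with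
  | zero => simp
  | succ n ih =>
    have hcx : ∀ g : P, g * c = c * g := fun g => (Subgroup.mem_center_iff.mp hc g)
    calc x * y ^ (n + 1) = (x * y ^ n) * y := by rw [pow_succ, mul_assoc]
      _ = c ^ n * (y ^ n * x) * y := by rw [ih]
      _ = c ^ n * (y ^ n * (x * y)) := by group
      _ = c ^ n * (y ^ n * (c * (y * x))) := by rw [h]
      _ = c ^ n * ((y ^ n * c) * (y * x)) := by group
      _ = c ^ n * ((c * y ^ n) * (y * x)) := by rw [hcx (y ^ n)]
      _ = c ^ (n + 1) * (y ^ (n + 1) * x) := by rw [pow_succ c, pow_succ y]; group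

omit [Finite P] in
/-- (b1): bilinearity of central commutators -/
theorem commutator_pow_pow {x y : P} (hc : ⁅x, y⁆ ∈ center P) (i j : ℕ) :
    ⁅x ^ i, y ^ j⁆ = ⁅x, y⁆ ^ (i * j) := by
  have h0 : x * y = ⁅x, y⁆ * (y * x) := by rw [commutatorElement_def]; group
  have h1 := pow_mul_comm_central hc h0 i
  have h2 := mul_pow_comm_central (Subgroup.pow_mem _ hc i) h1 j
  rw [commutatorElement_def, h2, ← pow_mul]
  group

/-- (b2): the eigenvalues on two distinct stabilized lines are inverse to each other -/
theorem eigen_mul_eq_one (hP : Nat.card P = p ^ 3) (hna : ∃ x y : P, x * y ≠ y * x)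
    (φ : MulAut P) (hφZ : ∀ x ∈ center P, φ x = x) {u v : P} (hu : u ∉ center P)
    (hv : v ∉ center P) (hne : centralizer ({u} : Set P) ≠ centralizer ({v} : Set P))
    {i j : ℕ} (hi : φ u = u ^ i) (hj : φ v = v ^ j) : ((i * j : ℕ) : ZMod p) = 1 := by
  have hc := commutator_mem_center hP hna u v
  have hc1 : ⁅u, v⁆ ≠ 1 := by
    intro h
    rw [commutatorElement_eq_one_iff_commute] at h
    exact hne (centralizer_eq_of_commute hP hna hu hv h.eq)
  have hcp : ⁅u, v⁆ ^ p = 1 := by
    have := pow_card_eq_one' (G := center P) (x := ⟨⁅u, v⁆, hc⟩)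
    rw [card_center hP hna] at this
    have h2 := congrArg Subtype.val this
    simpa using h2
  have hord : orderOf ⁅u, v⁆ = p := orderOf_eq_prime hcp hc1
  have h1 : φ ⁅u, v⁆ = ⁅u, v⁆ ^ (i * j) := by
    rw [map_commutatorElement, hi, hj, commutator_pow_pow hc]
  rw [hφZ _ hc] at h1
  have h2 : ⁅u, v⁆ ^ 1 = ⁅u, v⁆ ^ (i * j) := by rw [pow_one]; exact h1
  rw [pow_eq_pow_iff_modEq, hord] at h2
  have h3 := (ZMod.natCast_eq_natCast_iff _ _ _).mpr h2
  rw [← h3]; simp

/-- (b): no automorphism acting with fixed points in the centre stabilizes three lines -/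
theorem no_three (hP : Nat.card P = p ^ 3) (hna : ∃ x y : P, x * y ≠ y * x)
    (φ : MulAut P) (hφZ : ∀ x ∈ center P, φ x = x)
    (hφfix : ∀ x : P, φ x = x → x ∈ center P)
    (hφp : ∀ x : P, (φ ^ p) x = x → x ∈ center P)
    (hφ2 : ∀ x : P, (φ ^ 2) x = x → x ∈ center P)
    {a b c : P} (ha : a ∉ center P) (hb : b ∉ center P) (hc : c ∉ center P)
    (hab : centralizer ({a} : Set P) ≠ centralizer ({b} : Set P))
    (hac : centralizer ({a} : Set P) ≠ centralizer ({c} : Set P))
    (hbc : centralizer ({b} : Set P) ≠ centralizer ({c} : Set P))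
    (hsa : (centralizer ({a} : Set P)).map φ.toMonoidHom = centralizer ({a} : Set P))
    (hsb : (centralizer ({b} : Set P)).map φ.toMonoidHom = centralizer ({b} : Set P))
    (hsc : (centralizer ({c} : Set P)).map φ.toMonoidHom = centralizer ({c} : Set P)) :
    False := by
  obtain ⟨u, huL, huZ, hup, i, hi⟩ := exists_eigen hP hna φ hφZ hφfix hφp ha hsa
  obtain ⟨v, hvL, hvZ, hvp, j, hj⟩ := exists_eigen hP hna φ hφZ hφfix hφp hb hsb
  obtain ⟨w, hwL, hwZ, hwp, m, hm⟩ := exists_eigen hP hna φ hφZ hφfix hφp hc hsc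
  have hCu := (mem_line_iff hP hna ha huZ).mpr huL
  have hCv := (mem_line_iff hP hna hb hvZ).mpr hvL
  have hCw := (mem_line_iff hP hna hc hwZ).mpr hwL
  have hij := eigen_mul_eq_one hP hna φ hφZ huZ hvZ (by rw [hCu, hCv]; exact hab) hi hj
  have him := eigen_mul_eq_one hP hna φ hφZ huZ hwZ (by rw [hCu, hCw]; exact hac) hi hm
  have hjm := eigen_mul_eq_one hP hna φ hφZ hvZ hwZ (by rw [hCv, hCw]; exact hbc) hj hm
  push_cast at hij him hjm
  have h1 : (j : ZMod p) = m := by
    calc (j : ZMod p) = j * (i * m) := by rw [him, mul_one]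
      _ = (i * j) * m := by ring
      _ = m := by rw [hij, one_mul]
  have h2 : (i : ZMod p) = j := by
    calc (i : ZMod p) = i * (j * m) := by rw [hjm, mul_one]
      _ = (i * j) * m := by ring
      _ = j := by rw [hij, one_mul, h1]
  have h3 : ((i * i : ℕ) : ZMod p) = (1 : ℕ) := by
    push_cast
    nth_rewrite 2 [h2]
    exact hij
  rw [ZMod.natCast_eq_natCast_iff] at h3
  have hu1 : u ≠ 1 := fun h => huZ (h ▸ Subgroup.one_mem _)
  have hord : orderOf u = p := orderOf_eq_prime hup hu1
  have h4 : u ^ (i * i) = u ^ 1 := by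
    rw [pow_eq_pow_iff_modEq, hord]; exact h3
  have h5 : (φ ^ 2) u = u := by
    rw [pow_two, MulAut.mul_apply, hi, map_pow, hi, ← pow_mul, h4, pow_one]
  exact huZ (hφ2 u h5)

/-- the stabilizer of a subgroup in the automorphism group -/
def stabAut (L : Subgroup P) : Subgroup (MulAut P) where
  carrier := {θ | L.map θ.toMonoidHom = L}
  one_mem' := by
    show L.map (MonoidHom.id P) = L
    exact Subgroup.map_id _
  mul_mem' := by
    intro θ ψ hθ hψ
    show L.map (θ * ψ).toMonoidHom = L
    have : (θ * ψ).toMonoidHom = θ.toMonoidHom.comp ψ.toMonoidHom := rfl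
    rw [this, ← Subgroup.map_map, hψ, hθ]
  inv_mem' := by
    intro θ hθ
    show L.map (θ⁻¹).toMonoidHom = L
    have h1 : (L.map θ.toMonoidHom).map (θ⁻¹).toMonoidHom = L := by
      rw [Subgroup.map_map]
      have : (θ⁻¹).toMonoidHom.comp θ.toMonoidHom = MonoidHom.id P := by
        ext x
        show θ⁻¹ (θ x) = x
        exact θ.symm_apply_apply x
      rw [this, Subgroup.map_id]
    have hθ' : L.map θ.toMonoidHom = L := hθ
    rw [hθ'] at h1
    exact h1

omit [Finite P] in
theorem mem_stabAut {L : Subgroup P} {θ : MulAut P} :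
    θ ∈ stabAut L ↔ L.map θ.toMonoidHom = L := Iff.rfl

/-- the abstract form of lemma X3 -/
theorem aut_main (hP : Nat.card P = p ^ 3) (hna : ∃ x y : P, x * y ≠ y * x)
    (A : Subgroup (MulAut P)) (hAc : IsCyclic A) (hodd : Odd (Nat.card A))
    (hcop : (Nat.card A).Coprime p)
    (hfix : ∀ φ ∈ A, φ ≠ 1 → ∀ x : P, φ x = x → x ∈ center P)
    (hfixZ : ∀ φ ∈ A, ∀ x ∈ center P, φ x = x) :
    Nat.card A ∣ p - 1 ∨ Nat.card A ∣ p + 1 := by
  classical
  haveI : Finite (MulAut P) := Finite.of_injective (fun g => (g : P → P))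
    (fun g h hgh => MulEquiv.ext (congrFun hgh))
  by_cases hB : ∃ φ ∈ A, φ ≠ 1 ∧ ∃ a : P, a ∉ center P ∧
      (centralizer ({a} : Set P)).map φ.toMonoidHom = centralizer ({a} : Set P)
  · left
    obtain ⟨φ, hφA, hφ1, a, ha, hstab⟩ := hB
    have hordA : orderOf φ ∣ Nat.card A := by
      have := orderOf_dvd_natCard (⟨φ, hφA⟩ : A)
      rwa [Subgroup.orderOf_mk] at this
    have hφ2 : φ ^ 2 ≠ 1 := by
      intro h
      have h1 : orderOf φ ∣ 2 := orderOf_dvd_of_pow_eq_one h
      have h2 : orderOf φ ∣ Nat.gcd 2 (Nat.card A) := Nat.dvd_gcd h1 hordA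
      have h3 : Nat.gcd 2 (Nat.card A) = 1 := by
        rw [← Nat.coprime_iff_gcd_eq_one, Nat.coprime_two_left]; exact hodd
      rw [h3, Nat.dvd_one, orderOf_eq_one_iff] at h2
      exact hφ1 h2
    have hφp : φ ^ p ≠ 1 := by
      intro h
      have h1 : orderOf φ ∣ p := orderOf_dvd_of_pow_eq_one h
      have h2 : orderOf φ ∣ Nat.gcd (Nat.card A) p := Nat.dvd_gcd hordA h1
      rw [hcop, Nat.dvd_one, orderOf_eq_one_iff] at h2
      exact hφ1 h2
    obtain ⟨g, hg⟩ := IsCyclic.exists_generator (α := A)
    set ψ : MulAut P := (g : MulAut P) with hψ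
    have hcommA : ∀ x y : A, x * y = y * x := by
      intro x y
      obtain ⟨i, rfl⟩ := Subgroup.mem_zpowers_iff.mp (hg x)
      obtain ⟨j, rfl⟩ := Subgroup.mem_zpowers_iff.mp (hg y)
      rw [← zpow_add, ← zpow_add, add_comm]
    have hφψ : ∀ x : P, φ (ψ x) = ψ (φ x) := by
      intro x
      have h := hcommA ⟨φ, hφA⟩ g
      have h2 := congrArg (fun θ : A => (θ : MulAut P) x) h
      exact h2
    -- the lines of `a`, `ψ a`, `ψ (ψ a)` are stabilized by `φ`
    have hCφ : ∀ b : P, centralizer ({b} : Set P) = centralizer ({φ b} : Set P) →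
        centralizer ({ψ b} : Set P) = centralizer ({φ (ψ b)} : Set P) := by
      intro b hb
      rw [hφψ, ← map_centralizer ψ (φ b), ← hb, map_centralizer]
    have h0 : centralizer ({a} : Set P) = centralizer ({φ a} : Set P) := by
      rw [← map_centralizer, hstab]
    have h1 := hCφ a h0
    have h2 := hCφ (ψ a) h1
    have ha1 : ψ a ∉ center P := fun h => ha ((map_mem_center_iff ψ a).mp h)
    have ha2 : ψ (ψ a) ∉ center P := fun h => ha1 ((map_mem_center_iff ψ _).mp h)
    have hψstab : ψ ∈ stabAut (centralizer ({a} : Set P)) := by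
      by_contra hns
      rw [mem_stabAut, map_centralizer] at hns
      -- the three lines are pairwise distinct
      have hab : centralizer ({a} : Set P) ≠ centralizer ({ψ a} : Set P) := fun h => hns h.symm
      have hbc : centralizer ({ψ a} : Set P) ≠ centralizer ({ψ (ψ a)} : Set P) := by
        intro h
        rw [← map_centralizer ψ a, ← map_centralizer ψ (ψ a)] at h
        have h3 := Subgroup.map_injective (f := ψ.toMonoidHom) ψ.injective h
        exact hab h3
      have hac : centralizer ({a} : Set P) ≠ centralizer ({ψ (ψ a)} : Set P) := by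
        intro h
        -- then `ψ ^ 2` stabilizes the line, hence so does `ψ`
        have h3 : ψ ^ 2 ∈ stabAut (centralizer ({a} : Set P)) := by
          rw [mem_stabAut, map_centralizer, pow_two, MulAut.mul_apply]
          exact h.symm
        have hordψ : orderOf ψ ∣ Nat.card A := by
          have := orderOf_dvd_natCard g
          rwa [← Subgroup.orderOf_coe] at this
        obtain ⟨k, hk⟩ := hodd
        have hpowψ : ψ ^ (Nat.card A) = 1 := orderOf_dvd_iff_pow_eq_one.mp hordψ
        have h4 : ψ = (ψ ^ 2) ^ (k + 1) := by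
          rw [← pow_mul]
          have : 2 * (k + 1) = Nat.card A + 1 := by omega
          rw [this, pow_succ, hpowψ, one_mul]
        have h5 : ψ ∈ stabAut (centralizer ({a} : Set P)) := by
          rw [h4]; exact Subgroup.pow_mem _ h3 _
        rw [mem_stabAut, map_centralizer] at h5
        exact hns h5
      exact no_three hP hna φ (hfixZ φ hφA) (hfix φ hφA hφ1)
        (hfix (φ ^ p) (Subgroup.pow_mem _ hφA _) hφp)
        (hfix (φ ^ 2) (Subgroup.pow_mem _ hφA _) hφ2) ha ha1 ha2 hab hac hbc
        (by rw [map_centralizer]; exact h0.symm) (by rw [map_centralizer]; exact h1.symm)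
        (by rw [map_centralizer]; exact h2.symm)
    have hAstab : ∀ θ ∈ A, (centralizer ({a} : Set P)).map (θ : MulAut P).toMonoidHom =
        centralizer ({a} : Set P) := by
      intro θ hθ
      obtain ⟨i, hi⟩ := Subgroup.mem_zpowers_iff.mp (hg ⟨θ, hθ⟩)
      have h3 : θ = ψ ^ i := by
        have := congrArg (fun x : A => (x : MulAut P)) hi
        simpa using this.symm
      rw [← mem_stabAut, h3]
      exact Subgroup.zpow_mem _ hψstab _
    have hdvd := card_dvd_of_stabilizes hP hna A hfix ha hAstab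
    have hpp : p ^ 2 - p = p * (p - 1) := by
      rw [Nat.mul_sub, mul_one, sq]
    rw [hpp] at hdvd
    exact hcop.dvd_of_dvd_mul_left hdvd
  · right
    push Not at hB
    letI := linesAction A
    have hfree : ∀ φ : A, ∀ L : lines P, φ • L = L → φ = 1 := by
      intro φ L hL
      by_contra hne
      obtain ⟨L, a, ha, rfl⟩ := L
      have h1 : (centralizer ({a} : Set P)).map (φ : MulAut P).toMonoidHom =
          centralizer ({a} : Set P) := congrArg Subtype.val hL
      exact hB φ φ.2 (fun h => hne (Subtype.ext h)) a ha h1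
    have := card_dvd_of_free_action' hfree
    rwa [card_lines hP hna] at this

end PCube

/-- **Lemma X3**: exact signature requested by helper50 (#3759). -/
theorem lemma_X3 {G : Type*} [Group G] [Finite G] {p : ℕ} [Fact p.Prime] (hp2 : p ≠ 2)
    (Q K : Subgroup G) (hQ : Nat.card Q = p ^ 3) (hQna : ¬ IsMulCommutative Q)
    (hKQ : K ≤ Subgroup.normalizer (Q : Set G)) (hKc : IsCyclic K) (hodd : Odd (Nat.card K))
    (hcop : (Nat.card K).Coprime p)
    (hfix : ∀ k ∈ K, k ≠ 1 → Q ⊓ Subgroup.centralizer ({k} : Set G) =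
      Q ⊓ Subgroup.centralizer (Q : Set G)) :
    Nat.card K ∣ p - 1 ∨ Nat.card K ∣ p + 1 := by
  classical
  have hna : ∃ x y : Q, x * y ≠ y * x := by
    by_contra h
    push Not at h
    exact hQna ⟨⟨h⟩⟩
  let φ : K →* MulAut Q := (Subgroup.normalizerMonoidHom Q).comp (Subgroup.inclusion hKQ)
  have hφ : ∀ (k : K) (x : Q), ((φ k x : Q) : G) = k * x * (k : G)⁻¹ := fun _ _ => rfl
  -- elements of `K` centralizing `Q` are trivial
  have hcent : ∀ k ∈ K, (∀ x ∈ Q, k * x * k⁻¹ = x) → k = 1 := by
    intro k hk hc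
    by_contra hk1
    have h1 := hfix k hk hk1
    apply hQna
    refine ⟨⟨fun a b => ?_⟩⟩
    have ha : (a : G) ∈ Q ⊓ Subgroup.centralizer ({k} : Set G) := by
      refine Subgroup.mem_inf.mpr ⟨a.2, ?_⟩
      rw [Subgroup.mem_centralizer_singleton_iff]
      have := hc a a.2
      calc (a : G) * k = (k * a * k⁻¹) * k := by rw [this]
        _ = k * a := by group
    rw [h1] at ha
    have h2 := Subgroup.mem_centralizer_iff.mp (Subgroup.mem_inf.mp ha).2 b b.2
    exact Subtype.ext h2.symm
  have hinj : Function.Injective φ := by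
    rw [injective_iff_map_eq_one]
    intro k hk
    apply Subtype.ext
    apply hcent k k.2
    intro x hx
    have := congrArg (fun θ : MulAut Q => ((θ ⟨x, hx⟩ : Q) : G)) hk
    exact this
  have e : K ≃* φ.range := MonoidHom.ofInjective hinj
  have hcard : Nat.card φ.range = Nat.card K := (Nat.card_congr e.toEquiv).symm
  have hcyc : IsCyclic φ.range := by
    haveI := hKc
    exact isCyclic_of_surjective e.toMonoidHom e.surjective
  rw [← hcard]
  apply aut_main hQ hna φ.range hcyc (hcard ▸ hodd) (hcard ▸ hcop)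
  · rintro _ ⟨k, rfl⟩ hk1 x hx
    have hk1' : (k : G) ≠ 1 := by
      intro h
      apply hk1
      have : k = 1 := Subtype.ext h
      rw [this, map_one]
    have h1 := hfix k k.2 hk1'
    have hxk : (x : G) ∈ Q ⊓ Subgroup.centralizer ({(k : G)} : Set G) := by
      refine Subgroup.mem_inf.mpr ⟨x.2, ?_⟩
      rw [Subgroup.mem_centralizer_singleton_iff]
      have h2 : (k : G) * x * (k : G)⁻¹ = x := by rw [← hφ, hx]
      calc (x : G) * k = ((k : G) * x * (k : G)⁻¹) * k := by rw [h2]
        _ = k * x := by group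
    rw [h1] at hxk
    rw [Subgroup.mem_center_iff]
    intro g
    have h2 := Subgroup.mem_centralizer_iff.mp (Subgroup.mem_inf.mp hxk).2 g g.2
    exact Subtype.ext h2
  · rintro _ ⟨k, rfl⟩ x hx
    by_cases hk1 : (k : G) = 1
    · have : k = 1 := Subtype.ext hk1
      rw [this, map_one]; rfl
    · have h1 := hfix k k.2 hk1
      have hxQ : (x : G) ∈ Q ⊓ Subgroup.centralizer (Q : Set G) := by
        refine Subgroup.mem_inf.mpr ⟨x.2, ?_⟩
        rw [Subgroup.mem_centralizer_iff]
        intro g hg
        have := Subgroup.mem_center_iff.mp hx ⟨g, hg⟩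
        exact congrArg Subtype.val this
      rw [← h1] at hxQ
      have h2 := Subgroup.mem_centralizer_singleton_iff.mp (Subgroup.mem_inf.mp hxQ).2
      apply Subtype.ext
      rw [hφ]
      calc (k : G) * x * (k : G)⁻¹ = ((x : G) * k) * (k : G)⁻¹ := by rw [h2]
        _ = x := by group

end Cfsg.Agent.Helper46.BG16X3
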