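import Mathlib
import Cfsg.Prelude.Def_Local
import Cfsg.Agent.Lib.Cores
import Cfsg.Agent.Helper31.LocalCore

/-!
# The preimage of `O_p(Γ / C)` and `O_{p',p}(Γ)` for `C = C_Γ(Q)`, `Q` a normal `p`-subgroup
-/

set_option autoImplicit false

namespace Cfsg.Agent.Helper46

open Cfsg.Agent.Helper31

section CoreMod

variable {Γ : Type*} [Group Γ] {p : ℕ}

/-- The preimage in `Γ` of `O_p(Γ / C)`. -/
def pCoreMod (p : ℕ) (C : Subgroup Γ) [C.Normal] : Subgroup Γ :=
  (Cfsg.pCore p (Γ ⧸ C)).comap (QuotientGroup.mk' C)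

instance pCoreMod_normal (C : Subgroup Γ) [C.Normal] : (pCoreMod p C).Normal := by
  unfold pCoreMod
  have hc : (Cfsg.pCore p (Γ ⧸ C)).Characteristic := Cfsg.Agent.Lib.pCore_characteristic p
  have hn : (Cfsg.pCore p (Γ ⧸ C)).Normal := inferInstance
  exact Subgroup.Normal.comap hn _

theorem le_pCoreMod_self (C : Subgroup Γ) [C.Normal] : C ≤ pCoreMod p C := by
  intro x hx
  unfold pCoreMod
  rw [Subgroup.mem_comap]
  have : (QuotientGroup.mk' C) x = 1 := by
    rw [QuotientGroup.mk'_apply, QuotientGroup.eq_one_iff]; exact hx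
  rw [this]
  exact Subgroup.one_mem _

/-- Elements of the preimage have a `p`-power in `C`. -/
theorem exists_pow_mem_of_mem_pCoreMod (C : Subgroup Γ) [C.Normal] {x : Γ}
    (hx : x ∈ pCoreMod p C) : ∃ k : ℕ, x ^ p ^ k ∈ C := by
  have h1 : (QuotientGroup.mk' C) x ∈ Cfsg.pCore p (Γ ⧸ C) := hx
  obtain ⟨k, hk⟩ := (Cfsg.Agent.Lib.isPGroup_pCore p) ⟨_, h1⟩
  refine ⟨k, ?_⟩
  have h2 : ((QuotientGroup.mk' C) x) ^ p ^ k = 1 := by
    have := congrArg Subtype.val hk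
    simpa using this
  rw [← map_pow, QuotientGroup.mk'_apply, QuotientGroup.eq_one_iff] at h2
  exact h2

/-- A normal subgroup all of whose elements have a `p`-power in `C` lies in the preimage. -/
theorem le_pCoreMod_of_forall_pow_mem (C : Subgroup Γ) [C.Normal] (N : Subgroup Γ) [N.Normal]
    (h : ∀ x ∈ N, ∃ k : ℕ, x ^ p ^ k ∈ C) : N ≤ pCoreMod p C := by
  intro x hx
  unfold pCoreMod
  rw [Subgroup.mem_comap]
  have hn : (N.map (QuotientGroup.mk' C)).Normal :=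
    Subgroup.Normal.map inferInstance _ (QuotientGroup.mk'_surjective _)
  have hp : IsPGroup p ↥(N.map (QuotientGroup.mk' C)) := by
    rintro ⟨y, ⟨z, hz, rfl⟩⟩
    obtain ⟨k, hk⟩ := h z hz
    refine ⟨k, ?_⟩
    apply Subtype.ext
    show ((QuotientGroup.mk' C) z) ^ p ^ k = 1
    rw [← map_pow, QuotientGroup.mk'_apply, QuotientGroup.eq_one_iff]
    exact hk
  exact Cfsg.Agent.Lib.le_pCore hn hp ⟨x, hx, rfl⟩

theorem le_pCoreMod_of_isPGroup (C : Subgroup Γ) [C.Normal] (Q : Subgroup Γ) [Q.Normal]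
    (hQ : IsPGroup p ↥Q) : Q ≤ pCoreMod p C := by
  apply le_pCoreMod_of_forall_pow_mem
  intro x hx
  obtain ⟨k, hk⟩ := hQ ⟨x, hx⟩
  refine ⟨k, ?_⟩
  have : x ^ p ^ k = 1 := by
    have := congrArg Subtype.val hk
    simpa using this
  rw [this]; exact C.one_mem

/-- `O_{p',p}` as a `pCoreMod`. -/
theorem pPrimePCore_eq_pCoreMod : Cfsg.pPrimePCore p Γ = pCoreMod p (Cfsg.pPrimeCore p Γ) := rfl

end CoreMod

section Main

variable {Γ : Type*} [Group Γ] [Finite Γ] {p : ℕ} [Fact p.Prime]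

theorem relIndex_pCoreMod (C : Subgroup Γ) [C.Normal] :
    ∃ a : ℕ, C.relIndex (pCoreMod p C) = p ^ a := by
  have h2 : C.relIndex (pCoreMod p C) = Nat.card ↥(Cfsg.pCore p (Γ ⧸ C)) := by
    have h1 := Subgroup.relIndex_ker (K := pCoreMod p C) (QuotientGroup.mk' C)
    rw [QuotientGroup.ker_mk'] at h1
    rw [h1]
    unfold pCoreMod
    rw [Subgroup.map_comap_eq_self_of_surjective (QuotientGroup.mk'_surjective _)]
  rw [h2]
  exact IsPGroup.iff_card.mp (Cfsg.Agent.Lib.isPGroup_pCore p)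

/-- A number dividing both a `p`-power and a number prime to `p` is `1`. -/
theorem eq_one_of_dvd_pow_of_dvd_coprime {d a m : ℕ} (h1 : d ∣ p ^ a) (h2 : d ∣ m) (hm : ¬ p ∣ m) :
    d = 1 := by
  have hp : p.Prime := Fact.out
  obtain ⟨b, _, rfl⟩ := (Nat.dvd_prime_pow hp).1 h1
  rcases Nat.eq_zero_or_pos b with rfl | hb
  · simp
  · exfalso
    apply hm
    exact dvd_trans (dvd_pow_self p hb.ne') h2

/-- The abstract form of the criterion. -/
theorem sylow_in_pCoreMod_iff (Q : Subgroup Γ) [Q.Normal] (hQ : IsPGroup p ↥Q)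
    (C : Subgroup Γ) [C.Normal] (hC : C = Subgroup.centralizer (Q : Set Γ))
    (R : Subgroup Γ) (hR : IsPGroup p ↥R) (hRs : ¬ p ∣ R.index) :
    (Q ≤ pCoreMod p C ∧ ¬ p ∣ Q.relIndex (pCoreMod p C)) ↔
      (R ⊓ C ≤ Q ∧ Cfsg.pPrimePCore p Γ = Q ⊔ C) := by
  have hp : p.Prime := Fact.out
  have hQN : Q ≤ pCoreMod p C := le_pCoreMod_of_isPGroup C Q hQ
  have hCN : C ≤ pCoreMod p C := le_pCoreMod_self C
  have hQR : Q ≤ R := Cfsg.Agent.Lib.normal_pGroup_le_sylow inferInstance hQ (hR.toSylow hRs)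
  have hKC : Cfsg.pPrimeCore p Γ ≤ C := by rw [hC]; exact pPrimeCore_le_centralizer Q hQ
  have hQW : Q ≤ Cfsg.pPrimePCore p Γ := le_pPrimePCore_of_normal_pGroup Q hQ
  constructor
  · rintro ⟨_, hsyl⟩
    -- Step 1: the preimage is `Q ⊔ C`
    have hN : pCoreMod p C = Q ⊔ C := by
      apply le_antisymm _ (sup_le hQN hCN)
      rw [← Subgroup.relIndex_eq_one]
      obtain ⟨a, ha⟩ := relIndex_pCoreMod (p := p) C
      apply eq_one_of_dvd_pow_of_dvd_coprime (p := p) (a := a) _ _ hsyl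
      · rw [← ha]; exact Subgroup.relIndex_dvd_of_le_left _ le_sup_right
      · exact Subgroup.relIndex_dvd_of_le_left _ le_sup_left
    have hsyl2 : ¬ p ∣ Q.relIndex (Q ⊔ Subgroup.centralizer (Q : Set Γ)) := by
      rw [← hC, ← hN]; exact hsyl
    have hCle := centralizer_le_of_relIndex Q hQ hsyl2
    refine ⟨?_, ?_⟩
    · -- `R ⊓ C ≤ Q`
      have hX : (R ⊓ C) ⊔ Q ≤ R := sup_le inf_le_left hQR
      have hXp : IsPGroup p ↥((R ⊓ C) ⊔ Q) := hR.to_le hX
      have hXN : (R ⊓ C) ⊔ Q ≤ pCoreMod p C := sup_le (le_trans inf_le_right hCN) hQN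
      have h1 := Subgroup.relIndex_mul_relIndex Q ((R ⊓ C) ⊔ Q) (pCoreMod p C) le_sup_right hXN
      obtain ⟨k, hk⟩ := IsPGroup.iff_card.mp hXp
      have h2 : Q.relIndex ((R ⊓ C) ⊔ Q) ∣ p ^ k := by
        rw [← hk]; exact Subgroup.relIndex_dvd_card _ _
      have h3 : Q.relIndex ((R ⊓ C) ⊔ Q) = 1 :=
        eq_one_of_dvd_pow_of_dvd_coprime (p := p) h2 (Dvd.intro _ h1) hsyl
      rw [Subgroup.relIndex_eq_one] at h3
      exact le_trans le_sup_left h3
    · -- `O_{p',p} = Q ⊔ C`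
      apply le_antisymm
      · rw [← hN, pPrimePCore_eq_pCoreMod]
        have hc : (Cfsg.pPrimeCore p Γ).Characteristic := Cfsg.Agent.Lib.pPrimeCore_characteristic p
        have hn : (Cfsg.pPrimeCore p Γ).Normal := inferInstance
        apply le_pCoreMod_of_forall_pow_mem
        intro x hx
        obtain ⟨k, hk⟩ := exists_pow_mem_of_mem_pCoreMod _ hx
        exact ⟨k, hKC hk⟩
      · apply sup_le hQW
        rw [hC]
        exact le_trans hCle (sup_le pPrimeCore_le_pPrimePCore hQW)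
  · rintro ⟨h1, h2⟩
    refine ⟨hQN, ?_⟩
    have hc : (Cfsg.pPrimeCore p Γ).Characteristic := Cfsg.Agent.Lib.pPrimeCore_characteristic p
    have hn : (Cfsg.pPrimeCore p Γ).Normal := inferInstance
    have hCW : C ≤ Cfsg.pPrimePCore p Γ := by rw [h2]; exact le_sup_right
    have hNW : pCoreMod p C ≤ Cfsg.pPrimePCore p Γ := by
      rw [pPrimePCore_eq_pCoreMod]
      apply le_pCoreMod_of_forall_pow_mem
      intro x hx
      obtain ⟨a, ha⟩ := exists_pow_mem_of_mem_pCoreMod _ hx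
      have hb' : x ^ p ^ a ∈ pCoreMod p (Cfsg.pPrimeCore p Γ) := hCW ha
      obtain ⟨b, hb⟩ := exists_pow_mem_of_mem_pCoreMod _ hb'
      refine ⟨a + b, ?_⟩
      rw [pow_add, pow_mul]
      exact hb
    have hN : pCoreMod p C = Q ⊔ C := le_antisymm (h2 ▸ hNW) (sup_le hQN hCN)
    rw [hN]
    have h3 : Q.relIndex (Q ⊔ C) = (Q ⊓ C).relIndex C := by
      rw [sup_comm, Subgroup.relIndex_sup_right, Subgroup.inf_relIndex_right]
    rw [h3]
    have h4 : ¬ p ∣ (R ⊓ C).relIndex C := not_dvd_relIndex_inf_normal R hR hRs C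
    have h5 : R ⊓ C ≤ Q ⊓ C := le_inf h1 inf_le_right
    intro h6
    exact h4 (dvd_trans h6 (Subgroup.relIndex_dvd_of_le_left C h5))

end Main

end Cfsg.Agent.Helper46
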