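import Cfsg.Prelude.Def_Amalgam

set_option autoImplicit false

namespace Cfsg.Agent.Helper46

open Cfsg

variable {X : Type*} [Group X] {M₁ M₂ : Subgroup X}

/-- Adjacency in the coset graph, unfolded. -/
theorem cg_adj_iff (a b : CosetVertex M₁ M₂) :
    (cosetGraph M₁ M₂).Adj a b ↔
      ∃ x : X, (a = Sum.inl (x : X ⧸ M₁) ∧ b = Sum.inr (x : X ⧸ M₂)) ∨
        (a = Sum.inr (x : X ⧸ M₂) ∧ b = Sum.inl (x : X ⧸ M₁)) := by
  unfold cosetGraph
  rw [SimpleGraph.fromRel_adj]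
  constructor
  · rintro ⟨_, ⟨x, h1, h2⟩ | ⟨x, h1, h2⟩⟩
    · exact ⟨x, Or.inl ⟨h1, h2⟩⟩
    · exact ⟨x, Or.inr ⟨h2, h1⟩⟩
  · rintro ⟨x, ⟨h1, h2⟩ | ⟨h1, h2⟩⟩
    · refine ⟨?_, Or.inl ⟨x, h1, h2⟩⟩
      rw [h1, h2]; exact Sum.inl_ne_inr
    · refine ⟨?_, Or.inr ⟨x, h2, h1⟩⟩
      rw [h1, h2]; exact Sum.inr_ne_inl

theorem cg_adj_inl_inr (x : X) :
    (cosetGraph M₁ M₂).Adj (Sum.inl (x : X ⧸ M₁)) (Sum.inr (x : X ⧸ M₂)) :=
  (cg_adj_iff _ _).2 ⟨x, Or.inl ⟨rfl, rfl⟩⟩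

theorem cg_adj_inr_inl (x : X) :
    (cosetGraph M₁ M₂).Adj (Sum.inr (x : X ⧸ M₂)) (Sum.inl (x : X ⧸ M₁)) :=
  (cg_adj_iff _ _).2 ⟨x, Or.inr ⟨rfl, rfl⟩⟩

theorem cg_smul_inl (g x : X) :
    g • (Sum.inl (x : X ⧸ M₁) : CosetVertex M₁ M₂) = Sum.inl ((g * x : X) : X ⧸ M₁) := by
  rw [Sum.smul_inl, MulAction.Quotient.smul_coe, smul_eq_mul]

theorem cg_smul_inr (g x : X) :
    g • (Sum.inr (x : X ⧸ M₂) : CosetVertex M₁ M₂) = Sum.inr ((g * x : X) : X ⧸ M₂) := by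
  rw [Sum.smul_inr, MulAction.Quotient.smul_coe, smul_eq_mul]

/-- The action preserves adjacency. -/
theorem cg_adj_smul (g : X) {a b : CosetVertex M₁ M₂} (h : (cosetGraph M₁ M₂).Adj a b) :
    (cosetGraph M₁ M₂).Adj (g • a) (g • b) := by
  rw [cg_adj_iff] at h ⊢
  obtain ⟨x, ⟨h1, h2⟩ | ⟨h1, h2⟩⟩ := h
  · exact ⟨g * x, Or.inl ⟨by rw [h1, cg_smul_inl], by rw [h2, cg_smul_inr]⟩⟩
  · exact ⟨g * x, Or.inr ⟨by rw [h1, cg_smul_inr], by rw [h2, cg_smul_inl]⟩⟩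

theorem cg_adj_smul_iff (g : X) {a b : CosetVertex M₁ M₂} :
    (cosetGraph M₁ M₂).Adj (g • a) (g • b) ↔ (cosetGraph M₁ M₂).Adj a b := by
  constructor
  · intro h
    have := cg_adj_smul g⁻¹ h
    simpa using this
  · exact cg_adj_smul g

/-- The action preserves reachability. -/
theorem cg_reachable_smul (g : X) {a b : CosetVertex M₁ M₂}
    (h : (cosetGraph M₁ M₂).Reachable a b) : (cosetGraph M₁ M₂).Reachable (g • a) (g • b) := by
  obtain ⟨w⟩ := h
  induction w with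
  | nil => exact SimpleGraph.Reachable.refl _
  | cons hadj _ ih => exact (cg_adj_smul g hadj).reachable.trans ih

/-- Every vertex is of the form `inl x` or `inr x`. -/
theorem cg_vertex_cases (v : CosetVertex M₁ M₂) :
    (∃ x : X, v = Sum.inl (x : X ⧸ M₁)) ∨ (∃ x : X, v = Sum.inr (x : X ⧸ M₂)) := by
  rcases v with q | q
  · induction q using QuotientGroup.induction_on with
    | H x => exact Or.inl ⟨x, rfl⟩
  · induction q using QuotientGroup.induction_on with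
    | H x => exact Or.inr ⟨x, rfl⟩

/-- The subgroup of elements `g` with `g • v` reachable from `v`. -/
def reachSubgroup (M₁ M₂ : Subgroup X) (v : CosetVertex M₁ M₂) : Subgroup X where
  carrier := {g | (cosetGraph M₁ M₂).Reachable v (g • v)}
  one_mem' := by simp
  mul_mem' := by
    intro a b ha hb
    simp only [Set.mem_ofPred_eq] at ha hb ⊢
    have := cg_reachable_smul a hb
    rw [mul_smul]
    exact ha.trans this
  inv_mem' := by
    intro a ha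
    simp only [Set.mem_ofPred_eq] at ha ⊢
    have := cg_reachable_smul a⁻¹ ha
    simp only [inv_smul_smul] at this
    exact this.symm

theorem mem_reachSubgroup {v : CosetVertex M₁ M₂} {g : X} :
    g ∈ reachSubgroup M₁ M₂ v ↔ (cosetGraph M₁ M₂).Reachable v (g • v) := Iff.rfl

theorem cg_mk_eq_one_of_mem {M : Subgroup X} {m : X} (hm : m ∈ M) : ((m : X) : X ⧸ M) = ((1 : X) : X ⧸ M) := by
  rw [eq_comm, QuotientGroup.eq]; simpa using hm

theorem cg_mk_mul_of_mem {M : Subgroup X} (x : X) {m : X} (hm : m ∈ M) :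
    ((x * m : X) : X ⧸ M) = ((x : X) : X ⧸ M) := by
  rw [eq_comm, QuotientGroup.eq]; simpa using hm

theorem cg_connected (hgen : M₁ ⊔ M₂ = ⊤) : (cosetGraph M₁ M₂).Connected := by
  set v : CosetVertex M₁ M₂ := Sum.inl ((1 : X) : X ⧸ M₁) with hv
  have h1 : M₁ ≤ reachSubgroup M₁ M₂ v := by
    intro m hm
    rw [mem_reachSubgroup, hv, cg_smul_inl, mul_one, cg_mk_eq_one_of_mem hm]
  have h2 : M₂ ≤ reachSubgroup M₁ M₂ v := by
    intro m hm
    rw [mem_reachSubgroup, hv, cg_smul_inl, mul_one]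
    have a1 : (cosetGraph M₁ M₂).Adj (Sum.inl ((1 : X) : X ⧸ M₁)) (Sum.inr ((1 : X) : X ⧸ M₂)) :=
      cg_adj_inl_inr 1
    have a2 : (cosetGraph M₁ M₂).Adj (Sum.inr ((m : X) : X ⧸ M₂)) (Sum.inl ((m : X) : X ⧸ M₁)) :=
      cg_adj_inr_inl m
    rw [cg_mk_eq_one_of_mem hm] at a2
    exact a1.reachable.trans a2.reachable
  have htop : reachSubgroup M₁ M₂ v = ⊤ := by
    rw [eq_top_iff, ← hgen]; exact sup_le h1 h2
  have hall : ∀ w : CosetVertex M₁ M₂, (cosetGraph M₁ M₂).Reachable v w := by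
    intro w
    rcases cg_vertex_cases w with ⟨x, rfl⟩ | ⟨x, rfl⟩
    · have : x ∈ reachSubgroup M₁ M₂ v := by rw [htop]; trivial
      rw [mem_reachSubgroup, hv, cg_smul_inl, mul_one] at this
      exact this
    · have : x ∈ reachSubgroup M₁ M₂ v := by rw [htop]; trivial
      rw [mem_reachSubgroup, hv, cg_smul_inl, mul_one] at this
      exact this.trans (cg_adj_inl_inr x).reachable
  rw [SimpleGraph.connected_iff]
  refine ⟨fun a b => (hall a).symm.trans (hall b), ⟨v⟩⟩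


/-! ### Stabilizers -/

theorem cg_mem_stabilizer_inl {g x : X} :
    g ∈ MulAction.stabilizer X (Sum.inl (x : X ⧸ M₁) : CosetVertex M₁ M₂) ↔ x⁻¹ * g * x ∈ M₁ := by
  rw [MulAction.mem_stabilizer_iff, cg_smul_inl, Sum.inl.injEq, eq_comm, QuotientGroup.eq, mul_assoc]

theorem cg_mem_stabilizer_inr {g x : X} :
    g ∈ MulAction.stabilizer X (Sum.inr (x : X ⧸ M₂) : CosetVertex M₁ M₂) ↔ x⁻¹ * g * x ∈ M₂ := by
  rw [MulAction.mem_stabilizer_iff, cg_smul_inr, Sum.inr.injEq, eq_comm, QuotientGroup.eq, mul_assoc]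

theorem cg_mem_map_conj {H : Subgroup X} {g x : X} :
    g ∈ H.map (MulAut.conj x).toMonoidHom ↔ x⁻¹ * g * x ∈ H := by
  rw [Subgroup.mem_map]
  constructor
  · rintro ⟨h, hh, rfl⟩
    simpa [MulAut.conj_apply, mul_assoc] using hh
  · intro h
    exact ⟨x⁻¹ * g * x, h, by simp [MulAut.conj_apply, mul_assoc]⟩

theorem cg_stabilizer_inl (x : X) :
    MulAction.stabilizer X (Sum.inl (x : X ⧸ M₁) : CosetVertex M₁ M₂) =
      M₁.map (MulAut.conj x).toMonoidHom := by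
  ext g; rw [cg_mem_stabilizer_inl, cg_mem_map_conj]

theorem cg_stabilizer_inr (x : X) :
    MulAction.stabilizer X (Sum.inr (x : X ⧸ M₂) : CosetVertex M₁ M₂) =
      M₂.map (MulAut.conj x).toMonoidHom := by
  ext g; rw [cg_mem_stabilizer_inr, cg_mem_map_conj]

theorem cg_edgeStabilizer (x : X) :
    edgeStabilizer (Sum.inl (x : X ⧸ M₁) : CosetVertex M₁ M₂) (Sum.inr (x : X ⧸ M₂)) =
      (M₁ ⊓ M₂).map (MulAut.conj x).toMonoidHom := by
  ext g
  rw [Subgroup.mem_inf, cg_mem_stabilizer_inl, cg_mem_stabilizer_inr, cg_mem_map_conj, Subgroup.mem_inf]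

theorem cg_stabilizer_inl_one :
    MulAction.stabilizer X (Sum.inl ((1 : X) : X ⧸ M₁) : CosetVertex M₁ M₂) = M₁ := by
  ext g; rw [cg_mem_stabilizer_inl]; simp

theorem cg_stabilizer_inr_one :
    MulAction.stabilizer X (Sum.inr ((1 : X) : X ⧸ M₂) : CosetVertex M₁ M₂) = M₂ := by
  ext g; rw [cg_mem_stabilizer_inr]; simp

/-- The kernel of the action on vertices lies in `M₁ ⊓ M₂`. -/
theorem cg_ker_le : (MulAction.toPermHom X (CosetVertex M₁ M₂)).ker ≤ M₁ ⊓ M₂ := by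
  intro g hg
  rw [MonoidHom.mem_ker] at hg
  have h : ∀ v : CosetVertex M₁ M₂, g • v = v := by
    intro v
    have := congrArg (fun e : Equiv.Perm (CosetVertex M₁ M₂) => e v) hg
    simpa using this
  refine ⟨?_, ?_⟩
  · have := h (Sum.inl ((1 : X) : X ⧸ M₁))
    rw [← MulAction.mem_stabilizer_iff, cg_stabilizer_inl_one] at this
    exact this
  · have := h (Sum.inr ((1 : X) : X ⧸ M₂))
    rw [← MulAction.mem_stabilizer_iff, cg_stabilizer_inr_one] at this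
    exact this

theorem cg_faithful (h : ∀ N : Subgroup X, N ≤ M₁ ⊓ M₂ → N.Normal → N = ⊥) :
    Function.Injective (MulAction.toPermHom X (CosetVertex M₁ M₂)) := by
  rw [← MonoidHom.ker_eq_bot_iff]
  exact h _ cg_ker_le (MonoidHom.normal_ker _)

/-- A subgroup fixing every vertex is trivial, under the amalgam condition. -/
theorem cg_eq_bot_of_fixes_all (h : ∀ N : Subgroup X, N ≤ M₁ ⊓ M₂ → N.Normal → N = ⊥)
    (T : Subgroup X) (hT : ∀ v : CosetVertex M₁ M₂, T ≤ MulAction.stabilizer X v) : T = ⊥ := by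
  have hker : (MulAction.toPermHom X (CosetVertex M₁ M₂)).ker = ⊥ := h _ cg_ker_le (MonoidHom.normal_ker _)
  rw [eq_bot_iff, ← hker]
  intro t ht
  rw [MonoidHom.mem_ker]
  ext v
  have := hT v ht
  rw [MulAction.mem_stabilizer_iff] at this
  simpa using this

/-! ### Neighbours -/

theorem cg_neighbours_transitive (δ μ μ' : CosetVertex M₁ M₂)
    (hμ : (cosetGraph M₁ M₂).Adj δ μ) (hμ' : (cosetGraph M₁ M₂).Adj δ μ') :
    ∃ g ∈ MulAction.stabilizer X δ, g • μ = μ' := by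
  rw [cg_adj_iff] at hμ hμ'
  obtain ⟨y, ⟨h1, h2⟩ | ⟨h1, h2⟩⟩ := hμ
  · obtain ⟨y', ⟨h1', h2'⟩ | ⟨h1', h2'⟩⟩ := hμ'
    · refine ⟨y' * y⁻¹, ?_, ?_⟩
      · rw [MulAction.mem_stabilizer_iff]
        conv_lhs => rw [h1]
        rw [cg_smul_inl, h1']; simp
      · rw [h2, h2', cg_smul_inr]; simp
    · rw [h1] at h1'; exact absurd h1' Sum.inl_ne_inr
  · obtain ⟨y', ⟨h1', h2'⟩ | ⟨h1', h2'⟩⟩ := hμ'
    · rw [h1] at h1'; exact absurd h1' Sum.inr_ne_inl
    · refine ⟨y' * y⁻¹, ?_, ?_⟩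
      · rw [MulAction.mem_stabilizer_iff]
        conv_lhs => rw [h1]
        rw [cg_smul_inr, h1']; simp
      · rw [h2, h2', cg_smul_inl]; simp

/-- If `r` normalizes `T` and `T` fixes `v`, then `T` fixes `r • v`. -/
theorem cg_le_stabilizer_smul_of_mem_normalizer {T : Subgroup X} {r : X}
    (hr : r ∈ Subgroup.normalizer (T : Set X)) {v : CosetVertex M₁ M₂}
    (hv : T ≤ MulAction.stabilizer X v) : T ≤ MulAction.stabilizer X (r • v) := by
  intro t ht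
  rw [MulAction.mem_stabilizer_iff]
  have hr' : r⁻¹ ∈ Subgroup.normalizer (T : Set X) := inv_mem hr
  have h1 : r⁻¹ * t * r⁻¹⁻¹ ∈ T := (Subgroup.mem_normalizer_iff.1 hr' t).1 ht
  have h2 := hv h1
  rw [MulAction.mem_stabilizer_iff] at h2
  calc t • r • v = r • ((r⁻¹ * t * r⁻¹⁻¹) • v) := by
        rw [← mul_smul, ← mul_smul]; congr 1; group
    _ = r • v := by rw [h2]

/-- The key lemma of the amalgam method: a subgroup of an edge stabilizer whose normalizer is transitive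
on the neighbours at both ends of the edge fixes every vertex reachable from the edge. -/
theorem cg_fixes_reachable (δ μ : CosetVertex M₁ M₂)
    (hμ : (cosetGraph M₁ M₂).Adj δ μ) (T : Subgroup X)
    (hδ : ∀ ν ν' : CosetVertex M₁ M₂, (cosetGraph M₁ M₂).Adj δ ν → (cosetGraph M₁ M₂).Adj δ ν' →
      ∃ g ∈ Subgroup.normalizer (T : Set X) ⊓ MulAction.stabilizer X δ, g • ν = ν')
    (hμ' : ∀ ν ν' : CosetVertex M₁ M₂, (cosetGraph M₁ M₂).Adj μ ν → (cosetGraph M₁ M₂).Adj μ ν' →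
      ∃ g ∈ Subgroup.normalizer (T : Set X) ⊓ MulAction.stabilizer X μ, g • ν = ν')
    (ν : CosetVertex M₁ M₂) (hν : (cosetGraph M₁ M₂).Reachable δ ν) :
    ∃ r ∈ Subgroup.normalizer (T : Set X), ν = r • δ ∨ ν = r • μ := by
  obtain ⟨w⟩ := hν
  -- generalize the start of the walk
  suffices H : ∀ (a b : CosetVertex M₁ M₂) (w : (cosetGraph M₁ M₂).Walk a b),
      (∃ r ∈ Subgroup.normalizer (T : Set X), a = r • δ ∨ a = r • μ) →
      (∃ r ∈ Subgroup.normalizer (T : Set X), b = r • δ ∨ b = r • μ) from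
    H δ ν w ⟨1, one_mem _, Or.inl (by simp)⟩
  intro a b w
  induction w with
  | nil => exact id
  | @cons a c b hadj _ ih =>
    intro ha
    apply ih
    obtain ⟨r, hr, rfl | rfl⟩ := ha
    · have hadj' : (cosetGraph M₁ M₂).Adj δ (r⁻¹ • c) := by
        have := cg_adj_smul r⁻¹ hadj
        simpa using this
      obtain ⟨g, hg, hgc⟩ := hδ μ (r⁻¹ • c) hμ hadj'
      refine ⟨r * g, mul_mem hr hg.1, Or.inr ?_⟩
      rw [mul_smul, hgc, smul_inv_smul]
    · have hadj' : (cosetGraph M₁ M₂).Adj μ (r⁻¹ • c) := by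
        have := cg_adj_smul r⁻¹ hadj
        simpa using this
      obtain ⟨g, hg, hgc⟩ := hμ' δ (r⁻¹ • c) hμ.symm hadj'
      refine ⟨r * g, mul_mem hr hg.1, Or.inl ?_⟩
      rw [mul_smul, hgc, smul_inv_smul]

theorem cg_amalgam_trivial (h : IsAmalgamPair M₁ M₂) (δ μ : CosetVertex M₁ M₂)
    (hμ : (cosetGraph M₁ M₂).Adj δ μ) (T : Subgroup X) (hT : T ≤ edgeStabilizer δ μ)
    (hδ : ∀ ν ν' : CosetVertex M₁ M₂, (cosetGraph M₁ M₂).Adj δ ν → (cosetGraph M₁ M₂).Adj δ ν' →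
      ∃ g ∈ Subgroup.normalizer (T : Set X) ⊓ MulAction.stabilizer X δ, g • ν = ν')
    (hμ' : ∀ ν ν' : CosetVertex M₁ M₂, (cosetGraph M₁ M₂).Adj μ ν → (cosetGraph M₁ M₂).Adj μ ν' →
      ∃ g ∈ Subgroup.normalizer (T : Set X) ⊓ MulAction.stabilizer X μ, g • ν = ν') : T = ⊥ := by
  obtain ⟨hgen, _, _, hN⟩ := h
  apply cg_eq_bot_of_fixes_all hN
  intro ν
  have hconn := cg_connected hgen
  obtain ⟨r, hr, rfl | rfl⟩ := cg_fixes_reachable δ μ hμ T hδ hμ' ν (hconn.preconnected δ ν)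
  · exact cg_le_stabilizer_smul_of_mem_normalizer hr (hT.trans inf_le_left)
  · exact cg_le_stabilizer_smul_of_mem_normalizer hr (hT.trans inf_le_right)

end Cfsg.Agent.Helper46
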