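import Cfsg.Agent.Helper46.StronglyEmbedded
import Cfsg.Agent.Helper45.Dihedral
import Cfsg.Prelude.Def_LocalEven

set_option autoImplicit false

namespace Cfsg.Agent.Helper46

open Cfsg
open scoped Pointwise

section DihedralInvolved

theorem dih_r_mem {n : ℕ} (i : ZMod n) :
    DihedralGroup.r i ∈ Subgroup.zpowers (DihedralGroup.r (1 : ZMod n)) := by
  obtain ⟨k, rfl⟩ := ZMod.intCast_surjective i
  exact ⟨k, by simp only [DihedralGroup.r_one_zpow]⟩

theorem dih_mem_zpowers_r {n : ℕ} {g : DihedralGroup n}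
    (hg : g ∈ Subgroup.zpowers (DihedralGroup.r (1 : ZMod n))) : ∃ i : ZMod n, g = DihedralGroup.r i := by
  obtain ⟨k, rfl⟩ := hg
  exact ⟨(k : ZMod n), by simp [DihedralGroup.r_one_zpow]⟩

theorem dih_zpowers_r_normal (n : ℕ) :
    (Subgroup.zpowers (DihedralGroup.r (1 : ZMod n))).Normal := by
  constructor
  intro x hx g
  obtain ⟨i, rfl⟩ := dih_mem_zpowers_r hx
  rcases g with j | j
  · rw [DihedralGroup.inv_r, DihedralGroup.r_mul_r, DihedralGroup.r_mul_r]
    exact dih_r_mem _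
  · rw [DihedralGroup.inv_sr, DihedralGroup.sr_mul_r, DihedralGroup.sr_mul_sr]
    exact dih_r_mem _

theorem two_ne_zero_zmod {p : ℕ} [Fact p.Prime] (hp : p ≠ 2) : (2 : ZMod p) ≠ 0 := by
  intro h
  have h2 : ((2 : ℕ) : ZMod p) = 0 := by exact_mod_cast h
  rw [ZMod.natCast_eq_zero_iff] at h2
  exact hp ((Nat.prime_dvd_prime_iff_eq Fact.out Nat.prime_two).1 h2)

theorem sr_pow_odd {n : ℕ} (j : ZMod n) {m : ℕ} (hm : Odd m) :
    (DihedralGroup.sr j) ^ m = DihedralGroup.sr j := by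
  obtain ⟨t, rfl⟩ := hm
  rw [pow_succ, pow_mul, pow_two, DihedralGroup.sr_mul_self, one_pow, one_mul]

/-- A finite group mapping onto `D_{2p}` (`p` odd) has a `2`-element normalizing but not centralizing
some `p`-subgroup. -/
theorem normalizes_of_surj_dihedral {Γ : Type*} [Group Γ] [Finite Γ] {p : ℕ} [Fact p.Prime]
    (hp : p ≠ 2) (π : Γ →* DihedralGroup p) (hπ : Function.Surjective π) :
    ∃ (x : Γ) (P : Subgroup Γ), (∃ k : ℕ, orderOf x = 2 ^ k) ∧ IsPGroup p P ∧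
      x ∈ Subgroup.normalizer (P : Set Γ) ∧ x ∉ Subgroup.centralizer (P : Set Γ) := by
  haveI hRn := dih_zpowers_r_normal p
  set Rsub : Subgroup (DihedralGroup p) := Subgroup.zpowers (DihedralGroup.r (1 : ZMod p)) with hRsub
  set N : Subgroup Γ := Rsub.comap π with hN
  haveI : N.Normal := hRn.comap π
  obtain ⟨P⟩ : Nonempty (Sylow p ↥N) := inferInstance
  have hfrat := Sylow.normalizer_sup_eq_top P
  -- an element of `P` mapping to `r 1`
  have hRp : IsPGroup p ↥Rsub := by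
    apply IsPGroup.of_card (n := 1)
    rw [hRsub, Nat.card_zpowers, DihedralGroup.orderOf_r_one, pow_one]
  have hsurjN : Function.Surjective (π.subgroupComap Rsub) :=
    π.subgroupComap_surjective_of_surjective Rsub hπ
  have hQtop : (⊤ : Subgroup ↥Rsub) = ((P.mapSurjective hsurjN : Sylow p ↥Rsub) : Subgroup ↥Rsub) :=
    (P.mapSurjective hsurjN).is_maximal' (hRp.to_subgroup ⊤) le_top
  obtain ⟨z', hz'P, hz'⟩ : ∃ z' ∈ (P : Subgroup ↥N), (π.subgroupComap Rsub) z' =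
      ⟨DihedralGroup.r 1, Subgroup.mem_zpowers _⟩ := by
    have : (⟨DihedralGroup.r 1, Subgroup.mem_zpowers _⟩ : ↥Rsub) ∈ (⊤ : Subgroup ↥Rsub) :=
      Subgroup.mem_top _
    rw [hQtop, Sylow.coe_mapSurjective] at this
    exact this
  have hz : π (z' : Γ) = DihedralGroup.r 1 := congrArg Subtype.val hz'
  -- an element of the normalizer mapping to a reflection
  obtain ⟨g₀, hg₀⟩ := hπ (DihedralGroup.sr 0)
  have hg₀mem : g₀ ∈ Subgroup.normalizer (((P : Subgroup ↥N).map N.subtype : Subgroup Γ) : Set Γ) ⊔ N := by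
    rw [hfrat]; exact Subgroup.mem_top _
  rw [← SetLike.mem_coe, Subgroup.mul_normal] at hg₀mem
  obtain ⟨n₁, hn₁, n₂, hn₂, hmul⟩ := hg₀mem
  obtain ⟨i, hi⟩ := dih_mem_zpowers_r (Subgroup.mem_comap.1 hn₂)
  have hn₁π : π n₁ = DihedralGroup.sr (-i) := by
    have hmul' : n₁ * n₂ = g₀ := hmul
    have h1 : π n₁ * π n₂ = DihedralGroup.sr 0 := by rw [← map_mul, hmul', hg₀]
    rw [hi] at h1
    have h2 : π n₁ = DihedralGroup.sr 0 * (DihedralGroup.r i)⁻¹ := by
      rw [← h1, mul_inv_cancel_right]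
    rw [h2, DihedralGroup.inv_r, DihedralGroup.sr_mul_r, zero_add]
  -- the 2-part of `n₁`
  obtain ⟨k, m, hm, hkm⟩ := Nat.exists_eq_two_pow_mul_odd (orderOf_pos n₁).ne'
  refine ⟨n₁ ^ m, (P : Subgroup ↥N).map N.subtype, ⟨k, ?_⟩, P.isPGroup'.map _, pow_mem hn₁ m, ?_⟩
  · rw [orderOf_pow_of_dvd hm.pos.ne' ⟨2 ^ k, by rw [hkm, mul_comm]⟩, hkm,
      Nat.mul_div_cancel _ hm.pos]
  · intro hcen
    have hcomm := (Subgroup.mem_centralizer_iff.1 hcen) (z' : Γ) ⟨z', hz'P, rfl⟩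
    have h1 := congrArg π hcomm
    rw [map_mul, map_mul, map_pow, hz, hn₁π, sr_pow_odd _ hm, DihedralGroup.r_mul_sr,
      DihedralGroup.sr_mul_r] at h1
    have h2 : (-i - 1 : ZMod p) = -i + 1 := by
      injection h1
    have h3 : (2 : ZMod p) = 0 := by
      have : (-i + 1 : ZMod p) - (-i - 1) = 0 := by rw [h2]; ring
      have e : (-i + 1 : ZMod p) - (-i - 1) = 2 := by ring
      rw [e] at this
      exact this
    exact two_ne_zero_zmod hp h3

/-- (A) ⇒ (B). -/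
theorem normalizes_of_involves_dihedral {G : Type*} [Group G] [Finite G] {p : ℕ} [Fact p.Prime]
    (hp : p ≠ 2) (h : Involves (DihedralGroup p) G) :
    ∃ (x : G) (P : Subgroup G), (∃ k : ℕ, orderOf x = 2 ^ k) ∧ IsPGroup p P ∧
      x ∈ Subgroup.normalizer (P : Set G) ∧ x ∉ Subgroup.centralizer (P : Set G) := by
  obtain ⟨K, R, hn, ⟨e⟩⟩ := h
  let π : ↥K →* DihedralGroup p := e.toMonoidHom.comp (QuotientGroup.mk' (R.subgroupOf K))
  have hπ : Function.Surjective π := e.surjective.comp (QuotientGroup.mk'_surjective _)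
  obtain ⟨x, P, ⟨k, hk⟩, hP, hxn, hxc⟩ := normalizes_of_surj_dihedral hp π hπ
  refine ⟨(x : G), P.map K.subtype, ⟨k, by rw [Subgroup.orderOf_coe]; exact hk⟩, hP.map _, ?_, ?_⟩
  · exact map_subtype_normalizer_le P ⟨x, hxn, rfl⟩
  · intro hc
    apply hxc
    rw [Subgroup.mem_centralizer_iff]
    intro u hu
    have := (Subgroup.mem_centralizer_iff.1 hc) (u : G) ⟨u, hu, rfl⟩
    exact Subtype.ext this

/-- An element of odd prime power order different from `1` is not its own inverse. -/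
theorem ne_inv_of_orderOf_eq_prime_pow {G : Type*} [Group G] {p : ℕ} [Fact p.Prime] (hp : p ≠ 2)
    {y : G} (hy : ∃ k : ℕ, orderOf y = p ^ k) (hy1 : y ≠ 1) : y ≠ y⁻¹ := by
  intro h
  obtain ⟨k, hk⟩ := hy
  have h2 : y ^ 2 = 1 := by
    rw [pow_two]
    nth_rewrite 2 [h]
    exact mul_inv_cancel y
  have hd : orderOf y ∣ 2 := orderOf_dvd_of_pow_eq_one h2
  rw [hk] at hd
  rcases Nat.eq_zero_or_pos k with rfl | hk0
  · rw [pow_zero] at hk
    exact hy1 (orderOf_eq_one_iff.1 hk)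
  · have : p ∣ 2 := (dvd_pow_self p hk0.ne').trans hd
    exact hp ((Nat.prime_dvd_prime_iff_eq Fact.out Nat.prime_two).1 this)

theorem mem_normalizer_zpowers_of_inverts {G : Type*} [Group G] {x y : G}
    (hinv : x * y * x⁻¹ = y⁻¹) : x ∈ Subgroup.normalizer ((Subgroup.zpowers y : Subgroup G) : Set G) := by
  have hinv' : x⁻¹ * y * x = y⁻¹ := by
    have h1 : y = x⁻¹ * y⁻¹ * x := by rw [← hinv]; group
    have h2 : y⁻¹ = (x⁻¹ * y⁻¹ * x)⁻¹ := by rw [← h1]
    rw [h2]; group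
  rw [Subgroup.mem_normalizer_iff]
  intro g
  constructor
  · rintro ⟨i, rfl⟩
    refine ⟨-i, ?_⟩
    show y ^ (-i) = x * y ^ i * x⁻¹
    rw [← conj_zpow, hinv, inv_zpow, zpow_neg]
  · rintro ⟨i, hi⟩
    refine ⟨-i, ?_⟩
    have hi' : y ^ i = x * g * x⁻¹ := hi
    show y ^ (-i) = g
    have : g = x⁻¹ * y ^ i * x := by rw [hi']; group
    rw [this, zpow_neg, ← inv_zpow, ← hinv']
    have e : x⁻¹ * y * x = x⁻¹ * y * x⁻¹⁻¹ := by rw [inv_inv]
    rw [e, conj_zpow, inv_inv]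

/-- (C) ⇒ (B). -/
theorem normalizes_of_inverts {G : Type*} [Group G] {p : ℕ} [Fact p.Prime] (hp : p ≠ 2)
    {x y : G} (hx : ∃ k : ℕ, orderOf x = 2 ^ k) (hy : ∃ k : ℕ, orderOf y = p ^ k) (hy1 : y ≠ 1)
    (hinv : x * y * x⁻¹ = y⁻¹) :
    ∃ (x : G) (P : Subgroup G), (∃ k : ℕ, orderOf x = 2 ^ k) ∧ IsPGroup p P ∧
      x ∈ Subgroup.normalizer (P : Set G) ∧ x ∉ Subgroup.centralizer (P : Set G) := by
  refine ⟨x, Subgroup.zpowers y, hx, ?_, mem_normalizer_zpowers_of_inverts hinv, ?_⟩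
  · obtain ⟨k, hk⟩ := hy
    exact IsPGroup.of_card (n := k) (by rw [Nat.card_zpowers, hk])
  · intro hc
    have h1 := (Subgroup.mem_centralizer_iff.1 hc) y (Subgroup.mem_zpowers y)
    apply ne_inv_of_orderOf_eq_prime_pow hp hy hy1
    rw [← hinv, ← h1, mul_inv_cancel_right]

/-- (B) ⇒ (C). -/
theorem inverts_of_normalizes {G : Type*} [Group G] {p : ℕ} [Fact p.Prime]
    {x : G} {P : Subgroup G} (hx : ∃ k : ℕ, orderOf x = 2 ^ k) (hP : IsPGroup p P)
    (hn : x ∈ Subgroup.normalizer (P : Set G)) (hc : x ∉ Subgroup.centralizer (P : Set G)) :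
    ∃ x y : G, (∃ k : ℕ, orderOf x = 2 ^ k) ∧ (∃ k : ℕ, orderOf y = p ^ k) ∧ y ≠ 1 ∧
      x * y * x⁻¹ = y⁻¹ := by
  classical
  obtain ⟨k, hk⟩ := hx
  have hex : ∃ i : ℕ, x ^ (2 ^ i) ∈ Subgroup.centralizer (P : Set G) :=
    ⟨k, by rw [← hk, pow_orderOf_eq_one]; exact one_mem _⟩
  have hmin : ∀ {m : ℕ}, m < Nat.find hex → ¬ x ^ (2 ^ m) ∈ Subgroup.centralizer (P : Set G) :=
    fun {m} hm => Nat.find_min hex hm
  have hspec := Nat.find_spec hex
  rcases Nat.eq_zero_or_pos (Nat.find hex) with h0 | hpos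
  · rw [h0, pow_zero, pow_one] at hspec
    exact absurd hspec hc
  obtain ⟨i, hi⟩ : ∃ i, Nat.find hex = i + 1 := ⟨Nat.find hex - 1, by omega⟩
  have hx'c : x ^ (2 ^ i) ∉ Subgroup.centralizer (P : Set G) := hmin (by omega)
  have hx'2 : x ^ (2 ^ i) * x ^ (2 ^ i) ∈ Subgroup.centralizer (P : Set G) := by
    rw [hi] at hspec
    rwa [← pow_add, ← two_mul, ← pow_succ']
  have hx'n : x ^ (2 ^ i) ∈ Subgroup.normalizer (P : Set G) := pow_mem hn _
  have hx'o : ∃ k' : ℕ, orderOf (x ^ (2 ^ i)) = 2 ^ k' := by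
    have := orderOf_pow_dvd (x := x) (2 ^ i)
    rw [hk] at this
    obtain ⟨m, _, hm⟩ := (Nat.dvd_prime_pow Nat.prime_two).1 this
    exact ⟨m, hm⟩
  set x' := x ^ (2 ^ i) with hx'
  rw [Subgroup.mem_centralizer_iff] at hx'c
  push Not at hx'c
  obtain ⟨u, hu, hne⟩ := hx'c
  have hw : x' * u * x'⁻¹ ∈ P := (Subgroup.mem_normalizer_iff.1 hx'n u).1 hu
  have hyP : u⁻¹ * (x' * u * x'⁻¹) ∈ P := mul_mem (inv_mem hu) hw
  refine ⟨x', u⁻¹ * (x' * u * x'⁻¹), hx'o, ?_, ?_, ?_⟩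
  · obtain ⟨m, hm⟩ := (IsPGroup.iff_orderOf.1 hP) ⟨_, hyP⟩
    exact ⟨m, by rw [← hm, Subgroup.orderOf_mk]⟩
  · intro h1
    apply hne
    have h2 : x' * u * x'⁻¹ = u := by
      have := congrArg (fun t => u * t) h1
      simpa using this
    have h3 := congrArg (fun t => t * x') h2
    simpa using h3.symm
  · have hcomm : u * (x' * x') = x' * x' * u := (Subgroup.mem_centralizer_iff.1 hx'2) u hu
    have h1 : x' * (x' * u * x'⁻¹) * x'⁻¹ = u := by
      have : x' * (x' * u * x'⁻¹) * x'⁻¹ = (x' * x' * u) * x'⁻¹ * x'⁻¹ := by group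
      rw [this, ← hcomm]
      group
    calc x' * (u⁻¹ * (x' * u * x'⁻¹)) * x'⁻¹
        = (x' * u * x'⁻¹)⁻¹ * (x' * (x' * u * x'⁻¹) * x'⁻¹) := by group
      _ = (x' * u * x'⁻¹)⁻¹ * u := by rw [h1]
      _ = (u⁻¹ * (x' * u * x'⁻¹))⁻¹ := by group

theorem involves_dihedral_of_inverts_prime {G : Type*} [Group G] {p : ℕ} [Fact p.Prime]
    (hp : p ≠ 2) {x a : G} (hx : ∃ k : ℕ, orderOf x = 2 ^ k) (ha : orderOf a = p)
    (hinv : x * a * x⁻¹ = a⁻¹) : Involves (DihedralGroup p) G := by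
  have hXN : Subgroup.zpowers x ≤ Subgroup.normalizer ((Subgroup.zpowers a : Subgroup G) : Set G) :=
    Subgroup.zpowers_le.2 (mem_normalizer_zpowers_of_inverts hinv)
  have haK : a ∈ Subgroup.zpowers a ⊔ Subgroup.zpowers x := le_sup_left (a := Subgroup.zpowers a)
    (Subgroup.mem_zpowers a)
  have hxK : x ∈ Subgroup.zpowers a ⊔ Subgroup.zpowers x := le_sup_right (b := Subgroup.zpowers x)
    (Subgroup.mem_zpowers x)
  have hRX : Subgroup.zpowers (x * x) ≤ Subgroup.zpowers x :=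
    Subgroup.zpowers_le.2 (mul_mem (Subgroup.mem_zpowers x) (Subgroup.mem_zpowers x))
  -- `x` conjugates powers of `a` to their inverses
  have hxai : ∀ i : ℤ, x * a ^ i = a ^ (-i) * x := by
    intro i
    have : x * a ^ i * x⁻¹ = a ^ (-i) := by rw [← conj_zpow, hinv, inv_zpow, zpow_neg]
    rw [← this]; group
  have hxxa : a * (x * x) = x * x * a := by
    have h1 := hxai 1
    have hm1 := hxai (-1)
    rw [zpow_one, zpow_neg, zpow_one] at h1
    rw [neg_neg, zpow_one, zpow_neg, zpow_one] at hm1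
    calc a * (x * x) = (a * x) * x := by group
      _ = (x * a⁻¹) * x := by rw [hm1]
      _ = x * (a⁻¹ * x) := by group
      _ = x * (x * a) := by rw [h1]
      _ = x * x * a := by group
  -- `K` centralizes `R`
  have hKC : Subgroup.zpowers a ⊔ Subgroup.zpowers x ≤
      Subgroup.centralizer ((Subgroup.zpowers (x * x) : Subgroup G) : Set G) := by
    rw [Subgroup.zpowers_eq_closure (x * x), Subgroup.centralizer_closure]
    apply sup_le
    · rw [Subgroup.zpowers_le, Subgroup.mem_centralizer_singleton_iff]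
      exact hxxa
    · rw [Subgroup.zpowers_le, Subgroup.mem_centralizer_singleton_iff]
      group
  have hnorm : ((Subgroup.zpowers (x * x)).subgroupOf
      (Subgroup.zpowers a ⊔ Subgroup.zpowers x)).Normal := by
    constructor
    intro n hn g
    rw [Subgroup.mem_subgroupOf] at hn ⊢
    have hc := (Subgroup.mem_centralizer_iff.1 (hKC g.2)) (n : G) hn
    have : ((g * n * g⁻¹ : ↥(Subgroup.zpowers a ⊔ Subgroup.zpowers x)) : G) = (n : G) := by
      show (g : G) * (n : G) * (g : G)⁻¹ = (n : G)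
      rw [← hc, mul_inv_cancel_right]
    rw [this]; exact hn
  refine ⟨Subgroup.zpowers a ⊔ Subgroup.zpowers x, Subgroup.zpowers (x * x), hnorm, ?_⟩
  set K : Subgroup G := Subgroup.zpowers a ⊔ Subgroup.zpowers x with hK
  set R : Subgroup G := Subgroup.zpowers (x * x) with hR
  let q : ↥K →* ↥K ⧸ R.subgroupOf K := QuotientGroup.mk' _
  let a' : ↥K := ⟨a, haK⟩
  let x' : ↥K := ⟨x, hxK⟩
  have hq : ∀ u w : ↥K, ((u : G))⁻¹ * (w : G) ∈ R → q u = q w := by
    intro u w h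
    exact QuotientGroup.eq.2 (Subgroup.mem_subgroupOf.2 (by simpa using h))
  have hq1 : ∀ u : ↥K, q u = 1 → (u : G) ∈ R := by
    intro u h
    exact Subgroup.mem_subgroupOf.1 ((QuotientGroup.eq_one_iff u).1 h)
  have hx2 : q x' * q x' = 1 := by
    rw [← map_mul]
    exact (QuotientGroup.eq_one_iff _).2 (Subgroup.mem_subgroupOf.2 (Subgroup.mem_zpowers (x * x)))
  have hrel : q x' * q a' * (q x')⁻¹ = (q a')⁻¹ := by
    rw [← map_inv, ← map_mul, ← map_mul, ← map_inv]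
    congr 1
    exact Subtype.ext hinv
  have ha1 : q a' ≠ 1 := by
    intro h
    have h1 : a ∈ Subgroup.zpowers x := hRX (hq1 a' h)
    have h2 := orderOf_dvd_of_mem_zpowers h1
    obtain ⟨k, hk⟩ := hx
    rw [ha, hk] at h2
    have h3 : p ∣ 2 := (Fact.out : p.Prime).dvd_of_dvd_pow h2
    exact hp ((Nat.prime_dvd_prime_iff_eq Fact.out Nat.prime_two).1 h3)
  have hn : orderOf (q a') = p := by
    apply orderOf_eq_prime _ ha1
    rw [← map_pow]
    have : a' ^ p = 1 := Subtype.ext (by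
      show a ^ p = 1
      rw [← ha]; exact pow_orderOf_eq_one a)
    rw [this, map_one]
  have hxa : q x' ∉ Subgroup.zpowers (q a') := by
    rintro ⟨i, hi⟩
    have hi' : (q a') ^ i = q x' := hi
    have hcomm : q x' * q a' * (q x')⁻¹ = q a' := by
      rw [← hi']
      have : Commute ((q a') ^ i) (q a') := (Commute.refl (q a')).zpow_left i
      rw [this.eq, mul_inv_cancel_right]
    rw [hrel] at hcomm
    exact ne_inv_of_orderOf_eq_prime_pow hp ⟨1, by rw [hn, pow_one]⟩ ha1 hcomm.symm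
  have hgen : ∀ g : ↥K ⧸ R.subgroupOf K,
      g ∈ Subgroup.zpowers (q a') ∨ q x' * g ∈ Subgroup.zpowers (q a') := by
    intro g
    obtain ⟨⟨k, hk⟩, rfl⟩ := QuotientGroup.mk'_surjective (R.subgroupOf K) g
    have hk' : k ∈ ((Subgroup.zpowers a : Subgroup G) : Set G) * ((Subgroup.zpowers x : Subgroup G) : Set G) := by
      rw [← Subgroup.coe_mul_of_right_le_normalizer_left _ _ hXN]
      exact hk
    obtain ⟨z, ⟨i, rfl⟩, t, ⟨j, rfl⟩, hzt⟩ := hk'
    have hzt' : a ^ i * x ^ j = k := hzt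
    subst hzt'
    rcases Int.even_or_odd' j with ⟨m, rfl | rfl⟩
    · left
      refine ⟨i, ?_⟩
      show (q a') ^ i = q ⟨a ^ i * x ^ (2 * m), hk⟩
      rw [← map_zpow]
      apply hq
      have : ((a' ^ i : ↥K) : G)⁻¹ * (a ^ i * x ^ (2 * m)) = (x * x) ^ m := by
        show (a ^ i)⁻¹ * (a ^ i * x ^ (2 * m)) = (x * x) ^ m
        rw [inv_mul_cancel_left, zpow_mul, zpow_two]
      rw [this]
      exact Subgroup.zpow_mem_zpowers _ m
    · right
      refine ⟨-i, ?_⟩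
      show (q a') ^ (-i) = q x' * q ⟨a ^ i * x ^ (2 * m + 1), hk⟩
      rw [← map_zpow, ← map_mul]
      apply hq
      have : ((a' ^ (-i) : ↥K) : G)⁻¹ * ((x' * ⟨a ^ i * x ^ (2 * m + 1), hk⟩ : ↥K) : G)
          = (x * x) ^ (m + 1) := by
        show (a ^ (-i))⁻¹ * (x * (a ^ i * x ^ (2 * m + 1))) = (x * x) ^ (m + 1)
        have e1 : x ^ (2 * m + 1) = (x * x) ^ m * x := by
          rw [zpow_add, zpow_one, zpow_mul, zpow_two]
        have e2 : (x * x) ^ (m + 1) = (x * x) ^ m * (x * x) := by rw [zpow_add, zpow_one]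
        have hc : x * (x * x) ^ m = (x * x) ^ m * x :=
          (((Commute.refl x).mul_right (Commute.refl x)).zpow_right m).eq
        rw [e1, e2, ← mul_assoc x, hxai i, mul_assoc (a ^ (-i)), inv_mul_cancel_left,
          ← mul_assoc x, hc, mul_assoc]
      rw [this]
      exact Subgroup.zpow_mem_zpowers _ (m + 1)
  exact Cfsg.Agent.Helper45.nonempty_mulEquiv_dihedral p (q a') (q x') hn hx2 hrel hxa hgen

/-- (C) ⇒ (A). -/
theorem involves_dihedral_of_inverts {G : Type*} [Group G] [Finite G] {p : ℕ} [Fact p.Prime]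
    (hp : p ≠ 2) {x y : G} (hx : ∃ k : ℕ, orderOf x = 2 ^ k) (hy : ∃ k : ℕ, orderOf y = p ^ k)
    (hy1 : y ≠ 1) (hinv : x * y * x⁻¹ = y⁻¹) : Involves (DihedralGroup p) G := by
  obtain ⟨k, hk⟩ := hy
  have hk0 : k ≠ 0 := by
    rintro rfl
    rw [pow_zero] at hk
    exact hy1 (orderOf_eq_one_iff.1 hk)
  have hdvd : p ∣ Nat.card (Subgroup.zpowers y) := by
    rw [Nat.card_zpowers, hk]; exact dvd_pow_self p hk0
  obtain ⟨a', ha'⟩ := exists_prime_orderOf_dvd_card' p hdvd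
  obtain ⟨m, hm⟩ := Subgroup.mem_zpowers_iff.1 a'.2
  have hao : orderOf (a' : G) = p := by rw [Subgroup.orderOf_coe]; exact ha'
  have hainv : x * (a' : G) * x⁻¹ = (a' : G)⁻¹ := by
    rw [← hm, ← conj_zpow, hinv, inv_zpow]
  exact involves_dihedral_of_inverts_prime hp hx hao hainv

end DihedralInvolved

end Cfsg.Agent.Helper46
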