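import Cfsg.Agent.Helper40.E6Tor.Defs2

/-!
# helper40 S2373 farm (#14814), leaf (WCHK): soundness of the enumeration `chk`.
-/

set_option autoImplicit false
set_option linter.unusedVariables false

namespace Cfsg.Agent.Helper46.E6Tor

open Cfsg Cfsg.Lie Cfsg.Agent.Helper18 Cfsg.Agent.Helper19.Cox Cfsg.Agent.Helper19.Poinc
  Cfsg.Agent.Helper80.Tor Cfsg.Agent.Helper36.TorD Cfsg.Agent.Helper83.E6C Cfsg.Agent.Helper40.E6Tor
open Polynomial

/-- (WCHK) soundness of the enumeration -/
theorem chk_sound (b1 b2 b3 b4 b5 b6 : List ℤ) (h : chk b1 = true)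
    (h2 : b2 ∈ roots6) (h3 : b3 ∈ roots6) (h4 : b4 ∈ roots6) (h5 : b5 ∈ roots6) (h6 : b6 ∈ roots6)
    (hg : gramOK [b1, b2, b3, b4, b5, b6] = true) (hm : mod3OK [b1, b2, b3, b4, b5, b6] = true) :
    leafOK [b1, b2, b3, b4, b5, b6] = true := by
  have G : ∀ i j, i < 6 → j < 6 →
      ip ([b1, b2, b3, b4, b5, b6].getD i []) ([b1, b2, b3, b4, b5, b6].getD j []) =
        (A6.getD i []).getD j 0 := by
    intro i j hi hj
    unfold gramOK at hg
    rw [List.all_eq_true] at hg
    have h1 := hg i (List.mem_range.2 hi)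
    rw [List.all_eq_true] at h1
    have h2 := h1 j (List.mem_range.2 hj)
    exact eq_of_beq h2
  have g13 : dot (Ar b1) b3 = -1 := G 0 2 (by norm_num) (by norm_num)
  have g34 : dot (Ar b3) b4 = -1 := G 2 3 (by norm_num) (by norm_num)
  have g14 : dot (Ar b1) b4 = 0 := G 0 3 (by norm_num) (by norm_num)
  have g42 : dot (Ar b4) b2 = -1 := G 3 1 (by norm_num) (by norm_num)
  have g12 : dot (Ar b1) b2 = 0 := G 0 1 (by norm_num) (by norm_num)
  have g32 : dot (Ar b3) b2 = 0 := G 2 1 (by norm_num) (by norm_num)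
  have g45 : dot (Ar b4) b5 = -1 := G 3 4 (by norm_num) (by norm_num)
  have g15 : dot (Ar b1) b5 = 0 := G 0 4 (by norm_num) (by norm_num)
  have g35 : dot (Ar b3) b5 = 0 := G 2 4 (by norm_num) (by norm_num)
  have g25 : dot (Ar b2) b5 = 0 := G 1 4 (by norm_num) (by norm_num)
  have g56 : dot (Ar b5) b6 = -1 := G 4 5 (by norm_num) (by norm_num)
  have g16 : dot (Ar b1) b6 = 0 := G 0 5 (by norm_num) (by norm_num)
  have g36 : dot (Ar b3) b6 = 0 := G 2 5 (by norm_num) (by norm_num)
  have g26 : dot (Ar b2) b6 = 0 := G 1 5 (by norm_num) (by norm_num)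
  have g46 : dot (Ar b4) b6 = 0 := G 3 5 (by norm_num) (by norm_num)
  have n1 : ((-1 : ℤ) != -1) = false := by decide
  have n0 : ((0 : ℤ) != 0) = false := by decide
  unfold chk at h
  simp only [List.all_eq_true] at h
  have s3 := h b3 h3
  simp only [g13, n1, Bool.false_eq_true, if_false, List.all_eq_true] at s3
  have s4 := s3 b4 h4
  simp only [g34, g14, n1, n0, Bool.or_self, Bool.false_eq_true, if_false, List.all_eq_true] at s4
  have s2 := s4 b2 h2
  simp only [g42, g12, g32, n1, n0, Bool.or_self, Bool.false_eq_true, if_false,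
    List.all_eq_true] at s2
  have s5 := s2 b5 h5
  simp only [g45, g15, g35, g25, n1, n0, Bool.or_self, Bool.false_eq_true, if_false,
    List.all_eq_true] at s5
  have s6 := s5 b6 h6
  simp only [g56, g16, g36, g26, g46, n1, n0, Bool.or_self, Bool.false_eq_true, if_false] at s6
  rw [hm] at s6
  simpa using s6

end Cfsg.Agent.Helper46.E6Tor
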