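import Cfsg.Agent.Helper40.E6Tor.Defs2

/-!
# helper40 S2373 farm (#14814), leaf (WROWS): the rows of an element of `W(E₆)` are roots, with the
Gram matrix of `E₆`, and the element acts trivially on `P/Q`.
-/

set_option autoImplicit false
set_option linter.unusedVariables false

namespace Cfsg.Agent.Helper46.E6Tor

open Cfsg Cfsg.Lie Cfsg.Agent.Helper18 Cfsg.Agent.Helper19.Cox Cfsg.Agent.Helper19.Poinc
  Cfsg.Agent.Helper80.Tor Cfsg.Agent.Helper36.TorD Cfsg.Agent.Helper83.E6C Cfsg.Agent.Helper40.E6Tor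
open Polynomial

/-! ### tables, explicitly -/

theorem WROWS_ofMat (M : Matrix (Fin 6) (Fin 6) ℤ) :
    ofMat M = [[M 0 0, M 0 1, M 0 2, M 0 3, M 0 4, M 0 5], [M 1 0, M 1 1, M 1 2, M 1 3, M 1 4, M 1 5],
      [M 2 0, M 2 1, M 2 2, M 2 3, M 2 4, M 2 5], [M 3 0, M 3 1, M 3 2, M 3 3, M 3 4, M 3 5],
      [M 4 0, M 4 1, M 4 2, M 4 3, M 4 4, M 4 5], [M 5 0, M 5 1, M 5 2, M 5 3, M 5 4, M 5 5]] := by
  rfl

theorem WROWS_row (M : Matrix (Fin 6) (Fin 6) ℤ) (i : Fin 6) :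
    (ofMat M).getD i.val [] = [M i 0, M i 1, M i 2, M i 3, M i 4, M i 5] := by
  rw [WROWS_ofMat]
  fin_cases i <;> rfl

theorem WROWS_step (x a0 a1 a2 a3 a4 a5 r0 r1 r2 r3 r4 r5 : ℤ) :
    (if x = 0 then [a0, a1, a2, a3, a4, a5]
      else axpy x [r0, r1, r2, r3, r4, r5] [a0, a1, a2, a3, a4, a5]) =
      [a0 + x * r0, a1 + x * r1, a2 + x * r2, a3 + x * r3, a4 + x * r4, a5 + x * r5] := by
  by_cases hx : x = 0
  · simp [hx]
  · simp [hx, axpy]

theorem WROWS_vecM (v0 v1 v2 v3 v4 v5 : ℤ) (N : Matrix (Fin 6) (Fin 6) ℤ) :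
    vecM [v0, v1, v2, v3, v4, v5] (ofMat N) =
      [v0 * N 0 0 + v1 * N 1 0 + v2 * N 2 0 + v3 * N 3 0 + v4 * N 4 0 + v5 * N 5 0,
       v0 * N 0 1 + v1 * N 1 1 + v2 * N 2 1 + v3 * N 3 1 + v4 * N 4 1 + v5 * N 5 1,
       v0 * N 0 2 + v1 * N 1 2 + v2 * N 2 2 + v3 * N 3 2 + v4 * N 4 2 + v5 * N 5 2,
       v0 * N 0 3 + v1 * N 1 3 + v2 * N 2 3 + v3 * N 3 3 + v4 * N 4 3 + v5 * N 5 3,
       v0 * N 0 4 + v1 * N 1 4 + v2 * N 2 4 + v3 * N 3 4 + v4 * N 4 4 + v5 * N 5 4,
       v0 * N 0 5 + v1 * N 1 5 + v2 * N 2 5 + v3 * N 3 5 + v4 * N 4 5 + v5 * N 5 5] := by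
  rw [WROWS_ofMat]
  unfold vecM zero6
  simp only [List.zip_cons_cons, List.zip_nil_right, List.foldl_cons, List.foldl_nil, WROWS_step]
  simp only [zero_add]

theorem WROWS_dot (x0 x1 x2 x3 x4 x5 y0 y1 y2 y3 y4 y5 : ℤ) :
    dot [x0, x1, x2, x3, x4, x5] [y0, y1, y2, y3, y4, y5] =
      x0 * y0 + x1 * y1 + x2 * y2 + x3 * y3 + x4 * y4 + x5 * y5 := by
  simp only [dot]
  ring

/-- the Cartan matrix, as a matrix -/
def WROWS_A : Matrix (Fin 6) (Fin 6) ℤ := toMat A6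

theorem WROWS_A6 : A6 = ofMat WROWS_A := by decide

/-- `3 ω₁`, as a function -/
def WROWS_w : Fin 6 → ℤ := ![4, 3, 5, 6, 4, 2]

/-- the row of a matrix, as a list -/
def WROWS_rowL (M : Matrix (Fin 6) (Fin 6) ℤ) (i : Fin 6) : List ℤ :=
  [M i 0, M i 1, M i 2, M i 3, M i 4, M i 5]

theorem WROWS_ip (M : Matrix (Fin 6) (Fin 6) ℤ) (i j : Fin 6) :
    ip ((ofMat M).getD i.val []) ((ofMat M).getD j.val []) = (M * WROWS_A * M.transpose) i j := by
  rw [WROWS_row, WROWS_row]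
  unfold ip Ar
  rw [WROWS_A6, WROWS_vecM, WROWS_dot]
  simp only [Matrix.mul_apply, Matrix.transpose_apply, Fin.sum_univ_six]

/-! ### the reflections -/

/-- the reflection matrices of `E₆` -/
def WROWS_R (i : ℕ) : Matrix (Fin 6) (Fin 6) ℤ := refM chevE6 i

theorem WROWS_R_of_le (i : ℕ) (hi : 6 ≤ i) : WROWS_R i = 1 := by
  ext j k
  have hk : ¬ k.val = i := by
    have := k.isLt
    omega
  show (if j = k then (1 : ℤ) else 0) -
    (if k.val = i then chevE6.cartan j.val (chevE6.simple i) else 0) =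
      (1 : Matrix (Fin 6) (Fin 6) ℤ) j k
  rw [if_neg hk, sub_zero, Matrix.one_apply]

set_option maxRecDepth 100000 in
theorem WROWS_F1 : ∀ i : Fin 6, ∀ b ∈ roots6, vecM b (ofMat (WROWS_R i.val)) ∈ roots6 := by
  decide +kernel

set_option maxRecDepth 100000 in
theorem WROWS_F2 : ∀ i : Fin 6, WROWS_R i.val * WROWS_A * (WROWS_R i.val).transpose = WROWS_A := by
  decide +kernel

set_option maxRecDepth 100000 in
theorem WROWS_F3 : ∀ i j : Fin 6, (3 : ℤ) ∣ Matrix.vecMul WROWS_w (WROWS_R i.val) j - WROWS_w j := by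
  decide +kernel

set_option maxRecDepth 100000 in
theorem WROWS_roots_len : ∀ b ∈ roots6, b.length = 6 := by
  decide +kernel

/-! ### the invariant -/

/-- rows are roots, the Gram matrix is the Cartan matrix, trivial action on `P/Q` -/
def WROWS_Good (M : Matrix (Fin 6) (Fin 6) ℤ) : Prop :=
  (∀ i : Fin 6, WROWS_rowL M i ∈ roots6) ∧ M * WROWS_A * M.transpose = WROWS_A ∧
    ∀ j : Fin 6, (3 : ℤ) ∣ Matrix.vecMul WROWS_w M j - WROWS_w j

theorem WROWS_good_one : WROWS_Good 1 := by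
  refine ⟨?_, ?_, ?_⟩
  · decide +kernel
  · rw [Matrix.one_mul, Matrix.transpose_one, Matrix.mul_one]
  · intro j
    rw [Matrix.vecMul_one, sub_self]
    exact dvd_zero _

theorem WROWS_rowL_mul (M N : Matrix (Fin 6) (Fin 6) ℤ) (i : Fin 6) :
    WROWS_rowL (M * N) i = vecM (WROWS_rowL M i) (ofMat N) := by
  unfold WROWS_rowL
  rw [WROWS_vecM]
  simp only [Matrix.mul_apply, Fin.sum_univ_six]

theorem WROWS_good_mul (M : Matrix (Fin 6) (Fin 6) ℤ) (hM : WROWS_Good M) (i : Fin 6) :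
    WROWS_Good (M * WROWS_R i.val) := by
  obtain ⟨h1, h2, h3⟩ := hM
  refine ⟨?_, ?_, ?_⟩
  · intro j
    rw [WROWS_rowL_mul]
    exact WROWS_F1 i _ (h1 j)
  · rw [Matrix.transpose_mul]
    calc M * WROWS_R i.val * WROWS_A * ((WROWS_R i.val).transpose * M.transpose)
        = M * (WROWS_R i.val * WROWS_A * (WROWS_R i.val).transpose) * M.transpose := by
          simp only [Matrix.mul_assoc]
      _ = WROWS_A := by rw [WROWS_F2 i, h2]
  · intro j
    have e : Matrix.vecMul WROWS_w (M * WROWS_R i.val) j - WROWS_w j =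
        Matrix.vecMul (Matrix.vecMul WROWS_w M - WROWS_w) (WROWS_R i.val) j +
          (Matrix.vecMul WROWS_w (WROWS_R i.val) j - WROWS_w j) := by
      rw [← Matrix.vecMul_vecMul, Matrix.sub_vecMul, Pi.sub_apply]
      ring
    rw [e]
    refine dvd_add ?_ (WROWS_F3 i j)
    unfold Matrix.vecMul dotProduct
    refine Finset.dvd_sum (fun l _ => ?_)
    exact Dvd.dvd.mul_right (h3 l) _

/-- `wordM chevE6 w`, as a `6 × 6` matrix -/
def WROWS_W (w : List ℕ) : Matrix (Fin 6) (Fin 6) ℤ := wordM chevE6 w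

theorem WROWS_W_nil : WROWS_W [] = 1 := rfl

theorem WROWS_W_append (w : List ℕ) (i : ℕ) : WROWS_W (w ++ [i]) = WROWS_W w * WROWS_R i := by
  unfold WROWS_W WROWS_R wordM
  rw [List.map_append, List.prod_append, List.map_singleton, List.prod_singleton]
  rfl

theorem WROWS_good_wordM (w : List ℕ) : WROWS_Good (WROWS_W w) := by
  induction w using List.reverseRecOn with
  | nil => rw [WROWS_W_nil]; exact WROWS_good_one
  | append_singleton w i ih =>
    rw [WROWS_W_append]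
    by_cases hi : i < 6
    · exact WROWS_good_mul _ ih ⟨i, hi⟩
    · rw [WROWS_R_of_le i (by omega), Matrix.mul_one]
      exact ih

/-! ### back to tables -/

theorem WROWS_of_good (M : Matrix (Fin 6) (Fin 6) ℤ) (hM : WROWS_Good M) :
    (∀ r ∈ ofMat M, r ∈ roots6) ∧ gramOK (ofMat M) = true ∧ mod3OK (ofMat M) = true := by
  obtain ⟨h1, h2, h3⟩ := hM
  refine ⟨?_, ?_, ?_⟩
  · intro r hr
    rw [WROWS_ofMat] at hr
    simp only [List.mem_cons, List.not_mem_nil, or_false] at hr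
    rcases hr with rfl | rfl | rfl | rfl | rfl | rfl
    · exact h1 0
    · exact h1 1
    · exact h1 2
    · exact h1 3
    · exact h1 4
    · exact h1 5
  · unfold gramOK
    rw [List.all_eq_true]
    intro i hi
    rw [List.all_eq_true]
    intro j hj
    rw [beq_iff_eq]
    have hi' : i < 6 := List.mem_range.1 hi
    have hj' : j < 6 := List.mem_range.1 hj
    have := WROWS_ip M ⟨i, hi'⟩ ⟨j, hj'⟩
    rw [h2] at this
    exact this
  · have k0 := h3 0
    have k1 := h3 1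
    have k2 := h3 2
    have k3 := h3 3
    have k4 := h3 4
    have k5 := h3 5
    simp only [Matrix.vecMul, dotProduct, Fin.sum_univ_six, WROWS_w, Matrix.cons_val_zero,
      Matrix.cons_val_one, Matrix.cons_val] at k0 k1 k2 k3 k4 k5
    unfold mod3OK wv
    rw [WROWS_vecM]
    simp only [List.zipWith_cons_cons, List.zipWith_nil_right, List.all_cons, List.all_nil,
      Bool.and_true, id, Bool.and_eq_true, beq_iff_eq]
    refine ⟨Int.emod_eq_zero_of_dvd k0, Int.emod_eq_zero_of_dvd k1, Int.emod_eq_zero_of_dvd k2,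
      Int.emod_eq_zero_of_dvd k3, Int.emod_eq_zero_of_dvd k4, Int.emod_eq_zero_of_dvd k5⟩

/-- (WROWS) the rows of an element of `W(E₆)` are roots, with the Gram matrix of `E₆`, and the
element acts trivially on `P/Q` -/
theorem rows_wordM (w : List ℕ) :
    (∀ r ∈ ofMat (wordM chevE6 w), r ∈ roots6) ∧ gramOK (ofMat (wordM chevE6 w)) = true ∧
      mod3OK (ofMat (wordM chevE6 w)) = true :=
  WROWS_of_good (WROWS_W w) (WROWS_good_wordM w)

end Cfsg.Agent.Helper46.E6Tor
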