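import Mathlib
import Cfsg.Prelude.Def_LocalEven
import Cfsg.Prelude.Def_TwoFusion
import Cfsg.Agent.Helper46.NatSL2

/-!
# More on natural `SL₂(F)`-modules: torus action, fixed points of `p'`-elements
-/

set_option autoImplicit false

namespace Cfsg.Agent.Helper46

open Matrix Cfsg.Agent.Helper37.SL2

section SL2facts

variable {F : Type*} [Field F]

/-- The diagonal element `diag(c, c⁻¹)`. -/
noncomputable def dd (c : F) (hc : c ≠ 0) : SpecialLinearGroup (Fin 2) F :=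
  ⟨!![c, 0; 0, c⁻¹], by rw [Matrix.det_fin_two_of]; field_simp; ring⟩

theorem dd_val (c : F) (hc : c ≠ 0) : (dd c hc).1 = !![c, 0; 0, c⁻¹] := rfl

/-- An element of `SL₂(F)` (`char F = p`) fixing a nonzero vector has order dividing `p`. -/
theorem sl2_pow_char_eq_one {p : ℕ} [Fact p.Prime] [CharP F p] (A : SpecialLinearGroup (Fin 2) F)
    (w : Fin 2 → F) (hw : w ≠ 0) (hAw : A.1.mulVec w = w) : A ^ p = 1 := by
  have hdet := det_eq_one' A
  have h0 : (A.1 - 1).det = 0 := by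
    rw [← Matrix.exists_mulVec_eq_zero_iff]
    refine ⟨w, hw, ?_⟩
    rw [Matrix.sub_mulVec, hAw, Matrix.one_mulVec, sub_self]
  rw [Matrix.det_fin_two] at h0
  simp only [Matrix.sub_apply, Matrix.one_apply_eq, Matrix.one_apply_ne (zero_ne_one : (0 : Fin 2) ≠ 1),
    Matrix.one_apply_ne (one_ne_zero : (1 : Fin 2) ≠ 0), sub_zero] at h0
  have htr : A.1 0 0 + A.1 1 1 = 2 := by linear_combination hdet - h0
  have hN : (A.1 - 1) * (A.1 - 1) = 0 := by
    ext i j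
    fin_cases i <;> fin_cases j <;>
      simp [Matrix.mul_apply, Fin.sum_univ_two] <;>
      first
        | linear_combination (A.1 0 0) * htr - hdet
        | linear_combination (A.1 0 1) * htr
        | linear_combination (A.1 1 0) * htr
        | linear_combination (A.1 1 1) * htr - hdet
  have hp2 : 2 ≤ p := (Fact.out : p.Prime).two_le
  have hNp : (A.1 - 1) ^ p = 0 := by
    obtain ⟨k, rfl⟩ : ∃ k, p = 2 + k := ⟨p - 2, by omega⟩
    rw [pow_add, pow_two, hN, zero_mul]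
  have hA : A.1 = 1 + (A.1 - 1) := by abel
  have h1 : ((A ^ p : SpecialLinearGroup (Fin 2) F) : Matrix (Fin 2) (Fin 2) F) = A.1 ^ p :=
    Matrix.SpecialLinearGroup.coe_pow A p
  have h2 : A.1 ^ p = 1 := by
    rw [hA, add_pow_char_of_commute _ (Commute.one_left _), one_pow, hNp, add_zero]
  exact Subtype.ext (h1.trans h2)

end SL2facts

section NatSL2More

variable {G : Type*} [Group G] {F : Type*} [Field F] {V L T : Subgroup G}
  {ρ : ↥L →* SpecialLinearGroup (Fin 2) F} {ψ : Additive ↥V ≃+ (Fin 2 → F)}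

/-- Elements of `L` mapping to upper triangular matrices normalise `T`. -/
theorem NatT.mem_normalizer (hT : NatT ρ T) {l : ↥L} (hc : (ρ l).1 1 0 = 0) :
    (l : G) ∈ Subgroup.normalizer (T : Set G) := by
  have hN := Subgroup.mem_normalizer_iff.1 (mem_normalizer_U0 hc)
  rw [Subgroup.mem_normalizer_iff]
  intro h
  constructor
  · intro hh
    obtain ⟨hl, hk⟩ := (hT h).1 hh
    refine (hT _).2 ⟨L.mul_mem (L.mul_mem l.2 hl) (L.inv_mem l.2), ?_⟩
    have h1 : (⟨(l : G) * h * (l : G)⁻¹, L.mul_mem (L.mul_mem l.2 hl) (L.inv_mem l.2)⟩ : ↥L) =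
        l * ⟨h, hl⟩ * l⁻¹ := rfl
    rw [h1, map_mul, map_mul, map_inv]
    exact (hN _).1 hk
  · intro hh
    obtain ⟨hl, hk⟩ := (hT _).1 hh
    have hhl : h ∈ L := by
      have h2 : h = (l : G)⁻¹ * ((l : G) * h * (l : G)⁻¹) * (l : G) := by group
      rw [h2]
      exact L.mul_mem (L.mul_mem (L.inv_mem l.2) hl) l.2
    refine (hT _).2 ⟨hhl, ?_⟩
    have h1 : (⟨(l : G) * h * (l : G)⁻¹, hl⟩ : ↥L) = l * ⟨h, hhl⟩ * l⁻¹ := rfl
    rw [h1, map_mul, map_mul, map_inv] at hk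
    exact (hN _).2 hk

/-- The torus element and its action on coordinates. -/
theorem NatT.exists_torus (hT : NatT ρ T) (hact : NatAct ρ ψ) (hsurj : Function.Surjective ρ)
    (c : F) (hc : c ≠ 0) :
    ∃ h : ↥L, (h : G) ∈ L ⊓ Subgroup.normalizer (T : Set G) ∧
      ∀ v : ↥V, nco ψ ⟨(h : G) * (v : G) * (h : G)⁻¹, hact.conj_mem h v⟩ =
        ![c * nco ψ v 0, c⁻¹ * nco ψ v 1] := by
  obtain ⟨h, hh⟩ := hsurj (dd c hc)
  refine ⟨h, Subgroup.mem_inf.2 ⟨h.2, hT.mem_normalizer ?_⟩, ?_⟩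
  · rw [hh, dd_val]; simp
  · intro v
    rw [hact.nco_conj, hh, dd_val]
    ext i
    fin_cases i <;> simp [Matrix.mulVec, dotProduct, Fin.sum_univ_two]

theorem mem_centralizer_map_conj (T : Subgroup G) (g v : G) :
    v ∈ Subgroup.centralizer ((T.map (MulAut.conj g).toMonoidHom : Subgroup G) : Set G) ↔
      g⁻¹ * v * g ∈ Subgroup.centralizer (T : Set G) := by
  rw [Subgroup.mem_centralizer_iff, Subgroup.mem_centralizer_iff]
  constructor
  · intro h t ht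
    have h1 := h (g * t * g⁻¹) ⟨t, ht, rfl⟩
    have h2 : t * (g⁻¹ * v * g) = g⁻¹ * (g * t * g⁻¹ * v) * g := by group
    rw [h2, h1]; group
  · rintro h _ ⟨t, ht, rfl⟩
    have h1 := h t ht
    show g * t * g⁻¹ * v = v * (g * t * g⁻¹)
    have h2 : g * t * g⁻¹ * v = g * (t * (g⁻¹ * v * g)) * g⁻¹ := by group
    rw [h2, h1]; group

/-- `C_V(T^l)` in coordinates. -/
theorem NatT.mem_centralizer_conj_iff (hT : NatT ρ T) (hact : NatAct ρ ψ)
    (hsurj : Function.Surjective ρ) (l : ↥L) (v : ↥V) :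
    (v : G) ∈ Subgroup.centralizer ((T.map (MulAut.conj (l : G)).toMonoidHom : Subgroup G) : Set G) ↔
      (ρ l).1 0 0 * nco ψ v 1 = (ρ l).1 1 0 * nco ψ v 0 := by
  rw [mem_centralizer_map_conj]
  have hmem : (l : G)⁻¹ * (v : G) * (l : G) ∈ V := by
    have := hact.conj_mem l⁻¹ v
    simpa using this
  have h1 : nco ψ ⟨(l : G)⁻¹ * (v : G) * (l : G), hmem⟩ =
      ((ρ l⁻¹ : SpecialLinearGroup (Fin 2) F) : Matrix (Fin 2) (Fin 2) F).mulVec (nco ψ v) := by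
    rw [← hact.nco_conj]
    congr 1
    apply Subtype.ext
    simp
  have h2 := hT.mem_centralizer_iff hact hsurj ⟨(l : G)⁻¹ * (v : G) * (l : G), hmem⟩
  rw [show ((⟨(l : G)⁻¹ * (v : G) * (l : G), hmem⟩ : ↥V) : G) = (l : G)⁻¹ * (v : G) * (l : G) from rfl]
    at h2
  rw [h2, h1, map_inv, SpecialLinearGroup.SL2_inv_expl]
  simp only [Matrix.mulVec, dotProduct, Fin.sum_univ_two]
  simp
  constructor
  · intro h; linear_combination h
  · intro h; linear_combination h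

/-- (a) `V = C_V(T) × C_V(T^g)` for `g ∈ L` not normalising `T`. -/
theorem NatT.internal_direct (hT : NatT ρ T) (hact : NatAct ρ ψ) (hsurj : Function.Surjective ρ)
    {g : G} (hg : g ∈ L) (hgN : g ∉ Subgroup.normalizer (T : Set G)) :
    Cfsg.IsInternalDirectProduct (V ⊓ Subgroup.centralizer (T : Set G))
      (V ⊓ Subgroup.centralizer ((T.map (MulAut.conj g).toMonoidHom : Subgroup G) : Set G)) V := by
  have hc : (ρ ⟨g, hg⟩).1 1 0 ≠ 0 := fun h => hgN (hT.mem_normalizer (l := ⟨g, hg⟩) h)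
  have hconj := hT.mem_centralizer_conj_iff hact hsurj ⟨g, hg⟩
  refine ⟨inf_le_left, inf_le_left, ?_, ?_, ?_⟩
  · intro a ha b hb
    have := natV_comm ψ ⟨a, (Subgroup.mem_inf.1 ha).1⟩ ⟨b, (Subgroup.mem_inf.1 hb).1⟩
    exact congrArg Subtype.val this
  · rw [eq_bot_iff]
    intro v hv
    rw [Subgroup.mem_inf] at hv
    obtain ⟨hvV, hv1⟩ := (hT.mem_inf_iff hact hsurj v).1 hv.1
    have hv2 := (hconj ⟨v, hvV⟩).1 (Subgroup.mem_inf.1 hv.2).2
    rw [hv1, mul_zero] at hv2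
    have hx : nco ψ ⟨v, hvV⟩ 0 = 0 := by
      rcases mul_eq_zero.1 hv2.symm with h | h
      · exact absurd h hc
      · exact h
    have h0 : nco ψ ⟨v, hvV⟩ = 0 := by
      ext i
      fin_cases i
      · exact hx
      · exact hv1
    have := (nco_eq_zero_iff ψ _).1 h0
    rw [Subgroup.mem_bot]
    exact congrArg Subtype.val this
  · apply le_antisymm (sup_le inf_le_left inf_le_left)
    intro v hv
    obtain ⟨v₂, hv₂⟩ := nco_surjective ψ
      ![(ρ ⟨g, hg⟩).1 0 0 * nco ψ ⟨v, hv⟩ 1 / (ρ ⟨g, hg⟩).1 1 0, nco ψ ⟨v, hv⟩ 1]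
    obtain ⟨v₁, hv₁⟩ := nco_surjective ψ
      ![nco ψ ⟨v, hv⟩ 0 - (ρ ⟨g, hg⟩).1 0 0 * nco ψ ⟨v, hv⟩ 1 / (ρ ⟨g, hg⟩).1 1 0, 0]
    have h1 : (v₁ : G) ∈ V ⊓ Subgroup.centralizer (T : Set G) := by
      rw [hT.mem_inf_iff hact hsurj]
      refine ⟨v₁.2, ?_⟩
      show nco ψ v₁ 1 = 0
      rw [hv₁]; simp
    have h2 : (v₂ : G) ∈ V ⊓
        Subgroup.centralizer ((T.map (MulAut.conj g).toMonoidHom : Subgroup G) : Set G) := by
      rw [Subgroup.mem_inf]
      refine ⟨v₂.2, (hconj v₂).2 ?_⟩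
      rw [hv₂]
      simp
      field_simp
    have h3 : (⟨v, hv⟩ : ↥V) = v₁ * v₂ := by
      apply nco_injective ψ
      rw [nco_mul, hv₁, hv₂]
      ext i
      fin_cases i <;> simp
    have h4 : v = (v₁ : G) * (v₂ : G) := congrArg Subtype.val h3
    rw [h4]
    exact Subgroup.mul_mem_sup h1 h2

/-- (b) `p'`-elements of `L` act fixed-point-freely on `V`. -/
theorem NatAct.inf_centralizer_eq_bot {p : ℕ} [Fact p.Prime] [CharP F p] (hact : NatAct ρ ψ)
    (hinj : Function.Injective ρ) {x : G} (hx : x ∈ L) (hx1 : x ≠ 1)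
    (hcop : (orderOf x).Coprime p) :
    V ⊓ Subgroup.centralizer ({x} : Set G) = ⊥ := by
  rw [eq_bot_iff]
  intro v hv
  rw [Subgroup.mem_inf] at hv
  rw [Subgroup.mem_bot]
  by_contra hv1
  have hw : nco ψ ⟨v, hv.1⟩ ≠ 0 := by
    intro h
    apply hv1
    exact congrArg Subtype.val ((nco_eq_zero_iff ψ _).1 h)
  have hcomm : ((⟨x, hx⟩ : ↥L) : G) * ((⟨v, hv.1⟩ : ↥V) : G) =
      ((⟨v, hv.1⟩ : ↥V) : G) * ((⟨x, hx⟩ : ↥L) : G) :=
    (Subgroup.mem_centralizer_iff.1 hv.2) x rfl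
  have hfix := (hact.commute_iff ⟨x, hx⟩ ⟨v, hv.1⟩).1 hcomm
  have hpow := sl2_pow_char_eq_one (p := p) (ρ ⟨x, hx⟩) _ hw hfix
  have hxp : (⟨x, hx⟩ : ↥L) ^ p = 1 := hinj (by rw [map_pow, hpow, map_one])
  have hxp' : x ^ p = 1 := congrArg Subtype.val hxp
  have hdvd : orderOf x ∣ p := orderOf_dvd_of_pow_eq_one hxp'
  have h1 : orderOf x = 1 := Nat.Coprime.eq_one_of_dvd hcop hdvd
  exact hx1 (orderOf_eq_one_iff.1 h1)

/-- (c) `C_V(T)` is irreducible under `N_L(T)`. -/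
theorem NatT.irreducible_sub (hT : NatT ρ T) (hact : NatAct ρ ψ) (hsurj : Function.Surjective ρ)
    {U : Subgroup G} (hU : U ≤ V ⊓ Subgroup.centralizer (T : Set G))
    (hN : L ⊓ Subgroup.normalizer (T : Set G) ≤ Subgroup.normalizer (U : Set G)) :
    U = ⊥ ∨ U = V ⊓ Subgroup.centralizer (T : Set G) := by
  by_cases hU1 : U = ⊥
  · exact Or.inl hU1
  right
  apply le_antisymm hU
  intro w hw
  obtain ⟨⟨u, huU⟩, hu1⟩ := (Subgroup.ne_bot_iff_exists_ne_one).1 hU1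
  have hu1' : u ≠ 1 := fun h => hu1 (Subtype.ext h)
  obtain ⟨huV, huy⟩ := (hT.mem_inf_iff hact hsurj u).1 (hU huU)
  obtain ⟨hwV, hwy⟩ := (hT.mem_inf_iff hact hsurj w).1 hw
  have hx0 : nco ψ ⟨u, huV⟩ 0 ≠ 0 := by
    intro h
    apply hu1'
    have h0 : nco ψ ⟨u, huV⟩ = 0 := by
      ext i
      fin_cases i
      · exact h
      · exact huy
    exact congrArg Subtype.val ((nco_eq_zero_iff ψ _).1 h0)
  by_cases hc : nco ψ ⟨w, hwV⟩ 0 = 0
  · have h0 : nco ψ ⟨w, hwV⟩ = 0 := by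
      ext i
      fin_cases i
      · exact hc
      · exact hwy
    have : w = 1 := congrArg Subtype.val ((nco_eq_zero_iff ψ _).1 h0)
    rw [this]; exact U.one_mem
  · obtain ⟨h, hhN, hh⟩ := hT.exists_torus hact hsurj
      (nco ψ ⟨w, hwV⟩ 0 / nco ψ ⟨u, huV⟩ 0) (div_ne_zero hc hx0)
    have hmem : (h : G) * u * (h : G)⁻¹ ∈ U := (Subgroup.mem_normalizer_iff.1 (hN hhN) u).1 huU
    have h2 : nco ψ ⟨w, hwV⟩ = nco ψ ⟨(h : G) * u * (h : G)⁻¹, hact.conj_mem h ⟨u, huV⟩⟩ := by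
      rw [hh ⟨u, huV⟩, huy]
      conv_lhs => rw [nco_eq_of_snd_zero hwy]
      congr 1
      · field_simp
      · simp
    have h3 : w = (h : G) * u * (h : G)⁻¹ :=
      congrArg (fun z : ↥V => (z : G)) (nco_injective ψ h2)
    rw [h3]; exact hmem

/-- (d) `V / C_V(T)` is irreducible under `N_L(T)`. -/
theorem NatT.irreducible_quot (hT : NatT ρ T) (hact : NatAct ρ ψ) (hsurj : Function.Surjective ρ)
    {U : Subgroup G} (h1 : V ⊓ Subgroup.centralizer (T : Set G) ≤ U) (h2 : U ≤ V)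
    (hN : L ⊓ Subgroup.normalizer (T : Set G) ≤ Subgroup.normalizer (U : Set G)) :
    U = V ⊓ Subgroup.centralizer (T : Set G) ∨ U = V := by
  by_cases hU : U ≤ V ⊓ Subgroup.centralizer (T : Set G)
  · exact Or.inl (le_antisymm hU h1)
  right
  apply le_antisymm h2
  obtain ⟨u, huU, hu⟩ := SetLike.not_le_iff_exists.1 hU
  have huV : u ∈ V := h2 huU
  have hy0 : nco ψ ⟨u, huV⟩ 1 ≠ 0 := fun h =>
    hu ((hT.mem_inf_iff hact hsurj u).2 ⟨huV, h⟩)
  intro v hv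
  by_cases hy : nco ψ ⟨v, hv⟩ 1 = 0
  · exact h1 ((hT.mem_inf_iff hact hsurj v).2 ⟨hv, hy⟩)
  · obtain ⟨h, hhN, hh⟩ := hT.exists_torus hact hsurj
      (nco ψ ⟨u, huV⟩ 1 / nco ψ ⟨v, hv⟩ 1) (div_ne_zero hy0 hy)
    have hmem : (h : G) * u * (h : G)⁻¹ ∈ U := (Subgroup.mem_normalizer_iff.1 (hN hhN) u).1 huU
    have hmemV : (h : G) * u * (h : G)⁻¹ ∈ V := hact.conj_mem h ⟨u, huV⟩
    have h3 : v * ((h : G) * u * (h : G)⁻¹)⁻¹ ∈ V ⊓ Subgroup.centralizer (T : Set G) := by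
      rw [hT.mem_inf_iff hact hsurj]
      refine ⟨V.mul_mem hv (V.inv_mem hmemV), ?_⟩
      have h4 : (⟨v * ((h : G) * u * (h : G)⁻¹)⁻¹, V.mul_mem hv (V.inv_mem hmemV)⟩ : ↥V) =
          ⟨v, hv⟩ * (⟨(h : G) * u * (h : G)⁻¹, hmemV⟩ : ↥V)⁻¹ := rfl
      rw [h4, nco_mul, nco_inv, hh ⟨u, huV⟩]
      simp
      field_simp
      ring
    have h5 : v = v * ((h : G) * u * (h : G)⁻¹)⁻¹ * ((h : G) * u * (h : G)⁻¹) := by group
    rw [h5]
    exact U.mul_mem (h1 h3) hmem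

end NatSL2More

end Cfsg.Agent.Helper46
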