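import Mathlib
import Cfsg.Agent.Helper46.PgH

set_option autoImplicit false

namespace Cfsg.Agent.Helper46.Pg

open Matrix Cfsg.Agent.Helper46 Cfsg.Agent.Helper46.Dk Cfsg.Agent.Helper46.Mx Cfsg.Agent.Helper41

section Core

variable {G : Type*} [Group G] [Finite G]

/-- Borel type -/
theorem core_a {q p : ℕ} (hodd : Odd q) (h5 : 5 ≤ q) (h9 : q ≠ 9) (h11 : q ≠ 11) (h7 : q ≠ 7)
    (X Y : Subgroup G) (hXY : X ≤ Y) (hcard : 2 * Nat.card X = q * (q - 1))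
    (hC : ConclC q p Y) : Nat.card Y ≤ Nat.card X := by
  have hdvd : Nat.card X ∣ Nat.card Y := Subgroup.card_dvd_of_le hXY
  have hYpos : 0 < Nat.card Y := Nat.card_pos
  have hle : Nat.card X ≤ Nat.card Y := Nat.le_of_dvd hYpos hdvd
  have h5q : 5 * (q - 1) ≤ q * (q - 1) := Nat.mul_le_mul_right _ h5
  rcases hC with h | ⟨h13, hN, -⟩ | ⟨hN, -⟩ | ⟨F₁, _, _, hq, hN, -⟩ |
    ⟨q₁, r, p₁, a, hr, hr2, hq, hN, -, -, -⟩ | ⟨h10, -, hN, -⟩ | ⟨hqp, h8, -, hN, -⟩ | ⟨hqp, h8, hN, -⟩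
  · omega
  · exfalso
    omega
  · exfalso
    omega
  · exfalso
    set b := Fintype.card F₁ with hb
    have hb1 : 1 < b := Fintype.one_lt_card
    have hbsq : 4 ≤ b ^ 2 := by
      calc 4 = 2 ^ 2 := by norm_num
        _ ≤ b ^ 2 := Nat.pow_le_pow_left hb1 2
    have hc : 0 < b ^ 2 - 1 := by omega
    have h1 : b ^ 2 * (b ^ 2 - 1) ≤ (2 * b) * (b ^ 2 - 1) := by
      calc b ^ 2 * (b ^ 2 - 1) = q * (q - 1) := by rw [hq]
        _ = 2 * Nat.card X := hcard.symm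
        _ ≤ 2 * Nat.card Y := by omega
        _ = 2 * b * (b ^ 2 - 1) := by rw [hN]; ring
    have h2 : b ^ 2 ≤ 2 * b := Nat.le_of_mul_le_mul_right h1 hc
    have h3 : b ≤ 2 := by
      rw [pow_two] at h2
      exact Nat.le_of_mul_le_mul_right h2 (by omega)
    have h4 : b ^ 2 ≤ 2 ^ 2 := Nat.pow_le_pow_left h3 2
    omega
  · exfalso
    have hr3 : 3 ≤ r := by
      have := hr.two_le
      obtain ⟨t, ht⟩ := hr2
      omega
    have hq₁ : 1 ≤ q₁ := by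
      rcases Nat.eq_zero_or_pos q₁ with h | h
      · rw [h, zero_pow (by omega)] at hq; omega
      · exact h
    have h1 : q₁ ^ 3 ≤ q := by
      rw [hq]; exact Nat.pow_le_pow_right hq₁ hr3
    have h2 : q₁ * (q₁ ^ 2 - 1) ≤ q₁ ^ 3 := by
      calc q₁ * (q₁ ^ 2 - 1) ≤ q₁ * q₁ ^ 2 := Nat.mul_le_mul_left _ (Nat.sub_le _ _)
        _ = q₁ ^ 3 := by ring
    omega
  · exfalso
    have h19 : 19 ≤ q := by
      obtain ⟨t, ht⟩ := hodd
      omega
    have : 19 * 18 ≤ q * (q - 1) := Nat.mul_le_mul h19 (by omega)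
    omega
  · exfalso
    rcases Nat.lt_or_ge q 6 with h6 | h6
    · have hq5 : q = 5 := by omega
      subst hq5
      obtain ⟨c, hc⟩ := hdvd
      have hX10 : Nat.card X = 10 := by omega
      rw [hX10, hN] at hc
      omega
    · have : 6 * 5 ≤ q * (q - 1) := Nat.mul_le_mul h6 (by omega)
      omega
  · exfalso
    have h15 : 15 ≤ q := by
      obtain ⟨t, ht⟩ := hodd
      omega
    have : 15 * 14 ≤ q * (q - 1) := Nat.mul_le_mul h15 (by omega)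
    omega

/-- split torus type -/
theorem core_b {q p : ℕ} (hodd : Odd q) (h13 : 13 ≤ q)
    (X Y : Subgroup G) (hXY : X ≤ Y) (hcard : Nat.card X = q - 1)
    (s : G) (hs : s ∈ X) (hso : 2 * orderOf s = q - 1)
    (hC : ConclC q p Y) : Nat.card Y ≤ Nat.card X := by
  have hdvd : Nat.card X ∣ Nat.card Y := Subgroup.card_dvd_of_le hXY
  have hYpos : 0 < Nat.card Y := Nat.card_pos
  have hle : Nat.card X ≤ Nat.card Y := Nat.le_of_dvd hYpos hdvd
  have hsY : orderOf (⟨s, hXY hs⟩ : Y) = orderOf s := Subgroup.orderOf_mk s (hXY hs)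
  rcases hC with h | ⟨-, hN, -⟩ | ⟨hN, -⟩ | ⟨F₁, _, _, hq, hN, ⟨e⟩⟩ |
    ⟨q₁, r, p₁, a, hr, hr2, hq, hN, -, -, -⟩ | ⟨-, -, -, ⟨e⟩⟩ | ⟨-, -, -, -, ⟨e⟩⟩ | ⟨-, -, -, ⟨e⟩⟩
  · exfalso
    obtain ⟨c, hc⟩ := hdvd
    rw [hc, hcard] at h
    have h1 : (2 * c) * (q - 1) = q * (q - 1) := by rw [← h]; ring
    have h2 := Nat.eq_of_mul_eq_mul_right (by omega) h1
    obtain ⟨t, ht⟩ := hodd
    omega
  · omega
  · exfalso
    rw [hcard, hN] at hdvd
    have h1 : (q - 1) ∣ (q + 1) - (q - 1) := Nat.dvd_sub hdvd (dvd_refl _)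
    have h2 : (q + 1) - (q - 1) = 2 := by omega
    rw [h2] at h1
    have := Nat.le_of_dvd (by norm_num) h1
    omega
  · exfalso
    set b := Fintype.card F₁ with hb
    have hbodd : Odd b := by
      rw [hq] at hodd
      exact (Nat.odd_pow_iff (by norm_num)).1 hodd
    have hb5 : 5 ≤ b := by
      have h4 : 4 ≤ b := by
        by_contra hcon
        have h3 : b ≤ 3 := by omega
        have : b ^ 2 ≤ 3 ^ 2 := Nat.pow_le_pow_left h3 2
        omega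
      obtain ⟨t, ht⟩ := hbodd
      omega
    let f : X →* Matrix.ProjGenLinGroup (Fin 2) F₁ :=
      e.toMonoidHom.comp (Subgroup.inclusion hXY)
    have hf : Function.Injective f := e.injective.comp (Subgroup.inclusion_injective hXY)
    apply no_big_cyclic_in_PGL2 hbodd hb5 f.range
    · rw [← Nat.card_congr (MonoidHom.ofInjective hf).toEquiv, hcard, hq]
    · exact ⟨⟨s, hs⟩, rfl⟩
    · have h1 : orderOf (f ⟨s, hs⟩) = orderOf s := by
        rw [orderOf_injective f hf, Subgroup.orderOf_mk]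
      rw [h1, hso, hq]
  · exfalso
    have hr3 : 3 ≤ r := by
      have := hr.two_le
      obtain ⟨t, ht⟩ := hr2
      omega
    have hq₁ : 1 ≤ q₁ := by
      rcases Nat.eq_zero_or_pos q₁ with h | h
      · rw [h, zero_pow (by omega)] at hq; omega
      · exact h
    have h1 : q₁ ^ 3 ≤ q := by
      rw [hq]; exact Nat.pow_le_pow_right hq₁ hr3
    have h2 : q₁ * (q₁ ^ 2 - 1) ≤ q₁ ^ 3 := by
      calc q₁ * (q₁ ^ 2 - 1) ≤ q₁ * q₁ ^ 2 := Nat.mul_le_mul_left _ (Nat.sub_le _ _)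
        _ = q₁ ^ 3 := by ring
    omega
  · exfalso
    have := orderOf_le_of_A5 e ⟨s, hXY hs⟩
    omega
  · exfalso
    have := orderOf_le_of_A4 e ⟨s, hXY hs⟩
    omega
  · exfalso
    have := orderOf_le_of_S4 e ⟨s, hXY hs⟩
    omega

/-- nonsplit torus type -/
theorem core_c {q p : ℕ} (hodd : Odd q) (hq5 : q = 5 ∨ 13 ≤ q)
    (hG : 2 * Nat.card G = q * (q ^ 2 - 1))
    (X Y : Subgroup G) (hXY : X ≤ Y) (hYtop : Y ≠ ⊤) (hcard : Nat.card X = q + 1)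
    (s : G) (hs : s ∈ X) (hso : 2 * orderOf s = q + 1)
    (hC : ConclC q p Y) : Nat.card Y ≤ Nat.card X := by
  have hdvd : Nat.card X ∣ Nat.card Y := Subgroup.card_dvd_of_le hXY
  have hYpos : 0 < Nat.card Y := Nat.card_pos
  have hle : Nat.card X ≤ Nat.card Y := Nat.le_of_dvd hYpos hdvd
  have hsY : orderOf (⟨s, hXY hs⟩ : Y) = orderOf s := Subgroup.orderOf_mk s (hXY hs)
  have h5 : 5 ≤ q := by omega
  rcases hC with h | ⟨-, hN, -⟩ | ⟨hN, -⟩ | ⟨F₁, _, _, hq, hN, -⟩ |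
    ⟨q₁, r, p₁, a, hr, hr2, hq, hN, -, -, -⟩ | ⟨-, -, hN, ⟨e⟩⟩ | ⟨-, -, -, hN, ⟨e⟩⟩ |
    ⟨hqp, h8, -, ⟨e⟩⟩
  · exfalso
    have h1 : (q + 1) ∣ q * (q - 1) := by
      rw [← h, ← hcard]
      exact hdvd.trans (dvd_mul_left _ _)
    have h2 : q * (q - 1) = (q + 1) * (q - 2) + 2 := by
      obtain ⟨t, rfl⟩ : ∃ t, q = t + 2 := ⟨q - 2, by omega⟩
      have e1 : t + 2 - 1 = t + 1 := by omega
      have e2 : t + 2 - 2 = t := by omega
      rw [e1, e2]; ring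
    rw [h2] at h1
    have h3 : (q + 1) ∣ 2 := (Nat.dvd_add_right (dvd_mul_right _ _)).1 h1
    have := Nat.le_of_dvd (by norm_num) h3
    omega
  · exfalso
    omega
  · omega
  · exfalso
    set b := Fintype.card F₁ with hb
    have hb1 : 1 < b := Fintype.one_lt_card
    -- `(q+1) ∣ b (q-1)`
    have h1 : (q + 1) ∣ b * (q - 1) := by
      rw [← hcard]
      rw [hN, ← hq] at hdvd
      exact hdvd
    have h2 : b * (q + 1) = b * (q - 1) + 2 * b := by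
      obtain ⟨t, rfl⟩ : ∃ t, q = t + 1 := ⟨q - 1, by omega⟩
      have e1 : t + 1 - 1 = t := by omega
      rw [e1]; ring
    have h3 : (q + 1) ∣ b * (q - 1) + 2 * b := by
      rw [← h2]; exact dvd_mul_left _ _
    have h4 : (q + 1) ∣ 2 * b := (Nat.dvd_add_right h1).1 h3
    have h5' := Nat.le_of_dvd (by omega) h4
    have h6 : 2 * b ≤ b * b := Nat.mul_le_mul_right _ hb1
    rw [hq, pow_two] at h5'
    omega
  · exfalso
    have hr3 : 3 ≤ r := by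
      have := hr.two_le
      obtain ⟨t, ht⟩ := hr2
      omega
    have hq₁ : 1 ≤ q₁ := by
      rcases Nat.eq_zero_or_pos q₁ with h | h
      · rw [h, zero_pow (by omega)] at hq; omega
      · exact h
    have h1 : q₁ ^ 3 ≤ q := by
      rw [hq]; exact Nat.pow_le_pow_right hq₁ hr3
    have h2 : q₁ * (q₁ ^ 2 - 1) ≤ q₁ ^ 3 := by
      calc q₁ * (q₁ ^ 2 - 1) ≤ q₁ * q₁ ^ 2 := Nat.mul_le_mul_left _ (Nat.sub_le _ _)
        _ = q₁ ^ 3 := by ring
    omega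
  · exfalso
    rcases hq5 with h | h
    · subst h
      apply hYtop
      apply Subgroup.eq_top_of_card_eq
      rw [hN]
      omega
    · have := orderOf_le_of_A5 e ⟨s, hXY hs⟩
      omega
  · exfalso
    rcases hq5 with h | h
    · subst h
      have h1 := (X.subgroupOf Y).index_mul_card
      rw [Nat.card_congr (Subgroup.subgroupOfEquivOfLe hXY).toEquiv, hcard, hN] at h1
      have h2 : (X.subgroupOf Y).index = 2 := by omega
      exact no_index_two_of_equiv e no_index_two_A4 _ h2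
    · have := orderOf_le_of_A4 e ⟨s, hXY hs⟩
      omega
  · exfalso
    rcases hq5 with h | h
    · omega
    · have := orderOf_le_of_S4 e ⟨s, hXY hs⟩
      omega

/-- `S₄` type -/
theorem core_d {q p : ℕ} (hqp : q.Prime) (hq8 : q % 8 = 3 ∨ q % 8 = 5)
    (h40 : q % 40 ∉ ({11, 19, 21, 29} : Finset ℕ))
    (X Y : Subgroup G) (hXY : X ≤ Y) (eX : X ≃* alternatingGroup (Fin 4))
    (hC : ConclC q p Y) : Nat.card Y ≤ Nat.card X := by
  have hcard : Nat.card X = 12 := by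
    rw [Nat.card_congr eX.toEquiv]; exact Cfsg.Agent.Helper46.Dk.card_A4'
  have hdvd : Nat.card X ∣ Nat.card Y := Subgroup.card_dvd_of_le hXY
  rcases hC with h | ⟨-, -, k, ⟨e⟩⟩ | ⟨-, k, ⟨e⟩⟩ | ⟨F₁, _, _, hq, -, -⟩ |
    ⟨q₁, r, p₁, a, hr, hr2, hq, -, -, -, -⟩ | ⟨h10, -, -, -⟩ | ⟨-, -, -, hN, -⟩ |
    ⟨hqp', h8, -, -⟩
  · exfalso
    rw [hcard] at hdvd
    obtain ⟨c, hc⟩ := hdvd
    rw [hc] at h
    have h1 : q * (q - 1) % 8 = 0 := by
      rw [← h]; omega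
    rw [Nat.mul_mod] at h1
    rcases hq8 with h3 | h3
    · have : (q - 1) % 8 = 2 := by omega
      rw [h3, this] at h1
      norm_num at h1
    · have : (q - 1) % 8 = 4 := by omega
      rw [h3, this] at h1
      norm_num at h1
  · exact (not_le_dihedral_of_A4 X Y hXY eX k e).elim
  · exact (not_le_dihedral_of_A4 X Y hXY eX k e).elim
  · exact (prime_ne_pow hqp (le_refl 2) hq).elim
  · exact (prime_ne_pow hqp hr.two_le hq).elim
  · exfalso
    apply h40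
    simp only [Finset.mem_insert, Finset.mem_singleton]
    omega
  · omega
  · exfalso
    omega

theorem mul_pred_eq (q : ℕ) (h2 : 2 ≤ q) : q * (q - 1) = (q + 1) * (q - 2) + 2 := by
  obtain ⟨t, rfl⟩ : ∃ t, q = t + 2 := ⟨q - 2, by omega⟩
  have e1 : t + 2 - 1 = t + 1 := by omega
  have e2 : t + 2 - 2 = t := by omega
  rw [e1, e2]; ring

/-- subfield type -/
theorem core_e {q p : ℕ} (hp : p.Prime) (hodd : Odd q) (q₀ r p₀ a₀ : ℕ) (hr : r.Prime)
    (hr2 : Odd r) (hq : q = q₀ ^ r) (hp₀ : p₀.Prime) (ha₀ : 0 < a₀) (hq₀ : q₀ = p₀ ^ a₀)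
    (X Y : Subgroup G) (hXY : X ≤ Y) (hcard : 2 * Nat.card X = q₀ * (q₀ ^ 2 - 1))
    (hC : ConclC q p Y) : Nat.card Y ≤ Nat.card X := by
  have hdvd : Nat.card X ∣ Nat.card Y := Subgroup.card_dvd_of_le hXY
  have hdvd2 : q₀ * (q₀ ^ 2 - 1) ∣ 2 * Nat.card Y := by
    rw [← hcard]; exact Nat.mul_dvd_mul_left 2 hdvd
  have hr3 : 3 ≤ r := by
    have := hr.two_le
    obtain ⟨t, ht⟩ := hr2
    omega
  have hq₀odd : Odd q₀ := by
    rw [hq] at hodd
    exact (Nat.odd_pow_iff hr.ne_zero).1 hodd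
  have hq₀2 : 2 ≤ q₀ := by
    rw [hq₀]
    calc 2 ≤ p₀ := hp₀.two_le
      _ = p₀ ^ 1 := (pow_one _).symm
      _ ≤ p₀ ^ a₀ := Nat.pow_le_pow_right hp₀.pos ha₀
  have hq₀3 : 3 ≤ q₀ := by
    obtain ⟨t, ht⟩ := hq₀odd
    omega
  have hq2 : 2 ≤ q := by
    rw [hq]
    calc 2 ≤ q₀ := hq₀2
      _ = q₀ ^ 1 := (pow_one _).symm
      _ ≤ q₀ ^ r := Nat.pow_le_pow_right (by omega) (by omega)
  have hplus : (q₀ + 1) ∣ q + 1 := by
    have := Odd.nat_add_dvd_pow_add_pow q₀ 1 hr2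
    rwa [one_pow, ← hq] at this
  have hsq : q₀ ^ 2 - 1 = (q₀ - 1) * (q₀ + 1) := Cfsg.Agent.Helper46.Dk.sq_sub_one_eq _ (by omega)
  have hplus2 : (q₀ + 1) ∣ 2 * Nat.card Y := by
    refine dvd_trans ?_ hdvd2
    rw [hsq]
    exact dvd_mul_of_dvd_right (dvd_mul_left _ _) _
  have hq₀dvd : q₀ ∣ 2 * Nat.card Y := dvd_trans (dvd_mul_right _ _) hdvd2
  have hq₀q : q₀ ∣ q := by rw [hq]; exact dvd_pow_self _ hr.ne_zero
  have hcop2 : Nat.Coprime q₀ 2 := Nat.coprime_two_right.2 hq₀odd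
  rcases hC with h | ⟨-, hN, -⟩ | ⟨hN, -⟩ | ⟨F₁, _, _, hqb, hN, -⟩ |
    ⟨q₁, r', p₁, b, hr', hr2', hq', hN, hp₁, hb, hq₁⟩ | ⟨-, hpq, -, -⟩ | ⟨hqp, -, -, -, -⟩ |
    ⟨hqp, -, -, -⟩
  · exfalso
    rw [h, mul_pred_eq q hq2] at hplus2
    have h1 : (q₀ + 1) ∣ (q + 1) * (q - 2) := dvd_mul_of_dvd_left hplus _
    have h2 : (q₀ + 1) ∣ 2 := (Nat.dvd_add_right h1).1 hplus2
    have := Nat.le_of_dvd (by norm_num) h2
    omega
  · exfalso
    rw [hN] at hq₀dvd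
    have h1 : q₀ ∣ q - 1 := (Nat.Coprime.dvd_mul_left hcop2).1 hq₀dvd
    have h2 : q₀ ∣ q - (q - 1) := Nat.dvd_sub hq₀q h1
    have h3 : q - (q - 1) = 1 := by omega
    rw [h3] at h2
    have := Nat.le_of_dvd (by norm_num) h2
    omega
  · exfalso
    rw [hN] at hq₀dvd
    have h1 : q₀ ∣ q + 1 := (Nat.Coprime.dvd_mul_left hcop2).1 hq₀dvd
    have h2 : q₀ ∣ (q + 1) - q := Nat.dvd_sub h1 hq₀q
    have h3 : (q + 1) - q = 1 := by omega
    rw [h3] at h2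
    have := Nat.le_of_dvd (by norm_num) h2
    omega
  · exfalso
    set b := Fintype.card F₁ with hb
    rw [hN, ← hqb] at hplus2
    -- `(q₀+1) ∣ 2 * (b * (q-1))`
    have hcopb : Nat.Coprime (q₀ + 1) b := by
      have h1 : Nat.Coprime (q₀ + 1) q₀ := by
        rw [Nat.coprime_comm]
        exact (Nat.coprime_self_add_right).2 (Nat.coprime_one_right _)
      have h2 : Nat.Coprime (q₀ + 1) (q₀ ^ r) := h1.pow_right r
      rw [← hq, hqb] at h2
      exact Nat.Coprime.coprime_dvd_right (dvd_pow_self b (by norm_num)) h2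
    have h3 : (q₀ + 1) ∣ b * (2 * (q - 1)) := by
      have : b * (2 * (q - 1)) = 2 * (b * (q - 1)) := by ring
      rw [this]; exact hplus2
    have h4 : (q₀ + 1) ∣ 2 * (q - 1) := hcopb.dvd_of_dvd_mul_left h3
    have h5 : (q₀ + 1) ∣ 2 * (q + 1) := dvd_mul_of_dvd_right hplus _
    have h6 : (q₀ + 1) ∣ 2 * (q + 1) - 2 * (q - 1) := Nat.dvd_sub h5 h4
    have h7 : 2 * (q + 1) - 2 * (q - 1) = 4 := by omega
    rw [h7] at h6
    have h8 := Nat.le_of_dvd (by norm_num) h6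
    have hq₀eq : q₀ = 3 := by omega
    -- `3 ^ r = b ^ 2`
    rw [hq₀eq] at hq
    have hb3 : b ∣ 3 ^ r := by
      rw [← hq, hqb]; exact dvd_pow_self b (by norm_num)
    obtain ⟨j, -, hj⟩ := (Nat.dvd_prime_pow Nat.prime_three).1 hb3
    rw [hqb, hj, ← pow_mul] at hq
    have := Nat.pow_right_injective (le_refl 2 |>.trans (by norm_num : 2 ≤ 3)) hq
    obtain ⟨t, ht⟩ := hr2
    omega
  · -- `PSL₂(q₁)`
    have hpp : p₀ = p₁ := by
      have h1 : p₀ ∣ q₁ ^ r' := by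
        rw [← hq', hq, hq₀, ← pow_mul]
        exact dvd_pow_self _ (Nat.mul_ne_zero ha₀.ne' hr.ne_zero)
      have h2 : p₀ ∣ q₁ := hp₀.dvd_of_dvd_pow h1
      rw [hq₁] at h2
      have h3 : p₀ ∣ p₁ := hp₀.dvd_of_dvd_pow h2
      exact (Nat.prime_dvd_prime_iff_eq hp₀ hp₁).1 h3
    subst hpp
    have hP1 : 1 < p₀ := hp₀.one_lt
    have hexp : a₀ * r = b * r' := by
      apply Nat.pow_right_injective hp₀.two_le
      show p₀ ^ (a₀ * r) = p₀ ^ (b * r')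
      rw [pow_mul, pow_mul, ← hq₀, ← hq₁, ← hq, ← hq']
    -- `(q₀² - 1) ∣ (q₁² - 1)`
    rw [hN] at hdvd2
    have h1 : (q₀ ^ 2 - 1) ∣ q₁ * (q₁ ^ 2 - 1) := dvd_trans (dvd_mul_left _ _) hdvd2
    have hcop : Nat.Coprime (q₀ ^ 2 - 1) q₁ := by
      rw [hq₁]
      apply Nat.Coprime.pow_right
      rw [Nat.coprime_comm, hp₀.coprime_iff_not_dvd]
      intro hd
      have hd2 : p₀ ∣ q₀ ^ 2 := by
        rw [hq₀, ← pow_mul]
        exact dvd_pow_self _ (Nat.mul_ne_zero ha₀.ne' (by norm_num))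
      have h4 : 1 ≤ q₀ ^ 2 := Nat.one_le_pow _ _ (by omega)
      have h5 : p₀ ∣ q₀ ^ 2 - (q₀ ^ 2 - 1) := Nat.dvd_sub hd2 hd
      have h6 : q₀ ^ 2 - (q₀ ^ 2 - 1) = 1 := by omega
      rw [h6] at h5
      have := Nat.le_of_dvd (by norm_num) h5
      omega
    have h2 : (q₀ ^ 2 - 1) ∣ (q₁ ^ 2 - 1) := hcop.dvd_of_dvd_mul_left h1
    rw [hq₀, hq₁, ← pow_mul, ← pow_mul] at h2
    have h3 := Nat.gcd_eq_left h2
    rw [Nat.pow_sub_one_gcd_pow_sub_one] at h3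
    have h4 : p₀ ^ Nat.gcd (a₀ * 2) (b * 2) = p₀ ^ (a₀ * 2) := by
      have e1 : 1 ≤ p₀ ^ Nat.gcd (a₀ * 2) (b * 2) := Nat.one_le_pow _ _ hp₀.pos
      have e2 : 1 ≤ p₀ ^ (a₀ * 2) := Nat.one_le_pow _ _ hp₀.pos
      omega
    have h5 : Nat.gcd (a₀ * 2) (b * 2) = a₀ * 2 := Nat.pow_right_injective hp₀.two_le h4
    have h6 : a₀ * 2 ∣ b * 2 := by
      rw [← h5]; exact Nat.gcd_dvd_right _ _
    have h7 : a₀ ∣ b := (Nat.mul_dvd_mul_iff_right (by norm_num)).1 h6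
    obtain ⟨c, hc⟩ := h7
    rw [hc, mul_assoc] at hexp
    have h8 : r = c * r' := Nat.eq_of_mul_eq_mul_left ha₀ hexp
    have h9 : r' ∣ r := ⟨c, by rw [h8, mul_comm]⟩
    have h10 : r' = r := by
      rcases (Nat.dvd_prime hr).1 h9 with h | h
      · exact absurd h hr'.one_lt.ne'
      · exact h
    have hc1 : c = 1 := by
      rw [h10] at h8
      have : c * r = 1 * r := by rw [one_mul]; exact h8.symm
      exact Nat.eq_of_mul_eq_mul_right hr.pos this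
    have hqq : q₁ = q₀ := by rw [hq₁, hq₀, hc, hc1, mul_one]
    rw [hqq] at hN
    omega
  · exfalso
    rcases hpq with h | h
    · exact prime_ne_pow hp hr.two_le (h ▸ hq)
    · -- `q₀ ^ r = p ^ 2`
      have h1 : p₀ ∣ p ^ 2 := by
        rw [← h, hq, hq₀, ← pow_mul]
        exact dvd_pow_self _ (Nat.mul_ne_zero ha₀.ne' hr.ne_zero)
      have h2 : p₀ ∣ p := hp₀.dvd_of_dvd_pow h1
      have h3 : p₀ = p := (Nat.prime_dvd_prime_iff_eq hp₀ hp).1 h2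
      subst h3
      rw [hq, hq₀, ← pow_mul] at h
      have h4 := Nat.pow_right_injective hp₀.two_le h
      have h5 : r ∣ 2 := ⟨a₀, by rw [← h4, mul_comm]⟩
      have := Nat.le_of_dvd (by norm_num) h5
      omega
  · exact (prime_ne_pow hp hr.two_le (hqp ▸ hq)).elim
  · exact (prime_ne_pow hp hr.two_le (hqp ▸ hq)).elim

end Core

end Cfsg.Agent.Helper46.Pg
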