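import Mathlib
import Cfsg.Agent.Helper46.PgI
import Cfsg.Agent.S5892

set_option autoImplicit false

namespace Cfsg.Agent.Helper46.Pg

open Matrix Cfsg.Agent.Helper46 Cfsg.Agent.Helper46.Dk Cfsg.Agent.Helper46.Mx Cfsg.Agent.Helper41

section Meet

variable {F : Type*} [Field F] [Fintype F]

local notation "SL2F" => Matrix.SpecialLinearGroup (Fin 2) F
local notation "PSL2F" => Matrix.ProjectiveSpecialLinearGroup (Fin 2) F
local notation "PGL2F" => Matrix.ProjGenLinGroup (Fin 2) F
local notation "τ" => (Matrix.ProjectiveSpecialLinearGroup.toPGL (n := Fin 2) (R := F))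

/-- an element of order `n/2` in `M ∩ L` when `M` is dihedral of order `2n`, `n` even -/
theorem exists_torus_elt (hodd : Odd (Fintype.card F)) (M : Subgroup PGL2F) (n : ℕ)
    (hn : Even n) (e : M ≃* DihedralGroup n) :
    ∃ s : PSL2F, s ∈ M.comap τ ∧ 2 * orderOf s = n := by
  haveI := finite_PGL2F (F := F)
  have hinj := Matrix.ProjectiveSpecialLinearGroup.toPGL_injective (n := Fin 2) (R := F)
  set c : M := e.symm (DihedralGroup.r 1) with hc
  have hco : orderOf c = n := by
    rw [hc, MulEquiv.orderOf_eq, DihedralGroup.orderOf_r_one]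
  have hco' : orderOf (c : PGL2F) = n := by rw [Subgroup.orderOf_coe, hco]
  have hdL : (c : PGL2F) ^ 2 ∈ Lsub F := Subgroup.sq_mem_of_index_two (index_Lsub hodd) _
  rw [Lsub_eq_range] at hdL
  obtain ⟨s, hs⟩ := hdL
  refine ⟨s, ?_, ?_⟩
  · show τ s ∈ M
    rw [hs]; exact M.pow_mem c.2 2
  · have h1 : orderOf s = orderOf ((c : PGL2F) ^ 2) := by
      rw [← hs, orderOf_injective τ hinj]
    rw [h1, orderOf_pow, hco']
    obtain ⟨m, hm⟩ := hn
    have hg : Nat.gcd n 2 = 2 := Nat.gcd_eq_right ⟨m, by omega⟩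
    rw [hg]
    omega

/-- `M ∩ L ≅ A₄` when `M ≅ S₄` -/
theorem nonempty_comap_equiv_A4 (hodd : Odd (Fintype.card F)) (M : Subgroup PGL2F)
    (hM : IsCoatom M) (hML : ¬ Lsub F ≤ M) (e : M ≃* Equiv.Perm (Fin 4)) :
    Nonempty (M.comap τ ≃* alternatingGroup (Fin 4)) := by
  classical
  haveI := finite_PGL2F (F := F)
  have hinj := Matrix.ProjectiveSpecialLinearGroup.toPGL_injective (n := Fin 2) (R := F)
  have hcardM : Nat.card M = 24 := by
    rw [Nat.card_congr e.toEquiv]; exact Cfsg.Agent.Helper46.Dk.card_S4'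
  have hcardX : Nat.card (M.comap τ) = 12 := by
    have := two_mul_card_comap hodd M hM hML
    omega
  obtain ⟨V, M0, hV, hVM0, hM0M, hMN, ⟨e0⟩⟩ := klein_of_S4 M e
  have hM0L : M0 ≤ Lsub F := le_of_no_index_two (Lsub F) M0 (index_Lsub hodd)
    (no_index_two_of_equiv e0 no_index_two_A4)
  have hmap : (M0.comap τ).map τ = M0 := by rw [map_comap_tau, inf_eq_left.2 hM0L]
  have hM0comap : M0.comap τ = M.comap τ := by
    apply Subgroup.eq_of_le_of_card_ge (Subgroup.comap_mono hM0M)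
    have : Nat.card (M0.comap τ) = Nat.card M0 := by
      rw [← Subgroup.card_map_of_injective hinj, hmap]
    rw [this, Nat.card_congr e0.toEquiv, Cfsg.Agent.Helper46.Dk.card_A4', hcardX]
  rw [← hM0comap]
  exact ⟨(((M0.comap τ).equivMapOfInjective τ hinj).trans (MulEquiv.subgroupCongr hmap)).trans e0⟩

variable (p : ℕ) [Fact p.Prime] [CharP F p]

include p in
/-- `M ∩ L` is maximal in `L`, odd characteristic -/
theorem isCoatom_comap_odd (hodd : Odd (Fintype.card F)) (h5 : 5 ≤ Fintype.card F)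
    (h7 : Fintype.card F ≠ 7) (h9 : Fintype.card F ≠ 9) (h11 : Fintype.card F ≠ 11)
    (h40 : (Fintype.card F).Prime → Fintype.card F % 40 ∉ ({11, 19, 21, 29} : Finset ℕ))
    (M : Subgroup PGL2F) (hM : IsCoatom M) (hML : ¬ Lsub F ≤ M) : IsCoatom (M.comap τ) := by
  classical
  haveI := finite_PGL2F (F := F)
  have hpp : p.Prime := Fact.out
  have hinj := Matrix.ProjectiveSpecialLinearGroup.toPGL_injective (n := Fin 2) (R := F)
  have hX2 := two_mul_card_comap hodd M hM hML
  have hG := two_mul_card_PSL2 (F := F) hodd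
  have hqodd : Fintype.card F % 2 = 1 := Nat.odd_iff.1 hodd
  constructor
  · intro htop
    apply hML
    intro x hx
    rw [Lsub_eq_range] at hx
    obtain ⟨y, rfl⟩ := hx
    have : y ∈ M.comap τ := by rw [htop]; trivial
    exact this
  · intro Y hXY
    by_contra hYtop
    obtain ⟨Y₁, hY₁, hYY₁⟩ := (eq_top_or_exists_le_coatom Y).resolve_left hYtop
    have hXY₁ : M.comap τ ≤ Y₁ := hXY.le.trans hYY₁
    have hC := Concl.toC hodd (Cfsg.Agent.S5892.concl_of_coatom p hodd h5 Y₁ hY₁)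
    have hkey : Nat.card Y₁ ≤ Nat.card (M.comap τ) := by
      rcases concl_main hodd (by omega) M hM hML with ha | ⟨hq5, ⟨eb⟩⟩ | hc | ⟨hqp, hq8, ⟨ed⟩⟩ |
        ⟨F₀, _, _, r, hr, hr2, hq, ⟨ee⟩⟩
      · exact core_a hodd h5 h9 h11 h7 _ _ hXY₁ (by rw [hX2, ha]) hC
      · have h13 : 13 ≤ Fintype.card F := by omega
        have hcardM : Nat.card M = 2 * (Fintype.card F - 1) := by
          rw [Nat.card_congr eb.toEquiv, DihedralGroup.nat_card]
        obtain ⟨s, hs, hso⟩ := exists_torus_elt hodd M _ ⟨(Fintype.card F - 1) / 2, by omega⟩ eb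
        exact core_b hodd h13 _ _ hXY₁ (by omega) s hs hso hC
      · obtain ⟨ec⟩ := hc
        have hq5 : Fintype.card F = 5 ∨ 13 ≤ Fintype.card F := by omega
        have hcardM : Nat.card M = 2 * (Fintype.card F + 1) := by
          rw [Nat.card_congr ec.toEquiv, DihedralGroup.nat_card]
        obtain ⟨s, hs, hso⟩ := exists_torus_elt hodd M _ ⟨(Fintype.card F + 1) / 2, by omega⟩ ec
        exact core_c hodd hq5 hG _ _ hXY₁ hY₁.1 (by omega) s hs hso hC
      · obtain ⟨eX⟩ := nonempty_comap_equiv_A4 hodd M hM hML ed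
        exact core_d hqp hq8 (h40 hqp) _ _ hXY₁ eX hC
      · obtain ⟨p₀, a₀, hp₀, ha₀, hK⟩ := exists_prime_pow_card F₀
        have hcardM : Nat.card M = Fintype.card F₀ * (Fintype.card F₀ ^ 2 - 1) := by
          rw [Nat.card_congr ee.toEquiv, card_PGL2F]
        exact core_e hpp hodd (Fintype.card F₀) r p₀ a₀ hr hr2 hq hp₀ ha₀ hK _ _ hXY₁
          (by rw [hX2, hcardM]) hC
    have heq : M.comap τ = Y₁ := Subgroup.eq_of_le_of_card_ge hXY₁ hkey
    rw [← heq] at hYY₁
    exact lt_irrefl _ (lt_of_lt_of_le hXY hYY₁)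

omit [Fintype F] in
theorem isCoatom_subgroupOf_of_comap (M : Subgroup PGL2F) (h : IsCoatom (M.comap τ)) :
    IsCoatom ((M ⊓ Lsub F).subgroupOf (Lsub F)) := by
  rw [Subgroup.inf_subgroupOf_right]
  have e : M.subgroupOf (Lsub F) = (M.comap τ).map (thetaL F).toMonoidHom := by
    ext ⟨y, hy⟩
    constructor
    · intro hyM
      refine ⟨(thetaL F).symm ⟨y, hy⟩, ?_, (thetaL F).apply_symm_apply _⟩
      show τ ((thetaL F).symm ⟨y, hy⟩) ∈ M
      have : τ ((thetaL F).symm ⟨y, hy⟩) = y := by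
        rw [← thetaL_coe, MulEquiv.apply_symm_apply]
      rw [this]; exact hyM
    · rintro ⟨x, hx, hxy⟩
      show y ∈ M
      have : y = τ x := by
        rw [← thetaL_coe]
        exact (congrArg Subtype.val hxy).symm
      rw [this]; exact hx
  rw [e]
  exact ((thetaL F).mapSubgroup.isCoatom_iff (M.comap τ)).2 h

theorem lsub_eq_top_of_even (heven : ¬ Odd (Fintype.card F)) : Lsub F = ⊤ := by
  rw [Lsub_eq_range, MonoidHom.range_eq_top]
  apply Matrix.ProjectiveSpecialLinearGroup.toPGL_surj_of_roots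
  intro r
  have hchar : ringChar F = 2 := by
    rw [FiniteField.even_card_iff_char_two]
    rw [Nat.not_odd_iff_even, Nat.even_iff] at heven
    exact heven
  obtain ⟨k, hk⟩ := FiniteField.isSquare_of_char_two hchar (r : F)
  have hk0 : k ≠ 0 := by
    rintro rfl
    rw [mul_zero] at hk
    exact r.ne_zero hk
  refine ⟨Units.mk0 k hk0, ?_⟩
  apply Units.ext
  simp [pow_two, hk]

theorem isCoatom_subgroupOf_top {G : Type*} [Group G] (M L : Subgroup G) (hM : IsCoatom M)
    (hL : L = ⊤) : IsCoatom ((M ⊓ L).subgroupOf L) := by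
  subst hL
  rw [inf_top_eq]
  exact ((Subgroup.topEquiv (G := G)).comapSubgroup.isCoatom_iff M).2 hM

/-- a maximal subgroup of `PGL₂(q)` not containing `L = PSL₂(q)` meets `L` in a maximal subgroup
of `L` -/
theorem isCoatom_meet (h4 : 4 ≤ Fintype.card F)
    (h7 : Fintype.card F ≠ 7) (h9 : Fintype.card F ≠ 9) (h11 : Fintype.card F ≠ 11)
    (h40 : (Fintype.card F).Prime → Fintype.card F % 40 ∉ ({11, 19, 21, 29} : Finset ℕ))
    (M : Subgroup PGL2F) (hM : IsCoatom M) (hML : ¬ Lsub F ≤ M) :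
    IsCoatom ((M ⊓ Lsub F).subgroupOf (Lsub F)) := by
  by_cases hodd : Odd (Fintype.card F)
  · obtain ⟨p, hchar⟩ := CharP.exists F
    haveI := hchar
    obtain ⟨n, hpp, hq⟩ := FiniteField.card F p
    haveI : Fact p.Prime := ⟨hpp⟩
    have h5 : 5 ≤ Fintype.card F := by
      obtain ⟨t, ht⟩ := hodd
      omega
    exact isCoatom_subgroupOf_of_comap M (isCoatom_comap_odd p hodd h5 h7 h9 h11 h40 M hM hML)
  · exact isCoatom_subgroupOf_top M (Lsub F) hM (lsub_eq_top_of_even hodd)

end Meet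

end Cfsg.Agent.Helper46.Pg
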