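import Mathlib
import Cfsg.Agent.Helper46.PgJ
import Cfsg.Agent.Helper41.SL2Torus
import Cfsg.Agent.Helper46.DihedralInvolved

set_option autoImplicit false

/-!
# Normalizers of cyclic subgroups of `PSL₂(F)`, `|F|` odd

For `x` of order prime to the characteristic the normalizer of `⟨x⟩` contains a subgroup of order
`q - 1` or `q + 1` (the image of the normalizer of the torus `C(A)`).
-/

namespace Cfsg.Agent.Helper46.Nm

open Matrix Cfsg.Agent.Helper46 Cfsg.Agent.Helper46.Dk Cfsg.Agent.Helper46.Mx Cfsg.Agent.Helper41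
  Cfsg.Agent.Helper46.Pg

variable {F : Type*} [Field F] [Fintype F]

local notation "SL2F" => Matrix.SpecialLinearGroup (Fin 2) F
local notation "M2F" => Matrix (Fin 2) (Fin 2) F
local notation "PSL2F" => Matrix.ProjectiveSpecialLinearGroup (Fin 2) F

variable (p : ℕ) [Fact p.Prime] [CharP F p]

include p in
/-- the normalizer of `⟨x⟩`, `x ≠ 1` of order prime to `p`, contains a subgroup of order `q ∓ 1` -/
theorem exists_le_normalizer_zpowers (hodd : Odd (Fintype.card F)) (x : PSL2F) {n : ℕ}
    (hn : orderOf x = n) (hn2 : 2 ≤ n) (hcop : Nat.Coprime n p) :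
    ∃ D : Subgroup PSL2F,
      D ≤ Subgroup.normalizer ((Subgroup.zpowers x : Subgroup PSL2F) : Set PSL2F) ∧
      (Nat.card D = Fintype.card F - 1 ∨ Nat.card D = Fintype.card F + 1) := by
  classical
  have h2 := two_ne_zero_of_odd hodd
  obtain ⟨A, rfl⟩ := QuotientGroup.mk'_surjective (Subgroup.center SL2F) x
  have ht := tr_sq_ne_four_of_orderOf p A hn hn2 hcop
  have htr : Matrix.trace (A : M2F) = tr A := by rw [Matrix.trace_fin_two]; rfl
  have ht' : (Matrix.trace (A : M2F)) ^ 2 ≠ 4 := by rw [htr]; exact ht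
  obtain ⟨w, hw⟩ := sl2_exists_conj_eq_inv (Nat.odd_iff.1 hodd) h2 A ht'
  set C := Subgroup.centralizer ({A} : Set SL2F) with hC
  set NS := Subgroup.normalizer ((C : Subgroup SL2F) : Set SL2F) with hNS
  set π := QuotientGroup.mk' (Subgroup.center SL2F) with hπ
  have hcardNS : Nat.card NS = 2 * Nat.card C := sl2_card_normalizer_centralizer h2 A w ht' hw
  have hZC : Subgroup.center SL2F ≤ C := Subgroup.center_le_centralizer _
  have hZNS : Subgroup.center SL2F ≤ NS := hZC.trans Subgroup.le_normalizer
  have hhalf : ∀ X : Subgroup SL2F, Subgroup.center SL2F ≤ X →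
      Nat.card (X.map π) * 2 = Nat.card X := by
    intro X hZX
    have e1 := Subgroup.relIndex_ker π (K := X)
    rw [hπ, QuotientGroup.ker_mk'] at e1
    have e2 := ((Subgroup.center SL2F).subgroupOf X).index_mul_card
    rw [Nat.card_congr (Subgroup.subgroupOfEquivOfLe hZX).toEquiv,
      Cfsg.Agent.Helper5.card_center_SL2_of_two_ne_zero h2] at e2
    rw [← e1]
    exact e2
  have h1 := hhalf C hZC
  have h2' := hhalf NS hZNS
  refine ⟨NS.map π, ?_, ?_⟩
  · rintro _ ⟨g, hg, rfl⟩
    rcases sl2_conj_eq_or_eq_inv_of_mem_normalizer h2 A g ht' hg with h | h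
    · apply Cfsg.Agent.Helper41.DkR.mem_normalizer_zpowers_of_commute
      rw [← map_mul, ← map_mul]
      congr 1
      have : g * A = g * A * g⁻¹ * g := by group
      rw [this, h]
    · apply mem_normalizer_zpowers_of_inverts
      rw [← map_inv, ← map_inv, ← map_mul, ← map_mul, h]
  · have ht2 := two_mul_card_torus hodd A ht
    rw [← hC, ← hπ] at ht2
    have h3 : Nat.card (NS.map π) = 2 * Nat.card (C.map π) := by
      have : Nat.card (NS.map π) * 2 = (2 * Nat.card (C.map π)) * 2 := by
        rw [h2', hcardNS, ← h1]; ring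
      exact Nat.eq_of_mul_eq_mul_right (by norm_num) this
    rw [h3]
    rcases ht2 with h | h
    · left; exact h
    · right; exact h

end Cfsg.Agent.Helper46.Nm
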