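import Mathlib
import Cfsg.Agent.Helper46.NmA
import Cfsg.Agent.Helper46.MxKleinPSL
import Cfsg.Agent.Helper46.PgE
import Cfsg.Agent.S5892

set_option autoImplicit false

/-!
# `PSL₂(13)`: orders of maximal subgroups, Sylow `13`-subgroups
-/

namespace Cfsg.Agent.Helper46.Nm

open Matrix Cfsg.Agent.Helper46 Cfsg.Agent.Helper46.Dk Cfsg.Agent.Helper46.Mx Cfsg.Agent.Helper41
  Cfsg.Agent.Helper46.Pg

theorem fact_prime_13 : Fact (Nat.Prime 13) := ⟨by norm_num⟩

attribute [local instance] fact_prime_13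

local notation "G13" => Matrix.ProjectiveSpecialLinearGroup (Fin 2) (ZMod 13)

theorem card_F13 : Fintype.card (ZMod 13) = 13 := ZMod.card 13

theorem odd_F13 : Odd (Fintype.card (ZMod 13)) := by rw [card_F13]; decide

theorem card_G13 : Nat.card G13 = 1092 := by
  have := two_mul_card_PSL2 (F := ZMod 13) odd_F13
  rw [card_F13] at this
  omega

/-- element orders in `PSL₂(13)` -/
theorem orderOf_dvd_13 (g : G13) : orderOf g ∣ 13 ∨ orderOf g ∣ 6 ∨ orderOf g ∣ 7 := by
  have := psl2_orderOf_dvd (F := ZMod 13) 13 g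
  rw [card_F13] at this
  have e1 : (13 - 1) / Nat.gcd 2 (13 - 1) = 6 := by decide
  have e2 : (13 + 1) / Nat.gcd 2 (13 - 1) = 7 := by decide
  rw [e1, e2] at this
  exact this

/-- the orders of the maximal subgroups of `PSL₂(13)` -/
theorem card_of_coatom_13 (Y : Subgroup G13) (hY : IsCoatom Y) :
    Nat.card Y = 78 ∨ Nat.card Y = 14 ∨ Nat.card Y = 12 := by
  have h := Cfsg.Agent.S5892.concl_of_coatom (F := ZMod 13) 13 odd_F13 (by rw [card_F13]; norm_num) Y hY
  rw [card_F13] at h
  rcases h with h | ⟨-, k, hk, ⟨e1⟩⟩ | ⟨-, -, k, hk, ⟨e1⟩⟩ | ⟨F₀, i1, i2, hq, -⟩ |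
    ⟨F₀, i1, i2, r, hr, hr2, hq, -⟩ | ⟨h1, -, -⟩ | ⟨-, -, -, ⟨e1⟩⟩ | ⟨-, h2, -⟩
  · left; omega
  · right; right
    rw [Nat.card_congr e1.toEquiv, DihedralGroup.nat_card]; omega
  · right; left
    rw [Nat.card_congr e1.toEquiv, DihedralGroup.nat_card]; omega
  · exfalso
    have := (Nat.Prime.pow_eq_iff (p := 13) (by norm_num)).1 hq.symm
    omega
  · exfalso
    have := (Nat.Prime.pow_eq_iff (p := 13) (by norm_num)).1 hq.symm
    rw [this.2] at hr
    exact Nat.not_prime_one hr
  · omega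
  · right; right
    rw [Nat.card_congr e1.toEquiv, card_A4']
  · omega

/-- a proper subgroup whose order is divisible by `12`, `14` or `78` is maximal -/
theorem isCoatom_of_dvd_13 (N : Subgroup G13) (hN : N ≠ ⊤)
    (h : 12 ∣ Nat.card N ∨ 14 ∣ Nat.card N ∨ 78 ∣ Nat.card N) : IsCoatom N := by
  obtain ⟨Y, hY, hNY⟩ := (eq_top_or_exists_le_coatom N).resolve_left hN
  have hd : Nat.card N ∣ Nat.card Y := Subgroup.card_dvd_of_le hNY
  have hcard : Nat.card N = Nat.card Y := by
    rcases card_of_coatom_13 Y hY with hc | hc | hc <;> rw [hc] at hd ⊢ <;>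
      rcases h with h | h | h
    · exact absurd (h.trans hd) (by norm_num)
    · exact absurd (h.trans hd) (by norm_num)
    · exact Nat.dvd_antisymm hd h
    · exact absurd (h.trans hd) (by norm_num)
    · exact Nat.dvd_antisymm hd h
    · exact absurd (h.trans hd) (by norm_num)
    · exact Nat.dvd_antisymm hd h
    · exact absurd (h.trans hd) (by norm_num)
    · exact absurd (h.trans hd) (by norm_num)
  have : N = Y := Subgroup.eq_of_le_of_card_ge hNY (by rw [hcard])
  rw [this]; exact hY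

theorem card_sylow_13 (P : Sylow 13 G13) : Nat.card (P : Subgroup G13) = 13 := by
  obtain ⟨k, hk⟩ := IsPGroup.iff_card.1 P.isPGroup'
  have h1 : 13 ∣ Nat.card (P : Subgroup G13) :=
    P.dvd_card_of_dvd_card (by rw [card_G13]; norm_num)
  have h2 : Nat.card (P : Subgroup G13) ∣ 1092 := by
    rw [← card_G13]; exact Subgroup.card_subgroup_dvd_card _
  rw [hk] at h1 h2 ⊢
  match k, h1, h2 with
  | 0, h1, _ => norm_num at h1
  | 1, _, _ => rfl
  | (k + 2), _, h2 =>
    exfalso
    have : 13 ^ 2 ∣ 1092 := (pow_dvd_pow 13 (by omega)).trans h2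
    norm_num at this

theorem card_normalizer_sylow_13 (P : Sylow 13 G13) :
    Nat.card (Subgroup.normalizer ((P : Subgroup G13) : Set G13)) = 78 := by
  have := two_mul_card_normalizer_sylow (F := ZMod 13) 13 odd_F13 P
  rw [card_F13] at this
  omega

/-- subgroups between `P` and `N(P)` are normal in `N(P)` -/
theorem normalizer_sylow_le_normalizer (P : Sylow 13 G13) (H : Subgroup G13)
    (hPH : (P : Subgroup G13) ≤ H)
    (hHN : H ≤ Subgroup.normalizer ((P : Subgroup G13) : Set G13)) :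
    Subgroup.normalizer ((P : Subgroup G13) : Set G13) ≤ Subgroup.normalizer (H : Set G13) := by
  have key : ∀ b ∈ Subgroup.normalizer ((P : Subgroup G13) : Set G13), ∀ h ∈ H,
      b * h * b⁻¹ ∈ H := by
    intro b hb h hh
    have hc := commutator_mem_sylowP (F := ZMod 13) 13 P hb (hHN hh)
    have : b * h * b⁻¹ = (b * h * b⁻¹ * h⁻¹) * h := by group
    rw [this]
    exact H.mul_mem (hPH hc) hh
  intro b hb
  rw [Subgroup.mem_normalizer_iff]
  intro h
  constructor
  · exact key b hb h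
  · intro hh
    have := key b⁻¹ (Subgroup.inv_mem _ hb) _ hh
    have e : b⁻¹ * (b * h * b⁻¹) * b⁻¹⁻¹ = h := by group
    rw [e] at this
    exact this

end Cfsg.Agent.Helper46.Nm
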