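import Mathlib
import Cfsg.Agent.Helper46.NmB
import Cfsg.Agent.Helper46.CharSkeleton

set_option autoImplicit false

/-!
# `PSL₂(13)`: the normalizer of every nontrivial proper subgroup is maximal
-/

namespace Cfsg.Agent.Helper46.Nm

open Matrix Cfsg.Agent.Helper46 Cfsg.Agent.Helper46.Dk Cfsg.Agent.Helper46.Mx Cfsg.Agent.Helper41
  Cfsg.Agent.Helper46.Pg

attribute [local instance] fact_prime_13

local notation "G13" => Matrix.ProjectiveSpecialLinearGroup (Fin 2) (ZMod 13)

/-- the target property of a subgroup -/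
def Good (H : Subgroup G13) : Prop :=
  12 ∣ Nat.card (Subgroup.normalizer (H : Set G13)) ∨
  14 ∣ Nat.card (Subgroup.normalizer (H : Set G13)) ∨
  78 ∣ Nat.card (Subgroup.normalizer (H : Set G13))

theorem good_of_dvd (H : Subgroup G13)
    (h : 12 ∣ Nat.card H ∨ 14 ∣ Nat.card H ∨ 78 ∣ Nat.card H) : Good H := by
  have hd : Nat.card H ∣ Nat.card (Subgroup.normalizer (H : Set G13)) :=
    Subgroup.card_dvd_of_le Subgroup.le_normalizer
  rcases h with h | h | h
  · exact Or.inl (h.trans hd)
  · exact Or.inr (Or.inl (h.trans hd))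
  · exact Or.inr (Or.inr (h.trans hd))

/-- a subgroup between a Sylow `13`-subgroup and its normalizer -/
theorem good_of_sylow (P : Sylow 13 G13) (H : Subgroup G13) (hPH : (P : Subgroup G13) ≤ H)
    (hHN : H ≤ Subgroup.normalizer ((P : Subgroup G13) : Set G13)) : Good H := by
  right; right
  rw [← card_normalizer_sylow_13 P]
  exact Subgroup.card_dvd_of_le (normalizer_sylow_le_normalizer P H hPH hHN)

/-- a nontrivial element of order prime to `13` -/
theorem dvd_zpowers (x : G13) (hx : x ≠ 1) (h13 : ¬ 13 ∣ orderOf x) :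
    12 ∣ Nat.card (Subgroup.normalizer ((Subgroup.zpowers x : Subgroup G13) : Set G13)) ∨
    14 ∣ Nat.card (Subgroup.normalizer ((Subgroup.zpowers x : Subgroup G13) : Set G13)) := by
  have hn2 : 2 ≤ orderOf x := by
    have h0 : 0 < orderOf x := orderOf_pos x
    have h1 : orderOf x ≠ 1 := fun h => hx (orderOf_eq_one_iff.1 h)
    omega
  have hcop : Nat.Coprime (orderOf x) 13 := by
    rw [Nat.coprime_comm, (Nat.Prime.coprime_iff_not_dvd (by norm_num))]; exact h13
  obtain ⟨D, hD, hcard⟩ := exists_le_normalizer_zpowers (F := ZMod 13) 13 odd_F13 x rfl hn2 hcop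
  rw [card_F13] at hcard
  have hd := Subgroup.card_dvd_of_le hD
  rcases hcard with h | h
  · left; rw [h] at hd; exact hd
  · right; rw [h] at hd; exact hd

theorem good_zpowers (x : G13) (hx : x ≠ 1) (h13 : ¬ 13 ∣ orderOf x) :
    Good (Subgroup.zpowers x) := by
  rcases dvd_zpowers x hx h13 with h | h
  · exact Or.inl h
  · exact Or.inr (Or.inl h)

/-- the cyclic case -/
theorem good_of_isCyclic (H : Subgroup G13) (hcyc : IsCyclic H) (hbot : H ≠ ⊥) : Good H := by
  obtain ⟨x, hx⟩ := hcyc.exists_generator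
  have hH : H = Subgroup.zpowers (x : G13) := by
    ext y
    constructor
    · intro hy
      have := hx ⟨y, hy⟩
      obtain ⟨k, hk⟩ := Subgroup.mem_zpowers_iff.1 this
      refine Subgroup.mem_zpowers_iff.2 ⟨k, ?_⟩
      have := congrArg Subtype.val hk
      simpa using this
    · intro hy
      obtain ⟨k, hk⟩ := Subgroup.mem_zpowers_iff.1 hy
      rw [← hk]
      exact H.zpow_mem x.2 k
  have hx1 : (x : G13) ≠ 1 := by
    intro h
    apply hbot
    rw [hH, h, Subgroup.zpowers_one_eq_bot]
  by_cases h13 : 13 ∣ orderOf (x : G13)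
  · -- `H` is a Sylow subgroup
    have hord : orderOf (x : G13) = 13 := by
      rcases orderOf_dvd_13 (x : G13) with h | h | h
      · exact Nat.dvd_antisymm h h13
      · exact absurd (h13.trans h) (by norm_num)
      · exact absurd (h13.trans h) (by norm_num)
    have hcard : Nat.card H = 13 := by rw [hH, Nat.card_zpowers, hord]
    have hp : IsPGroup 13 H := IsPGroup.of_card (n := 1) (by rw [hcard]; norm_num)
    obtain ⟨P, hP⟩ := hp.exists_le_sylow
    have hHP : H = (P : Subgroup G13) :=
      Subgroup.eq_of_le_of_card_ge hP (by rw [hcard, card_sylow_13])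
    exact good_of_sylow P H hHP.ge (hHP.le.trans Subgroup.le_normalizer)
  · rw [hH]
    exact good_zpowers _ hx1 h13

end Cfsg.Agent.Helper46.Nm
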