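import Mathlib
import Cfsg.Agent.Helper46.NmC

set_option autoImplicit false

/-!
# `PSL₂(13)`: the normalizer of every nontrivial proper subgroup is maximal (main theorem)
-/

namespace Cfsg.Agent.Helper46.Nm

open Matrix Cfsg.Agent.Helper46 Cfsg.Agent.Helper46.Dk Cfsg.Agent.Helper46.Mx Cfsg.Agent.Helper41
  Cfsg.Agent.Helper46.Pg

attribute [local instance] fact_prime_13

local notation "G13" => Matrix.ProjectiveSpecialLinearGroup (Fin 2) (ZMod 13)

theorem good_conj (H : Subgroup G13) (g : G13) (h : Good (H.map (MulAut.conj g).toMonoidHom)) :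
    Good H := by
  unfold Good at h ⊢
  rw [normalizer_map_conj,
    Subgroup.card_map_of_injective (f := (MulAut.conj g).toMonoidHom) (MulAut.conj g).injective] at h
  exact h

/-- every subfield of `ZMod 13` is everything -/
theorem subfield_13_eq_top (K : Subfield (ZMod 13)) (a : ZMod 13) : a ∈ K := by
  rw [← ZMod.natCast_zmod_val a]
  exact natCast_mem K _

/-- the dihedral case `D₃` -/
theorem good_of_dihedral_three (H : Subgroup G13) (c : H) (hc : orderOf c = 3)
    (hcard : Nat.card H = 6) : Good H := by
  set C : Subgroup G13 := Subgroup.zpowers (c : G13) with hC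
  have hco : orderOf (c : G13) = 3 := by rw [Subgroup.orderOf_coe, hc]
  have hCcard : Nat.card C = 3 := by rw [hC, Nat.card_zpowers, hco]
  have hc1 : (c : G13) ≠ 1 := by
    intro h; rw [h, orderOf_one] at hco; omega
  have hgood' := dvd_zpowers _ hc1 (by rw [hco]; norm_num)
  rw [← hC] at hgood'
  have hgood : Good C := by
    rcases hgood' with h | h
    · exact Or.inl h
    · exact Or.inr (Or.inl h)
  set N := Subgroup.normalizer (C : Set G13) with hN
  have hCbot : C ≠ ⊥ := by
    intro h; rw [h, Subgroup.card_bot] at hCcard; omega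
  have hCtop : C ≠ ⊤ := by
    intro h; rw [h, Subgroup.card_top, card_G13] at hCcard; omega
  have hNtop : N ≠ ⊤ :=
    normalizer_ne_top' (F := ZMod 13) (by rw [card_F13]; norm_num) C hCbot hCtop
  have hNco : IsCoatom N := isCoatom_of_dvd_13 N hNtop hgood
  have h3 : 3 ∣ Nat.card N := by
    rw [← hCcard]; exact Subgroup.card_dvd_of_le Subgroup.le_normalizer
  have hNcard : Nat.card N = 12 := by
    rcases card_of_coatom_13 N hNco with h | h | h
    · exfalso
      rcases hgood' with h' | h' <;> rw [h] at h' <;> norm_num at h'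
    · rw [h] at h3; norm_num at h3
    · exact h
  -- `H ≤ N`
  have hCH : (Subgroup.zpowers c : Subgroup H).map H.subtype = C := by
    rw [hC, MonoidHom.map_zpowers]; rfl
  have hidx : (Subgroup.zpowers c : Subgroup H).index = 2 := by
    have h1 := (Subgroup.zpowers c : Subgroup H).index_mul_card
    rw [Nat.card_zpowers, hc, hcard] at h1
    omega
  haveI : (Subgroup.zpowers c : Subgroup H).Normal := Subgroup.normal_of_index_eq_two hidx
  have hHN : H ≤ N := by
    have h1 := Subgroup.le_normalizer_map (H := (Subgroup.zpowers c : Subgroup H)) H.subtype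
    rw [Subgroup.normalizer_eq_top, hCH] at h1
    intro h hh
    exact h1 ⟨⟨h, hh⟩, Subgroup.mem_top _, rfl⟩
  -- index two again
  have hidx2 : (H.subgroupOf N).index = 2 := by
    have h1 := (H.subgroupOf N).index_mul_card
    rw [Nat.card_congr (Subgroup.subgroupOfEquivOfLe hHN).toEquiv, hNcard, hcard] at h1
    omega
  haveI : (H.subgroupOf N).Normal := Subgroup.normal_of_index_eq_two hidx2
  have hNH : N ≤ Subgroup.normalizer (H : Set G13) := Subgroup.le_normalizer_of_normal_subgroupOf hHN
  left
  rw [← hNcard]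
  exact Subgroup.card_dvd_of_le hNH

set_option maxHeartbeats 400000 in
/-- every nontrivial proper subgroup is good -/
theorem good_of_ne (H : Subgroup G13) (hbot : H ≠ ⊥) (htop : H ≠ ⊤) : Good H := by
  classical
  have hGcard := card_G13
  have hHdvd : Nat.card H ∣ 1092 := by rw [← card_G13]; exact Subgroup.card_subgroup_dvd_card _
  rcases dickson_sub (E := ZMod 13) 13 H with hcyc | ⟨n, c, hc, hnp, ⟨e⟩⟩ | ⟨hB, hdvd⟩ | ⟨⟨e⟩⟩ |
    ⟨⟨e⟩⟩ | ⟨⟨e⟩⟩ | hfr
  · exact good_of_isCyclic H hcyc hbot
  · -- dihedral
    have hn0 : 0 < n := by rw [← hc]; exact orderOf_pos c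
    have hcard : Nat.card H = 2 * n := by rw [Nat.card_congr e.toEquiv, DihedralGroup.nat_card]
    have hco : orderOf (c : G13) = n := by rw [Subgroup.orderOf_coe, hc]
    have hn : n = 1 ∨ n = 2 ∨ n = 3 ∨ n = 6 ∨ n = 7 := by
      rcases orderOf_dvd_13 (c : G13) with h | h | h <;> rw [hco] at h
      · rcases (Nat.dvd_prime (by norm_num)).1 h with h | h
        · exact Or.inl h
        · exact absurd (h ▸ dvd_rfl) hnp
      · have : n ≤ 6 := Nat.le_of_dvd (by norm_num) h
        interval_cases n <;> simp_all
      · rcases (Nat.dvd_prime (by norm_num)).1 h with h | h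
        · exact Or.inl h
        · exact Or.inr (Or.inr (Or.inr (Or.inr h)))
    rcases hn with rfl | rfl | rfl | rfl | rfl
    · -- order two: cyclic
      haveI : Fact (Nat.Prime 2) := ⟨Nat.prime_two⟩
      exact good_of_isCyclic H (isCyclic_of_prime_card (p := 2) (by rw [hcard])) hbot
    · -- Klein four
      have hV : IsKleinFour H := isKleinFour_of_mulEquiv (inferInstance : IsKleinFour (DihedralGroup 2)) e.symm
      rcases card_normalizer_klein (F := ZMod 13) odd_F13 H hV with ⟨h1, -⟩ | ⟨-, h2⟩
      · rw [card_F13] at h1; omega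
      · left; rw [h2]
    · exact good_of_dihedral_three H c hc (by rw [hcard])
    · exact good_of_dvd H (Or.inl (by rw [hcard]))
    · exact good_of_dvd H (Or.inr (Or.inl (by rw [hcard])))
  · -- Borel type
    obtain ⟨P, g, hle⟩ := hB
    apply good_conj H g
    set H' := H.map (MulAut.conj g).toMonoidHom with hH'
    have hcard' : Nat.card H' = Nat.card H :=
      Subgroup.card_map_of_injective (f := (MulAut.conj g).toMonoidHom) (MulAut.conj g).injective
    have hdvd' : 13 ∣ Nat.card H' := by rw [hcard']; exact hdvd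
    obtain ⟨x, hx⟩ := exists_prime_orderOf_dvd_card' (G := H') 13 hdvd'
    have hxo : orderOf (x : G13) = 13 := by rw [Subgroup.orderOf_coe, hx]
    have hxN : (x : G13) ∈ Subgroup.normalizer ((P : Subgroup G13) : Set G13) := hle x.2
    have hpz : IsPGroup 13 (Subgroup.zpowers (x : G13)) :=
      IsPGroup.of_card (n := 1) (by rw [Nat.card_zpowers, hxo]; norm_num)
    have hinf := hpz.inf_normalizer_sylow P
    have hxP : (x : G13) ∈ (P : Subgroup G13) :=
      (hinf.le ⟨Subgroup.mem_zpowers _, hxN⟩).2
    have hzP : Subgroup.zpowers (x : G13) = (P : Subgroup G13) :=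
      Subgroup.eq_of_le_of_card_ge ((Subgroup.zpowers_le).2 hxP)
        (by rw [Nat.card_zpowers, hxo, card_sylow_13])
    have hPH : (P : Subgroup G13) ≤ H' := by
      rw [← hzP, Subgroup.zpowers_le]; exact x.2
    exact good_of_sylow P H' hPH hle
  · exact good_of_dvd H (Or.inl (by rw [Nat.card_congr e.toEquiv, card_A4']))
  · exfalso
    rw [Nat.card_congr e.toEquiv, card_S4'] at hHdvd
    norm_num at hHdvd
  · exfalso
    rw [Nat.card_congr e.toEquiv, card_A5'] at hHdvd
    norm_num at hHdvd
  · exfalso
    obtain ⟨K, P, Q, hPQ, hQP, hle, -⟩ := frame_conj (F := ZMod 13) odd_F13 H hfr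
    apply htop
    have h1 : stdPSL K = ⊤ := by
      rw [eq_top_iff]
      intro y _
      obtain ⟨g, rfl⟩ := QuotientGroup.mk'_surjective (Subgroup.center _) y
      exact mem_stdPSL_of_entries K g (fun i j => subfield_13_eq_top K _)
    rw [h1, top_le_iff] at hle
    rw [eq_top_iff]
    intro y _
    have : (conjPSL P Q hPQ hQP) y ∈ H.map (conjPSL P Q hPQ hQP).toMonoidHom := by
      rw [hle]; exact Subgroup.mem_top _
    obtain ⟨z, hz, hzy⟩ := this
    have : z = y := (conjPSL P Q hPQ hQP).injective hzy
    rw [← this]; exact hz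

/-- in `PSL₂(13)` the normalizer of every non-normal subgroup is maximal -/
theorem isCoatom_normalizer_13 (H : Subgroup G13) (hH : ¬ H.Normal) :
    IsCoatom (Subgroup.normalizer (H : Set G13)) := by
  have hbot : H ≠ ⊥ := by
    intro h; apply hH; rw [h]; infer_instance
  have htop : H ≠ ⊤ := by
    intro h; apply hH; rw [h]; infer_instance
  apply isCoatom_of_dvd_13
  · exact normalizer_ne_top' (F := ZMod 13) (by rw [card_F13]; norm_num) H hbot htop
  · exact good_of_ne H hbot htop

end Cfsg.Agent.Helper46.Nm
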