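import Mathlib

set_option autoImplicit false

/-!
# Groups in which every non-normal subgroup has a maximal normalizer: transfer lemmas
-/

namespace Cfsg.Agent.Helper46.Nm

/-- every non-normal subgroup has a maximal normalizer -/
def MaxNorm (K : Type*) [Group K] : Prop :=
  ∀ H : Subgroup K, ¬ H.Normal → IsCoatom (Subgroup.normalizer (H : Set K))

theorem MaxNorm.of_equiv {K K' : Type*} [Group K] [Group K'] (e : K ≃* K') (h : MaxNorm K') :
    MaxNorm K := by
  intro H hH
  have hH' : ¬ (H.map e.toMonoidHom).Normal := by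
    intro hn
    apply hH
    have := hn.comap e.toMonoidHom
    rwa [Subgroup.comap_map_eq_self_of_injective e.injective] at this
  have hco := h _ hH'
  rw [← Subgroup.map_equiv_normalizer_eq] at hco
  exact (e.mapSubgroup.isCoatom_iff _).1 hco

section Prod

variable {K S : Type*} [Group K] [CommGroup S] [Finite K] [Finite S]

/-- a subgroup of a product of groups of coprime orders contains the components of its
elements -/
theorem fst_mem_of_coprime (hKS : (Nat.card K).Coprime (Nat.card S)) (H : Subgroup (K × S))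
    {k : K} {s : S} (h : (k, s) ∈ H) : (k, (1 : S)) ∈ H := by
  have hb : (Nat.card K : ℤ) * Nat.gcdA (Nat.card K) (Nat.card S) +
      (Nat.card S : ℤ) * Nat.gcdB (Nat.card K) (Nat.card S) = 1 := by
    have := Nat.gcd_eq_gcd_ab (Nat.card K) (Nat.card S)
    rw [hKS] at this
    exact_mod_cast this.symm
  set z : ℤ := (Nat.card S : ℤ) * Nat.gcdB (Nat.card K) (Nat.card S) with hz
  have hmem := H.zpow_mem h z
  have e1 : s ^ z = 1 := by
    rw [hz, zpow_mul, zpow_natCast, pow_card_eq_one', one_zpow]
  have e2 : k ^ z = k := by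
    have : z = 1 - (Nat.card K : ℤ) * Nat.gcdA (Nat.card K) (Nat.card S) := by
      rw [hz]; linarith
    rw [this, zpow_sub, zpow_one, zpow_mul, zpow_natCast, pow_card_eq_one', one_zpow, inv_one,
      mul_one]
  have e3 : (k, s) ^ z = (k, 1) := by
    apply Prod.ext
    · rw [Prod.pow_fst]; exact e2
    · rw [Prod.pow_snd]; exact e1
  rw [e3] at hmem
  exact hmem

theorem snd_mem_of_coprime (hKS : (Nat.card K).Coprime (Nat.card S)) (H : Subgroup (K × S))
    {k : K} {s : S} (h : (k, s) ∈ H) : ((1 : K), s) ∈ H := by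
  have h1 := fst_mem_of_coprime hKS H h
  have : ((1 : K), s) = (k, (1 : S))⁻¹ * (k, s) := by
    simp
  rw [this]
  exact H.mul_mem (H.inv_mem h1) h

theorem mem_iff_of_coprime (hKS : (Nat.card K).Coprime (Nat.card S)) (H : Subgroup (K × S))
    (k : K) (s : S) : (k, s) ∈ H ↔ (k, (1 : S)) ∈ H ∧ ((1 : K), s) ∈ H := by
  constructor
  · intro h
    exact ⟨fst_mem_of_coprime hKS H h, snd_mem_of_coprime hKS H h⟩
  · rintro ⟨h1, h2⟩
    have : (k, s) = (k, (1 : S)) * ((1 : K), s) := by simp
    rw [this]
    exact H.mul_mem h1 h2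

theorem MaxNorm.prod (hKS : (Nat.card K).Coprime (Nat.card S)) (h : MaxNorm K) :
    MaxNorm (K × S) := by
  intro H hH
  set HK : Subgroup K := H.comap (MonoidHom.inl K S) with hHK
  have hmemHK : ∀ k : K, k ∈ HK ↔ (k, (1 : S)) ∈ H := fun k => Iff.rfl
  -- conjugation on the second factor is trivial
  have hconj : ∀ (g : K) (t : S) (k : K) (s : S),
      (g, t) * (k, s) * (g, t)⁻¹ = (g * k * g⁻¹, s) := by
    intro g t k s
    apply Prod.ext
    · simp
    · simp
  have hHKn : ¬ HK.Normal := by
    intro hn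
    apply hH
    constructor
    rintro ⟨k, s⟩ hks ⟨g, t⟩
    rw [hconj]
    rw [mem_iff_of_coprime hKS] at hks ⊢
    refine ⟨?_, hks.2⟩
    exact (hmemHK _).1 (hn.conj_mem k ((hmemHK k).2 hks.1) g)
  have hco := h HK hHKn
  set N₁ := Subgroup.normalizer (HK : Set K) with hN₁
  have hN : Subgroup.normalizer (H : Set (K × S)) = N₁.prod ⊤ := by
    ext ⟨g, t⟩
    rw [Subgroup.mem_prod, Subgroup.mem_normalizer_iff]
    simp only [Subgroup.mem_top, and_true]
    rw [hN₁, Subgroup.mem_normalizer_iff]
    constructor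
    · intro hx k
      rw [hmemHK, hmemHK]
      have := hx (k, 1)
      rw [hconj] at this
      exact this
    · rintro hx ⟨k, s⟩
      rw [hconj, mem_iff_of_coprime hKS, mem_iff_of_coprime hKS H (g * k * g⁻¹) s]
      rw [← hmemHK, ← hmemHK, hx k]
  rw [hN]
  constructor
  · intro htop
    apply hco.1
    rw [eq_top_iff]
    intro k _
    have : (k, (1 : S)) ∈ N₁.prod ⊤ := by rw [htop]; exact Subgroup.mem_top _
    exact (Subgroup.mem_prod.1 this).1
  · intro M hM
    set MK : Subgroup K := M.comap (MonoidHom.inl K S) with hMK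
    have hmemMK : ∀ k : K, k ∈ MK ↔ (k, (1 : S)) ∈ M := fun k => Iff.rfl
    have hsM : ∀ s : S, ((1 : K), s) ∈ M := by
      intro s
      apply hM.le
      rw [Subgroup.mem_prod]
      exact ⟨N₁.one_mem, Subgroup.mem_top _⟩
    have hks : ∀ (k : K) (s : S), (k, s) ∈ M ↔ k ∈ MK := by
      intro k s
      rw [hmemMK]
      constructor
      · intro hm
        have : (k, (1 : S)) = (k, s) * ((1 : K), s)⁻¹ := by simp
        rw [this]
        exact M.mul_mem hm (M.inv_mem (hsM s))
      · intro hm
        have : (k, s) = (k, (1 : S)) * ((1 : K), s) := by simp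
        rw [this]
        exact M.mul_mem hm (hsM s)
    have hle : N₁ ≤ MK := by
      intro k hk
      rw [hmemMK]
      apply hM.le
      rw [Subgroup.mem_prod]
      exact ⟨hk, Subgroup.mem_top _⟩
    rcases hco.le_iff.1 hle with hMKtop | hMKeq
    · rw [eq_top_iff]
      rintro ⟨k, s⟩ _
      rw [hks, hMKtop]
      exact Subgroup.mem_top _
    · exfalso
      apply hM.not_ge
      rintro ⟨k, s⟩ hm
      rw [hks, hMKeq] at hm
      rw [Subgroup.mem_prod]
      exact ⟨hm, Subgroup.mem_top _⟩

end Prod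

end Cfsg.Agent.Helper46.Nm
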