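import Mathlib
import Cfsg.Agent.Helper46.NmE

set_option autoImplicit false

/-!
# Maximal normalizers: lifting through a central quotient of order two containing all involutions
-/

namespace Cfsg.Agent.Helper46.Nm

theorem MaxNorm.of_center_quotient {G : Type*} [Group G] [Finite G]
    (hcard : Nat.card (Subgroup.center G) = 2)
    (hinv : ∀ x : G, x * x = 1 → x ∈ Subgroup.center G)
    (h : MaxNorm (G ⧸ Subgroup.center G)) : MaxNorm G := by
  classical
  set Z := Subgroup.center G with hZ
  set π := QuotientGroup.mk' Z with hπ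
  have hπs : Function.Surjective π := QuotientGroup.mk'_surjective Z
  -- the nontrivial central element
  obtain ⟨z₀', hz₀', huniq⟩ := (Nat.card_eq_two_iff' (1 : Z)).1 hcard
  set z₀ : G := (z₀' : G) with hz₀
  have hz₀Z : z₀ ∈ Z := z₀'.2
  have hz₀1 : z₀ ≠ 1 := by
    intro h1
    apply hz₀'
    exact Subtype.ext h1
  have hZcases : ∀ z ∈ Z, z = 1 ∨ z = z₀ := by
    intro z hz
    by_cases h1 : z = 1
    · exact Or.inl h1
    · right
      have : (⟨z, hz⟩ : Z) = z₀' := huniq ⟨z, hz⟩ (fun h2 => h1 (congrArg Subtype.val h2))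
      exact congrArg Subtype.val this
  have hz₀sq : z₀ * z₀ = 1 := by
    rcases hZcases (z₀ * z₀) (Z.mul_mem hz₀Z hz₀Z) with h1 | h1
    · exact h1
    · exfalso
      apply hz₀1
      have : z₀ * z₀ = z₀ * 1 := by rw [mul_one]; exact h1
      exact mul_left_cancel this
  have hz₀comm : ∀ g : G, Commute g z₀ := fun g => (Subgroup.mem_center_iff.1 hz₀Z g)
  intro H hH
  set Hb := H.map π with hHb
  -- the key claim
  have key : ∀ g : G, π g ∈ Subgroup.normalizer (Hb : Set (G ⧸ Z)) → ∀ x ∈ H, g * x * g⁻¹ ∈ H := by
    intro g hg x hx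
    have h1 : π (g * x * g⁻¹) ∈ Hb := by
      rw [map_mul, map_mul, map_inv]
      exact (Subgroup.mem_normalizer_iff.1 hg (π x)).1 (Subgroup.mem_map_of_mem π hx)
    obtain ⟨x', hx', hxx'⟩ := h1
    have hzmem : x'⁻¹ * (g * x * g⁻¹) ∈ Z := QuotientGroup.eq.1 hxx'
    have hgx : g * x * g⁻¹ = x' * (x'⁻¹ * (g * x * g⁻¹)) := by group
    rcases hZcases _ hzmem with hz | hz
    · rw [hgx, hz, mul_one]; exact hx'
    · by_cases hz₀H : z₀ ∈ H
      · rw [hgx, hz]; exact H.mul_mem hx' hz₀H
      · exfalso
        -- `H` has odd order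
        have hoddH : ¬ 2 ∣ Nat.card H := by
          intro h2
          obtain ⟨y, hy⟩ := exists_prime_orderOf_dvd_card' (G := H) 2 h2
          have hy2 : (y : G) * (y : G) = 1 := by
            have : y ^ 2 = 1 := by rw [← hy]; exact pow_orderOf_eq_one y
            have := congrArg Subtype.val this
            rw [pow_two] at this
            exact this
          rcases hZcases _ (hinv _ hy2) with h3 | h3
          · have : y = 1 := Subtype.ext h3
            rw [this, orderOf_one] at hy
            omega
          · apply hz₀H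
            rw [← h3]; exact y.2
        set n := Nat.card H with hn
        have hxn : x ^ n = 1 := by
          have h5 : (⟨x, hx⟩ : H) ^ Nat.card H = 1 := pow_card_eq_one'
          have h6 := congrArg Subtype.val h5
          rw [Subgroup.coe_pow, Subgroup.coe_one] at h6
          exact h6
        have hx'n : x' ^ n = 1 := by
          have h5 : (⟨x', hx'⟩ : H) ^ Nat.card H = 1 := pow_card_eq_one'
          have h6 := congrArg Subtype.val h5
          rw [Subgroup.coe_pow, Subgroup.coe_one] at h6
          exact h6
        have h4 : (g * x * g⁻¹) ^ n = 1 := by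
          rw [conj_pow, hxn]; group
        rw [hgx, hz, (hz₀comm x').mul_pow, hx'n, one_mul] at h4
        obtain ⟨m, hm⟩ : ∃ m, n = 2 * m + 1 := by
          have : n % 2 = 1 := by omega
          exact ⟨n / 2, by omega⟩
        rw [hm, pow_succ, pow_mul, pow_two, hz₀sq, one_pow, one_mul] at h4
        exact hz₀1 h4
  have hN : Subgroup.normalizer (H : Set G) =
      (Subgroup.normalizer (Hb : Set (G ⧸ Z))).comap π := by
    apply le_antisymm
    · intro g hg
      exact Subgroup.le_normalizer_map π ⟨g, hg, rfl⟩
    · intro g hg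
      rw [Subgroup.mem_comap] at hg
      rw [Subgroup.mem_normalizer_iff]
      intro x
      constructor
      · exact key g hg x
      · intro hx
        have hg' : π g⁻¹ ∈ Subgroup.normalizer (Hb : Set (G ⧸ Z)) := by
          rw [map_inv]; exact Subgroup.inv_mem _ hg
        have := key g⁻¹ hg' _ hx
        have e : g⁻¹ * (g * x * g⁻¹) * g⁻¹⁻¹ = x := by group
        rw [e] at this
        exact this
  have hHbn : ¬ Hb.Normal := by
    intro hn
    apply hH
    rw [← Subgroup.normalizer_eq_top_iff, hN, Subgroup.normalizer_eq_top_iff.2 hn,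
      Subgroup.comap_top]
  rw [hN]
  exact Subgroup.isCoatom_comap_of_surjective hπs (h Hb hHbn)

end Cfsg.Agent.Helper46.Nm
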