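import Mathlib
import Cfsg.Agent.Helper46.PSL2Card
import Cfsg.Agent.Helper5.PSL2Simple
import Cfsg.Agent.S0144

set_option autoImplicit false

/-!
# Solvability facts used for the corollaries of Dickson's list
-/

namespace Cfsg.Agent.Helper46.Dk

open Matrix

/-- the sign character of a dihedral group -/
def dihedralSign (n : ℕ) : DihedralGroup n →* ℤˣ :=
  MonoidHom.mk' (fun g => match g with
    | DihedralGroup.r _ => 1
    | DihedralGroup.sr _ => -1) (by
    intro a b
    cases a <;> cases b <;> simp [DihedralGroup.r_mul_r, DihedralGroup.r_mul_sr,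
      DihedralGroup.sr_mul_r, DihedralGroup.sr_mul_sr])

theorem mem_ker_dihedralSign {n : ℕ} (g : DihedralGroup n) :
    g ∈ (dihedralSign n).ker → ∃ i, g = DihedralGroup.r i := by
  intro hg
  cases g with
  | r i => exact ⟨i, rfl⟩
  | sr i =>
    exfalso
    rw [MonoidHom.mem_ker] at hg
    have : (-1 : ℤˣ) = 1 := hg
    exact absurd this (by decide)

instance isSolvable_dihedral (n : ℕ) : Group.IsSolvable (DihedralGroup n) := by
  have : Group.IsSolvable ↥(dihedralSign n).ker := by
    apply Group.isSolvable_of_comm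
    intro a b
    obtain ⟨i, hi⟩ := mem_ker_dihedralSign a.1 a.2
    obtain ⟨j, hj⟩ := mem_ker_dihedralSign b.1 b.2
    apply Subtype.ext
    show a.1 * b.1 = b.1 * a.1
    rw [hi, hj, DihedralGroup.r_mul_r, DihedralGroup.r_mul_r, add_comm]
  apply Group.isSolvable_of_ker_le_range ((dihedralSign n).ker.subtype) (dihedralSign n)
  intro g hg
  exact ⟨⟨g, hg⟩, rfl⟩

theorem isSolvable_of_mulEquiv {G H : Type*} [Group G] [Group H] (e : G ≃* H)
    [Group.IsSolvable H] : Group.IsSolvable G :=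
  Group.isSolvable_of_isSolvable_injective (f := e.toMonoidHom) e.injective

theorem isSolvable_of_isCyclic {G : Type*} [Group G] [IsCyclic G] : Group.IsSolvable G := by
  apply Group.isSolvable_of_comm
  intro a b
  obtain ⟨g, hg⟩ := IsCyclic.exists_generator (α := G)
  obtain ⟨i, rfl⟩ := Subgroup.mem_zpowers_iff.1 (hg a)
  obtain ⟨j, rfl⟩ := Subgroup.mem_zpowers_iff.1 (hg b)
  rw [← _root_.zpow_add, ← _root_.zpow_add, add_comm]

/-- groups of order `2^a 3^b` are solvable (Burnside) -/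
theorem isSolvable_of_card_two_three {G : Type*} [Group G] [Finite G] (a b : ℕ)
    (h : Nat.card G = 2 ^ a * 3 ^ b) : Group.IsSolvable G :=
  Cfsg.Agent.S0144.result 2 3 a b Nat.prime_two Nat.prime_three h

theorem not_isSolvable_A5 : ¬ Group.IsSolvable (alternatingGroup (Fin 5)) := by
  intro h
  apply Equiv.Perm.not_isSolvable_fin_5
  apply Group.isSolvable_of_ker_le_range (alternatingGroup (Fin 5)).subtype
    (Equiv.Perm.sign (α := Fin 5))
  intro g hg
  exact ⟨⟨g, hg⟩, rfl⟩

section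

variable {F : Type*} [Field F]

/-- `PSL₂(F)` is never commutative -/
theorem not_comm_PSL2 :
    ¬ ∀ a b : Matrix.ProjectiveSpecialLinearGroup (Fin 2) F, a * b = b * a := by
  intro h
  have h1 := h (QuotientGroup.mk (uU 1)) (QuotientGroup.mk (vV 1))
  rw [← QuotientGroup.mk_mul, ← QuotientGroup.mk_mul] at h1
  have h2 : (uU (1 : F) * vV 1)⁻¹ * (vV 1 * uU 1) ∈
      Subgroup.center (Matrix.SpecialLinearGroup (Fin 2) F) := QuotientGroup.eq.1 h1
  rw [mem_center_iff'] at h2
  obtain ⟨h01, h10, h00⟩ := h2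
  rw [mul_01, inv_00, inv_01, mul_11, mul_01, mul_01, mul_11] at h01
  have e1 : (uU (1 : F)).1 0 0 = 1 := rfl
  have e2 : (uU (1 : F)).1 0 1 = 1 := rfl
  have e3 : (uU (1 : F)).1 1 0 = 0 := rfl
  have e4 : (uU (1 : F)).1 1 1 = 1 := rfl
  have f1 : (vV (1 : F)).1 0 0 = 1 := rfl
  have f2 : (vV (1 : F)).1 0 1 = 0 := rfl
  have f3 : (vV (1 : F)).1 1 0 = 1 := rfl
  have f4 : (vV (1 : F)).1 1 1 = 1 := rfl
  rw [e1, e2, e3, e4, f1, f2, f3, f4] at h01
  have h3 : (1 : F) = 0 := by linear_combination -h01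
  exact one_ne_zero h3

theorem not_isMulCommutative_PSL2 :
    ¬ IsMulCommutative (Matrix.ProjectiveSpecialLinearGroup (Fin 2) F) := by
  intro h
  exact not_comm_PSL2 (F := F) (fun a b => h.is_comm.comm a b)

theorem not_isSolvable_PSL2 [Fintype F] (h : 4 ≤ Fintype.card F) :
    ¬ Group.IsSolvable (Matrix.ProjectiveSpecialLinearGroup (Fin 2) F) := by
  intro hs
  haveI := Cfsg.Agent.Helper5.isSimpleGroup_PSL2_of_card (F := F) h
  exact not_comm_PSL2 (F := F) (IsSimpleGroup.comm_iff_isSolvable.2 hs)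

end

end Cfsg.Agent.Helper46.Dk
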