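import Mathlib

set_option autoImplicit false

namespace Cfsg.Agent.Helper46

open Matrix Polynomial

section F4

variable {F : Type*} [Field F] [Fintype F]

theorem f4_cube_eq_one (hF : Fintype.card F = 4) {a : F} (ha : a ≠ 0) : a ^ 3 = 1 := by
  have := FiniteField.pow_card_sub_one_eq_one a ha
  rwa [hF] at this

theorem f4_two_eq_zero (hF : Fintype.card F = 4) : (2 : F) = 0 := by
  have h4 : ((Fintype.card F : ℕ) : F) = 0 := Nat.cast_card_eq_zero F
  rw [hF] at h4
  have : (2 : F) * 2 = 0 := by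
    have e : ((4 : ℕ) : F) = 2 * 2 := by norm_num
    rw [← e]; exact h4
  exact mul_self_eq_zero.1 this

theorem f4_add_self (hF : Fintype.card F = 4) (a : F) : a + a = 0 := by
  have := f4_two_eq_zero hF
  calc a + a = 2 * a := by ring
    _ = 0 := by rw [this, zero_mul]

theorem f4_neg (hF : Fintype.card F = 4) (a : F) : -a = a := by
  have := f4_add_self hF a
  exact neg_eq_of_add_eq_zero_left this

/-- A primitive cube root of unity. -/
theorem f4_exists_omega (hF : Fintype.card F = 4) : ∃ ω : F, ω ≠ 1 ∧ ω ≠ 0 ∧ ω ^ 3 = 1 := by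
  have h2 : 2 < Fintype.card F := by rw [hF]; norm_num
  obtain ⟨a, b, c, hab, hac, hbc⟩ := Fintype.two_lt_card_iff.1 h2
  have key : ∃ ω : F, ω ≠ 1 ∧ ω ≠ 0 := by
    by_cases ha : a ≠ 1 ∧ a ≠ 0
    · exact ⟨a, ha⟩
    by_cases hb : b ≠ 1 ∧ b ≠ 0
    · exact ⟨b, hb⟩
    refine ⟨c, ?_, ?_⟩
    · rintro rfl
      have ha' : a = 0 := by
        by_contra h; exact ha ⟨hac, h⟩
      have hb' : b = 0 := by
        by_contra h; exact hb ⟨hbc, h⟩
      exact hab (ha'.trans hb'.symm)
    · rintro rfl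
      have ha' : a = 1 := by
        by_contra h; exact ha ⟨h, hac⟩
      have hb' : b = 1 := by
        by_contra h; exact hb ⟨h, hbc⟩
      exact hab (ha'.trans hb'.symm)
  obtain ⟨ω, h1, h0⟩ := key
  exact ⟨ω, h1, h0, f4_cube_eq_one hF h0⟩

theorem omega_sq_add (hF : Fintype.card F = 4) {ω : F} (h1 : ω ≠ 1) (h3 : ω ^ 3 = 1) :
    ω ^ 2 + ω + 1 = 0 := by
  have h : (ω - 1) * (ω ^ 2 + ω + 1) = 0 := by
    have : (ω - 1) * (ω ^ 2 + ω + 1) = ω ^ 3 - 1 := by ring
    rw [this, h3, sub_self]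
  rcases mul_eq_zero.1 h with h | h
  · exact absurd (sub_eq_zero.1 h) h1
  · exact h

/-- Cayley–Hamilton analysis: a non-scalar `3 × 3` matrix of determinant `1` over `𝔽₄` whose cube is
scalar has characteristic polynomial `X³ - 1`, and its cube is `1`. -/
theorem charpoly_of_cube_scalar (hF : Fintype.card F = 4) {x : Matrix (Fin 3) (Fin 3) F}
    (hdet : x.det = 1) {l : F} (hx3 : x ^ 3 = l • (1 : Matrix (Fin 3) (Fin 3) F))
    (hns : ∀ r : F, x ≠ r • (1 : Matrix (Fin 3) (Fin 3) F)) :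
    l = 1 ∧ x.charpoly = X ^ 3 - 1 := by
  have hmonic := x.charpoly_monic
  have hdeg : x.charpoly.natDegree = 3 := by simpa using x.charpoly_natDegree_eq_dim
  have hc3 : x.charpoly.coeff 3 = 1 := by
    have := hmonic.coeff_natDegree
    rwa [hdeg] at this
  have hc0 : x.charpoly.coeff 0 = -1 := by
    have h := x.det_eq_sign_charpoly_coeff
    rw [hdet] at h
    have e : ((-1 : F)) ^ Fintype.card (Fin 3) = -1 := by
      rw [Fintype.card_fin]; norm_num
    rw [e] at h
    linear_combination h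
  obtain ⟨c₁, hc₁⟩ : ∃ c, x.charpoly.coeff 1 = c := ⟨_, rfl⟩
  obtain ⟨c₂, hc₂⟩ : ∃ c, x.charpoly.coeff 2 = c := ⟨_, rfl⟩
  have hχ : x.charpoly = X ^ 3 + C c₂ * X ^ 2 + C c₁ * X + C (-1) := by
    have h := Polynomial.as_sum_range' x.charpoly 4 (by rw [hdeg]; norm_num)
    simp only [Finset.sum_range_succ, Finset.range_one, Finset.sum_singleton] at h
    rw [hc3, hc0, hc₁, hc₂] at h
    rw [h]
    simp only [← C_mul_X_pow_eq_monomial, map_one, one_mul, pow_zero, mul_one, pow_one]
    ring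
  -- the annihilator
  have hmulI : ∀ a q : F[X], aeval x q = 0 → aeval x (a * q) = 0 := by
    intro a q hq; rw [map_mul, hq, mul_zero]
  have hI1 : aeval x (X ^ 3 - C l : F[X]) = 0 := by
    rw [map_sub, map_pow, aeval_X, aeval_C, hx3, Algebra.algebraMap_eq_smul_one, sub_self]
  have hI2 : aeval x x.charpoly = 0 := x.aeval_self_charpoly
  have hlin : ∀ s : F, aeval x (X - C s : F[X]) ≠ 0 := by
    intro s h
    rw [map_sub, aeval_X, aeval_C, Algebra.algebraMap_eq_smul_one, sub_eq_zero] at h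
    exact hns s h
  have hconst : ∀ s : F, aeval x (C s : F[X]) = 0 → s = 0 := by
    intro s h
    rw [aeval_C, Algebra.algebraMap_eq_smul_one] at h
    have := congrFun (congrFun h 0) 0
    simpa using this
  have hl3 : l ^ 3 = 1 := by
    have h := congrArg Matrix.det hx3
    rw [Matrix.det_pow, hdet, one_pow, Matrix.det_smul, Matrix.det_one, mul_one] at h
    simpa using h.symm
  have hl0 : l ≠ 0 := by
    rintro rfl
    rw [zero_pow (by norm_num)] at hl3
    exact zero_ne_one hl3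
  have hr : aeval x (C c₂ * X ^ 2 + C c₁ * X + C (-1 + l) : F[X]) = 0 := by
    have e : (C c₂ * X ^ 2 + C c₁ * X + C (-1 + l) : F[X]) = x.charpoly - (X ^ 3 - C l) := by
      rw [hχ]; simp only [map_add, map_neg, map_one]; ring
    rw [e, map_sub, hI1, hI2, sub_zero]
  by_cases h2 : c₂ = 0
  · rw [h2, map_zero, zero_mul, zero_add] at hr
    by_cases h1 : c₁ = 0
    · rw [h1, map_zero, zero_mul, zero_add] at hr
      have hl : l = 1 := by
        have := hconst _ hr
        linear_combination this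
      refine ⟨hl, ?_⟩
      rw [hχ, h2, h1]
      simp
      ring
    · exfalso
      apply hlin (-(-1 + l) / c₁)
      have e : (X - C (-(-1 + l) / c₁) : F[X]) = C c₁⁻¹ * (C c₁ * X + C (-1 + l)) := by
        rw [mul_add, ← mul_assoc, ← C_mul, inv_mul_cancel₀ h1, ← C_mul]
        simp only [map_one, one_mul]
        rw [sub_eq_add_neg, ← C_neg]
        congr 2
        field_simp
      rw [e]
      exact hmulI _ _ hr
  · exfalso
    obtain ⟨α, hα⟩ : ∃ α : F, α = -c₁ / c₂ := ⟨_, rfl⟩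
    obtain ⟨β, hβ⟩ : ∃ β : F, β = -(-1 + l) / c₂ := ⟨_, rfl⟩
    have hq : aeval x (X ^ 2 - C α * X - C β : F[X]) = 0 := by
      have e : (X ^ 2 - C α * X - C β : F[X]) =
          C c₂⁻¹ * (C c₂ * X ^ 2 + C c₁ * X + C (-1 + l)) := by
        have e1 : C c₂⁻¹ * (C c₂ * X ^ 2 + C c₁ * X + C (-1 + l)) =
            C (c₂⁻¹ * c₂) * X ^ 2 + C (c₂⁻¹ * c₁) * X + C (c₂⁻¹ * (-1 + l)) := by
          simp only [C_mul]; ring
        rw [e1, inv_mul_cancel₀ h2]
        have e2 : c₂⁻¹ * c₁ = -α := by rw [hα]; field_simp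
        have e3 : c₂⁻¹ * (-1 + l) = -β := by rw [hβ]; field_simp
        rw [e2, e3]
        simp only [map_one, one_mul, C_neg]
        ring
      rw [e]
      exact hmulI _ _ hr
    have hrem : aeval x (C (α ^ 2 + β) * X + C (α * β - l) : F[X]) = 0 := by
      have e : (C (α ^ 2 + β) * X + C (α * β - l) : F[X]) =
          (X ^ 3 - C l) - (X + C α) * (X ^ 2 - C α * X - C β) := by
        simp only [map_add, map_sub, map_mul, map_pow]
        ring
      rw [e, map_sub, hI1, hmulI _ _ hq, sub_zero]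
    by_cases h3 : α ^ 2 + β = 0
    · rw [h3, map_zero, zero_mul, zero_add] at hrem
      have hl : α * β = l := by
        have := hconst _ hrem
        linear_combination this
      have hβ' : β = -α ^ 2 := by linear_combination h3
      have hα0 : α ≠ 0 := by
        rintro h0
        rw [h0, zero_mul] at hl
        exact hl0 hl.symm
      have hα3 : α ^ 3 = 1 := f4_cube_eq_one hF hα0
      have hl1 : l = 1 := by
        rw [← hl, hβ', ← f4_neg hF (α * -α ^ 2)]
        have : -(α * -α ^ 2) = α ^ 3 := by ring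
        rw [this, hα3]
      have hβ0 : β = 0 := by
        rw [hβ, hl1]
        simp
      rw [hβ0] at hβ'
      have : α ^ 2 = 0 := by linear_combination hβ'
      exact hα0 (pow_eq_zero_iff (by norm_num) |>.1 this)
    · apply hlin (-(α * β - l) / (α ^ 2 + β))
      have e : (X - C (-(α * β - l) / (α ^ 2 + β)) : F[X]) =
          C (α ^ 2 + β)⁻¹ * (C (α ^ 2 + β) * X + C (α * β - l)) := by
        rw [mul_add, ← mul_assoc, ← C_mul, inv_mul_cancel₀ h3, ← C_mul]
        simp only [map_one, one_mul]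
        rw [sub_eq_add_neg, ← C_neg]
        congr 2
        field_simp
      rw [e]
      exact hmulI _ _ hrem

omit [Fintype F] in
theorem exists_eigenvector_of_charpoly {x : Matrix (Fin 3) (Fin 3) F}
    (hχ : x.charpoly = X ^ 3 - 1) {μ : F} (hμ : μ ^ 3 = 1) :
    ∃ v : Fin 3 → F, v ≠ 0 ∧ x *ᵥ v = μ • v := by
  have h1 : x.charpoly.eval μ = 0 := by rw [hχ]; simp [hμ]
  rw [Matrix.eval_charpoly] at h1
  obtain ⟨v, hv, hmul⟩ := Matrix.exists_mulVec_eq_zero_iff.2 h1
  refine ⟨v, hv, ?_⟩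
  rw [Matrix.sub_mulVec] at hmul
  have : (Matrix.scalar (Fin 3) μ) *ᵥ v = μ • v := by
    ext i
    simp [Matrix.scalar_apply, Matrix.mulVec_diagonal]
  rw [this] at hmul
  exact (sub_eq_zero.1 hmul).symm

omit [Fintype F] in
theorem omega_distinct {ω : F} (h1 : ω ≠ 1) (h3 : ω ^ 3 = 1) :
    Function.Injective (![1, ω, ω ^ 2] : Fin 3 → F) := by
  have h2 : ω ^ 2 ≠ 1 := by
    intro h
    apply h1
    have : ω = ω ^ 3 * (ω ^ 2)⁻¹ := by
      have hω0 : ω ≠ 0 := by
        rintro rfl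
        rw [zero_pow (by norm_num)] at h3
        exact zero_ne_one h3
      field_simp
    rw [this, h3, h, inv_one, mul_one]
  have h4 : ω ^ 2 ≠ ω := by
    intro h
    apply h1
    have hω0 : ω ≠ 0 := by
      rintro rfl
      rw [zero_pow (by norm_num)] at h3
      exact zero_ne_one h3
    have : ω * ω = ω * 1 := by rw [mul_one, ← pow_two]; exact h
    exact mul_left_cancel₀ hω0 this
  intro i j hij
  fin_cases i <;> fin_cases j
  · rfl
  · exfalso; exact h1 (by simpa using hij.symm)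
  · exfalso; exact h2 (by simpa using hij.symm)
  · exfalso; exact h1 (by simpa using hij)
  · rfl
  · exfalso; exact h4 (by simpa using hij.symm)
  · exfalso; exact h2 (by simpa using hij)
  · exfalso; exact h4 (by simpa using hij)
  · rfl

omit [Fintype F] in
/-- A matrix with characteristic polynomial `X³ - 1` is diagonalised by a matrix of determinant `1`. -/
theorem exists_diagonalizing {x : Matrix (Fin 3) (Fin 3) F}
    (hχ : x.charpoly = X ^ 3 - 1) {ω : F} (h1 : ω ≠ 1) (h3 : ω ^ 3 = 1) :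
    ∃ P : Matrix (Fin 3) (Fin 3) F, P.det = 1 ∧ x * P = P * Matrix.diagonal ![1, ω, ω ^ 2] := by
  have hμ3 : ∀ j : Fin 3, (![1, ω, ω ^ 2] j : F) ^ 3 = 1 := by
    intro j
    fin_cases j
    · simp
    · simpa using h3
    · show (ω ^ 2) ^ 3 = 1
      rw [← pow_mul, mul_comm, pow_mul, h3, one_pow]
  choose v hv0 hv using fun j : Fin 3 => exists_eigenvector_of_charpoly hχ (hμ3 j)
  have hli : LinearIndependent F v := by
    apply Module.End.eigenvectors_linearIndependent' (Matrix.toLin' x) ![1, ω, ω ^ 2]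
      (omega_distinct h1 h3) v
    intro j
    refine ⟨?_, hv0 j⟩
    rw [Module.End.mem_eigenspace_iff, Matrix.toLin'_apply]
    exact hv j
  have hP₀ : x * (Matrix.of fun i j => v j i) =
      (Matrix.of fun i j => v j i) * Matrix.diagonal ![1, ω, ω ^ 2] := by
    ext i j
    rw [Matrix.mul_diagonal, Matrix.mul_apply]
    have := congrFun (hv j) i
    simp only [Matrix.mulVec, dotProduct, Pi.smul_apply, smul_eq_mul] at this
    simp only [Matrix.of_apply]
    rw [this, mul_comm]
  have hunit : IsUnit (Matrix.of fun i j => v j i : Matrix (Fin 3) (Fin 3) F) := by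
    rw [← Matrix.linearIndependent_cols_iff_isUnit]
    exact hli
  have hd : (Matrix.of fun i j => v j i : Matrix (Fin 3) (Fin 3) F).det ≠ 0 := by
    rw [Matrix.isUnit_iff_isUnit_det] at hunit
    exact hunit.ne_zero
  refine ⟨(Matrix.of fun i j => v j i) *
    Matrix.diagonal ![((Matrix.of fun i j => v j i : Matrix (Fin 3) (Fin 3) F).det)⁻¹, 1, 1], ?_, ?_⟩
  · rw [Matrix.det_mul, Matrix.det_diagonal, Fin.prod_univ_three]
    simp [hd]
  · rw [← mul_assoc, hP₀, mul_assoc, mul_assoc, Matrix.diagonal_mul_diagonal,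
      Matrix.diagonal_mul_diagonal]
    congr 2
    ext j
    exact mul_comm _ _

end F4

section PSL

open scoped Pointwise

variable {F : Type*} [Field F] [Fintype F]

/-- The diagonal element `diag(1, ω, ω²)` of `SL₃`. -/
def diagOmega {ω : F} (h3 : ω ^ 3 = 1) : Matrix.SpecialLinearGroup (Fin 3) F :=
  ⟨Matrix.diagonal ![1, ω, ω ^ 2], by
    rw [Matrix.det_diagonal, Fin.prod_univ_three]
    simp only [Matrix.cons_val_zero, Matrix.cons_val_one, Matrix.cons_val]
    rw [one_mul, ← pow_succ', h3]⟩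

/-- Elements of `SL₃(𝔽₄)` whose image in `PSL₃(𝔽₄)` has order `3` are conjugate to `diag(1, ω, ω²)`. -/
theorem conj_diagOmega_of_order_three (hF : Fintype.card F = 4) {ω : F} (h1 : ω ≠ 1) (h3 : ω ^ 3 = 1)
    (x : Matrix.SpecialLinearGroup (Fin 3) F)
    (hx1 : x ∉ Subgroup.center (Matrix.SpecialLinearGroup (Fin 3) F))
    (hx3 : x ^ 3 ∈ Subgroup.center (Matrix.SpecialLinearGroup (Fin 3) F)) :
    ∃ P : Matrix.SpecialLinearGroup (Fin 3) F, x = P * diagOmega h3 * P⁻¹ := by
  obtain ⟨l, _, hl⟩ := Matrix.SpecialLinearGroup.mem_center_iff.1 hx3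
  have hx3' : (x : Matrix (Fin 3) (Fin 3) F) ^ 3 = l • (1 : Matrix (Fin 3) (Fin 3) F) := by
    have : ((x ^ 3 : Matrix.SpecialLinearGroup (Fin 3) F) : Matrix (Fin 3) (Fin 3) F) =
        (x : Matrix (Fin 3) (Fin 3) F) ^ 3 := by simp
    rw [← this, ← hl, Matrix.scalar_apply, Matrix.smul_one_eq_diagonal]
  have hns : ∀ r : F, (x : Matrix (Fin 3) (Fin 3) F) ≠ r • (1 : Matrix (Fin 3) (Fin 3) F) := by
    intro r hr
    apply hx1
    rw [Matrix.SpecialLinearGroup.mem_center_iff]
    refine ⟨r, ?_, ?_⟩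
    · have hd := x.2
      rw [hr, Matrix.det_smul, Matrix.det_one, mul_one] at hd
      simpa using hd
    · rw [hr, Matrix.scalar_apply, Matrix.smul_one_eq_diagonal]
  obtain ⟨_, hχ⟩ := charpoly_of_cube_scalar hF x.2 hx3' hns
  obtain ⟨P, hPdet, hP⟩ := exists_diagonalizing hχ h1 h3
  obtain ⟨P', hP'⟩ : ∃ P' : Matrix.SpecialLinearGroup (Fin 3) F,
      (P' : Matrix (Fin 3) (Fin 3) F) = P := ⟨⟨P, hPdet⟩, rfl⟩
  refine ⟨P', ?_⟩
  have : x * P' = P' * diagOmega h3 := by
    apply Subtype.ext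
    show (x : Matrix (Fin 3) (Fin 3) F) * (P' : Matrix (Fin 3) (Fin 3) F) =
      (P' : Matrix (Fin 3) (Fin 3) F) * Matrix.diagonal ![1, ω, ω ^ 2]
    rw [hP']
    exact hP
  rw [← this, mul_inv_cancel_right]

theorem smul_zpowers_conj {G : Type*} [Group G] (g d : G) :
    MulAut.conj g • Subgroup.zpowers d = Subgroup.zpowers (g * d * g⁻¹) := by
  show (Subgroup.zpowers d).map (MulAut.conj g).toMonoidHom = _
  rw [MonoidHom.map_zpowers]
  rfl

/-- Every subgroup of order `3` of `PSL₃(𝔽₄)` is conjugate to the image of `⟨diag(1, ω, ω²)⟩`. -/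
theorem psl34_order_three (hF : Fintype.card F = 4) {ω : F} (h1 : ω ≠ 1) (h3 : ω ^ 3 = 1)
    (X : Subgroup (Matrix.ProjectiveSpecialLinearGroup (Fin 3) F)) (hX : Nat.card X = 3) :
    ∃ g : Matrix.ProjectiveSpecialLinearGroup (Fin 3) F,
      X = MulAut.conj g • Subgroup.zpowers
        (QuotientGroup.mk (diagOmega h3) : Matrix.ProjectiveSpecialLinearGroup (Fin 3) F) := by
  haveI : Fact (Nat.Prime 3) := ⟨Nat.prime_three⟩
  haveI : Finite X := Nat.finite_of_card_ne_zero (by rw [hX]; norm_num)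
  obtain ⟨xb, hxb⟩ := exists_prime_orderOf_dvd_card' (G := X) 3 (by rw [hX])
  have hord : orderOf (xb : Matrix.ProjectiveSpecialLinearGroup (Fin 3) F) = 3 := by
    rw [Subgroup.orderOf_coe]; exact hxb
  have hXz : Subgroup.zpowers (xb : Matrix.ProjectiveSpecialLinearGroup (Fin 3) F) = X := by
    apply Subgroup.eq_of_le_of_card_ge (Subgroup.zpowers_le.2 xb.2)
    rw [Nat.card_zpowers, hord, hX]
  obtain ⟨x, hx⟩ := QuotientGroup.mk_surjective (xb : Matrix.ProjectiveSpecialLinearGroup (Fin 3) F)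
  have hx1 : x ∉ Subgroup.center (Matrix.SpecialLinearGroup (Fin 3) F) := by
    intro h
    have : (xb : Matrix.ProjectiveSpecialLinearGroup (Fin 3) F) = 1 := by
      rw [← hx]; exact (QuotientGroup.eq_one_iff x).2 h
    rw [this, orderOf_one] at hord
    norm_num at hord
  have hx3 : x ^ 3 ∈ Subgroup.center (Matrix.SpecialLinearGroup (Fin 3) F) := by
    rw [← QuotientGroup.eq_one_iff, QuotientGroup.mk_pow, hx]
    have := pow_orderOf_eq_one (xb : Matrix.ProjectiveSpecialLinearGroup (Fin 3) F)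
    rw [hord] at this
    exact this
  obtain ⟨P, hP⟩ := conj_diagOmega_of_order_three hF h1 h3 x hx1 hx3
  refine ⟨QuotientGroup.mk P, ?_⟩
  rw [smul_zpowers_conj, ← hXz, ← hx, hP]
  rfl

end PSL

end Cfsg.Agent.Helper46
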