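import Cfsg.Agent.Helper45.PronBL3.Defs

/-! # helper45 BL3 farm (#15446), leaf (C) -/

set_option autoImplicit false

namespace Cfsg.Agent.Helper46.Pron

open Matrix Cfsg.Agent.Helper99.Pron Cfsg.Agent.Helper45.Pron

variable {F : Type*} [Field F]

/-- (C) `eM x y` commuting with the invertible `phiM * eM a b` has `y = 0`. -/
theorem eq_zero_of_comm_phiM_mul (h2 : (2 : F) ≠ 0) (a b x y : F) (hab : a ^ 2 + b ^ 2 ≠ 0)
    (h : (phiM * eM a b) * eM x y = eM x y * (phiM * eM a b)) : y = 0 := by
  have h1 : phiM * (eM a b * eM x y) = phiM * (eM x (-y) * eM a b) := by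
    rw [← mul_assoc, h, ← mul_assoc, eM_mul_phiM, mul_assoc]
  have h3 : eM a b * eM x y = eM x (-y) * eM a b := by
    have := congrArg (fun M => (phiM : Matrix (Fin 2) (Fin 2) F) * M) h1
    simp only [← mul_assoc, phiM_mul_phiM, one_mul] at this
    exact this
  rw [eM_mul, eM_mul] at h3
  obtain ⟨e1, e2⟩ := eM_inj h3
  by_contra hy
  have ha : a = 0 := by
    have : 2 * y * a = 0 := by linear_combination e2
    rcases mul_eq_zero.1 this with h | h
    · exact absurd (mul_eq_zero.1 h) (by push Not; exact ⟨h2, hy⟩)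
    · exact h
  have hb : b = 0 := by
    have : 2 * y * b = 0 := by linear_combination -e1
    rcases mul_eq_zero.1 this with h | h
    · exact absurd (mul_eq_zero.1 h) (by push Not; exact ⟨h2, hy⟩)
    · exact h
  apply hab
  rw [ha, hb]
  ring

end Cfsg.Agent.Helper46.Pron
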