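import Cfsg.Agent.Helper45.PronBL3.Defs

/-! # helper45 BL3 farm (#15446), leaf (N) -/

set_option autoImplicit false

namespace Cfsg.Agent.Helper46.Pron

open Matrix Cfsg.Agent.Helper99.Pron Cfsg.Agent.Helper45.Pron

variable {F : Type*} [Field F]

/-- (N) an element of `Esub` fixed by conjugation with `phi` is a scalar. -/
theorem exists_sc_of_phi_conj_eq (h2 : (2 : F) ≠ 0) (e : GL (Fin 2) F)
    (he : e ∈ (Esub : Subgroup (GL (Fin 2) F))) (h : phi * e * phi⁻¹ = e) :
    ∃ l : Fˣ, e = sc l := by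
  obtain ⟨a, b, hab⟩ := he
  have h1 := phi_conj_val e a b hab
  rw [h, hab] at h1
  obtain ⟨_, e2⟩ := eM_inj h1
  have hb : b = 0 := by
    have : 2 * b = 0 := by linear_combination e2
    rcases mul_eq_zero.1 this with h | h
    · exact absurd h h2
    · exact h
  have hdet : a ^ 2 + b ^ 2 ≠ 0 := by
    rw [← det_eM, ← hab]
    exact ((Matrix.isUnit_iff_isUnit_det _).1 e.isUnit).ne_zero
  have ha : a ≠ 0 := by
    intro ha
    apply hdet
    rw [ha, hb]
    ring
  refine ⟨Units.mk0 a ha, ?_⟩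
  apply Units.ext
  rw [hab, hb, sc_val, Units.val_mk0, smul_one_eq_eM]

end Cfsg.Agent.Helper46.Pron
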