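import Mathlib
import Cfsg.Agent.Helper68.PronBU1.Defs

/-! # helper68 PRONBU1 farm (#15487), leaf (MN2) -/

set_option autoImplicit false
set_option linter.unusedVariables false
set_option linter.unusedSectionVars false

namespace Cfsg.Agent.Helper46.PronBU1

open Matrix Cfsg.Agent.Helper99.Pron Cfsg.Agent.Helper68.PronBU1

variable {F : Type*} [Field F]

/-- (MN2) the elements of the coset `tau * D` have fourth power `1`. -/
theorem tau_dgl_pow_four (q : ℕ) (hq1 : 1 ≤ q)
    (hpm : ∀ l : Fˣ, l ∈ Lam2 F → l ^ (q - 1) = 1 ∨ l ^ (q - 1) = -1)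
    {l m : Fˣ} (h : Dc q l m) : (tau * dgl l m : GL (Fin 2) F) ^ 4 = 1 := by
  have hsq : (tau * dgl l m : GL (Fin 2) F) ^ 2 = dgl (m * l) (l * m) := by
    rw [pow_two]
    calc (tau * dgl l m : GL (Fin 2) F) * (tau * dgl l m)
        = tau * (dgl l m * tau) * dgl l m := by group
      _ = tau * (tau * dgl m l) * dgl l m := by rw [dgl_mul_tau]
      _ = (tau * tau) * (dgl m l * dgl l m) := by group
      _ = dgl (m * l) (l * m) := by rw [tau_mul_tau, one_mul, dgl_mul]
  have hlq : l ^ q = l * l ^ (q - 1) := by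
    rw [← pow_succ', Nat.sub_add_cancel hq1]
  have h1 : (l * m) * l ^ (q - 1) = 1 := by
    have := h.2.2.1
    rw [hlq] at this
    rw [← this, mul_comm l m, mul_assoc]
  have hlm : (l * m) ^ 2 = 1 := by
    rcases hpm l h.1 with h2 | h2
    · rw [h2, mul_one] at h1
      rw [h1, one_pow]
    · rw [h2] at h1
      have : l * m = -1 := by
        have h3 : l * m * -1 * -1 = 1 * -1 := by rw [h1]
        rw [mul_assoc, neg_one_mul, neg_neg, mul_one, one_mul] at h3
        exact h3
      rw [this]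
      exact neg_one_sq
  have hml : (m * l) ^ 2 = 1 := by rw [mul_comm]; exact hlm
  rw [show (4 : ℕ) = 2 * 2 from rfl, pow_mul, hsq, dgl_pow, hlm, hml, dgl_one]

end Cfsg.Agent.Helper46.PronBU1
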