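import Mathlib
import Cfsg.Prelude.Def_HallClasses
import Cfsg.Prelude.Def_Classical
import Cfsg.Agent.Helper99.Pron.Defs
import Cfsg.Agent.Helper46.SylowIn

/-!
# S2225/S2226 block II (helper99 farm #15357), leaf (F1B): the image of `S₁` in `G ⧸ center G` is a
self-normalising Sylow `2`-subgroup.
-/

set_option autoImplicit false

namespace Cfsg.Agent.Helper46.Pron

open Matrix

/-- an element of odd order which is also a `2`-element is trivial -/
theorem F1B_eq_one {G : Type*} [Group G] {z : G} {m : ℕ} (hm : Odd m) (h1 : z ^ m = 1) {k : ℕ}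
    (h2 : z ^ (2 ^ k) = 1) : z = 1 := by
  have hc : Nat.Coprime m (2 ^ k) := Nat.Coprime.pow_right k (Nat.coprime_two_right.2 hm)
  have hd : orderOf z ∣ Nat.gcd m (2 ^ k) :=
    Nat.dvd_gcd (orderOf_dvd_of_pow_eq_one h1) (orderOf_dvd_of_pow_eq_one h2)
  rw [hc.gcd_eq_one] at hd
  exact orderOf_eq_one_iff.1 (Nat.dvd_one.1 hd)

theorem F1B_normal_of_le_center {G : Type*} [Group G] {Z₀ : Subgroup G}
    (hZ : Z₀ ≤ Subgroup.center G) : Z₀.Normal := by
  refine ⟨fun n hn g => ?_⟩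
  have hc : g * n = n * g := Subgroup.mem_center_iff.1 (hZ hn) g
  rw [hc, mul_assoc, mul_inv_cancel, mul_one]
  exact hn

/-- (F1A, own proof) `S₁` is a Sylow `2`-subgroup -/
theorem F1B_sylow {G : Type*} [Group G] [Finite G] (S₁ Z₀ : Subgroup G) (h2 : IsPGroup 2 S₁)
    (hZ : Z₀ ≤ Subgroup.center G) (hodd : Odd (Nat.card Z₀))
    (hN : Subgroup.normalizer (S₁ : Set G) ≤ Z₀ ⊔ S₁) :
    ∃ P : Sylow 2 G, (P : Subgroup G) = S₁ := by
  haveI : Fact (Nat.Prime 2) := ⟨Nat.prime_two⟩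
  obtain ⟨P, hSP⟩ := h2.exists_le_sylow
  refine ⟨P, le_antisymm ?_ hSP⟩
  by_contra hne
  haveI : Group.IsNilpotent ↥(P : Subgroup G) := P.isPGroup'.isNilpotent
  have hlt : S₁.subgroupOf (P : Subgroup G) < ⊤ := by
    rw [lt_top_iff_ne_top]
    intro h
    apply hne
    rw [Subgroup.subgroupOf_eq_top] at h
    exact h
  have hnc := Group.normalizerCondition_of_isNilpotent (G := ↥(P : Subgroup G)) _ hlt
  obtain ⟨x, hxN, hxS⟩ := SetLike.exists_of_lt hnc
  have hxG : (x : G) ∈ Subgroup.normalizer (S₁ : Set G) := by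
    rw [Subgroup.mem_normalizer_iff] at hxN ⊢
    intro s
    constructor
    · intro hs
      have h1 : (⟨s, hSP hs⟩ : ↥(P : Subgroup G)) ∈ S₁.subgroupOf (P : Subgroup G) := by
        rw [Subgroup.mem_subgroupOf]; exact hs
      have h3 := (hxN ⟨s, hSP hs⟩).1 h1
      rw [Subgroup.mem_subgroupOf] at h3
      simpa using h3
    · intro hs
      have hsP : s ∈ (P : Subgroup G) := by
        have h1 : (x : G) * s * (x : G)⁻¹ ∈ (P : Subgroup G) := hSP hs
        have e : s = (x : G)⁻¹ * ((x : G) * s * (x : G)⁻¹) * (x : G) := by group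
        rw [e]
        exact mul_mem (mul_mem (inv_mem x.2) h1) x.2
      have h1 : x * (⟨s, hsP⟩ : ↥(P : Subgroup G)) * x⁻¹ ∈ S₁.subgroupOf (P : Subgroup G) := by
        rw [Subgroup.mem_subgroupOf]
        simpa using hs
      have h3 := (hxN ⟨s, hsP⟩).2 h1
      rw [Subgroup.mem_subgroupOf] at h3
      exact h3
  have hx := hN hxG
  haveI : Z₀.Normal := F1B_normal_of_le_center hZ
  rw [Subgroup.mem_sup_of_normal_left] at hx
  obtain ⟨z, hz, s, hs, hzs⟩ := hx
  have hzP : z ∈ (P : Subgroup G) := by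
    have e : z = (x : G) * s⁻¹ := by rw [← hzs]; group
    rw [e]
    exact mul_mem x.2 (inv_mem (hSP hs))
  obtain ⟨k, hk⟩ := P.isPGroup' ⟨z, hzP⟩
  have hk' : z ^ (2 ^ k) = 1 := by simpa using congrArg Subtype.val hk
  have hzm : z ^ Nat.card Z₀ = 1 := by
    have h1 : (⟨z, hz⟩ : ↥Z₀) ^ Nat.card ↥Z₀ = 1 := pow_card_eq_one'
    have h3 := congrArg Subtype.val h1
    rw [Subgroup.coe_pow, Subgroup.coe_one] at h3
    exact h3
  have hz1 : z = 1 := F1B_eq_one hodd hzm hk'
  apply hxS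
  rw [Subgroup.mem_subgroupOf, ← hzs, hz1, one_mul]
  exact hs

/-- a central `2`-element lies in every Sylow `2`-subgroup -/
theorem F1B_central_two_mem {G : Type*} [Group G] [Finite G] (P : Sylow 2 G) {c : G}
    (hc : c ∈ Subgroup.center G) {k : ℕ} (hk : c ^ (2 ^ k) = 1) : c ∈ (P : Subgroup G) := by
  haveI : Fact (Nat.Prime 2) := ⟨Nat.prime_two⟩
  have hle : Subgroup.zpowers c ≤ Subgroup.center G := by
    rw [Subgroup.zpowers_le]; exact hc
  have hnorm : (Subgroup.zpowers c).Normal := F1B_normal_of_le_center hle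
  have hp : IsPGroup 2 ↥(Subgroup.zpowers c) := by
    rintro ⟨g, hg⟩
    obtain ⟨i, rfl⟩ := Subgroup.mem_zpowers_iff.1 hg
    refine ⟨k, ?_⟩
    apply Subtype.ext
    simp only [Subgroup.coe_pow, Subgroup.coe_one]
    rw [← zpow_natCast, ← _root_.zpow_mul, mul_comm, _root_.zpow_mul, zpow_natCast, hk, _root_.one_zpow]
  exact Cfsg.Agent.Helper46.normal_pgroup_le_sylow hnorm hp P (Subgroup.mem_zpowers c)

/-- (F1B) -/
theorem F1B {G : Type*} [Group G] [Finite G] (S₁ Z₀ : Subgroup G) (h2 : IsPGroup 2 S₁)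
    (hZ : Z₀ ≤ Subgroup.center G) (hodd : Odd (Nat.card Z₀))
    (hN : Subgroup.normalizer (S₁ : Set G) ≤ Z₀ ⊔ S₁) :
    ∃ P : Sylow 2 (G ⧸ Subgroup.center G),
      Subgroup.normalizer ((P : Subgroup (G ⧸ Subgroup.center G)) : Set (G ⧸ Subgroup.center G)) = P := by
  haveI : Fact (Nat.Prime 2) := ⟨Nat.prime_two⟩
  obtain ⟨P, hP⟩ := F1B_sylow S₁ Z₀ h2 hZ hodd hN
  have hf : Function.Surjective (QuotientGroup.mk' (Subgroup.center G)) :=
    QuotientGroup.mk'_surjective _
  refine ⟨P.mapSurjective hf, ?_⟩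
  rw [Sylow.coe_mapSurjective]
  apply le_antisymm
  · intro xb hxb
    obtain ⟨x, rfl⟩ := hf xb
    have key : ∀ y : G, QuotientGroup.mk' (Subgroup.center G) y ∈ Subgroup.normalizer
        (((P : Subgroup G).map (QuotientGroup.mk' (Subgroup.center G)) :
          Subgroup (G ⧸ Subgroup.center G)) : Set (G ⧸ Subgroup.center G)) →
        ∀ s ∈ (P : Subgroup G), y * s * y⁻¹ ∈ (P : Subgroup G) := by
      intro y hy s hs
      have h1 := (Subgroup.mem_normalizer_iff.1 hy (QuotientGroup.mk' (Subgroup.center G) s)).1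
        (Subgroup.mem_map_of_mem _ hs)
      obtain ⟨s', hs', hs'eq⟩ := Subgroup.mem_map.1 h1
      have hc : s'⁻¹ * (y * s * y⁻¹) ∈ Subgroup.center G := by
        rw [← QuotientGroup.eq]
        rw [← map_inv, ← map_mul, ← map_mul] at hs'eq
        exact hs'eq
      obtain ⟨k1, hk1⟩ := P.isPGroup' ⟨s, hs⟩
      obtain ⟨k2, hk2⟩ := P.isPGroup' ⟨s', hs'⟩
      have hk1' : s ^ (2 ^ k1) = 1 := by simpa using congrArg Subtype.val hk1
      have hk2' : s' ^ (2 ^ k2) = 1 := by simpa using congrArg Subtype.val hk2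
      have hcomm : Commute s'⁻¹ (y * s * y⁻¹) := by
        have h3 : s' * (s'⁻¹ * (y * s * y⁻¹)) = (s'⁻¹ * (y * s * y⁻¹)) * s' :=
          Subgroup.mem_center_iff.1 hc s'
        have h4 : (y * s * y⁻¹) * s' = s' * (y * s * y⁻¹) := by
          have : (y * s * y⁻¹) = s' * (s'⁻¹ * (y * s * y⁻¹)) := by group
          calc (y * s * y⁻¹) * s' = s' * ((s'⁻¹ * (y * s * y⁻¹)) * s') := by group
            _ = s' * (s' * (s'⁻¹ * (y * s * y⁻¹))) := by rw [h3]
            _ = s' * (y * s * y⁻¹) := by group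
        have h5 : Commute (y * s * y⁻¹) s' := h4
        exact (h5.symm.inv_left)
      have hck : (s'⁻¹ * (y * s * y⁻¹)) ^ (2 ^ (k1 + k2)) = 1 := by
        rw [hcomm.mul_pow]
        have e1 : (y * s * y⁻¹) ^ (2 ^ (k1 + k2)) = 1 := by
          rw [conj_pow, pow_add, pow_mul, hk1', one_pow, mul_one, mul_inv_cancel]
        have e2 : s'⁻¹ ^ (2 ^ (k1 + k2)) = 1 := by
          rw [inv_pow, pow_add, mul_comm, pow_mul, hk2', one_pow, inv_one]
        rw [e1, e2, one_mul]
      have hcP := F1B_central_two_mem P hc hck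
      have e : y * s * y⁻¹ = s' * (s'⁻¹ * (y * s * y⁻¹)) := by group
      rw [e]
      exact mul_mem hs' hcP
    have hx1 := key x hxb
    have hx2 := key x⁻¹ (by rw [map_inv]; exact inv_mem hxb)
    have hxN : x ∈ Subgroup.normalizer (S₁ : Set G) := by
      rw [← hP, Subgroup.mem_normalizer_iff]
      intro s
      refine ⟨hx1 s, fun h => ?_⟩
      have := hx2 _ h
      simpa [mul_assoc] using this
    have hx := hN hxN
    haveI : Z₀.Normal := F1B_normal_of_le_center hZ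
    rw [Subgroup.mem_sup_of_normal_left] at hx
    obtain ⟨z, hz, s, hs, rfl⟩ := hx
    refine Subgroup.mem_map.2 ⟨s, by rw [hP]; exact hs, ?_⟩
    rw [map_mul]
    have hz1 : QuotientGroup.mk' (Subgroup.center G) z = 1 :=
      (QuotientGroup.eq_one_iff z).2 (hZ hz)
    rw [hz1, one_mul]
  · exact Subgroup.le_normalizer

end Cfsg.Agent.Helper46.Pron
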