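import Mathlib
import Cfsg.Agent.Helper9.PsuA.Defs
import Cfsg.Agent.Helper43.PsuM.RDefs
import Cfsg.Agent.Helper96.StLift.Basic
import Cfsg.Agent.Helper84.RU3.Defs
import Cfsg.Agent.Helper86.RU3TR
import Cfsg.Agent.Helper13.U3O_HC
import Cfsg.Agent.Helper53.U3O_FAC

/-!
# S2089 block A-p (helper9 farm #14857), leaf (C1): the datum `HeisO bar ⋊ Kˣ` inside `SUJ bar`.
-/

set_option autoImplicit false
set_option linter.unusedSectionVars false
set_option linter.unusedVariables false

namespace Cfsg.Agent.Helper46.PsuA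

open scoped commutatorElement
open Cfsg.Agent.Helper46.U3O Cfsg.Agent.Helper84.RU3 Cfsg.Agent.Helper9.PsuA Cfsg.Agent.Helper96.StLift

universe u

section concrete

variable {K : Type*} [Field K] [Fintype K] {q : ℕ} (hK : Fintype.card K = q ^ 2) (bar : K →+* K)
  (hbar : ∀ x, bar x = x ^ q) [BarInv K bar]

omit [Fintype K] in
theorem C1_hM_one : hM bar (1 : K) = 1 := by
  unfold hM
  ext i j
  fin_cases i <;> fin_cases j <;> simp

omit [Fintype K] in
theorem C1_hM_mul {l l' : K} (hl : l ≠ 0) (hl' : l' ≠ 0) :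
    hM bar (l * l') = hM bar l * hM bar l' := by
  have h1 : bar l ≠ 0 := (map_ne_zero bar).mpr hl
  have h2 : bar l' ≠ 0 := (map_ne_zero bar).mpr hl'
  unfold hM
  ext i j
  fin_cases i <;> fin_cases j <;>
    simp [Matrix.mul_apply, Fin.sum_univ_three] <;> field_simp

omit [Fintype K] in
theorem C1_hM_uM (l : Kˣ) (a b : K) :
    hM bar (l : K) * uM bar a b = uM bar (mu bar l * a) (nu bar l * b) * hM bar (l : K) := by
  have h0 : (l : K) ≠ 0 := l.ne_zero
  have h1 : bar (l : K) ≠ 0 := (map_ne_zero bar).mpr h0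
  unfold hM uM mu nu
  ext i j
  fin_cases i <;> fin_cases j <;>
    simp [Matrix.mul_apply, Fin.sum_univ_three, HeisO.bb (bar := bar)] <;> field_simp

omit [Fintype K] in
/-- the torus of `SUJ bar` as a monoid hom -/
def C1_torus : Kˣ →* SUJ bar where
  toFun l := hE bar (HeisO.bb (bar := bar)) (l : K) l.ne_zero
  map_one' := by
    apply ext_mt
    rw [mt_hE, mt_one, Units.val_one]
    exact C1_hM_one bar
  map_mul' l l' := by
    apply ext_mt
    rw [mt_mul, mt_hE, mt_hE, mt_hE, Units.val_mul]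
    exact C1_hM_mul bar l.ne_zero l'.ne_zero

omit [Fintype K] in
theorem C1_mt_torus (l : Kˣ) : mt bar (C1_torus bar l) = hM bar (l : K) := rfl

omit [Fintype K] in
/-- (C1) the datum in `SUJ bar`. -/
theorem exists_datum : ∃ d : Datum bar ↥(SUJ bar), d.u = toSUJ bar := by
  refine ⟨⟨toSUJ bar, C1_torus bar, toSUJ_injective bar, ?_⟩, rfl⟩
  intro l x
  rw [mul_inv_eq_iff_eq_mul]
  apply ext_mt
  rw [mt_mul, mt_mul, mt_toSUJ, mt_toSUJ, C1_mt_torus]
  exact C1_hM_uM bar l x.a x.b

end concrete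

end Cfsg.Agent.Helper46.PsuA
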