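import Mathlib
import Cfsg.Agent.Helper71.PsuA.Defs
import Cfsg.Agent.Helper96.StemBound
import Cfsg.Agent.Helper96.StemSLTwoA

/-!
# S2089 block A, p'-part (helper71 farm #15135), leaf (CQ): cyclic or generalised quaternion subgroups
are good.
-/

set_option autoImplicit false

namespace Cfsg.Agent.Helper46.PsuA

open scoped commutatorElement
open Matrix Cfsg.Agent.Helper43.PsuM Cfsg.Agent.Helper37.SU3Inv Cfsg.Agent.Helper71.PsuA

universe u

open Subgroup Cfsg.Agent.Helper96.StemBound Cfsg.Agent.Helper96.StemSLTwo in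
/-- (CQ) -/
theorem good_of_cyclic_or_quaternion {Γ G : Type*} [Group Γ] [Group G] [Finite Γ] (τ : Γ →* G)
    (hτ : Cfsg.IsStemExtension τ) (P : Subgroup G)
    (hP : IsCyclic P ∨ ∃ k : ℕ, Nonempty (P ≃* QuaternionGroup (2 ^ k))) : Good τ P := by
  unfold Good
  rcases hP with hc | ⟨k, ⟨φ⟩⟩
  · obtain ⟨g, hg⟩ := hc.exists_generator
    have hPz : P = zpowers (g : G) := by
      ext x
      constructor
      · intro hx
        have := hg ⟨x, hx⟩
        rw [Subgroup.mem_zpowers_iff] at this ⊢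
        obtain ⟨k, hk⟩ := this
        exact ⟨k, by have := congrArg Subtype.val hk; simpa using this⟩
      · intro hx
        rw [Subgroup.mem_zpowers_iff] at hx
        obtain ⟨k, rfl⟩ := hx
        exact zpow_mem g.2 k
    rw [hPz, commutator_comap_zpowers τ hτ, inf_bot_eq]
  · haveI : NeZero (2 ^ k) := ⟨pow_ne_zero k two_ne_zero⟩
    set ψ : QuaternionGroup (2 ^ k) →* G := P.subtype.comp φ.symm.toMonoidHom with hψ
    have hψinj : Function.Injective ψ := by
      rw [hψ]
      exact (Subgroup.subtype_injective P).comp φ.symm.injective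
    have hψP : ∀ g ∈ P, ∃ w, g = ψ w := by
      intro g hg
      refine ⟨φ ⟨g, hg⟩, ?_⟩
      simp [hψ]
    obtain ⟨r, hr⟩ := hτ.1 (ψ (QuaternionGroup.a 1))
    obtain ⟨s, hs⟩ := hτ.1 (ψ (QuaternionGroup.xa 0))
    have hnorm : τ s * τ r * (τ s)⁻¹ ∈ zpowers (τ r) := by
      rw [hr, hs, ← map_inv, ← map_mul, ← map_mul, quat_conj, map_inv]
      exact inv_mem (Subgroup.mem_zpowers _)
    have hPf : ∀ g ∈ P, g ∈ zpowers (τ r) ∨ (τ s)⁻¹ * g ∈ zpowers (τ r) := by
      intro g hg
      obtain ⟨w, rfl⟩ := hψP g hg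
      rw [hr, hs]
      rcases quat_forms (2 ^ k) w with ⟨i, rfl⟩ | ⟨i, rfl⟩
      · left
        rw [map_pow]; exact Subgroup.npow_mem_zpowers _ _
      · right
        rw [map_mul, map_pow, inv_mul_cancel_left]; exact Subgroup.npow_mem_zpowers _ _
    have hle := commutator_comap_le_zpowers τ hτ r s P hPf hnorm
    have hcn : ⁅r, s⁆ ^ (2 ^ k) = 1 := by
      apply commElt_pow_eq_one_of_sq τ hτ r s hnorm 0 (2 ^ k)
      rw [hr, hs, pow_zero, mul_one, ← map_pow, ← map_pow, QuaternionGroup.xa_sq,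
        QuaternionGroup.a_one_pow]
    have hord : orderOf (τ ⁅r, s⁆) = 2 ^ k := by
      rw [map_commutatorElement, hr, hs, ← map_commutatorElement, orderOf_injective ψ hψinj,
        quat_orderOf_comm]
    rw [eq_bot_iff]
    rintro z ⟨hz, hzc⟩
    have h1 := hle hzc
    have h2 := mem_zpowers_pow_of_mem_ker τ ⁅r, s⁆ hz h1
    rw [hord, hcn, Subgroup.zpowers_one_eq_bot] at h2
    exact h2

end Cfsg.Agent.Helper46.PsuA
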