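import Mathlib
import Cfsg.Agent.Helper9.PsuA.Defs
import Cfsg.Agent.Helper43.PsuM.RDefs
import Cfsg.Agent.Helper96.StLift.Basic
import Cfsg.Agent.Helper84.RU3.Defs
import Cfsg.Agent.Helper86.RU3TR
import Cfsg.Agent.Helper13.U3O_HC
import Cfsg.Agent.Helper53.U3O_FAC

/-!
# S2089 block A-p (helper9 farm #14857), leaf (F3): every central element `(0, b)` of `HeisO bar`
is a commutator.
-/

set_option autoImplicit false
set_option linter.unusedSectionVars false
set_option linter.unusedVariables false

namespace Cfsg.Agent.Helper46.PsuA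

open scoped commutatorElement
open Cfsg.Agent.Helper46.U3O Cfsg.Agent.Helper84.RU3 Cfsg.Agent.Helper9.PsuA Cfsg.Agent.Helper96.StLift

universe u

section field

variable {K : Type*} [Field K] [Fintype K] {q : ℕ} (hK : Fintype.card K = q ^ 2) (bar : K →+* K)
  (hbar : ∀ x, bar x = x ^ q) [BarInv K bar]

include hK hbar

theorem F3_one_lt : 1 < q := by
  have h1 : 1 < Fintype.card K := Fintype.one_lt_card
  rw [hK] at h1
  by_contra hq
  push Not at hq
  interval_cases q <;> simp at h1

/-- `bar` is not the identity. -/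
theorem F3_exists_not_fixed : ∃ ω : K, bar ω ≠ ω := by
  classical
  by_contra h
  push Not at h
  have hq1 : 1 < q := F3_one_lt hK bar hbar
  have hne : (Polynomial.X ^ q - Polynomial.X : Polynomial K) ≠ 0 :=
    FiniteField.X_pow_card_sub_X_ne_zero K hq1
  have hsub : (Finset.univ : Finset K) ⊆
      (Polynomial.X ^ q - Polynomial.X : Polynomial K).roots.toFinset := by
    intro c _
    rw [Multiset.mem_toFinset, Polynomial.mem_roots hne, Polynomial.IsRoot, Polynomial.eval_sub,
      Polynomial.eval_pow, Polynomial.eval_X, ← hbar, h c, sub_self]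
  have h1 := Finset.card_le_card hsub
  have h2 : (Polynomial.X ^ q - Polynomial.X : Polynomial K).roots.toFinset.card ≤ q := by
    calc (Polynomial.X ^ q - Polynomial.X : Polynomial K).roots.toFinset.card
        ≤ Multiset.card (Polynomial.X ^ q - Polynomial.X : Polynomial K).roots :=
          Multiset.toFinset_card_le _
      _ ≤ (Polynomial.X ^ q - Polynomial.X : Polynomial K).natDegree := Polynomial.card_roots' _
      _ = q := FiniteField.X_pow_card_sub_X_natDegree_eq K hq1
  rw [Finset.card_univ, hK] at h1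
  nlinarith

/-- every `a` is the first coordinate of an element of `HeisO bar` (trace surjectivity). -/
theorem F3_exists_heis (a : K) : ∃ x : HeisO bar, x.a = a := by
  have hq1 : 1 < q := F3_one_lt hK bar hbar
  have hfix : (-(a * bar a)) ^ q = -(a * bar a) := by
    rw [← hbar, map_neg, map_mul, HeisO.bb (bar := bar), mul_comm]
  have hcard := Cfsg.Agent.Helper13.card_trace_fiber hK (one_ne_zero : (1 : K) ≠ 0) hfix
  have hne : Nonempty {t : K // t ^ q * 1 + t * 1 ^ q = -(a * bar a)} := by
    by_contra hcon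
    rw [not_nonempty_iff] at hcon
    rw [Nat.card_of_isEmpty] at hcard
    omega
  obtain ⟨t, ht⟩ := hne
  refine ⟨⟨a, t, ?_⟩, rfl⟩
  rw [hbar t]
  rw [mul_one, one_pow, mul_one] at ht
  linear_combination ht

/-- (F3) every central element `(0, b)` of `HeisO bar` is a commutator. -/
theorem exists_comm_eq (z : HeisO bar) (hz : z.a = 0) : ∃ x y : HeisO bar, z = ⁅x, y⁆ := by
  obtain ⟨ω, hω⟩ := F3_exists_not_fixed hK bar hbar
  have hδ : ω - bar ω ≠ 0 := sub_ne_zero.2 (Ne.symm hω)
  have hb : z.b + bar z.b = 0 := by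
    have := z.h
    rw [hz, zero_mul, add_zero] at this
    exact this
  have hbz : bar z.b = -z.b := by linear_combination hb
  have hbδ : bar (ω - bar ω) = -(ω - bar ω) := by
    rw [map_sub, HeisO.bb (bar := bar)]; ring
  have hbc : bar (z.b / (ω - bar ω)) = z.b / (ω - bar ω) := by
    rw [map_div₀, hbz, hbδ, neg_div_neg_eq]
  obtain ⟨x, hx⟩ := F3_exists_heis hK bar hbar (z.b / (ω - bar ω) * ω)
  obtain ⟨y, hy⟩ := F3_exists_heis hK bar hbar 1
  refine ⟨x, y, ?_⟩
  have hE : (⁅x, y⁆ : HeisO bar).b = bar y.a * x.a - bar x.a * y.a := by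
    simp only [commutatorElement_def, HeisO.mul_b, HeisO.inv_b, HeisO.mul_a, HeisO.inv_a, map_add,
      map_neg]
    linear_combination x.h + y.h
  apply HeisO.ext
  · rw [hz]
    simp only [commutatorElement_def, HeisO.mul_a, HeisO.inv_a]
    ring
  · rw [hE, hx, hy, map_one, map_mul, hbc]
    field_simp

end field

end Cfsg.Agent.Helper46.PsuA
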