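import Mathlib
import Cfsg.Agent.Helper71.PsuA.Defs
import Cfsg.Agent.S0261
import Cfsg.Agent.S0262

/-!
# S2089 block A, p'-part (helper71 farm #15135), leaf (SL2SYL): a subgroup `L ≃* SL₂(K)` has a
cyclic or generalised quaternion subgroup of index prime to `r`, for every prime `r ≠ p`.
-/

set_option autoImplicit false

namespace Cfsg.Agent.Helper46.PsuA

open scoped commutatorElement
open Matrix Cfsg.Agent.Helper43.PsuM Cfsg.Agent.Helper37.SU3Inv Cfsg.Agent.Helper71.PsuA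

universe u

/-- transport of a subgroup of `H` to a subgroup of `G` inside `L ≃* H` -/
theorem SL2SYL_transport {G H : Type*} [Group G] [Group H] (L : Subgroup G) (e : ↥L ≃* H)
    (P₀ : Subgroup H) :
    ∃ P : Subgroup G, P ≤ L ∧ P.relIndex L = P₀.index ∧ Nonempty (↥P ≃* ↥P₀) := by
  refine ⟨(P₀.map (e.symm : H →* ↥L)).map L.subtype, Subgroup.map_subtype_le _, ?_, ?_⟩
  · unfold Subgroup.relIndex Subgroup.subgroupOf
    rw [Subgroup.comap_map_eq_self_of_injective L.subtype_injective, Subgroup.index_map_equiv]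
  · have e1 : ↥P₀ ≃* ↥(P₀.map (e.symm : H →* ↥L)) :=
      Subgroup.equivMapOfInjective _ (e.symm : H →* ↥L) e.symm.injective
    have e2 : ↥(P₀.map (e.symm : H →* ↥L)) ≃* ↥((P₀.map (e.symm : H →* ↥L)).map L.subtype) :=
      Subgroup.equivMapOfInjective _ L.subtype L.subtype_injective
    exact ⟨(e1.trans e2).symm⟩

/-- (SL2SYL) -/
theorem exists_sylow_of_equiv_SL2 {G : Type*} [Group G] (L : Subgroup G) {K : Type*} [Field K]
    [Fintype K] (p : ℕ) [Fact p.Prime] [CharP K p] (e : ↥L ≃* Matrix.SpecialLinearGroup (Fin 2) K)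
    (r : ℕ) (hr : r.Prime) (hrp : r ≠ p) :
    ∃ P : Subgroup G, P ≤ L ∧ ¬ r ∣ P.relIndex L ∧
      (IsCyclic P ∨ ∃ k : ℕ, Nonempty (P ≃* QuaternionGroup (2 ^ k))) := by
  classical
  haveI : Fact r.Prime := ⟨hr⟩
  haveI : Finite (Matrix.SpecialLinearGroup (Fin 2) K) := by
    unfold Matrix.SpecialLinearGroup
    infer_instance
  obtain ⟨P₀⟩ : Nonempty (Sylow r (Matrix.SpecialLinearGroup (Fin 2) K)) := inferInstance
  obtain ⟨P, hPL, hidx, ⟨e3⟩⟩ :=
    SL2SYL_transport L e (P₀ : Subgroup (Matrix.SpecialLinearGroup (Fin 2) K))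
  refine ⟨P, hPL, ?_, ?_⟩
  · rw [hidx]
    exact P₀.not_dvd_index
  · by_cases hr2 : r = 2
    · right
      subst hr2
      have hp2 : p ≠ 2 := fun h => hrp h.symm
      have hodd : Odd (Fintype.card K) := by
        obtain ⟨n, hp, hn⟩ := FiniteField.card K p
        rw [hn]
        exact (hp.odd_of_ne_two hp2).pow
      obtain ⟨k, _, ⟨φ⟩⟩ := Cfsg.Agent.S0261.result hodd P₀
      exact ⟨k, ⟨e3.trans φ⟩⟩
    · left
      haveI : IsCyclic ↥(P₀ : Subgroup (Matrix.SpecialLinearGroup (Fin 2) K)) :=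
        Cfsg.Agent.S0262.result p r hr2 hrp P₀
      exact isCyclic_of_surjective e3.symm e3.symm.surjective

end Cfsg.Agent.Helper46.PsuA
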