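-- helper46: piece (CEN) of helper84's S2282 skeleton (#8821): the centre of `Q_{e_1}`.
import Mathlib
import Cfsg.Agent.Helper84.RUn.Defs

set_option autoImplicit false
set_option linter.unusedSectionVars false

namespace Cfsg.Agent.Helper46.RUn

open Matrix Cfsg.Agent.Helper84.RUn Cfsg.Agent.Helper84.PSU

variable {K : Type*} [Field K] {j : ℕ}

local notation "Vec" => (I (j + 2) 1 → K)
local notation "Mat" => Matrix (I (j + 2) 1) (I (j + 2) 1) K

variable (bar : K →+* K) (hb : ∀ x, bar (bar x) = x)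

set_option quotPrecheck false in
local notation "SUk" => ↥(SUm (j + 2) 1 bar)

theorem hf_vE1_vE1 : hf bar (vE i1 : Vec) (vE i1) = 0 := by
  unfold vE
  exact hf_bv_ee bar _ _

theorem hf_vE1_right (x : Vec) : hf bar x (vE i1) = x (fI i1) := by
  unfold vE
  rw [hf_bv_right]
  rfl

theorem hf_vE1_right_of_inV' {x : Vec} (hx : InV' x) : hf bar x (vE i1) = 0 := by
  rw [hf_vE1_right]
  exact hx.2

theorem inV'_smul_vE2 (t : K) : InV' (t • (vE i2 : Vec)) := by
  constructor
  · rw [Pi.smul_apply, vE, bv_apply, if_neg, smul_zero]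
    intro h
    have := Sum.inl.inj h
    simp [i1, i2, Fin.ext_iff] at this
  · rw [Pi.smul_apply, vE, bv_apply, if_neg, smul_zero]
    intro h
    cases h

theorem inV'_vF2 : InV' (vF i2 : Vec) := by
  constructor
  · rw [vF, bv_apply, if_neg]
    intro h
    cases h
  · rw [vF, bv_apply, if_neg]
    intro h
    have := Sum.inr.inj (Sum.inr.inj h)
    simp [i1, i2, Fin.ext_iff] at this

include hb in
/-- the commutator of two elements of `Q_{e_1}` -/
theorem hasM_eich_comm (H : Subgroup SUk) {x x' : Vec} {z z' : K} (hx : InV' x) (hx' : InV' x')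
    (hz : z + bar z + hf bar x x = 0) (hz' : z' + bar z' + hf bar x' x' = 0)
    (h1 : HasM bar H (eichM bar (vE i1) x z)) (h2 : HasM bar H (eichM bar (vE i1) x' z')) :
    HasM bar H (eichM bar (vE i1) 0 (hf bar x x' - hf bar x' x)) := by
  have huu := hf_vE1_vE1 (K := K) (j := j) bar
  have hxu := hf_vE1_right_of_inV' bar hx
  have hx'u := hf_vE1_right_of_inV' bar hx'
  have hnxu : hf bar (-x) (vE i1) = 0 := by rw [hf_neg_left, hxu, neg_zero]
  have hnx'u : hf bar (-x') (vE i1) = 0 := by rw [hf_neg_left, hx'u, neg_zero]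
  -- the inverses
  have h1i : HasM bar H (eichM bar (vE i1) (-x) (bar z)) := by
    refine h1.inv bar ?_
    rw [eichM_mul bar hb _ _ huu hxu hnxu, hf_neg_left, sub_neg_eq_add, hz, add_neg_cancel, eichM_zero_zero]
  have h2i : HasM bar H (eichM bar (vE i1) (-x') (bar z')) := by
    refine h2.inv bar ?_
    rw [eichM_mul bar hb _ _ huu hx'u hnx'u, hf_neg_left, sub_neg_eq_add, hz', add_neg_cancel,
      eichM_zero_zero]
  have h3 := ((h1.mul bar h2).mul bar h1i).mul bar h2i
  refine h3.of_eq bar ?_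
  have hxx'u : hf bar (x + x') (vE i1) = 0 := by rw [hf_add_left, hxu, hx'u, add_zero]
  rw [eichM_mul bar hb _ _ huu hxu hx'u, eichM_mul bar hb _ _ huu hxx'u hnxu]
  have hx'u2 : hf bar (x + x' + -x) (vE i1) = 0 := by
    rw [hf_add_left, hxx'u, hnxu, add_zero]
  rw [eichM_mul bar hb _ _ huu hx'u2 hnx'u]
  have e1 : x + x' + -x + -x' = 0 := by abel
  rw [e1]
  congr 1
  simp only [hf_add_right, hf_neg_left, hf_add_left, hf_neg_right]
  linear_combination hz + hz'

include hb in
theorem hasM_eich_all {s₀ : K} (hs₀ : bar s₀ ≠ s₀) (H : Subgroup SUk)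
    (h : ∀ x : Vec, InV' x → ∃ z : K, z + bar z + hf bar x x = 0 ∧ HasM bar H (eichM bar (vE i1) x z)) :
    ∀ (x : Vec) (z : K), InV' x → z + bar z + hf bar x x = 0 → HasM bar H (eichM bar (vE i1) x z) := by
  have huu := hf_vE1_vE1 (K := K) (j := j) bar
  -- the centre
  have hcen : ∀ ζ : K, ζ + bar ζ = 0 → HasM bar H (eichM bar (vE i1) 0 ζ) := by
    intro ζ hζ
    have hs : s₀ - bar s₀ ≠ 0 := fun h0 => hs₀ (sub_eq_zero.mp h0).symm
    set t : K := ζ * s₀ / (s₀ - bar s₀) with ht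
    obtain ⟨z1, hz1, hH1⟩ := h (t • (vE i2 : Vec)) (inV'_smul_vE2 t)
    obtain ⟨z2, hz2, hH2⟩ := h (vF i2 : Vec) inV'_vF2
    have h3 := hasM_eich_comm bar hb H (inV'_smul_vE2 t) inV'_vF2 hz1 hz2 hH1 hH2
    refine h3.of_eq bar ?_
    congr 1
    have e1 : hf bar (t • (vE i2 : Vec)) (vF i2) = t := by
      rw [hf_smul_left, vE, vF, hf_bv_ef, if_pos rfl, mul_one]
    have e2 : hf bar (vF i2 : Vec) (t • (vE i2 : Vec)) = bar t := by
      rw [hf_smul_right, vE, vF, hf_bv_fe, if_pos rfl, mul_one]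
    rw [e1, e2]
    have hbz : bar ζ = -ζ := by linear_combination hζ
    have hbs : bar s₀ - s₀ ≠ 0 := fun h0 => hs₀ (sub_eq_zero.mp h0)
    rw [ht, map_div₀, map_mul, map_sub, hb, hbz]
    field_simp
    ring
  intro x z hx hz
  obtain ⟨z', hz', hH'⟩ := h x hx
  have hζ : (z - z') + bar (z - z') = 0 := by
    rw [map_sub]
    linear_combination hz - hz'
  have h4 := hH'.mul bar (hcen (z - z') hζ)
  refine h4.of_eq bar ?_
  have hxu := hf_vE1_right_of_inV' bar hx
  have h0u : hf bar (0 : Vec) (vE i1) = 0 := hf_zero_left bar _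
  rw [eichM_mul bar hb _ _ huu hxu h0u, add_zero, hf_zero_left, sub_zero]
  congr 1
  ring

end Cfsg.Agent.Helper46.RUn
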