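-- helper46: piece (TVALL) of helper84's S2282 skeleton (#8821): all unitary transvections.
import Mathlib
import Cfsg.Agent.Helper84.RUn.Defs
import Cfsg.Agent.Helper46.RUnCEN

set_option autoImplicit false
set_option linter.unusedSectionVars false

namespace Cfsg.Agent.Helper46.RUn

open Matrix Cfsg.Agent.Helper84.RUn Cfsg.Agent.Helper84.PSU

variable {K : Type*} [Field K] {j : ℕ}

local notation "Vec" => (I (j + 2) 1 → K)
local notation "Mat" => Matrix (I (j + 2) 1) (I (j + 2) 1) K

variable (bar : K →+* K) (hb : ∀ x, bar (bar x) = x)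

set_option quotPrecheck false in
local notation "SUk" => ↥(SUm (j + 2) 1 bar)

theorem hf_vF1_vF1 : hf bar (vF i1 : Vec) (vF i1) = 0 := by
  unfold vF
  exact hf_bv_ff bar _ _

theorem hf_vF1_right (x : Vec) : hf bar x (vF i1) = x (eI i1) := by
  unfold vF
  rw [hf_bv_right]
  rfl

theorem hf_vF1_left (x : Vec) : hf bar (vF i1 : Vec) x = bar (x (eI i1)) := by
  unfold vF
  rw [hf_bv_left]
  rfl

theorem hf_vE1_left (x : Vec) : hf bar (vE i1 : Vec) x = bar (x (fI i1)) := by
  unfold vE
  rw [hf_bv_left]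
  rfl

/-- conjugation inside `H` -/
theorem hasM_conj_eichM (H : Subgroup SUk) {M : Mat} (hM : HasM bar H M) {u y : Vec} {c : K}
    (hE : HasM bar H (eichM bar u y c)) : HasM bar H (eichM bar (M *ᵥ u) (M *ᵥ y) c) := by
  obtain ⟨a, ha, rfl⟩ := hM
  obtain ⟨b, hb', hbm⟩ := hE
  refine ⟨a * b * a⁻¹, mul_mem (mul_mem ha hb') (inv_mem ha), ?_⟩
  rw [mt_mul, mt_mul, hbm]
  exact conj_eichM bar (isU_mt bar a) (mt_mul_inv bar a) u y c

/-- rescaling the vector of a transvection -/
theorem eichM_smul_zero (α : K) (v : Vec) (z : K) :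
    eichM bar (α • v) 0 z = eichM bar v 0 (α * bar α * z) := by
  apply mat_ext_mulVec
  intro x
  rw [eichM_mulVec, eichM_mulVec, hf_smul_right, hf_zero_right]
  module

/-- the part in `V'` of a vector -/
def prV' (v : Vec) : Vec := fun x => if x = eI i1 then 0 else if x = fI i1 then 0 else v x

theorem inV'_prV' (v : Vec) : InV' (prV' v) := by
  constructor
  · unfold prV'
    rw [if_pos rfl]
  · unfold prV'
    rw [if_neg (by intro h; cases h), if_pos rfl]

theorem eq_add_prV' (v : Vec) :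
    v = v (fI i1) • (vF i1 : Vec) + prV' v + v (eI i1) • (vE i1 : Vec) := by
  funext x
  simp only [Pi.add_apply, Pi.smul_apply, smul_eq_mul, vF, vE, bv_apply, prV']
  by_cases h1 : x = eI i1
  · subst h1
    simp
  · by_cases h2 : x = fI i1
    · subst h2
      simp
    · simp [h1, h2]

include hb in
/-- the norm of a vector in the decomposition `V = ⟨f_1⟩ + V' + ⟨e_1⟩` -/
theorem hf_decomp (a μ : K) (y : Vec) (hy : InV' y) :
    hf bar (a • (vF i1 : Vec) + y + μ • vE i1) (a • (vF i1 : Vec) + y + μ • vE i1) =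
      a * bar μ + μ * bar a + hf bar y y := by
  have e1 : hf bar y (vF i1) = 0 := by rw [hf_vF1_right]; exact hy.1
  have e2 : hf bar y (vE i1) = 0 := by rw [hf_vE1_right]; exact hy.2
  have e3 : hf bar (vF i1 : Vec) y = 0 := by rw [hf_vF1_left, hy.1, map_zero]
  have e4 : hf bar (vE i1 : Vec) y = 0 := by rw [hf_vE1_left, hy.2, map_zero]
  have e5 : hf bar (vF i1 : Vec) (vE i1) = 1 := by
    rw [hf_vE1_right, vF, bv_apply, if_pos rfl]
  have e6 : hf bar (vE i1 : Vec) (vF i1) = 1 := by
    rw [hf_vF1_right, vE, bv_apply, if_pos rfl]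
  simp only [hf_add_left, hf_add_right, hf_smul_left, hf_smul_right, e1, e2, e3, e4, e5, e6,
    hf_vE1_vE1, hf_vF1_vF1, mul_zero, mul_one, add_zero, zero_add]
  ring

include hb in
/-- transvections with a vector having a non-zero `f_1`-coordinate -/
theorem hasM_tv_f (H : Subgroup SUk)
    (he : ∀ (x : Vec) (z : K), InV' x → z + bar z + hf bar x x = 0 → HasM bar H (eichM bar (vE i1) x z))
    (hf' : ∀ (x : Vec) (z : K), InV' x → z + bar z + hf bar x x = 0 → HasM bar H (eichM bar (vF i1) x z))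
    (v : Vec) (z : K) (hv : hf bar v v = 0) (hz : z + bar z = 0) (hα : v (fI i1) ≠ 0) :
    HasM bar H (eichM bar v 0 z) := by
  set α : K := v (fI i1) with hαd
  set y : Vec := α⁻¹ • prV' v with hyd
  set μ : K := α⁻¹ * v (eI i1) with hμd
  have hy : InV' y := by
    have := inV'_prV' v
    constructor
    · rw [hyd, Pi.smul_apply, this.1, smul_zero]
    · rw [hyd, Pi.smul_apply, this.2, smul_zero]
  have hv' : v = α • ((vF i1 : Vec) + y + μ • vE i1) := by
    conv_lhs => rw [eq_add_prV' v]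
    rw [hyd, hμd, smul_add, smul_add, smul_smul, smul_smul, ← mul_assoc, mul_inv_cancel₀ hα, one_smul,
      one_mul]
  have hnorm : μ + bar μ + hf bar y y = 0 := by
    have h1 := hf_decomp bar hb 1 μ y hy
    rw [one_smul, map_one, one_mul, mul_one] at h1
    have h2 : hf bar v v = α * bar α * hf bar ((vF i1 : Vec) + y + μ • vE i1) ((vF i1 : Vec) + y + μ • vE i1) := by
      conv_lhs => rw [hv']
      rw [hf_smul_left, hf_smul_right]
      ring
    rw [hv, h1] at h2
    have hbα : bar α ≠ 0 := by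
      intro h0
      apply hα
      rw [← hb α, h0, map_zero]
    have := mul_eq_zero.mp h2.symm
    rcases this with h3 | h3
    · exact absurd h3 (mul_ne_zero hα hbα)
    · linear_combination h3
  -- the conjugating element
  have hg := he y μ hy hnorm
  -- the central element of `Q_{f_1}`
  have hbα : bar (α * bar α) = α * bar α := by rw [map_mul, hb, mul_comm]
  have hz' : α * bar α * z + bar (α * bar α * z) + hf bar (0 : Vec) 0 = 0 := by
    rw [hf_zero_left, add_zero, map_mul, hbα]
    linear_combination (α * bar α) * hz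
  have hc := hf' 0 (α * bar α * z) ⟨rfl, rfl⟩ hz'
  have h3 := hasM_conj_eichM bar H hg hc
  refine h3.of_eq bar ?_
  rw [Matrix.mulVec_zero]
  have e1 : eichM bar (vE i1) y μ *ᵥ (vF i1 : Vec) = (vF i1 : Vec) + y + μ • vE i1 := by
    rw [eichM_mulVec]
    have e5 : hf bar (vF i1 : Vec) (vE i1) = 1 := by
      rw [hf_vE1_right, vF, bv_apply, if_pos rfl]
    have e3 : hf bar (vF i1 : Vec) y = 0 := by rw [hf_vF1_left, hy.1, map_zero]
    rw [e5, e3, one_smul, zero_smul, sub_zero, mul_one]
  rw [e1, ← eichM_smul_zero, ← hv']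

include hb in
/-- transvections with a vector having a non-zero `e_1`-coordinate -/
theorem hasM_tv_e (H : Subgroup SUk)
    (he : ∀ (x : Vec) (z : K), InV' x → z + bar z + hf bar x x = 0 → HasM bar H (eichM bar (vE i1) x z))
    (hf' : ∀ (x : Vec) (z : K), InV' x → z + bar z + hf bar x x = 0 → HasM bar H (eichM bar (vF i1) x z))
    (v : Vec) (z : K) (hv : hf bar v v = 0) (hz : z + bar z = 0) (hα : v (eI i1) ≠ 0) :
    HasM bar H (eichM bar v 0 z) := by
  set α : K := v (eI i1) with hαd
  set y : Vec := α⁻¹ • prV' v with hyd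
  set μ : K := α⁻¹ * v (fI i1) with hμd
  have hy : InV' y := by
    have := inV'_prV' v
    constructor
    · rw [hyd, Pi.smul_apply, this.1, smul_zero]
    · rw [hyd, Pi.smul_apply, this.2, smul_zero]
  have hv' : v = α • (μ • (vF i1 : Vec) + y + (1 : K) • vE i1) := by
    conv_lhs => rw [eq_add_prV' v]
    rw [hyd, hμd, smul_add, smul_add, smul_smul, smul_smul, smul_smul, ← mul_assoc, mul_inv_cancel₀ hα,
      one_smul, one_mul, mul_one]
  have hnorm : μ + bar μ + hf bar y y = 0 := by
    have h1 := hf_decomp bar hb μ 1 y hy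
    rw [map_one, mul_one, one_mul] at h1
    have h2 : hf bar v v = α * bar α * hf bar (μ • (vF i1 : Vec) + y + (1 : K) • vE i1)
        (μ • (vF i1 : Vec) + y + (1 : K) • vE i1) := by
      conv_lhs => rw [hv']
      rw [hf_smul_left, hf_smul_right]
      ring
    rw [hv, h1] at h2
    have hbα : bar α ≠ 0 := by
      intro h0
      apply hα
      rw [← hb α, h0, map_zero]
    have := mul_eq_zero.mp h2.symm
    rcases this with h3 | h3
    · exact absurd h3 (mul_ne_zero hα hbα)
    · linear_combination h3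
  -- the conjugating element
  have hg := hf' y μ hy hnorm
  -- the central element of `Q_{e_1}`
  have hbα : bar (α * bar α) = α * bar α := by rw [map_mul, hb, mul_comm]
  have hz' : α * bar α * z + bar (α * bar α * z) + hf bar (0 : Vec) 0 = 0 := by
    rw [hf_zero_left, add_zero, map_mul, hbα]
    linear_combination (α * bar α) * hz
  have hc := he 0 (α * bar α * z) ⟨rfl, rfl⟩ hz'
  have h3 := hasM_conj_eichM bar H hg hc
  refine h3.of_eq bar ?_
  rw [Matrix.mulVec_zero]
  have e1 : eichM bar (vF i1) y μ *ᵥ (vE i1 : Vec) = μ • (vF i1 : Vec) + y + (1 : K) • vE i1 := by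
    rw [eichM_mulVec]
    have e6 : hf bar (vE i1 : Vec) (vF i1) = 1 := by
      rw [hf_vF1_right, vE, bv_apply, if_pos rfl]
    have e4 : hf bar (vE i1 : Vec) y = 0 := by rw [hf_vE1_left, hy.2, map_zero]
    rw [e6, e4, one_smul, zero_smul, sub_zero, mul_one, one_smul]
    abel
  rw [e1, ← eichM_smul_zero, ← hv']

include hb in
theorem hasM_tv (htr : ∀ y : K, bar y = y → ∃ t, t + bar t = y) (H : Subgroup SUk)
    (he : ∀ (x : Vec) (z : K), InV' x → z + bar z + hf bar x x = 0 → HasM bar H (eichM bar (vE i1) x z))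
    (hf' : ∀ (x : Vec) (z : K), InV' x → z + bar z + hf bar x x = 0 → HasM bar H (eichM bar (vF i1) x z)) :
    ∀ (v : Vec) (z : K), hf bar v v = 0 → z + bar z = 0 → HasM bar H (eichM bar v 0 z) := by
  intro v z hv hz
  by_cases h1 : v (fI i1) ≠ 0
  · exact hasM_tv_f bar hb H he hf' v z hv hz h1
  by_cases h2 : v (eI i1) ≠ 0
  · exact hasM_tv_e bar hb H he hf' v z hv hz h2
  rw [not_not] at h1 h2
  by_cases h0 : v = 0
  · rw [h0]
    refine (HasM.one bar H).of_eq bar ?_
    apply mat_ext_mulVec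
    intro x
    rw [eichM_mulVec, Matrix.one_mulVec, hf_zero_right]
    simp
  -- `v ∈ V'`, non-zero: move it out of `V'`
  obtain ⟨x₀, hx₀⟩ : ∃ x₀, v x₀ ≠ 0 := by
    by_contra hcon
    apply h0
    funext x
    by_contra hx
    exact hcon ⟨x, hx⟩
  have hx₀e : x₀ ≠ eI i1 := fun h => hx₀ (h ▸ h2)
  have hx₀f : x₀ ≠ fI i1 := fun h => hx₀ (h ▸ h1)
  set y' : Vec := bv (op x₀) with hy'd
  have hy' : InV' y' := by
    constructor
    · rw [hy'd, bv_apply, if_neg]
      intro h
      apply hx₀f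
      rw [← op_op x₀, ← h]
      rfl
    · rw [hy'd, bv_apply, if_neg]
      intro h
      apply hx₀e
      rw [← op_op x₀, ← h]
      rfl
  have hvy' : hf bar v y' = v x₀ := by rw [hy'd, hf_bv_right, op_op]
  obtain ⟨c', hc'⟩ := htr (-hf bar y' y') (by rw [map_neg, hf_conj bar hb])
  have hnorm : c' + bar c' + hf bar y' y' = 0 := by rw [hc', neg_add_cancel]
  obtain ⟨a, ha, ham⟩ := he y' c' hy' hnorm
  have hgv : mt bar a *ᵥ v = v - v x₀ • (vE i1 : Vec) := by
    rw [ham, eichM_mulVec, hf_vE1_right, h1, hvy', zero_smul, mul_zero, zero_smul, add_zero, add_zero]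
  have hgv_e : (mt bar a *ᵥ v) (eI i1) ≠ 0 := by
    rw [hgv, Pi.sub_apply, Pi.smul_apply, h2, vE, bv_apply, if_pos rfl, smul_eq_mul, mul_one, zero_sub]
    exact neg_ne_zero.mpr hx₀
  have hgv_iso : hf bar (mt bar a *ᵥ v) (mt bar a *ᵥ v) = 0 := by
    rw [isU_mt bar a, hv]
  have h3 := hasM_tv_e bar hb H he hf' (mt bar a *ᵥ v) z hgv_iso hz hgv_e
  have h4 := hasM_conj_eichM bar H (hasM_mt bar (inv_mem ha)) h3
  refine h4.of_eq bar ?_
  rw [Matrix.mulVec_zero, Matrix.mulVec_mulVec, mt_inv_mul, Matrix.one_mulVec]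

end Cfsg.Agent.Helper46.RUn
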