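import Mathlib
import Cfsg.Agent.Helper5.SLn

/-!
# Regular unipotent generation of `SL₃` (helper46), part A: root elements and ring generation

`commutator_transvection_mul`: the Chevalley commutator formula `[x_ik(a), x_kj(b)] = x_ij(ab)`.
`eq_top_of_ones_of_gen`: a subgroup of `SL ι F` (`|ι| ≥ 3`) containing all `x_ij(1)` and one
`x_i₀j₀(c)` with `c` generating `F` as a ring is everything.
-/

set_option autoImplicit false
set_option linter.unusedSimpArgs false

namespace Cfsg.Agent.Helper46.Ru

open Matrix Matrix.SpecialLinearGroup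
open scoped commutatorElement

section
variable {ι F : Type*} [DecidableEq ι] [Fintype ι] [CommRing F]

theorem commutator_transvection_mul {i j k : ι} (hij : i ≠ j) (hik : i ≠ k) (hkj : k ≠ j) (a b : F) :
    ⁅transvection hik a, transvection hkj b⁆ = transvection hij (a * b) := by
  rw [commutatorElement_def, transvection_inv, transvection_inv]
  apply Subtype.ext
  simp only [coe_mul, transvection_coe]
  simp only [mul_add, add_mul, mul_one, one_mul, single_mul_single_same,
    single_mul_single_of_ne _ _ _ _ hik.symm, single_mul_single_of_ne _ _ _ _ hkj.symm,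
    single_mul_single_of_ne _ _ _ _ hij.symm, single_mul_single_of_ne _ _ _ _ hij,
    single_mul_single_of_ne _ _ _ _ hik, single_mul_single_of_ne _ _ _ _ hkj,
    add_zero, zero_add, Matrix.mul_zero, Matrix.zero_mul]
  ext x y
  simp only [Matrix.add_apply, Matrix.single_apply, Matrix.one_apply]
  by_cases h1 : i = x <;> by_cases h2 : k = x <;> by_cases h3 : k = y <;> by_cases h4 : j = y <;>
    (try subst h1) <;> (try subst h2) <;> (try subst h3) <;> (try subst h4) <;>
    simp_all [eq_comm]

end

section three
variable {F : Type*} [CommRing F]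

theorem comm_mem {G : Type*} [Group G] (H : Subgroup G) {a b : G} (ha : a ∈ H) (hb : b ∈ H) :
    ⁅a, b⁆ ∈ H := by
  rw [commutatorElement_def]
  exact H.mul_mem (H.mul_mem (H.mul_mem ha hb) (H.inv_mem ha)) (H.inv_mem hb)

theorem exists_third (i j : Fin 3) : ∃ k : Fin 3, k ≠ i ∧ k ≠ j := by
  revert i j; decide

/-- left move of a root element -/
theorem mem_left_move (H : Subgroup (SpecialLinearGroup (Fin 3) F))
    (h1 : ∀ (i j : Fin 3) (hij : i ≠ j), transvection hij (1 : F) ∈ H)
    {i j i' : Fin 3} (hij : i ≠ j) (hi'i : i' ≠ i) (hi'j : i' ≠ j) {c : F}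
    (hc : transvection hij c ∈ H) : transvection hi'j c ∈ H := by
  have := commutator_transvection_mul hi'j hi'i hij (1 : F) c
  rw [one_mul] at this
  rw [← this]
  exact comm_mem H (h1 _ _ hi'i) hc

/-- right move of a root element -/
theorem mem_right_move (H : Subgroup (SpecialLinearGroup (Fin 3) F))
    (h1 : ∀ (i j : Fin 3) (hij : i ≠ j), transvection hij (1 : F) ∈ H)
    {i j j' : Fin 3} (hij : i ≠ j) (hj'i : i ≠ j') (hj'j : j ≠ j') {c : F}
    (hc : transvection hij c ∈ H) : transvection hj'i c ∈ H := by
  have := commutator_transvection_mul hj'i hij hj'j c (1 : F)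
  rw [mul_one] at this
  rw [← this]
  exact comm_mem H hc (h1 _ _ hj'j)

/-- a root element parameter can be moved to every root position -/
theorem mem_all_of_mem (H : Subgroup (SpecialLinearGroup (Fin 3) F))
    (h1 : ∀ (i j : Fin 3) (hij : i ≠ j), transvection hij (1 : F) ∈ H)
    {i j : Fin 3} (hij : i ≠ j) {c : F} (hc : transvection hij c ∈ H)
    (i' j' : Fin 3) (hij' : i' ≠ j') : transvection hij' c ∈ H := by
  -- first reach row i'
  have key : ∀ (j'' : Fin 3) (h'' : i' ≠ j''), transvection h'' c ∈ H → transvection hij' c ∈ H := by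
    intro j'' h'' hm
    by_cases hj : j'' = j'
    · subst hj; exact hm
    · exact mem_right_move H h1 h'' hij' hj hm
  by_cases hi : i' = i
  · subst hi
    exact key j hij hc
  · by_cases hi2 : i' = j
    · subst hi2
      obtain ⟨k, hk1, hk2⟩ := exists_third i i'
      -- (i,i') -> (i,k) -> (i',k)
      have h2 : transvection (Ne.symm hk1) c ∈ H := mem_right_move H h1 hij (Ne.symm hk1) (Ne.symm hk2) hc
      have h3 : transvection (Ne.symm hk2) c ∈ H := mem_left_move H h1 (Ne.symm hk1) hi (Ne.symm hk2) h2
      exact key k (Ne.symm hk2) h3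
    · have h2 : transvection hi2 c ∈ H := mem_left_move H h1 hij hi hi2 hc
      exact key j hi2 h2

/-- **Ring generation.** A subgroup of `SL₃(F)` containing all `x_ij(1)` and one `x_ij(c)` with
`c` generating `F` as a ring is the whole group. -/
theorem eq_top_of_ones_of_gen {F : Type*} [Field F] (H : Subgroup (SpecialLinearGroup (Fin 3) F))
    (h1 : ∀ (i j : Fin 3) (hij : i ≠ j), transvection hij (1 : F) ∈ H)
    {i₀ j₀ : Fin 3} (h₀ : i₀ ≠ j₀) (c : F) (hc : transvection h₀ c ∈ H)
    (hgen : Subring.closure ({c} : Set F) = ⊤) : H = ⊤ := by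
  classical
  -- the subring of good parameters
  let S : Subring F :=
    { carrier := {t | ∀ (i j : Fin 3) (hij : i ≠ j), transvection hij t ∈ H}
      mul_mem' := by
        intro a b ha hb i j hij
        obtain ⟨k, hk1, hk2⟩ := exists_third i j
        rw [← commutator_transvection_mul hij (Ne.symm hk1) hk2 a b]
        exact comm_mem H (ha _ _ _) (hb _ _ _)
      one_mem' := h1
      add_mem' := by
        intro a b ha hb i j hij
        rw [transvection_add]
        exact H.mul_mem (ha _ _ _) (hb _ _ _)
      zero_mem' := by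
        intro i j hij
        rw [transvection_coeff_zero]; exact H.one_mem
      neg_mem' := by
        intro a ha i j hij
        rw [← transvection_inv]
        exact H.inv_mem (ha _ _ _) }
  have hcS : c ∈ S := fun i j hij => mem_all_of_mem H h1 h₀ hc i j hij
  have hS : S = ⊤ := by
    rw [eq_top_iff, ← hgen]
    exact Subring.closure_le.mpr (by intro x hx; rw [Set.mem_singleton_iff] at hx; subst hx; exact hcS)
  rw [eq_top_iff]
  intro M _
  refine Cfsg.Agent.Helper5.transvection_induction (fun M => M ∈ H) ?_
    (fun A B hA hB => H.mul_mem hA hB) M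
  intro i j hij a
  have ha : a ∈ S := by rw [hS]; exact Subring.mem_top a
  exact ha i j hij

end three

end Cfsg.Agent.Helper46.Ru
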