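import Mathlib
import Cfsg.Agent.Helper46.RuA

/-!
# Regular unipotent generation of `SL₃` (helper46), part B: characteristic 2

`u = 1 + E₁₂ + E₂₃`, `v = 1 + E₂₁ + E₃₂ + c E₃₁`.  If a subgroup contains `u`, `v`, `x₁₃(1)`,
`x₃₁(1)` and `c` generates `F` as a ring then it is `SL₃(F)`; in characteristic 2 the two root
elements are `u²` and `v²`.
-/

set_option autoImplicit false
set_option linter.unusedSimpArgs false
set_option linter.unusedVariables false

namespace Cfsg.Agent.Helper46.Ru

open Matrix Matrix.SpecialLinearGroup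
open scoped commutatorElement

variable {F : Type*} [Field F]

/-- the standard regular unipotent element `1 + E₁₂ + E₂₃` -/
def uStd (F : Type*) [Field F] : SpecialLinearGroup (Fin 3) F :=
  ⟨!![1, 1, 0; 0, 1, 1; 0, 0, 1], by simp [Matrix.det_fin_three]⟩

/-- the lower regular unipotent element `1 + E₂₁ + E₃₂ + c E₃₁` -/
def vLow (c : F) : SpecialLinearGroup (Fin 3) F :=
  ⟨!![1, 0, 0; 1, 1, 0; c, 1, 1], by simp [Matrix.det_fin_three]⟩

theorem coe_uStd : ((uStd F : SpecialLinearGroup (Fin 3) F) : Matrix (Fin 3) (Fin 3) F) =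
    !![1, 1, 0; 0, 1, 1; 0, 0, 1] := rfl

theorem coe_vLow (c : F) : ((vLow c : SpecialLinearGroup (Fin 3) F) : Matrix (Fin 3) (Fin 3) F) =
    !![1, 0, 0; 1, 1, 0; c, 1, 1] := rfl

/-- explicit matrix of a root element -/
theorem coe_transvection (i j : Fin 3) (hij : i ≠ j) (t : F) :
    ((transvection hij t : SpecialLinearGroup (Fin 3) F) : Matrix (Fin 3) (Fin 3) F) =
      Matrix.of (fun a b => (if a = b then 1 else 0) + if i = a ∧ j = b then t else 0) := by
  rw [transvection_coe]
  ext a b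
  simp [Matrix.one_apply, Matrix.single_apply]

theorem uStd_eq : uStd F = transvection (show (1 : Fin 3) ≠ 2 by decide) 1 *
    transvection (show (0 : Fin 3) ≠ 1 by decide) 1 := by
  apply Subtype.ext
  rw [coe_mul, coe_uStd, coe_transvection, coe_transvection]
  ext a b
  fin_cases a <;> fin_cases b <;> simp [Matrix.mul_apply, Fin.sum_univ_three]

theorem vLow_eq (c : F) : vLow c = transvection (show (1 : Fin 3) ≠ 0 by decide) 1 *
    transvection (show (2 : Fin 3) ≠ 1 by decide) 1 *
    transvection (show (2 : Fin 3) ≠ 0 by decide) c := by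
  apply Subtype.ext
  rw [coe_mul, coe_mul, coe_vLow, coe_transvection, coe_transvection, coe_transvection]
  ext a b
  fin_cases a <;> fin_cases b <;> simp [Matrix.mul_apply, Fin.sum_univ_three]

/-- the conjugate `u x₃₁(1) u⁻¹` -/
def t3 (F : Type*) [Field F] : SpecialLinearGroup (Fin 3) F :=
  ⟨!![1, 0, 0; 1, 0, 1; 1, -1, 2], by simp [Matrix.det_fin_three]⟩

theorem t3_eq : t3 F = uStd F * transvection (show (2 : Fin 3) ≠ 0 by decide) 1 * (uStd F)⁻¹ := by
  rw [eq_mul_inv_iff_mul_eq]
  apply Subtype.ext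
  rw [coe_mul, coe_mul, coe_uStd, coe_transvection]
  show (!![1, 0, 0; 1, 0, 1; 1, -1, 2] : Matrix (Fin 3) (Fin 3) F) * _ = _
  ext a b
  fin_cases a <;> fin_cases b <;> simp [Matrix.mul_apply, Fin.sum_univ_three] <;> ring

theorem comm_t2_t3 : transvection (show (2 : Fin 3) ≠ 0 by decide) (1 : F) * t3 F =
    transvection (show (1 : Fin 3) ≠ 0 by decide) (-1) *
      transvection (show (2 : Fin 3) ≠ 0 by decide) (-1) * t3 F *
      transvection (show (2 : Fin 3) ≠ 0 by decide) (1 : F) := by
  apply Subtype.ext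
  simp only [coe_mul, coe_transvection]
  show _ * (!![1, 0, 0; 1, 0, 1; 1, -1, 2] : Matrix (Fin 3) (Fin 3) F) =
    _ * _ * (!![1, 0, 0; 1, 0, 1; 1, -1, 2] : Matrix (Fin 3) (Fin 3) F) * _
  ext a b
  fin_cases a <;> fin_cases b <;> simp [Matrix.mul_apply, Fin.sum_univ_three] <;> ring

/-- **Key generation lemma** (any characteristic). -/
theorem eq_top_of_uStd_vLow (H : Subgroup (SpecialLinearGroup (Fin 3) F)) (c : F)
    (hu : uStd F ∈ H) (hv : vLow c ∈ H)
    (h13 : transvection (show (0 : Fin 3) ≠ 2 by decide) (1 : F) ∈ H)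
    (h31 : transvection (show (2 : Fin 3) ≠ 0 by decide) (1 : F) ∈ H)
    (hgen : Subring.closure ({c} : Set F) = ⊤) : H = ⊤ := by
  have ht3 : t3 F ∈ H := by
    rw [t3_eq]; exact H.mul_mem (H.mul_mem hu h31) (H.inv_mem hu)
  -- x21(-1)
  have h21n : transvection (show (1 : Fin 3) ≠ 0 by decide) (-1 : F) ∈ H := by
    have e : transvection (show (1 : Fin 3) ≠ 0 by decide) (-1 : F) =
        transvection (show (2 : Fin 3) ≠ 0 by decide) (1 : F) * t3 F *
          (transvection (show (2 : Fin 3) ≠ 0 by decide) (1 : F))⁻¹ * (t3 F)⁻¹ *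
          (transvection (show (2 : Fin 3) ≠ 0 by decide) (-1 : F))⁻¹ := by
      rw [comm_t2_t3]; group
    rw [e]
    have h31n : transvection (show (2 : Fin 3) ≠ 0 by decide) (-1 : F) ∈ H := by
      rw [← transvection_inv]; exact H.inv_mem h31
    exact H.mul_mem (H.mul_mem (H.mul_mem (H.mul_mem h31 ht3) (H.inv_mem h31)) (H.inv_mem ht3))
      (H.inv_mem h31n)
  have h21 : transvection (show (1 : Fin 3) ≠ 0 by decide) (1 : F) ∈ H := by
    have := H.inv_mem h21n
    rwa [transvection_inv, neg_neg] at this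
  -- x23(1) = [x21(1), x13(1)]
  have h23 : transvection (show (1 : Fin 3) ≠ 2 by decide) (1 : F) ∈ H := by
    have := commutator_transvection_mul (show (1 : Fin 3) ≠ 2 by decide)
      (show (1 : Fin 3) ≠ 0 by decide) (show (0 : Fin 3) ≠ 2 by decide) (1 : F) 1
    rw [one_mul] at this
    rw [← this]; exact comm_mem H h21 h13
  -- x12(1)
  have h12 : transvection (show (0 : Fin 3) ≠ 1 by decide) (1 : F) ∈ H := by
    have e : transvection (show (0 : Fin 3) ≠ 1 by decide) (1 : F) =
        (transvection (show (1 : Fin 3) ≠ 2 by decide) (1 : F))⁻¹ * uStd F := by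
      rw [uStd_eq]; group
    rw [e]; exact H.mul_mem (H.inv_mem h23) hu
  -- x32(1) = [x31(1), x12(1)]
  have h32 : transvection (show (2 : Fin 3) ≠ 1 by decide) (1 : F) ∈ H := by
    have := commutator_transvection_mul (show (2 : Fin 3) ≠ 1 by decide)
      (show (2 : Fin 3) ≠ 0 by decide) (show (0 : Fin 3) ≠ 1 by decide) (1 : F) 1
    rw [one_mul] at this
    rw [← this]; exact comm_mem H h31 h12
  -- x31(c)
  have h31c : transvection (show (2 : Fin 3) ≠ 0 by decide) c ∈ H := by
    have e : transvection (show (2 : Fin 3) ≠ 0 by decide) c =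
        (transvection (show (2 : Fin 3) ≠ 1 by decide) (1 : F))⁻¹ *
          (transvection (show (1 : Fin 3) ≠ 0 by decide) (1 : F))⁻¹ * vLow c := by
      rw [vLow_eq]; group
    rw [e]; exact H.mul_mem (H.mul_mem (H.inv_mem h32) (H.inv_mem h21)) hv
  refine eq_top_of_ones_of_gen H ?_ (show (2 : Fin 3) ≠ 0 by decide) c h31c hgen
  intro i j hij
  fin_cases i <;> fin_cases j <;> first | exact absurd rfl hij | assumption

end Cfsg.Agent.Helper46.Ru
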