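import Mathlib
import Cfsg.Agent.Helper46.RuB

/-!
# Regular unipotent generation of `SL₃` (helper46), part C: the characteristic 2 theorem
-/

set_option autoImplicit false
set_option linter.unusedSimpArgs false
set_option linter.unusedVariables false

namespace Cfsg.Agent.Helper46.Ru

open Matrix Matrix.SpecialLinearGroup
open scoped commutatorElement

variable {F : Type*} [Field F]

/-- a finite field is generated as a ring by one element -/
theorem exists_ring_gen (F : Type*) [Field F] [Finite F] :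
    ∃ c : F, Subring.closure ({c} : Set F) = ⊤ := by
  obtain ⟨g, hg⟩ := IsCyclic.exists_monoid_generator (α := Fˣ)
  refine ⟨(g : F), ?_⟩
  rw [eq_top_iff]
  intro y _
  by_cases hy : y = 0
  · subst hy; exact Subring.zero_mem _
  · obtain ⟨n, hn⟩ := (Submonoid.mem_powers_iff _ _).mp (hg (Units.mk0 y hy))
    have : y = (g : F) ^ n := by
      have := congrArg (fun x : Fˣ => (x : F)) hn
      simpa using this.symm
    rw [this]
    exact Subring.pow_mem _ (Subring.subset_closure (Set.mem_singleton _)) n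

theorem uStd_sub_one : ((uStd F : SpecialLinearGroup (Fin 3) F) : Matrix (Fin 3) (Fin 3) F) - 1 =
    !![0, 1, 0; 0, 0, 1; 0, 0, 0] := by
  rw [coe_uStd]
  ext a b
  fin_cases a <;> fin_cases b <;> simp

theorem uStd_nilpotent :
    IsNilpotent (((uStd F : SpecialLinearGroup (Fin 3) F) : Matrix (Fin 3) (Fin 3) F) - 1) := by
  refine ⟨3, ?_⟩
  rw [uStd_sub_one]
  ext a b
  fin_cases a <;> fin_cases b <;> simp [pow_succ, Matrix.mul_apply, Fin.sum_univ_three]

theorem uStd_sq_ne_zero :
    (((uStd F : SpecialLinearGroup (Fin 3) F) : Matrix (Fin 3) (Fin 3) F) - 1) ^ (3 - 1) ≠ 0 := by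
  rw [uStd_sub_one]
  intro h
  have := congrFun (congrFun h 0) 2
  simp [pow_succ, Matrix.mul_apply, Fin.sum_univ_three] at this

section chartwo
variable [CharP F 2]

/-- the conjugating element in characteristic 2 -/
def gTwo (c : F) : SpecialLinearGroup (Fin 3) F :=
  ⟨!![0, 0, 1; 0, 1, c; 1, 0, 0], by
    simp [Matrix.det_fin_three]
    exact CharTwo.neg_eq (1 : F)⟩

theorem gTwo_conj (c : F) : gTwo c * uStd F * (gTwo c)⁻¹ = vLow c := by
  rw [mul_inv_eq_iff_eq_mul]
  apply Subtype.ext
  rw [coe_mul, coe_mul, coe_uStd, coe_vLow]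
  show (!![0, 0, 1; 0, 1, c; 1, 0, 0] : Matrix (Fin 3) (Fin 3) F) * _ =
    _ * (!![0, 0, 1; 0, 1, c; 1, 0, 0] : Matrix (Fin 3) (Fin 3) F)
  ext a b
  fin_cases a <;> fin_cases b <;> simp [Matrix.mul_apply, Fin.sum_univ_three]
  exact (CharTwo.add_self_eq_zero c).symm

theorem uStd_sq_two : uStd F * uStd F = transvection (show (0 : Fin 3) ≠ 2 by decide) (1 : F) := by
  apply Subtype.ext
  rw [coe_mul, coe_uStd, coe_transvection]
  ext a b
  fin_cases a <;> fin_cases b <;> simp [Matrix.mul_apply, Fin.sum_univ_three] <;>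
    exact CharTwo.add_self_eq_zero (1 : F)

theorem vLow_sq_two (c : F) :
    vLow c * vLow c = transvection (show (2 : Fin 3) ≠ 0 by decide) (1 : F) := by
  apply Subtype.ext
  rw [coe_mul, coe_vLow, coe_transvection]
  ext a b
  fin_cases a <;> fin_cases b <;> simp [Matrix.mul_apply, Fin.sum_univ_three]
  · exact CharTwo.add_self_eq_zero (1 : F)
  · have := CharTwo.add_self_eq_zero c
    linear_combination this
  · exact CharTwo.add_self_eq_zero (1 : F)

theorem char_two_case (F : Type*) [Field F] [Finite F] [CharP F 2] :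
    ∃ u g : SpecialLinearGroup (Fin 3) F,
      IsNilpotent ((u : Matrix (Fin 3) (Fin 3) F) - 1) ∧
      ((u : Matrix (Fin 3) (Fin 3) F) - 1) ^ (3 - 1) ≠ 0 ∧
      Subgroup.closure ({u, g * u * g⁻¹} : Set (SpecialLinearGroup (Fin 3) F)) = ⊤ := by
  obtain ⟨c, hc⟩ := exists_ring_gen F
  refine ⟨uStd F, gTwo c, uStd_nilpotent, uStd_sq_ne_zero, ?_⟩
  rw [gTwo_conj]
  set H := Subgroup.closure ({uStd F, vLow c} : Set (SpecialLinearGroup (Fin 3) F)) with hH
  have hu : uStd F ∈ H := Subgroup.subset_closure (Set.mem_insert _ _)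
  have hv : vLow c ∈ H := Subgroup.subset_closure (Set.mem_insert_of_mem _ (Set.mem_singleton _))
  refine eq_top_of_uStd_vLow H c hu hv ?_ ?_ hc
  · rw [← uStd_sq_two]; exact H.mul_mem hu hu
  · rw [← vLow_sq_two c]; exact H.mul_mem hv hv

end chartwo

end Cfsg.Agent.Helper46.Ru
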