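import Mathlib
import Cfsg.Agent.Helper46.RuA

/-!
# Regular unipotent generation of `SL₃` (helper46), part D: overgroups of `SL₂`

A subgroup `H` of `SL₃(F)` containing the root groups `X₀₂`, `X₂₀` (an `SL₂` on the coordinates
`0, 2`) and an element `h` that moves both the plane `⟨e₀, e₂⟩` and the line `⟨e₁⟩` is `SL₃(F)`.
-/

set_option autoImplicit false
set_option linter.unusedSimpArgs false
set_option linter.unusedVariables false

namespace Cfsg.Agent.Helper46.Ru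

open Matrix Matrix.SpecialLinearGroup
open scoped commutatorElement

variable {F : Type*} [Field F]

/-- root elements of `SL₃` -/
abbrev rt (i j : Fin 3) (hij : i ≠ j) (t : F) : SpecialLinearGroup (Fin 3) F := transvection hij t

theorem rt_apply (i j : Fin 3) (hij : i ≠ j) (t : F) (a b : Fin 3) :
    (rt i j hij t : Matrix (Fin 3) (Fin 3) F) a b =
      (if a = b then 1 else 0) + if i = a ∧ j = b then t else 0 := by
  rw [transvection_coe]
  simp [Matrix.one_apply, Matrix.single_apply]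

/-- matrix of the inverse from a right inverse -/
theorem coe_inv_eq_of_mul_eq_one (g : SpecialLinearGroup (Fin 3) F) (M' : Matrix (Fin 3) (Fin 3) F)
    (h : (g : Matrix (Fin 3) (Fin 3) F) * M' = 1) :
    ((g⁻¹ : SpecialLinearGroup (Fin 3) F) : Matrix (Fin 3) (Fin 3) F) = M' := by
  have h1 : ((g⁻¹ : SpecialLinearGroup (Fin 3) F) : Matrix (Fin 3) (Fin 3) F) *
      (g : Matrix (Fin 3) (Fin 3) F) = 1 := by
    rw [← coe_mul, inv_mul_cancel, coe_one]
  calc ((g⁻¹ : SpecialLinearGroup (Fin 3) F) : Matrix (Fin 3) (Fin 3) F)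
      = ((g⁻¹ : SpecialLinearGroup (Fin 3) F) : Matrix (Fin 3) (Fin 3) F) *
          ((g : Matrix (Fin 3) (Fin 3) F) * M') := by rw [h, Matrix.mul_one]
    _ = M' := by rw [← Matrix.mul_assoc, h1, Matrix.one_mul]

theorem coe_mul_coe_inv (g : SpecialLinearGroup (Fin 3) F) :
    (g : Matrix (Fin 3) (Fin 3) F) * ((g⁻¹ : SpecialLinearGroup (Fin 3) F) : Matrix (Fin 3) (Fin 3) F)
      = 1 := by
  rw [← coe_mul, mul_inv_cancel, coe_one]

theorem coe_inv_mul_coe (g : SpecialLinearGroup (Fin 3) F) :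
    ((g⁻¹ : SpecialLinearGroup (Fin 3) F) : Matrix (Fin 3) (Fin 3) F) * (g : Matrix (Fin 3) (Fin 3) F)
      = 1 := by
  rw [← coe_mul, inv_mul_cancel, coe_one]

section tv

variable (x y z w : Fin 3 → F)

theorem vmv_sq (hyx : y ⬝ᵥ x = 0) : vecMulVec x y * vecMulVec x y = 0 := by
  rw [vecMulVec_mul_vecMulVec, hyx, zero_smul, vecMulVec_zero]

theorem tv_mul_neg (hyx : y ⬝ᵥ x = 0) :
    (1 + vecMulVec x y) * (1 - vecMulVec x y) = (1 : Matrix (Fin 3) (Fin 3) F) := by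
  have hAA := vmv_sq x y hyx
  simp only [mul_sub, add_mul, Matrix.mul_one, Matrix.one_mul, hAA]
  abel

/-- the commutator of two transvections, the centre of the second on the axis of the first -/
theorem tv_comm (hyx : y ⬝ᵥ x = 0) (hwz : w ⬝ᵥ z = 0) (hyz : y ⬝ᵥ z = 0) :
    (1 + vecMulVec x y) * (1 + vecMulVec z w) * (1 - vecMulVec x y) * (1 - vecMulVec z w) =
      (1 : Matrix (Fin 3) (Fin 3) F) - (w ⬝ᵥ x) • vecMulVec z y := by
  set A := vecMulVec x y with hA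
  set B := vecMulVec z w with hB
  have hAA : A * A = 0 := vmv_sq x y hyx
  have hBB : B * B = 0 := vmv_sq z w hwz
  have hAB : A * B = 0 := by
    rw [hA, hB, vecMulVec_mul_vecMulVec, hyz, zero_smul, vecMulVec_zero]
  have hBA : B * A = (w ⬝ᵥ x) • vecMulVec z y := by
    rw [hA, hB, vecMulVec_mul_vecMulVec, vecMulVec_smul]
  have e1 : (1 + A) * (1 + B) = 1 + A + B := by
    simp only [mul_add, add_mul, Matrix.mul_one, Matrix.one_mul, hAB]
    abel
  have e2 : (1 + A + B) * (1 - A) = 1 + B - B * A := by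
    simp only [mul_sub, add_mul, Matrix.mul_one, Matrix.one_mul, hAA]
    abel
  have e3 : (1 + B - B * A) * (1 - B) = 1 - B * A := by
    have hBAB : B * A * B = 0 := by rw [Matrix.mul_assoc, hAB, Matrix.mul_zero]
    simp only [mul_sub, sub_mul, add_mul, Matrix.mul_one, Matrix.one_mul, hBB, hBAB]
    abel
  rw [e1, e2, e3, hBA]

end tv

/-- the conjugate of a root element `x₀₂(t)` -/
theorem coe_conj_rt02 (h : SpecialLinearGroup (Fin 3) F) (t : F) :
    ((h * rt 0 2 (by decide) t * h⁻¹ : SpecialLinearGroup (Fin 3) F) : Matrix (Fin 3) (Fin 3) F) =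
      1 + vecMulVec ((h : Matrix (Fin 3) (Fin 3) F) *ᵥ (t • Pi.single 0 1))
        ((Pi.single 2 1 : Fin 3 → F) ᵥ* ((h⁻¹ : SpecialLinearGroup (Fin 3) F) : Matrix (Fin 3) (Fin 3) F)) := by
  have e : ((rt 0 2 (by decide) t : SpecialLinearGroup (Fin 3) F) : Matrix (Fin 3) (Fin 3) F) =
      1 + vecMulVec (t • Pi.single 0 1) (Pi.single 2 1) := by
    ext a b
    rw [rt_apply]
    fin_cases a <;> fin_cases b <;> simp [vecMulVec_apply, Matrix.one_apply]
  rw [coe_mul, coe_mul, e, mul_add, add_mul, Matrix.mul_one, coe_mul_coe_inv, mul_vecMulVec,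
    vecMulVec_mul]


/-- entry `(2,0)` of `N * M = 1` -/
theorem inv_mul_entry20 (h : SpecialLinearGroup (Fin 3) F) :
    ((h⁻¹ : SpecialLinearGroup (Fin 3) F) : Matrix (Fin 3) (Fin 3) F) 2 0 * (h : Matrix (Fin 3) (Fin 3) F) 0 0 +
    ((h⁻¹ : SpecialLinearGroup (Fin 3) F) : Matrix (Fin 3) (Fin 3) F) 2 1 * (h : Matrix (Fin 3) (Fin 3) F) 1 0 +
    ((h⁻¹ : SpecialLinearGroup (Fin 3) F) : Matrix (Fin 3) (Fin 3) F) 2 2 * (h : Matrix (Fin 3) (Fin 3) F) 2 0 = 0 := by
  have := congrFun (congrFun (coe_inv_mul_coe h) 2) 0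
  simpa [Matrix.mul_apply, Fin.sum_univ_three] using this

/-- **Core step.** From `X₀₂ ⊆ H` and `h ∈ H` with `h₂₀ = 0`, `h₁₀ ≠ 0`, `(h⁻¹)₂₁ ≠ 0`
we get `X₁₂ ⊆ H`. -/
theorem rt12_mem_core (H : Subgroup (SpecialLinearGroup (Fin 3) F))
    (h02 : ∀ t : F, rt 0 2 (by decide) t ∈ H)
    (h : SpecialLinearGroup (Fin 3) F) (hh : h ∈ H)
    (hM20 : (h : Matrix (Fin 3) (Fin 3) F) 2 0 = 0)
    (hM10 : (h : Matrix (Fin 3) (Fin 3) F) 1 0 ≠ 0)
    (hN21 : ((h⁻¹ : SpecialLinearGroup (Fin 3) F) : Matrix (Fin 3) (Fin 3) F) 2 1 ≠ 0) :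
    ∀ τ : F, rt 1 2 (by decide) τ ∈ H := by
  intro τ
  set M : Matrix (Fin 3) (Fin 3) F := (h : Matrix (Fin 3) (Fin 3) F) with hM
  set N : Matrix (Fin 3) (Fin 3) F :=
    ((h⁻¹ : SpecialLinearGroup (Fin 3) F) : Matrix (Fin 3) (Fin 3) F) with hN
  have hrel := inv_mul_entry20 h
  rw [← hM, ← hN, hM20, mul_zero, add_zero] at hrel
  have hN20 : N 2 0 ≠ 0 := by
    intro h0
    rw [h0, zero_mul, zero_add] at hrel
    exact (mul_ne_zero hN21 hM10) hrel
  set t : F := -τ / (N 2 0 * M 1 0) with ht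
  have htτ : -(t * N 2 0 * M 1 0) = τ := by
    rw [ht]; field_simp
  set x : Fin 3 → F := Pi.single 0 1 with hx
  set y : Fin 3 → F := Pi.single 2 1 with hy
  set z : Fin 3 → F := M *ᵥ (t • Pi.single 0 1) with hz
  set w : Fin 3 → F := (Pi.single 2 1 : Fin 3 → F) ᵥ* N with hw
  have hyx : y ⬝ᵥ x = 0 := by simp [hx, hy]
  have hyz : y ⬝ᵥ z = 0 := by
    simp [hy, hz, Matrix.mulVec_smul, hM20]
  have hwz : w ⬝ᵥ z = 0 := by
    rw [hw, hz, Matrix.dotProduct_mulVec, Matrix.vecMul_vecMul, hN, hM, coe_inv_mul_coe,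
      Matrix.vecMul_one]
    simp
  have hwx : w ⬝ᵥ x = N 2 0 := by
    simp [hw, hx]
  -- the elements
  set E : SpecialLinearGroup (Fin 3) F := h * rt 0 2 (by decide) t * h⁻¹ with hE
  have hEmem : E ∈ H := H.mul_mem (H.mul_mem hh (h02 t)) (H.inv_mem hh)
  have hEc : (E : Matrix (Fin 3) (Fin 3) F) = 1 + vecMulVec z w := coe_conj_rt02 h t
  have hEi : ((E⁻¹ : SpecialLinearGroup (Fin 3) F) : Matrix (Fin 3) (Fin 3) F) = 1 - vecMulVec z w := by
    apply coe_inv_eq_of_mul_eq_one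
    rw [hEc]; exact tv_mul_neg z w hwz
  have hRc : ((rt 0 2 (by decide) (1 : F) : SpecialLinearGroup (Fin 3) F) : Matrix (Fin 3) (Fin 3) F) =
      1 + vecMulVec x y := by
    ext a b
    rw [rt_apply]
    fin_cases a <;> fin_cases b <;> simp [vecMulVec_apply, Matrix.one_apply, hx, hy]
  have hRi : (((rt 0 2 (by decide) (1 : F))⁻¹ : SpecialLinearGroup (Fin 3) F) :
      Matrix (Fin 3) (Fin 3) F) = 1 - vecMulVec x y := by
    apply coe_inv_eq_of_mul_eq_one
    rw [hRc]; exact tv_mul_neg x y hyx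
  set C : SpecialLinearGroup (Fin 3) F :=
    rt 0 2 (by decide) (1 : F) * E * (rt 0 2 (by decide) (1 : F))⁻¹ * E⁻¹ with hC
  have hCmem : C ∈ H :=
    H.mul_mem (H.mul_mem (H.mul_mem (h02 1) hEmem) (H.inv_mem (h02 1))) (H.inv_mem hEmem)
  have hCc : (C : Matrix (Fin 3) (Fin 3) F) = 1 - (N 2 0) • vecMulVec z y := by
    rw [hC, coe_mul, coe_mul, coe_mul, hRc, hEc, hRi, hEi, tv_comm x y z w hyx hwz hyz, hwx]
  have key : C = rt 0 2 (by decide) (-(t * N 2 0 * M 0 0)) * rt 1 2 (by decide) τ := by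
    apply Subtype.ext
    rw [hCc, coe_mul]
    ext a b
    rw [← htτ]
    fin_cases a <;> fin_cases b <;>
      simp [rt_apply, Matrix.mul_apply, Fin.sum_univ_three, vecMulVec_apply, hz, hy,
        Matrix.mulVec_smul, hM20] <;> ring
  have : rt 1 2 (by decide) τ = (rt 0 2 (by decide) (-(t * N 2 0 * M 0 0)))⁻¹ * C := by
    rw [key]; group
  rw [this]
  exact H.mul_mem (H.inv_mem (h02 _)) hCmem

end Cfsg.Agent.Helper46.Ru
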