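import Mathlib
import Cfsg.Agent.Helper46.RuD

/-!
# Regular unipotent generation of `SL₃` (helper46), part E: the overgroup lemma
-/

set_option autoImplicit false
set_option linter.unusedSimpArgs false
set_option linter.unusedVariables false

namespace Cfsg.Agent.Helper46.Ru

open Matrix Matrix.SpecialLinearGroup
open scoped commutatorElement

variable {F : Type*} [Field F]

theorem rt_mul_apply (i j : Fin 3) (hij : i ≠ j) (s : F) (h : SpecialLinearGroup (Fin 3) F)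
    (a b : Fin 3) :
    ((rt i j hij s * h : SpecialLinearGroup (Fin 3) F) : Matrix (Fin 3) (Fin 3) F) a b =
      (h : Matrix (Fin 3) (Fin 3) F) a b + if a = i then s * (h : Matrix (Fin 3) (Fin 3) F) j b else 0 := by
  rw [coe_mul, transvection_coe, add_mul, Matrix.one_mul, Matrix.add_apply]
  congr 1
  by_cases hai : a = i
  · subst hai; simp
  · simp [hai]

theorem mul_rt_apply (i j : Fin 3) (hij : i ≠ j) (s : F) (h : SpecialLinearGroup (Fin 3) F)
    (a b : Fin 3) :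
    ((h * rt i j hij s : SpecialLinearGroup (Fin 3) F) : Matrix (Fin 3) (Fin 3) F) a b =
      (h : Matrix (Fin 3) (Fin 3) F) a b + if b = j then (h : Matrix (Fin 3) (Fin 3) F) a i * s else 0 := by
  rw [coe_mul, transvection_coe, mul_add, Matrix.mul_one, Matrix.add_apply]
  congr 1
  by_cases hbj : b = j
  · subst hbj; simp
  · simp [hbj]

theorem rt_inv (i j : Fin 3) (hij : i ≠ j) (s : F) :
    (rt i j hij s : SpecialLinearGroup (Fin 3) F)⁻¹ = rt i j hij (-s) := transvection_inv hij s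

/-- `X₁₂ ⊆ H` from an element with `h₁₀ ≠ 0`, `(h⁻¹)₂₁ ≠ 0`, `h₀₀ ≠ 0`. -/
theorem rt12_mem_A1 (H : Subgroup (SpecialLinearGroup (Fin 3) F))
    (h02 : ∀ t : F, rt 0 2 (by decide) t ∈ H) (h20 : ∀ t : F, rt 2 0 (by decide) t ∈ H)
    (h : SpecialLinearGroup (Fin 3) F) (hh : h ∈ H)
    (hM00 : (h : Matrix (Fin 3) (Fin 3) F) 0 0 ≠ 0)
    (hM10 : (h : Matrix (Fin 3) (Fin 3) F) 1 0 ≠ 0)
    (hN21 : ((h⁻¹ : SpecialLinearGroup (Fin 3) F) : Matrix (Fin 3) (Fin 3) F) 2 1 ≠ 0) :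
    ∀ τ : F, rt 1 2 (by decide) τ ∈ H := by
  set s : F := -((h : Matrix (Fin 3) (Fin 3) F) 2 0) / (h : Matrix (Fin 3) (Fin 3) F) 0 0 with hs
  set h' : SpecialLinearGroup (Fin 3) F := rt 2 0 (by decide) s * h with hh'
  have hmem : h' ∈ H := H.mul_mem (h20 s) hh
  have e20 : (h' : Matrix (Fin 3) (Fin 3) F) 2 0 = 0 := by
    rw [hh', rt_mul_apply]; simp [hs]; field_simp; ring
  have e10 : (h' : Matrix (Fin 3) (Fin 3) F) 1 0 = (h : Matrix (Fin 3) (Fin 3) F) 1 0 := by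
    rw [hh', rt_mul_apply]; simp
  have einv : h'⁻¹ = h⁻¹ * rt 2 0 (by decide) (-s) := by
    rw [hh', _root_.mul_inv_rev, rt_inv]
  have e21 : ((h'⁻¹ : SpecialLinearGroup (Fin 3) F) : Matrix (Fin 3) (Fin 3) F) 2 1 =
      ((h⁻¹ : SpecialLinearGroup (Fin 3) F) : Matrix (Fin 3) (Fin 3) F) 2 1 := by
    rw [einv, mul_rt_apply]; simp
  exact rt12_mem_core H h02 h' hmem e20 (by rw [e10]; exact hM10) (by rw [e21]; exact hN21)

/-- `X₁₂ ⊆ H` from an element with `h₁₀ ≠ 0`, `(h⁻¹)₂₁ ≠ 0`. -/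
theorem rt12_mem_A (H : Subgroup (SpecialLinearGroup (Fin 3) F))
    (h02 : ∀ t : F, rt 0 2 (by decide) t ∈ H) (h20 : ∀ t : F, rt 2 0 (by decide) t ∈ H)
    (h : SpecialLinearGroup (Fin 3) F) (hh : h ∈ H)
    (hM10 : (h : Matrix (Fin 3) (Fin 3) F) 1 0 ≠ 0)
    (hN21 : ((h⁻¹ : SpecialLinearGroup (Fin 3) F) : Matrix (Fin 3) (Fin 3) F) 2 1 ≠ 0) :
    ∀ τ : F, rt 1 2 (by decide) τ ∈ H := by
  by_cases hM00 : (h : Matrix (Fin 3) (Fin 3) F) 0 0 = 0
  · -- then `h₂₀ ≠ 0`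
    have hrel := inv_mul_entry20 h
    rw [hM00, mul_zero, zero_add] at hrel
    have hM20 : (h : Matrix (Fin 3) (Fin 3) F) 2 0 ≠ 0 := by
      intro h0
      rw [h0, mul_zero, add_zero] at hrel
      exact (mul_ne_zero hN21 hM10) hrel
    set h' : SpecialLinearGroup (Fin 3) F := rt 0 2 (by decide) 1 * h with hh'
    have hmem : h' ∈ H := H.mul_mem (h02 1) hh
    have e00 : (h' : Matrix (Fin 3) (Fin 3) F) 0 0 = (h : Matrix (Fin 3) (Fin 3) F) 2 0 := by
      rw [hh', rt_mul_apply]; simp [hM00]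
    have e10 : (h' : Matrix (Fin 3) (Fin 3) F) 1 0 = (h : Matrix (Fin 3) (Fin 3) F) 1 0 := by
      rw [hh', rt_mul_apply]; simp
    have einv : h'⁻¹ = h⁻¹ * rt 0 2 (by decide) (-1) := by
      rw [hh', _root_.mul_inv_rev, rt_inv]
    have e21 : ((h'⁻¹ : SpecialLinearGroup (Fin 3) F) : Matrix (Fin 3) (Fin 3) F) 2 1 =
        ((h⁻¹ : SpecialLinearGroup (Fin 3) F) : Matrix (Fin 3) (Fin 3) F) 2 1 := by
      rw [einv, mul_rt_apply]; simp
    exact rt12_mem_A1 H h02 h20 h' hmem (by rw [e00]; exact hM20) (by rw [e10]; exact hM10)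
      (by rw [e21]; exact hN21)
  · exact rt12_mem_A1 H h02 h20 h hh hM00 hM10 hN21


/-- the Weyl element of the `SL₂` on the coordinates `0, 2` -/
def weyl02 (F : Type*) [Field F] : SpecialLinearGroup (Fin 3) F :=
  rt 0 2 (by decide) (-1) * rt 2 0 (by decide) 1 * rt 0 2 (by decide) (-1)

theorem coe_weyl02 : ((weyl02 F : SpecialLinearGroup (Fin 3) F) : Matrix (Fin 3) (Fin 3) F) =
    !![0, 0, -1; 0, 1, 0; 1, 0, 0] := by
  rw [weyl02, coe_mul, coe_mul]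
  ext a b
  fin_cases a <;> fin_cases b <;>
    simp [rt_apply, Matrix.mul_apply, Fin.sum_univ_three]

theorem coe_weyl02_inv : (((weyl02 F)⁻¹ : SpecialLinearGroup (Fin 3) F) : Matrix (Fin 3) (Fin 3) F) =
    !![0, 0, 1; 0, 1, 0; -1, 0, 0] := by
  apply coe_inv_eq_of_mul_eq_one
  rw [coe_weyl02]
  ext a b
  fin_cases a <;> fin_cases b <;> simp [Matrix.mul_apply, Fin.sum_univ_three]

theorem weyl02_mem (H : Subgroup (SpecialLinearGroup (Fin 3) F))
    (h02 : ∀ t : F, rt 0 2 (by decide) t ∈ H) (h20 : ∀ t : F, rt 2 0 (by decide) t ∈ H) :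
    weyl02 F ∈ H := H.mul_mem (H.mul_mem (h02 _) (h20 _)) (h02 _)

/-- `X₁₂ ⊆ H` from an element moving the plane `⟨e₀,e₂⟩` whose inverse moves `⟨e₁⟩`. -/
theorem rt12_mem (H : Subgroup (SpecialLinearGroup (Fin 3) F))
    (h02 : ∀ t : F, rt 0 2 (by decide) t ∈ H) (h20 : ∀ t : F, rt 2 0 (by decide) t ∈ H)
    (h : SpecialLinearGroup (Fin 3) F) (hh : h ∈ H)
    (hrow : (h : Matrix (Fin 3) (Fin 3) F) 1 0 ≠ 0 ∨ (h : Matrix (Fin 3) (Fin 3) F) 1 2 ≠ 0)
    (hcol : ((h⁻¹ : SpecialLinearGroup (Fin 3) F) : Matrix (Fin 3) (Fin 3) F) 0 1 ≠ 0 ∨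
      ((h⁻¹ : SpecialLinearGroup (Fin 3) F) : Matrix (Fin 3) (Fin 3) F) 2 1 ≠ 0) :
    ∀ τ : F, rt 1 2 (by decide) τ ∈ H := by
  set M : Matrix (Fin 3) (Fin 3) F := (h : Matrix (Fin 3) (Fin 3) F) with hM
  set N : Matrix (Fin 3) (Fin 3) F :=
    ((h⁻¹ : SpecialLinearGroup (Fin 3) F) : Matrix (Fin 3) (Fin 3) F) with hN
  by_cases c1 : M 1 0 ≠ 0 ∧ N 2 1 ≠ 0
  · exact rt12_mem_A H h02 h20 h hh c1.1 c1.2
  by_cases c2 : M 1 2 ≠ 0 ∧ N 0 1 ≠ 0
  · -- use `h * weyl02`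
    set h' : SpecialLinearGroup (Fin 3) F := h * weyl02 F with hh'
    have hmem : h' ∈ H := H.mul_mem hh (weyl02_mem H h02 h20)
    have e10 : (h' : Matrix (Fin 3) (Fin 3) F) 1 0 = M 1 2 := by
      rw [hh', coe_mul, coe_weyl02, Matrix.mul_apply, Fin.sum_univ_three]; simp [hM]
    have e21 : ((h'⁻¹ : SpecialLinearGroup (Fin 3) F) : Matrix (Fin 3) (Fin 3) F) 2 1 = - N 0 1 := by
      rw [hh', _root_.mul_inv_rev, coe_mul, coe_weyl02_inv, Matrix.mul_apply, Fin.sum_univ_three]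
      simp [hN]
    exact rt12_mem_A H h02 h20 h' hmem (by rw [e10]; exact c2.1)
      (by rw [e21]; exact neg_ne_zero.mpr c2.2)
  · -- use `h * x₂₀(1)`
    set h' : SpecialLinearGroup (Fin 3) F := h * rt 2 0 (by decide) 1 with hh'
    have hmem : h' ∈ H := H.mul_mem hh (h20 1)
    have e10 : (h' : Matrix (Fin 3) (Fin 3) F) 1 0 = M 1 0 + M 1 2 := by
      rw [hh', mul_rt_apply]; simp [hM]
    have e21 : ((h'⁻¹ : SpecialLinearGroup (Fin 3) F) : Matrix (Fin 3) (Fin 3) F) 2 1 =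
        N 2 1 - N 0 1 := by
      rw [hh', _root_.mul_inv_rev, rt_inv, rt_mul_apply]; simp [hN]; ring
    have hne : M 1 0 + M 1 2 ≠ 0 ∧ N 2 1 - N 0 1 ≠ 0 := by
      by_cases hm : M 1 0 = 0
      · have h12 : M 1 2 ≠ 0 := by
          rcases hrow with h | h
          · exact absurd hm h
          · exact h
        have hn01 : N 0 1 = 0 := by
          by_contra hn; exact c2 ⟨h12, hn⟩
        have hn21 : N 2 1 ≠ 0 := by
          rcases hcol with h | h
          · exact absurd hn01 h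
          · exact h
        exact ⟨by rw [hm, zero_add]; exact h12, by rw [hn01, sub_zero]; exact hn21⟩
      · have hn21 : N 2 1 = 0 := by
          by_contra hn; exact c1 ⟨hm, hn⟩
        have hn01 : N 0 1 ≠ 0 := by
          rcases hcol with h | h
          · exact h
          · exact absurd hn21 h
        have h12 : M 1 2 = 0 := by
          by_contra hn; exact c2 ⟨hn, hn01⟩
        exact ⟨by rw [h12, add_zero]; exact hm, by rw [hn21, zero_sub]; exact neg_ne_zero.mpr hn01⟩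
    exact rt12_mem_A H h02 h20 h' hmem (by rw [e10]; exact hne.1) (by rw [e21]; exact hne.2)

end Cfsg.Agent.Helper46.Ru
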