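import Mathlib
import Cfsg.Agent.Helper46.RuE

/-!
# Regular unipotent generation of `SL₃` (helper46), part F: the overgroup lemma, conclusion
-/

set_option autoImplicit false
set_option linter.unusedSimpArgs false
set_option linter.unusedVariables false

namespace Cfsg.Agent.Helper46.Ru

open Matrix Matrix.SpecialLinearGroup
open scoped commutatorElement

variable {F : Type*} [Field F]

/-- an element of `H` mapping `e₁` to a multiple of `e₀`, when `h₀₁ ≠ 0` -/
theorem exists_col_A (H : Subgroup (SpecialLinearGroup (Fin 3) F))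
    (h10 : ∀ t : F, rt 1 0 (by decide) t ∈ H) (h20 : ∀ t : F, rt 2 0 (by decide) t ∈ H)
    (h : SpecialLinearGroup (Fin 3) F) (hh : h ∈ H)
    (hM01 : (h : Matrix (Fin 3) (Fin 3) F) 0 1 ≠ 0) :
    ∃ g ∈ H, (g : Matrix (Fin 3) (Fin 3) F) 1 1 = 0 ∧ (g : Matrix (Fin 3) (Fin 3) F) 2 1 = 0 := by
  set M : Matrix (Fin 3) (Fin 3) F := (h : Matrix (Fin 3) (Fin 3) F) with hM
  refine ⟨rt 1 0 (by decide) (-(M 1 1) / M 0 1) * (rt 2 0 (by decide) (-(M 2 1) / M 0 1) * h),
    H.mul_mem (h10 _) (H.mul_mem (h20 _) hh), ?_, ?_⟩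
  · rw [rt_mul_apply, rt_mul_apply, rt_mul_apply]
    simp
    rw [← hM]; field_simp; ring
  · rw [rt_mul_apply, rt_mul_apply]
    simp
    rw [← hM]; field_simp; ring

theorem exists_col (H : Subgroup (SpecialLinearGroup (Fin 3) F))
    (h02 : ∀ t : F, rt 0 2 (by decide) t ∈ H)
    (h10 : ∀ t : F, rt 1 0 (by decide) t ∈ H) (h20 : ∀ t : F, rt 2 0 (by decide) t ∈ H)
    (h : SpecialLinearGroup (Fin 3) F) (hh : h ∈ H)
    (hcol : (h : Matrix (Fin 3) (Fin 3) F) 0 1 ≠ 0 ∨ (h : Matrix (Fin 3) (Fin 3) F) 2 1 ≠ 0) :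
    ∃ g ∈ H, (g : Matrix (Fin 3) (Fin 3) F) 1 1 = 0 ∧ (g : Matrix (Fin 3) (Fin 3) F) 2 1 = 0 := by
  by_cases hM01 : (h : Matrix (Fin 3) (Fin 3) F) 0 1 = 0
  · have hM21 : (h : Matrix (Fin 3) (Fin 3) F) 2 1 ≠ 0 := by
      rcases hcol with h' | h'
      · exact absurd hM01 h'
      · exact h'
    refine exists_col_A H h10 h20 (rt 0 2 (by decide) 1 * h) (H.mul_mem (h02 1) hh) ?_
    rw [rt_mul_apply]; simp [hM01]; exact hM21
  · exact exists_col_A H h10 h20 h hh hM01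

/-- conjugating `X₁₀ X₁₂` by `g` with `g e₁ = a e₀` gives `X₀₁` -/
theorem rt01_mem (H : Subgroup (SpecialLinearGroup (Fin 3) F))
    (h10 : ∀ t : F, rt 1 0 (by decide) t ∈ H) (h12 : ∀ t : F, rt 1 2 (by decide) t ∈ H)
    (g : SpecialLinearGroup (Fin 3) F) (hg : g ∈ H)
    (hg11 : (g : Matrix (Fin 3) (Fin 3) F) 1 1 = 0) (hg21 : (g : Matrix (Fin 3) (Fin 3) F) 2 1 = 0) :
    ∀ τ : F, rt 0 1 (by decide) τ ∈ H := by
  intro τ
  set A : Matrix (Fin 3) (Fin 3) F := (g : Matrix (Fin 3) (Fin 3) F) with hA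
  have ha : A 0 1 ≠ 0 := by
    intro h0
    have hdet : A.det = 0 := by
      apply Matrix.det_eq_zero_of_column_eq_zero 1
      intro i; fin_cases i
      · exact h0
      · exact hg11
      · exact hg21
    rw [hA, g.2] at hdet
    exact one_ne_zero hdet
  set t : F := τ / A 0 1 with ht
  have key : g * (rt 1 0 (by decide) (t * A 1 0) * rt 1 2 (by decide) (t * A 1 2)) =
      rt 0 1 (by decide) τ * g := by
    apply Subtype.ext
    ext a b
    have hτ : τ = t * A 0 1 := by rw [ht]; field_simp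
    rw [hτ]
    simp only [← mul_assoc, mul_rt_apply, rt_mul_apply]
    fin_cases a <;> fin_cases b <;>
      simp only [Fin.zero_eta, Fin.mk_one, Fin.reduceFinMk, Fin.isValue, Fin.reduceEq, ↓reduceIte,
        add_zero, zero_mul, mul_zero, zero_add, ← hA, hg11, hg21] <;> ring
  have : rt 0 1 (by decide) τ =
      g * (rt 1 0 (by decide) (t * A 1 0) * rt 1 2 (by decide) (t * A 1 2)) * g⁻¹ := by
    rw [key]; group
  rw [this]
  exact H.mul_mem (H.mul_mem hg (H.mul_mem (h10 _) (h12 _))) (H.inv_mem hg)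

/-- **Overgroup lemma.** A subgroup of `SL₃(F)` containing the root groups `X₀₂`, `X₂₀` and an
element moving the plane `⟨e₀,e₂⟩` and the line `⟨e₁⟩` is `SL₃(F)`. -/
theorem eq_top_of_sl2_of_moving (H : Subgroup (SpecialLinearGroup (Fin 3) F))
    (h02 : ∀ t : F, rt 0 2 (by decide) t ∈ H) (h20 : ∀ t : F, rt 2 0 (by decide) t ∈ H)
    (h : SpecialLinearGroup (Fin 3) F) (hh : h ∈ H)
    (hrow : (h : Matrix (Fin 3) (Fin 3) F) 1 0 ≠ 0 ∨ (h : Matrix (Fin 3) (Fin 3) F) 1 2 ≠ 0)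
    (hcolinv : ((h⁻¹ : SpecialLinearGroup (Fin 3) F) : Matrix (Fin 3) (Fin 3) F) 0 1 ≠ 0 ∨
      ((h⁻¹ : SpecialLinearGroup (Fin 3) F) : Matrix (Fin 3) (Fin 3) F) 2 1 ≠ 0)
    (hcol : (h : Matrix (Fin 3) (Fin 3) F) 0 1 ≠ 0 ∨ (h : Matrix (Fin 3) (Fin 3) F) 2 1 ≠ 0) :
    H = ⊤ := by
  have h12 := rt12_mem H h02 h20 h hh hrow hcolinv
  have h10 : ∀ t : F, rt 1 0 (by decide) t ∈ H := by
    intro t
    have := commutator_transvection_mul (show (1 : Fin 3) ≠ 0 by decide)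
      (show (1 : Fin 3) ≠ 2 by decide) (show (2 : Fin 3) ≠ 0 by decide) t (1 : F)
    rw [mul_one] at this
    show transvection _ t ∈ H
    rw [← this]; exact comm_mem H (h12 t) (h20 1)
  obtain ⟨g, hg, hg11, hg21⟩ := exists_col H h02 h10 h20 h hh hcol
  have h01 := rt01_mem H h10 h12 g hg hg11 hg21
  have h21 : ∀ t : F, rt 2 1 (by decide) t ∈ H := by
    intro t
    have := commutator_transvection_mul (show (2 : Fin 3) ≠ 1 by decide)
      (show (2 : Fin 3) ≠ 0 by decide) (show (0 : Fin 3) ≠ 1 by decide) (1 : F) t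
    rw [one_mul] at this
    show transvection _ t ∈ H
    rw [← this]; exact comm_mem H (h20 1) (h01 t)
  rw [eq_top_iff]
  intro A _
  refine Cfsg.Agent.Helper5.transvection_induction (fun M => M ∈ H) ?_
    (fun A B hA hB => H.mul_mem hA hB) A
  intro i j hij t
  fin_cases i <;> fin_cases j <;> first | exact absurd rfl hij | skip
  · exact h01 t
  · exact h02 t
  · exact h10 t
  · exact h12 t
  · exact h20 t
  · exact h21 t

end Cfsg.Agent.Helper46.Ru
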