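import Mathlib
import Cfsg.Agent.Helper46.RuF
import Cfsg.Agent.S0801

/-!
# Regular unipotent generation of `SL₃` (helper46), part G: `SL₂` inside `SL₃`

The embedding of `SL₂(F)` on the coordinates `0, 2`, and the consequence of Dickson's generation
theorem (`S0801`): a subgroup containing `x₂₀(1)` and `x₀₂(λ)`, `λ` a field generator, contains
the root groups `X₀₂`, `X₂₀`.
-/

set_option autoImplicit false
set_option linter.unusedSimpArgs false
set_option linter.unusedVariables false

namespace Cfsg.Agent.Helper46.Ru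

open Matrix Matrix.SpecialLinearGroup

variable {F : Type*} [Field F]

/-- the block matrix of the embedding -/
def emb02M (A : Matrix (Fin 2) (Fin 2) F) : Matrix (Fin 3) (Fin 3) F :=
  !![A 0 0, 0, A 0 1; 0, 1, 0; A 1 0, 0, A 1 1]

theorem emb02M_mul (A B : Matrix (Fin 2) (Fin 2) F) : emb02M (A * B) = emb02M A * emb02M B := by
  ext a b
  fin_cases a <;> fin_cases b <;>
    simp [emb02M, Matrix.mul_apply, Fin.sum_univ_three, Fin.sum_univ_two]

theorem emb02M_det (A : Matrix (Fin 2) (Fin 2) F) : (emb02M A).det = A.det := by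
  rw [Matrix.det_fin_two, emb02M, Matrix.det_fin_three]
  simp

/-- the embedding `SL₂ → SL₃` on the coordinates `0, 2` -/
def emb02 : SpecialLinearGroup (Fin 2) F →* SpecialLinearGroup (Fin 3) F where
  toFun A := ⟨emb02M (A : Matrix (Fin 2) (Fin 2) F), by rw [emb02M_det]; exact A.2⟩
  map_one' := by
    apply Subtype.ext
    show emb02M ((1 : SpecialLinearGroup (Fin 2) F) : Matrix (Fin 2) (Fin 2) F) = 1
    ext a b
    fin_cases a <;> fin_cases b <;> simp [emb02M]
  map_mul' := by
    intro A B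
    apply Subtype.ext
    show emb02M ((A * B : SpecialLinearGroup (Fin 2) F) : Matrix (Fin 2) (Fin 2) F) =
      emb02M (A : Matrix (Fin 2) (Fin 2) F) * emb02M (B : Matrix (Fin 2) (Fin 2) F)
    rw [coe_mul, emb02M_mul]

theorem coe_emb02 (A : SpecialLinearGroup (Fin 2) F) :
    ((emb02 A : SpecialLinearGroup (Fin 3) F) : Matrix (Fin 3) (Fin 3) F) =
      emb02M (A : Matrix (Fin 2) (Fin 2) F) := rfl

theorem emb02_upper (t : F) (A : SpecialLinearGroup (Fin 2) F)
    (hA : (A : Matrix (Fin 2) (Fin 2) F) = !![1, t; 0, 1]) : emb02 A = rt 0 2 (by decide) t := by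
  apply Subtype.ext
  ext a b
  rw [rt_apply, coe_emb02, hA]
  fin_cases a <;> fin_cases b <;> simp [emb02M]

theorem emb02_lower (t : F) (A : SpecialLinearGroup (Fin 2) F)
    (hA : (A : Matrix (Fin 2) (Fin 2) F) = !![1, 0; t, 1]) : emb02 A = rt 2 0 (by decide) t := by
  apply Subtype.ext
  ext a b
  rw [rt_apply, coe_emb02, hA]
  fin_cases a <;> fin_cases b <;> simp [emb02M]

/-- Dickson: `x₂₀(1)` and `x₀₂(λ)` generate the root groups `X₀₂`, `X₂₀`. -/
theorem root_groups_of_two [Fintype F] (h2 : (2 : F) ≠ 0) (lam : F) (hlam : lam ≠ 0)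
    (hgen : Subfield.closure ({lam} : Set F) = ⊤)
    (h9 : ¬ (Fintype.card F = 9 ∧ lam ^ 2 = -1))
    (H : Subgroup (SpecialLinearGroup (Fin 3) F))
    (hl : rt 2 0 (by decide) (1 : F) ∈ H) (hu : rt 0 2 (by decide) lam ∈ H) :
    (∀ t : F, rt 0 2 (by decide) t ∈ H) ∧ (∀ t : F, rt 2 0 (by decide) t ∈ H) := by
  have hS := Cfsg.Agent.S0801.result h2 lam hlam hgen
  have htop : Subgroup.closure {g : SpecialLinearGroup (Fin 2) F |
      (g : Matrix (Fin 2) (Fin 2) F) = !![1, 0; 1, 1] ∨
      (g : Matrix (Fin 2) (Fin 2) F) = !![1, lam; 0, 1]} = ⊤ := by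
    rcases hS with h | h
    · exact h.1
    · exact absurd ⟨h.1, h.2.1⟩ h9
  have hle : (⊤ : Subgroup (SpecialLinearGroup (Fin 2) F)) ≤ H.comap emb02 := by
    rw [← htop, Subgroup.closure_le]
    intro g hg
    rcases hg with hg | hg
    · show emb02 g ∈ H
      rw [emb02_lower 1 g hg]; exact hl
    · show emb02 g ∈ H
      rw [emb02_upper lam g hg]; exact hu
  constructor
  · intro t
    have hdet : (!![1, t; 0, 1] : Matrix (Fin 2) (Fin 2) F).det = 1 := by
      simp [Matrix.det_fin_two]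
    let A : SpecialLinearGroup (Fin 2) F := ⟨!![1, t; 0, 1], hdet⟩
    have h' : emb02 A ∈ H := hle (Subgroup.mem_top A)
    rwa [emb02_upper t A rfl] at h'
  · intro t
    have hdet : (!![1, 0; t, 1] : Matrix (Fin 2) (Fin 2) F).det = 1 := by
      simp [Matrix.det_fin_two]
    let A : SpecialLinearGroup (Fin 2) F := ⟨!![1, 0; t, 1], hdet⟩
    have h' : emb02 A ∈ H := hle (Subgroup.mem_top A)
    rwa [emb02_lower t A rfl] at h'

end Cfsg.Agent.Helper46.Ru
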