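import Mathlib
import Cfsg.Agent.Helper46.RuC
import Cfsg.Agent.Helper46.RuG

/-!
# Regular unipotent generation of `SL₃` (helper46), part H: the odd-characteristic pair

For parameters `a, σ` with `σ³ a = -4 - a` the lower regular unipotent element `vOdd a` is conjugate
to the standard one `uStd`, and `t₁ = (uStd * vOdd a)²`, `t₂ = uStd t₁ uStd⁻¹` are transvections
which in a suitable basis `G` are the root elements `x₀₂(λ)`, `x₂₀(1)` with `λ = -8 (a² + 4a + 8)`.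
-/

set_option autoImplicit false
set_option linter.unusedSimpArgs false
set_option linter.unusedVariables false

namespace Cfsg.Agent.Helper46.Ru

open Matrix Matrix.SpecialLinearGroup

variable {F : Type*} [Field F]

/-- the lower regular unipotent element of the odd-characteristic pair -/
def vOdd (a : F) : SpecialLinearGroup (Fin 3) F :=
  ⟨!![1, 0, 0; a, 1, 0; a * (-4 - a), -4 - a, 1], by simp [Matrix.det_fin_three]⟩

theorem coe_vOdd (a : F) : ((vOdd a : SpecialLinearGroup (Fin 3) F) : Matrix (Fin 3) (Fin 3) F) =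
    !![1, 0, 0; a, 1, 0; a * (-4 - a), -4 - a, 1] := rfl

/-- matrix of the conjugating element -/
def gOddM (a s : F) : Matrix (Fin 3) (Fin 3) F :=
  !![0, 0, -(a * s)⁻¹; 0, -s⁻¹, s⁻¹; -(s ^ 2 * a), 0, 0]

theorem gOddM_det (a s : F) (ha : a ≠ 0) (hs : s ≠ 0) : (gOddM a s).det = 1 := by
  rw [gOddM, Matrix.det_fin_three]
  simp
  field_simp

/-- the conjugating element -/
def gOdd (a s : F) (ha : a ≠ 0) (hs : s ≠ 0) : SpecialLinearGroup (Fin 3) F :=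
  ⟨gOddM a s, gOddM_det a s ha hs⟩

theorem gOdd_conj (a s : F) (ha : a ≠ 0) (hs : s ≠ 0) (h : s ^ 3 * a = -4 - a) :
    gOdd a s ha hs * uStd F * (gOdd a s ha hs)⁻¹ = vOdd a := by
  rw [mul_inv_eq_iff_eq_mul]
  apply Subtype.ext
  rw [coe_mul, coe_mul, coe_uStd, coe_vOdd]
  show gOddM a s * _ = _ * gOddM a s
  rw [← h]
  ext i j
  fin_cases i <;> fin_cases j <;>
    simp [gOddM, Matrix.mul_apply, Fin.sum_univ_three] <;> field_simp <;> ring

/-! ### The two transvections -/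

/-- the inverse of the standard regular unipotent element -/
theorem coe_uStd_inv : (((uStd F)⁻¹ : SpecialLinearGroup (Fin 3) F) : Matrix (Fin 3) (Fin 3) F) =
    !![1, -1, 1; 0, 1, -1; 0, 0, 1] := by
  apply coe_inv_eq_of_mul_eq_one
  rw [coe_uStd]
  ext i j
  fin_cases i <;> fin_cases j <;> simp [Matrix.mul_apply, Fin.sum_univ_three]

/-- the first transvection `t₁ = (u v)²` -/
theorem coe_t1 (a : F) :
    (((uStd F * vOdd a) ^ 2 : SpecialLinearGroup (Fin 3) F) : Matrix (Fin 3) (Fin 3) F) =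
      !![1 - a, -2, 1; a ^ 2 + 2 * a, 2 * a + 5, -a - 2; -(a * (-4 - a)), -(2 * (-4 - a)), 1 + (-4 - a)]
    := by
  rw [pow_two, coe_mul, coe_mul, coe_uStd, coe_vOdd]
  ext i j
  fin_cases i <;> fin_cases j <;> simp [Matrix.mul_apply, Fin.sum_univ_three] <;> ring

/-- the change of basis (`β` stands for `a² + 4a + 8`) -/
def gBasM (a β : F) : Matrix (Fin 3) (Fin 3) F :=
  !![1, (64 * β)⁻¹ * (a - 4), 8 * (a + 1);
     -a - 2, (64 * β)⁻¹ * (2 * a - a ^ 2), 8 * (2 * a + 6);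
     -4 - a, -((64 * β)⁻¹ * a ^ 2), 8 * (a + 4)]

theorem sixtyfour_ne_zero (h2 : (2 : F) ≠ 0) : (64 : F) ≠ 0 := by
  have : (64 : F) = 2 ^ 6 := by norm_num
  rw [this]; exact pow_ne_zero _ h2

theorem gBasM_det (a β : F) (h2 : (2 : F) ≠ 0) (hβ : β = a ^ 2 + 4 * a + 8) (hb : β ≠ 0) :
    (gBasM a β).det = 1 := by
  have h64 : (64 : F) ≠ 0 := sixtyfour_ne_zero h2
  rw [gBasM, Matrix.det_fin_three]
  simp
  field_simp
  subst hβ
  ring

/-- the change of basis as an element of `SL₃` -/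
def gBas (a β : F) (h2 : (2 : F) ≠ 0) (hβ : β = a ^ 2 + 4 * a + 8) (hb : β ≠ 0) :
    SpecialLinearGroup (Fin 3) F :=
  ⟨gBasM a β, gBasM_det a β h2 hβ hb⟩

theorem t1_gBas (a β : F) (h2 : (2 : F) ≠ 0) (hβ : β = a ^ 2 + 4 * a + 8) (hb : β ≠ 0) :
    (uStd F * vOdd a) ^ 2 * gBas a β h2 hβ hb =
      gBas a β h2 hβ hb * rt 0 2 (by decide) (-8 * β) := by
  have h64 : (64 : F) ≠ 0 := sixtyfour_ne_zero h2
  apply Subtype.ext
  rw [coe_mul, coe_mul, coe_t1, coe_transvection]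
  show _ * gBasM a β = gBasM a β * _
  ext i j
  fin_cases i <;> fin_cases j <;>
    simp [gBasM, Matrix.mul_apply, Fin.sum_univ_three] <;> field_simp <;> subst hβ <;> ring

theorem t2_gBas (a β : F) (h2 : (2 : F) ≠ 0) (hβ : β = a ^ 2 + 4 * a + 8) (hb : β ≠ 0) :
    uStd F * (uStd F * vOdd a) ^ 2 * (uStd F)⁻¹ * gBas a β h2 hβ hb =
      gBas a β h2 hβ hb * rt 2 0 (by decide) 1 := by
  have h64 : (64 : F) ≠ 0 := sixtyfour_ne_zero h2
  apply Subtype.ext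
  rw [coe_mul, coe_mul, coe_mul, coe_mul, coe_t1, coe_transvection, coe_uStd, coe_uStd_inv]
  show _ * gBasM a β = gBasM a β * _
  ext i j
  fin_cases i <;> fin_cases j <;>
    simp [gBasM, Matrix.mul_apply, Fin.sum_univ_three] <;> field_simp <;> subst hβ <;> ring

/-! ### The moving element -/

/-- the matrix of `G⁻¹ u G` -/
def hMovM (a β : F) : Matrix (Fin 3) (Fin 3) F :=
  !![0, 0, β;
     0, 8 / β, 64 * (-4 - a) ^ 3;
     -(1 / 8), -(a ^ 3 / (512 * β ^ 2)), (3 * a ^ 2 + 12 * a + 16) / β]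

/-- the matrix of `G⁻¹ u⁻¹ G` -/
def nMovM (a β : F) : Matrix (Fin 3) (Fin 3) F :=
  !![-((a ^ 4 + 8 * a ^ 3 + 8 * a ^ 2 - 32 * a - 128) / (8 * β)), -(a ^ 3 / (512 * β)), -8;
     -(8 * (-4 - a) ^ 3), β / 8, 0;
     1 / β, 0, 0]

theorem eight_ne_zero (h2 : (2 : F) ≠ 0) : (8 : F) ≠ 0 := by
  have : (8 : F) = 2 ^ 3 := by norm_num
  rw [this]; exact pow_ne_zero _ h2

theorem fivetwelve_ne_zero (h2 : (2 : F) ≠ 0) : (512 : F) ≠ 0 := by
  have : (512 : F) = 2 ^ 9 := by norm_num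
  rw [this]; exact pow_ne_zero _ h2

theorem gBasM_hMovM (a β : F) (h2 : (2 : F) ≠ 0) (hβ : β = a ^ 2 + 4 * a + 8) (hb : β ≠ 0) :
    gBasM a β * hMovM a β = !![1, 1, 0; 0, 1, 1; 0, 0, 1] * gBasM a β := by
  have h64 : (64 : F) ≠ 0 := sixtyfour_ne_zero h2
  have h8 : (8 : F) ≠ 0 := eight_ne_zero h2
  have h512 : (512 : F) ≠ 0 := fivetwelve_ne_zero h2
  ext i j
  fin_cases i <;> fin_cases j <;>
    simp [gBasM, hMovM, Matrix.mul_apply, Fin.sum_univ_three] <;> field_simp <;> subst hβ <;> ring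

theorem gBasM_nMovM (a β : F) (h2 : (2 : F) ≠ 0) (hβ : β = a ^ 2 + 4 * a + 8) (hb : β ≠ 0) :
    gBasM a β * nMovM a β = !![1, -1, 1; 0, 1, -1; 0, 0, 1] * gBasM a β := by
  have h64 : (64 : F) ≠ 0 := sixtyfour_ne_zero h2
  have h8 : (8 : F) ≠ 0 := eight_ne_zero h2
  have h512 : (512 : F) ≠ 0 := fivetwelve_ne_zero h2
  ext i j
  fin_cases i <;> fin_cases j <;>
    simp [gBasM, nMovM, Matrix.mul_apply, Fin.sum_univ_three] <;> field_simp <;> subst hβ <;> ring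

theorem coe_hMov (a β : F) (h2 : (2 : F) ≠ 0) (hβ : β = a ^ 2 + 4 * a + 8) (hb : β ≠ 0) :
    (((gBas a β h2 hβ hb)⁻¹ * uStd F * gBas a β h2 hβ hb : SpecialLinearGroup (Fin 3) F) :
      Matrix (Fin 3) (Fin 3) F) = hMovM a β := by
  have hG : ((gBas a β h2 hβ hb : SpecialLinearGroup (Fin 3) F) : Matrix (Fin 3) (Fin 3) F) =
    gBasM a β := rfl
  rw [coe_mul, coe_mul, coe_uStd, Matrix.mul_assoc, hG, ← gBasM_hMovM a β h2 hβ hb, ← hG,
    ← Matrix.mul_assoc, coe_inv_mul_coe, Matrix.one_mul]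

theorem coe_hMov_inv (a β : F) (h2 : (2 : F) ≠ 0) (hβ : β = a ^ 2 + 4 * a + 8) (hb : β ≠ 0) :
    ((((gBas a β h2 hβ hb)⁻¹ * uStd F * gBas a β h2 hβ hb)⁻¹ : SpecialLinearGroup (Fin 3) F) :
      Matrix (Fin 3) (Fin 3) F) = nMovM a β := by
  have hG : ((gBas a β h2 hβ hb : SpecialLinearGroup (Fin 3) F) : Matrix (Fin 3) (Fin 3) F) =
    gBasM a β := rfl
  have e : ((gBas a β h2 hβ hb)⁻¹ * uStd F * gBas a β h2 hβ hb)⁻¹ =
      (gBas a β h2 hβ hb)⁻¹ * (uStd F)⁻¹ * gBas a β h2 hβ hb := by group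
  rw [e, coe_mul, coe_mul, coe_uStd_inv, Matrix.mul_assoc, hG, ← gBasM_nMovM a β h2 hβ hb, ← hG,
    ← Matrix.mul_assoc, coe_inv_mul_coe, Matrix.one_mul]

end Cfsg.Agent.Helper46.Ru
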