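import Mathlib
import Cfsg.Agent.Helper46.DkTwoGenA

/-!
# Regular unipotent generation of `SL₃` (helper46), part I: the parameters

Existence, in every finite field of odd characteristic, of `a, σ` with `σ³ a = -4 - a` such that
`λ = -8 (a² + 4a + 8)` generates the field (and is not the exceptional value when `q = 9`).
-/

set_option autoImplicit false
set_option linter.unusedSimpArgs false
set_option linter.unusedVariables false

namespace Cfsg.Agent.Helper46.Ru

open Cfsg.Agent.Helper46.Dk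

variable {F : Type*} [Field F]

/-- a criterion for an element to generate a finite field -/
theorem closure_eq_top_of_frob [Fintype F] (p : ℕ) [Fact p.Prime] [CharP F p] (n : ℕ)
    (hn : Fintype.card F = p ^ n) (lam : F)
    (h : ∀ m, 1 ≤ m → m < n → lam ^ (p ^ m) ≠ lam) :
    Subfield.closure ({lam} : Set F) = ⊤ := by
  classical
  by_contra hne
  obtain ⟨x, hx⟩ : ∃ x, x ∉ Subfield.closure ({lam} : Set F) := by
    by_contra hall
    simp only [not_exists, not_not] at hall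
    exact hne (eq_top_iff.mpr fun x _ => hall x)
  have : Fintype (Subfield.closure ({lam} : Set F)) := Fintype.ofFinite _
  obtain ⟨m, -, hm⟩ := FiniteField.card (Subfield.closure ({lam} : Set F)) p
  have hlt : Fintype.card (Subfield.closure ({lam} : Set F)) < Fintype.card F :=
    Fintype.card_lt_of_injective_of_notMem (Subtype.val) Subtype.val_injective (b := x)
      (by simpa using hx)
  rw [hm, hn] at hlt
  have hmn : (m : ℕ) < n := (Nat.pow_lt_pow_iff_right (Fact.out : p.Prime).one_lt).mp hlt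
  have hl : lam ∈ Subfield.closure ({lam} : Set F) := Subfield.subset_closure rfl
  have key := FiniteField.pow_card (⟨lam, hl⟩ : Subfield.closure ({lam} : Set F))
  rw [hm] at key
  exact h m m.pos hmn (congrArg Subtype.val key)

theorem lam_add_ne_zero (r lam : F) (hr : r ≠ 0) (h2 : (2 : F) ≠ 0)
    (hlam : lam * (1 + r) ^ 2 = -64 * (1 + r ^ 2)) : lam + 64 ≠ 0 := by
  intro h
  have h3 : (lam + 64) * (1 + r) ^ 2 = 128 * r := by linear_combination hlam
  rw [h, zero_mul] at h3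
  have h128 : (128 : F) ≠ 0 := by
    have : (128 : F) = 2 ^ 7 := by norm_num
    rw [this]; exact pow_ne_zero _ h2
  exact mul_ne_zero h128 hr h3.symm

theorem theta_mem (K : Subfield F) (r lam : F) (hr : r ≠ 0) (h2 : (2 : F) ≠ 0)
    (hlam : lam * (1 + r) ^ 2 = -64 * (1 + r ^ 2)) (hK : lam ∈ K) : r + r⁻¹ ∈ K := by
  have hne := lam_add_ne_zero r lam hr h2 hlam
  have e : r + r⁻¹ = -2 * lam / (lam + 64) := by
    field_simp
    linear_combination hlam
  rw [e]
  exact K.div_mem (K.mul_mem (K.neg_mem (ofNat_mem K 2)) hK) (K.add_mem hK (ofNat_mem K 64))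

theorem pow_eq_or_of_theta (p : ℕ) [Fact p.Prime] [CharP F p] (m : ℕ) (r : F) (hr : r ≠ 0)
    (h : (r + r⁻¹) ^ (p ^ m) = r + r⁻¹) : r ^ (p ^ m) = r ∨ r ^ (p ^ m) * r = 1 := by
  rw [add_pow_char_pow, inv_pow] at h
  have hX : r ^ (p ^ m) ≠ 0 := pow_ne_zero _ hr
  have key : (r ^ (p ^ m) - r) * (r ^ (p ^ m) * r - 1) = 0 := by
    field_simp at h
    linear_combination h
  rcases mul_eq_zero.mp key with h' | h'
  · left; exact sub_eq_zero.mp h'
  · right; exact sub_eq_zero.mp h'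

theorem dvd_of_gen_pow (g : Fˣ) (N : ℕ) (hg : orderOf g = N) (j : ℕ) (h : (g : F) ^ j = 1) :
    N ∣ j := by
  rw [← hg]
  apply orderOf_dvd_of_pow_eq_one
  apply Units.ext
  rw [Units.val_pow_eq_pow_val, Units.val_one, h]

theorem nat_case_one (p n m : ℕ) (hp : 3 ≤ p) (hm1 : 1 ≤ m) (hmn : m < n) :
    ¬ (p ^ n - 1 ∣ 3 * (p ^ m - 1)) := by
  intro hd
  have hk : 3 ≤ p ^ m := by
    calc 3 ≤ p ^ 1 := by simpa using hp
      _ ≤ p ^ m := Nat.pow_le_pow_right (by omega) hm1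
  have hq : 3 * p ^ m ≤ p ^ n := by
    calc 3 * p ^ m ≤ p * p ^ m := Nat.mul_le_mul_right _ hp
      _ = p ^ (m + 1) := by ring
      _ ≤ p ^ n := Nat.pow_le_pow_right (by omega) (by omega)
  have := Nat.le_of_dvd (by omega) hd
  omega

theorem nat_case_two (p n m : ℕ) (hp : p.Prime) (hp2 : p ≠ 2) (hm1 : 1 ≤ m) (hmn : m < n) :
    ¬ (p ^ n - 1 ∣ 3 * (p ^ m + 1)) := by
  intro hd
  have hp3 : 3 ≤ p := by
    have := hp.two_le
    omega
  have hk : 3 ≤ p ^ m := by
    calc 3 ≤ p ^ 1 := by simpa using hp3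
      _ ≤ p ^ m := Nat.pow_le_pow_right (by omega) hm1
  have hq : 3 * p ^ m ≤ p ^ n := by
    calc 3 * p ^ m ≤ p * p ^ m := Nat.mul_le_mul_right _ hp3
      _ = p ^ (m + 1) := by ring
      _ ≤ p ^ n := Nat.pow_le_pow_right (by omega) (by omega)
  obtain ⟨c, hc⟩ := hd
  have hc0 : c ≠ 0 := by
    rintro rfl
    omega
  have hc1 : c = 1 := by
    by_contra hne
    have hc2 : 2 ≤ c := by omega
    have : (p ^ n - 1) * 2 ≤ (p ^ n - 1) * c := Nat.mul_le_mul_left _ hc2
    omega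
  subst hc1
  have hpn : p ∣ p ^ n := dvd_pow_self p (by omega)
  have hpm : p ∣ p ^ m := dvd_pow_self p (by omega)
  have e : p ^ n = 3 * p ^ m + 4 := by omega
  rw [e] at hpn
  have h4 : p ∣ 4 := (Nat.dvd_add_right (dvd_mul_of_dvd_right hpm 3)).mp hpn
  have hle := Nat.le_of_dvd (by norm_num) h4
  have hp3' : p = 3 ∨ p = 4 := by omega
  rcases hp3' with rfl | rfl
  · omega
  · norm_num at hp

theorem two_ne_zero_of_char (p : ℕ) [Fact p.Prime] [CharP F p] (hp : p ≠ 2) : (2 : F) ≠ 0 := by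
  intro h
  have h' : ((2 : ℕ) : F) = 0 := by exact_mod_cast h
  rw [CharP.cast_eq_zero_iff F p] at h'
  exact hp ((Nat.prime_dvd_prime_iff_eq Fact.out Nat.prime_two).mp h')

/-- the parameters when the field is not a prime field -/
theorem exists_params_of_not_prime [Fintype F] (p : ℕ) [Fact p.Prime] [CharP F p] (hp : p ≠ 2)
    (n : ℕ) (hn : Fintype.card F = p ^ n) (hn2 : 2 ≤ n) :
    ∃ a s : F, a ≠ 0 ∧ s ≠ 0 ∧ -4 - a ≠ 0 ∧ s ^ 3 * a = -4 - a ∧ a ^ 2 + 4 * a + 8 ≠ 0 ∧
      Subfield.closure ({-8 * (a ^ 2 + 4 * a + 8)} : Set F) = ⊤ ∧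
      ¬ (Fintype.card F = 9 ∧ (-8 * (a ^ 2 + 4 * a + 8)) ^ 2 = -1) := by
  classical
  have hpp : p.Prime := Fact.out
  have hp3 : 3 ≤ p := by
    have := hpp.two_le
    omega
  have h2 : (2 : F) ≠ 0 := two_ne_zero_of_char p hp
  have h4 : (4 : F) ≠ 0 := by
    have : (4 : F) = 2 ^ 2 := by norm_num
    rw [this]; exact pow_ne_zero _ h2
  have h8 : (8 : F) ≠ 0 := by
    have : (8 : F) = 2 ^ 3 := by norm_num
    rw [this]; exact pow_ne_zero _ h2
  have hq9 : 9 ≤ p ^ n := by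
    calc 9 = 3 ^ 2 := by norm_num
      _ ≤ p ^ 2 := Nat.pow_le_pow_left hp3 2
      _ ≤ p ^ n := Nat.pow_le_pow_right (by omega) hn2
  obtain ⟨g, hg⟩ := IsCyclic.exists_ofOrder_eq_natCard (α := Fˣ)
  rw [Nat.card_eq_fintype_card, Fintype.card_units, hn] at hg
  have hg0 : (g : F) ≠ 0 := g.ne_zero
  obtain ⟨r, hr_def⟩ : ∃ r : F, r = (g : F) ^ 3 := ⟨_, rfl⟩
  have hr : r ≠ 0 := by rw [hr_def]; exact pow_ne_zero _ hg0
  have hdvd : ∀ j, (g : F) ^ j = 1 → p ^ n - 1 ∣ j := fun j hj => dvd_of_gen_pow g _ hg j hj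
  have h1r : 1 + r ≠ 0 := by
    intro h
    have hr1 : r = -1 := by linear_combination h
    have h6 : (g : F) ^ 6 = 1 := by
      have : (g : F) ^ 6 = r ^ 2 := by rw [hr_def]; ring
      rw [this, hr1]; ring
    have := Nat.le_of_dvd (by norm_num) (hdvd 6 h6)
    omega
  have hr2 : 1 + r ^ 2 ≠ 0 := by
    intro h
    have hr1 : r ^ 2 = -1 := by linear_combination h
    have h12 : (g : F) ^ 12 = 1 := by
      have : (g : F) ^ 12 = (r ^ 2) ^ 2 := by rw [hr_def]; ring
      rw [this, hr1]; ring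
    have hd := hdvd 12 h12
    have hle := Nat.le_of_dvd (by norm_num) hd
    have h12' : p ^ n - 1 = 12 := by
      have h8' : 8 ≤ p ^ n - 1 := by omega
      generalize p ^ n - 1 = d at *
      interval_cases d <;> omega
    have h13 : p ^ n = 13 := by omega
    have := (Nat.Prime.pow_eq_iff (by norm_num : Nat.Prime 13)).mp h13
    omega
  obtain ⟨a, ha_def⟩ : ∃ a : F, a = -4 / (1 + r) := ⟨_, rfl⟩
  have ha : a ≠ 0 := by rw [ha_def]; exact div_ne_zero (neg_ne_zero.mpr h4) h1r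
  have hab : -4 - a = r * a := by rw [ha_def]; field_simp; ring
  have hb : a ^ 2 + 4 * a + 8 = 8 * (1 + r ^ 2) / (1 + r) ^ 2 := by
    rw [ha_def]; field_simp; ring
  obtain ⟨lam, hlam_def⟩ : ∃ lam : F, lam = -8 * (a ^ 2 + 4 * a + 8) := ⟨_, rfl⟩
  have hlam : lam * (1 + r) ^ 2 = -64 * (1 + r ^ 2) := by
    rw [hlam_def, hb]; field_simp; ring
  refine ⟨a, (g : F), ha, hg0, ?_, ?_, ?_, ?_, ?_⟩
  · rw [hab]; exact mul_ne_zero hr ha
  · rw [hab, hr_def]
  · rw [hb]; exact div_ne_zero (mul_ne_zero h8 hr2) (pow_ne_zero _ h1r)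
  · rw [← hlam_def]
    apply closure_eq_top_of_frob p n hn
    intro m hm1 hmn hfix
    have hmem : lam ∈ frobFixed (F := F) p hp m := (mem_frobFixed p hp m lam).mpr hfix
    have hth := theta_mem (frobFixed (F := F) p hp m) r lam hr h2 hlam hmem
    rw [mem_frobFixed] at hth
    rcases pow_eq_or_of_theta p m r hr hth with h | h
    · apply nat_case_one p n m hp3 hm1 hmn
      apply hdvd
      have hk : 1 ≤ p ^ m := Nat.one_le_pow _ _ hpp.pos
      have e : (g : F) ^ (3 * (p ^ m - 1)) * r = 1 * r := by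
        rw [one_mul]
        calc (g : F) ^ (3 * (p ^ m - 1)) * r = r ^ (p ^ m - 1 + 1) := by rw [hr_def]; ring
          _ = r ^ (p ^ m) := by rw [Nat.sub_add_cancel hk]
          _ = r := h
      exact mul_right_cancel₀ hr e
    · apply nat_case_two p n m hpp hp hm1 hmn
      apply hdvd
      calc (g : F) ^ (3 * (p ^ m + 1)) = r ^ (p ^ m) * r := by rw [hr_def]; ring
        _ = 1 := h
  · rw [← hlam_def]
    rintro ⟨h9, hsq⟩
    rw [hn] at h9
    have hp9 : p ∣ 3 ^ 2 := by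
      have : p ∣ p ^ n := dvd_pow_self p (by omega)
      rw [h9] at this
      exact this
    have hp3' : p = 3 :=
      (Nat.prime_dvd_prime_iff_eq hpp Nat.prime_three).mp (hpp.dvd_of_dvd_pow hp9)
    have h3 : (3 : F) = 0 := by
      have := CharP.cast_eq_zero F p
      rw [hp3'] at this
      exact_mod_cast this
    rw [h9] at hg
    have hg8 : (g : F) ^ 8 = 1 := by
      have := pow_orderOf_eq_one g
      rw [hg] at this
      have := congrArg Units.val this
      simpa using this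
    have hr8 : (r ^ 4 - 1) * (r ^ 4 + 1) = 0 := by
      have : (r ^ 4 - 1) * (r ^ 4 + 1) = ((g : F) ^ 8) ^ 3 - 1 := by rw [hr_def]; ring
      rw [this, hg8]; ring
    have hr4 : r ^ 4 = -1 := by
      rcases mul_eq_zero.mp hr8 with h | h
      · exfalso
        have h12 : (g : F) ^ 12 = 1 := by
          have : (g : F) ^ 12 = r ^ 4 := by rw [hr_def]; ring
          rw [this]; linear_combination h
        have := hdvd 12 h12
        rw [h9] at this
        omega
      · linear_combination h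
    have key : r * (1 + r) ^ 2 = 0 := by
      linear_combination (1 + r) ^ 4 * hsq - (lam * (1 + r) ^ 2 - 64 * (1 + r ^ 2)) * hlam
        - 2 * hr4 - (1365 * (1 + r ^ 2) ^ 2 + (r + 2 * r ^ 2 + r ^ 3)) * h3
    rcases mul_eq_zero.mp key with h | h
    · exact hr h
    · exact h1r (pow_eq_zero_iff (by norm_num) |>.mp h)

/-- the parameters for a prime field -/
theorem exists_params_of_prime [Fintype F] (p : ℕ) [Fact p.Prime] [CharP F p] (hp : p ≠ 2)
    (hn : Fintype.card F = p) :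
    ∃ a s : F, a ≠ 0 ∧ s ≠ 0 ∧ -4 - a ≠ 0 ∧ s ^ 3 * a = -4 - a ∧ a ^ 2 + 4 * a + 8 ≠ 0 ∧
      Subfield.closure ({-8 * (a ^ 2 + 4 * a + 8)} : Set F) = ⊤ ∧
      ¬ (Fintype.card F = 9 ∧ (-8 * (a ^ 2 + 4 * a + 8)) ^ 2 = -1) := by
  have hpp : p.Prime := Fact.out
  have h2 : (2 : F) ≠ 0 := two_ne_zero_of_char p hp
  have h4 : (4 : F) ≠ 0 := by
    have : (4 : F) = 2 ^ 2 := by norm_num
    rw [this]; exact pow_ne_zero _ h2
  refine ⟨-2, 1, neg_ne_zero.mpr h2, one_ne_zero, ?_, by ring, ?_, ?_, ?_⟩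
  · have : (-4 - -2 : F) = -2 := by ring
    rw [this]; exact neg_ne_zero.mpr h2
  · have : ((-2) ^ 2 + 4 * (-2) + 8 : F) = 4 := by ring
    rw [this]; exact h4
  · apply closure_eq_top_of_frob p 1 (by rw [hn, pow_one])
    intro m hm1 hm2
    omega
  · rintro ⟨h9, -⟩
    rw [hn] at h9
    rw [h9] at hpp
    norm_num at hpp

/-- the parameters, in every finite field of odd characteristic -/
theorem exists_params [Fintype F] (p : ℕ) [Fact p.Prime] [CharP F p] (hp : p ≠ 2) :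
    ∃ a s : F, a ≠ 0 ∧ s ≠ 0 ∧ -4 - a ≠ 0 ∧ s ^ 3 * a = -4 - a ∧ a ^ 2 + 4 * a + 8 ≠ 0 ∧
      Subfield.closure ({-8 * (a ^ 2 + 4 * a + 8)} : Set F) = ⊤ ∧
      ¬ (Fintype.card F = 9 ∧ (-8 * (a ^ 2 + 4 * a + 8)) ^ 2 = -1) := by
  obtain ⟨n, -, hn⟩ := FiniteField.card F p
  by_cases h1 : (n : ℕ) = 1
  · exact exists_params_of_prime p hp (by rw [hn, h1, pow_one])
  · exact exists_params_of_not_prime p hp n hn (by have := n.pos; omega)

end Cfsg.Agent.Helper46.Ru
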