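import Mathlib
import Cfsg.Agent.Helper46.RuH

/-!
# Regular unipotent generation of `SL₃` (helper46), part J: the odd case from the parameters
-/

set_option autoImplicit false
set_option linter.unusedSimpArgs false
set_option linter.unusedVariables false

namespace Cfsg.Agent.Helper46.Ru

open Matrix Matrix.SpecialLinearGroup

variable {F : Type*} [Field F]

/-- generation of `SL₃(F)` by `uStd` and `vOdd a` for good parameters -/
theorem closure_uStd_vOdd [Fintype F] (h2 : (2 : F) ≠ 0) (a β : F) (ha : a ≠ 0)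
    (hb' : -4 - a ≠ 0) (hβ : β = a ^ 2 + 4 * a + 8) (hb : β ≠ 0)
    (hgen : Subfield.closure ({-8 * β} : Set F) = ⊤)
    (h9 : ¬ (Fintype.card F = 9 ∧ (-8 * β) ^ 2 = -1)) :
    Subgroup.closure ({uStd F, vOdd a} : Set (SpecialLinearGroup (Fin 3) F)) = ⊤ := by
  have h8 : (8 : F) ≠ 0 := eight_ne_zero h2
  have h64 : (64 : F) ≠ 0 := sixtyfour_ne_zero h2
  have h512 : (512 : F) ≠ 0 := fivetwelve_ne_zero h2
  set H := Subgroup.closure ({uStd F, vOdd a} : Set (SpecialLinearGroup (Fin 3) F)) with hH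
  have hu : uStd F ∈ H := Subgroup.subset_closure (Set.mem_insert _ _)
  have hv : vOdd a ∈ H := Subgroup.subset_closure (Set.mem_insert_of_mem _ (Set.mem_singleton _))
  have ht1 : (uStd F * vOdd a) ^ 2 ∈ H := H.pow_mem (H.mul_mem hu hv) 2
  have ht2 : uStd F * (uStd F * vOdd a) ^ 2 * (uStd F)⁻¹ ∈ H :=
    H.mul_mem (H.mul_mem hu ht1) (H.inv_mem hu)
  set G := gBas a β h2 hβ hb with hG
  let H' : Subgroup (SpecialLinearGroup (Fin 3) F) := H.comap (MulAut.conj G).toMonoidHom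
  have hmem : ∀ x, x ∈ H' ↔ G * x * G⁻¹ ∈ H := fun x => Iff.rfl
  have h1 : rt 0 2 (by decide) (-8 * β) ∈ H' := by
    rw [hmem, ← t1_gBas a β h2 hβ hb, mul_inv_cancel_right]
    exact ht1
  have h2' : rt 2 0 (by decide) (1 : F) ∈ H' := by
    rw [hmem, ← t2_gBas a β h2 hβ hb, mul_inv_cancel_right]
    exact ht2
  have hlam : -8 * β ≠ 0 := mul_ne_zero (neg_ne_zero.mpr h8) hb
  obtain ⟨h02, h20⟩ := root_groups_of_two h2 (-8 * β) hlam hgen h9 H' h2' h1
  have hh : G⁻¹ * uStd F * G ∈ H' := by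
    rw [hmem]
    have : G * (G⁻¹ * uStd F * G) * G⁻¹ = uStd F := by group
    rw [this]; exact hu
  have htop : H' = ⊤ := by
    refine eq_top_of_sl2_of_moving H' h02 h20 _ hh (Or.inr ?_) (Or.inl ?_) (Or.inr ?_)
    · rw [coe_hMov]
      simp [hMovM]
      exact ⟨h64, hb'⟩
    · rw [coe_hMov_inv]
      simp [nMovM]
      exact ⟨ha, h512, hb⟩
    · rw [coe_hMov]
      simp [hMovM]
      exact ⟨ha, h512, hb⟩
  rw [eq_top_iff]
  intro x _
  have hx : G⁻¹ * x * G ∈ H' := by rw [htop]; trivial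
  rw [hmem] at hx
  have e : G * (G⁻¹ * x * G) * G⁻¹ = x := by group
  rwa [e] at hx

/-- the statement for good parameters -/
theorem odd_case_of_params [Fintype F] (h2 : (2 : F) ≠ 0) (a s : F) (ha : a ≠ 0) (hs : s ≠ 0)
    (hb' : -4 - a ≠ 0) (hsa : s ^ 3 * a = -4 - a) (hb : a ^ 2 + 4 * a + 8 ≠ 0)
    (hgen : Subfield.closure ({-8 * (a ^ 2 + 4 * a + 8)} : Set F) = ⊤)
    (h9 : ¬ (Fintype.card F = 9 ∧ (-8 * (a ^ 2 + 4 * a + 8)) ^ 2 = -1)) :
    ∃ u g : SpecialLinearGroup (Fin 3) F,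
      IsNilpotent ((u : Matrix (Fin 3) (Fin 3) F) - 1) ∧
      ((u : Matrix (Fin 3) (Fin 3) F) - 1) ^ (3 - 1) ≠ 0 ∧
      Subgroup.closure ({u, g * u * g⁻¹} : Set (SpecialLinearGroup (Fin 3) F)) = ⊤ := by
  refine ⟨uStd F, gOdd a s ha hs, uStd_nilpotent, uStd_sq_ne_zero, ?_⟩
  rw [gOdd_conj a s ha hs hsa]
  exact closure_uStd_vOdd h2 a _ ha hb' rfl hb hgen h9

end Cfsg.Agent.Helper46.Ru
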