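import Mathlib

/-!
# SC3R (L27V) for helper2 (S3331, block R)

In `PSL(2, ZMod 7)` the image of `h = !![2,0;1,4]` has order 3 and normalizes the four-group
`{1, ā, b̄, āb̄}`, where `a = !![0,1;6,0]`, `b = !![2,3;3,5]`
(`a² = b² = -1`, `ba = -ab`, `h a h⁻¹ = -b`, `h b h⁻¹ = ab`).
-/

set_option autoImplicit false

namespace Cfsg.Agent.Helper46.SC3R

open Matrix

def L27V_a : Matrix.SpecialLinearGroup (Fin 2) (ZMod 7) := ⟨!![0, 1; 6, 0], by decide⟩
def L27V_b : Matrix.SpecialLinearGroup (Fin 2) (ZMod 7) := ⟨!![2, 3; 3, 5], by decide⟩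
def L27V_h : Matrix.SpecialLinearGroup (Fin 2) (ZMod 7) := ⟨!![2, 0; 1, 4], by decide⟩
/-- `-1`. -/
def L27V_c : Matrix.SpecialLinearGroup (Fin 2) (ZMod 7) := ⟨!![6, 0; 0, 6], by decide⟩
/-- test matrix. -/
def L27V_e : Matrix.SpecialLinearGroup (Fin 2) (ZMod 7) := ⟨!![1, 1; 0, 1], by decide⟩

theorem L27V_c_mem :
    L27V_c ∈ Subgroup.center (Matrix.SpecialLinearGroup (Fin 2) (ZMod 7)) := by
  rw [Matrix.SpecialLinearGroup.mem_center_iff]
  refine ⟨6, by decide, ?_⟩
  decide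

theorem L27V_aa : L27V_a * L27V_a = L27V_c := by decide
theorem L27V_bb : L27V_b * L27V_b = L27V_c := by decide
theorem L27V_ba : L27V_b * L27V_a = L27V_c * (L27V_a * L27V_b) := by decide
theorem L27V_ha : L27V_h * L27V_a = L27V_c * (L27V_b * L27V_h) := by decide
theorem L27V_hb : L27V_h * L27V_b = L27V_a * L27V_b * L27V_h := by decide
theorem L27V_h_pow : L27V_h ^ 3 = 1 := by decide
theorem L27V_h_nc : L27V_e * L27V_h ≠ L27V_h * L27V_e := by decide
theorem L27V_a_nc : L27V_e * L27V_a ≠ L27V_a * L27V_e := by decide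
theorem L27V_b_nc : L27V_e * L27V_b ≠ L27V_b * L27V_e := by decide
theorem L27V_ab_nc : L27V_e * (L27V_a⁻¹ * L27V_b) ≠ (L27V_a⁻¹ * L27V_b) * L27V_e := by decide

/-- The projection `SL₂(𝔽₇) → PSL₂(𝔽₇)`. -/
abbrev L27V_pi : Matrix.SpecialLinearGroup (Fin 2) (ZMod 7) →*
    Matrix.ProjectiveSpecialLinearGroup (Fin 2) (ZMod 7) :=
  QuotientGroup.mk' (Subgroup.center (Matrix.SpecialLinearGroup (Fin 2) (ZMod 7)))

theorem L27V_pi_c : L27V_pi L27V_c = 1 :=
  (QuotientGroup.eq_one_iff _).mpr L27V_c_mem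

theorem L27V_pi_ne_one {g : Matrix.SpecialLinearGroup (Fin 2) (ZMod 7)}
    (hg : L27V_e * g ≠ g * L27V_e) : L27V_pi g ≠ 1 := fun h1 =>
  hg (Subgroup.mem_center_iff.mp ((QuotientGroup.eq_one_iff _).mp h1) L27V_e)

theorem L27V_AA : L27V_pi L27V_a * L27V_pi L27V_a = 1 := by
  rw [← map_mul, L27V_aa, L27V_pi_c]

theorem L27V_BB : L27V_pi L27V_b * L27V_pi L27V_b = 1 := by
  rw [← map_mul, L27V_bb, L27V_pi_c]

theorem L27V_BA : L27V_pi L27V_b * L27V_pi L27V_a = L27V_pi L27V_a * L27V_pi L27V_b := by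
  rw [← map_mul, L27V_ba, map_mul, L27V_pi_c, one_mul, map_mul]

theorem L27V_HA : L27V_pi L27V_h * L27V_pi L27V_a = L27V_pi L27V_b * L27V_pi L27V_h := by
  rw [← map_mul, L27V_ha, map_mul, L27V_pi_c, one_mul, map_mul]

theorem L27V_HB : L27V_pi L27V_h * L27V_pi L27V_b =
    L27V_pi L27V_a * L27V_pi L27V_b * L27V_pi L27V_h := by
  rw [← map_mul, L27V_hb, map_mul, map_mul]

theorem L27V_A_ne : L27V_pi L27V_a ≠ 1 := L27V_pi_ne_one L27V_a_nc
theorem L27V_B_ne : L27V_pi L27V_b ≠ 1 := L27V_pi_ne_one L27V_b_nc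

theorem L27V_AB_ne : L27V_pi L27V_a ≠ L27V_pi L27V_b := by
  intro h
  have h1 : L27V_pi (L27V_a⁻¹ * L27V_b) = 1 := by
    rw [map_mul, map_inv, h, inv_mul_cancel]
  exact L27V_pi_ne_one L27V_ab_nc h1

/-- The four-group `{1, ā, b̄, āb̄}`. -/
def L27V_V : Subgroup (Matrix.ProjectiveSpecialLinearGroup (Fin 2) (ZMod 7)) where
  carrier := {1, L27V_pi L27V_a, L27V_pi L27V_b, L27V_pi L27V_a * L27V_pi L27V_b}
  one_mem' := Or.inl rfl
  mul_mem' := by
    have hAA := L27V_AA
    have hBB := L27V_BB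
    have hBA := L27V_BA
    generalize L27V_pi L27V_a = A at *
    generalize L27V_pi L27V_b = B at *
    have e1 : A * (A * B) = B := by rw [← mul_assoc, hAA, one_mul]
    have e2 : B * (A * B) = A := by rw [← mul_assoc, hBA, mul_assoc, hBB, mul_one]
    have e3 : A * B * A = B := by rw [mul_assoc, hBA, e1]
    have e4 : A * B * B = A := by rw [mul_assoc, hBB, mul_one]
    have e5 : A * B * (A * B) = 1 := by rw [← mul_assoc, e3, hBB]
    rintro x y (rfl | rfl | rfl | rfl) (rfl | rfl | rfl | rfl) <;>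
      simp only [Set.mem_insert_iff, Set.mem_singleton_iff, one_mul, mul_one, hAA, hBB, hBA, e1,
        e2, e3, e4, e5, true_or, or_true]
  inv_mem' := by
    have hAA := L27V_AA
    have hBB := L27V_BB
    have hBA := L27V_BA
    generalize L27V_pi L27V_a = A at *
    generalize L27V_pi L27V_b = B at *
    have i1 : A⁻¹ = A := inv_eq_of_mul_eq_one_right hAA
    have i2 : B⁻¹ = B := inv_eq_of_mul_eq_one_right hBB
    have i3 : (A * B)⁻¹ = A * B := by rw [_root_.mul_inv_rev, i1, i2, hBA]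
    rintro x (rfl | rfl | rfl | rfl) <;>
      simp only [Set.mem_insert_iff, Set.mem_singleton_iff, inv_one, i1, i2, i3, true_or, or_true]

theorem L27V_card : Nat.card L27V_V = 4 := by
  have hA := L27V_A_ne
  have hB := L27V_B_ne
  have hAB := L27V_AB_ne
  have hAA := L27V_AA
  have hcar : (L27V_V : Set (Matrix.ProjectiveSpecialLinearGroup (Fin 2) (ZMod 7))) =
      {1, L27V_pi L27V_a, L27V_pi L27V_b, L27V_pi L27V_a * L27V_pi L27V_b} := rfl
  show Nat.card (L27V_V : Set (Matrix.ProjectiveSpecialLinearGroup (Fin 2) (ZMod 7))) = 4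
  rw [_root_.Nat.card_coe_set_eq, hcar]
  generalize L27V_pi L27V_a = A at *
  generalize L27V_pi L27V_b = B at *
  have h3 : B ≠ A * B := fun h => hA (by
    have := congrArg (· * B⁻¹) h
    simpa using this.symm)
  have h2 : A ≠ A * B := fun h => hB (by
    have := congrArg (A⁻¹ * ·) h
    simpa using this.symm)
  have h1 : (1 : Matrix.ProjectiveSpecialLinearGroup (Fin 2) (ZMod 7)) ≠ A * B := fun h => hAB (by
    have : A * A = A * B := by rw [hAA]; exact h
    exact mul_left_cancel this)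
  rw [Set.ncard_insert_of_notMem, Set.ncard_insert_of_notMem, Set.ncard_insert_of_notMem,
    Set.ncard_singleton]
  · simp only [Set.mem_singleton_iff]; exact h3
  · simp only [Set.mem_insert_iff, Set.mem_singleton_iff, not_or]; exact ⟨hAB, h2⟩
  · simp only [Set.mem_insert_iff, Set.mem_singleton_iff, not_or]
    exact ⟨fun h => hA h.symm, fun h => hB h.symm, h1⟩

/-- (L27V) -/
theorem L27_invariant_four :
    ∃ (z : Matrix.ProjectiveSpecialLinearGroup (Fin 2) (ZMod 7))
      (V : Subgroup (Matrix.ProjectiveSpecialLinearGroup (Fin 2) (ZMod 7))),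
      orderOf z = 3 ∧ Nat.card V = 4 ∧ ∀ v ∈ V, z * v * z⁻¹ ∈ V := by
  refine ⟨L27V_pi L27V_h, L27V_V, ?_, L27V_card, ?_⟩
  · apply orderOf_eq_prime
    · rw [← map_pow, L27V_h_pow, map_one]
    · exact L27V_pi_ne_one L27V_h_nc
  · have hAA := L27V_AA
    have hBB := L27V_BB
    have hBA := L27V_BA
    have hHA := L27V_HA
    have hHB := L27V_HB
    have hmem : ∀ x, x ∈ L27V_V ↔ x = 1 ∨ x = L27V_pi L27V_a ∨ x = L27V_pi L27V_b ∨
        x = L27V_pi L27V_a * L27V_pi L27V_b := fun x => Iff.rfl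
    generalize L27V_pi L27V_a = A at *
    generalize L27V_pi L27V_b = B at *
    generalize L27V_pi L27V_h = z at *
    have c1 : z * A * z⁻¹ = B := by rw [hHA, mul_inv_cancel_right]
    have c2 : z * B * z⁻¹ = A * B := by rw [hHB, mul_inv_cancel_right]
    have c3 : z * (A * B) * z⁻¹ = A := by
      have : z * (A * B) * z⁻¹ = (z * A * z⁻¹) * (z * B * z⁻¹) := by group
      rw [this, c1, c2, ← mul_assoc, hBA, mul_assoc, hBB, mul_one]
    intro v hv
    rw [hmem] at hv ⊢
    rcases hv with rfl | rfl | rfl | rfl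
    · left; group
    · right; right; left; exact c1
    · right; right; right; exact c2
    · right; left; exact c3

end Cfsg.Agent.Helper46.SC3R
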