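import Mathlib

/-!
# SC3R (L27W) for helper2 (S3331, block R)

In `PSL(2, ZMod 7)` the image of `diag(2,4)` has order 3 and normalizes the image of the lower
unitriangular subgroup, which has order 7.
-/

set_option autoImplicit false

namespace Cfsg.Agent.Helper46.SC3R

open Matrix

/-- `diag(2,4)` in `SL₂(𝔽₇)`. -/
def L27W_h : Matrix.SpecialLinearGroup (Fin 2) (ZMod 7) := ⟨!![2, 0; 0, 4], by decide⟩

/-- The upper unitriangular test matrix. -/
def L27W_e : Matrix.SpecialLinearGroup (Fin 2) (ZMod 7) := ⟨!![1, 1; 0, 1], by decide⟩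

/-- Lower unitriangular matrices in `SL₂(𝔽₇)`. -/
def L27W_u (t : ZMod 7) : Matrix.SpecialLinearGroup (Fin 2) (ZMod 7) :=
  ⟨!![1, 0; t, 1], by simp [Matrix.det_fin_two]⟩

theorem L27W_u_add (s t : ZMod 7) : L27W_u (s + t) = L27W_u s * L27W_u t := by
  revert s t; decide

theorem L27W_u_zero : L27W_u 0 = 1 := by decide

theorem L27W_h_u (t : ZMod 7) : L27W_h * L27W_u t = L27W_u (2 * t) * L27W_h := by
  revert t; decide

theorem L27W_h_pow : L27W_h ^ 3 = 1 := by decide

theorem L27W_h_not_comm : L27W_e * L27W_h ≠ L27W_h * L27W_e := by decide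

theorem L27W_u_comm (t : ZMod 7) (h : L27W_e * L27W_u t = L27W_u t * L27W_e) : t = 0 := by
  revert t; decide

/-- The unitriangular homomorphism. -/
def L27W_phi : Multiplicative (ZMod 7) →* Matrix.SpecialLinearGroup (Fin 2) (ZMod 7) where
  toFun t := L27W_u (Multiplicative.toAdd t)
  map_one' := L27W_u_zero
  map_mul' _ _ := L27W_u_add _ _

/-- Its composite with the projection to `PSL₂(𝔽₇)`. -/
def L27W_psi : Multiplicative (ZMod 7) →* Matrix.ProjectiveSpecialLinearGroup (Fin 2) (ZMod 7) :=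
  (QuotientGroup.mk' (Subgroup.center (Matrix.SpecialLinearGroup (Fin 2) (ZMod 7)))).comp L27W_phi

theorem L27W_psi_injective : Function.Injective L27W_psi := by
  rw [injective_iff_map_eq_one]
  intro t ht
  have h1 : L27W_u (Multiplicative.toAdd t) ∈
      Subgroup.center (Matrix.SpecialLinearGroup (Fin 2) (ZMod 7)) :=
    (QuotientGroup.eq_one_iff _).mp ht
  have h2 := L27W_u_comm _ (Subgroup.mem_center_iff.mp h1 L27W_e)
  exact Multiplicative.toAdd.injective h2

/-- (L27W) -/
theorem L27_invariant_seven :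
    ∃ (z : Matrix.ProjectiveSpecialLinearGroup (Fin 2) (ZMod 7))
      (W : Subgroup (Matrix.ProjectiveSpecialLinearGroup (Fin 2) (ZMod 7))),
      orderOf z = 3 ∧ Nat.card W = 7 ∧ ∀ w ∈ W, z * w * z⁻¹ ∈ W := by
  refine ⟨QuotientGroup.mk' _ L27W_h, L27W_psi.range, ?_, ?_, ?_⟩
  · apply orderOf_eq_prime
    · rw [← map_pow, L27W_h_pow, map_one]
    · intro h1
      have h2 : L27W_h ∈ Subgroup.center (Matrix.SpecialLinearGroup (Fin 2) (ZMod 7)) :=
        (QuotientGroup.eq_one_iff _).mp h1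
      exact L27W_h_not_comm (Subgroup.mem_center_iff.mp h2 L27W_e)
  · rw [← Nat.card_congr (MonoidHom.ofInjective L27W_psi_injective).toEquiv]
    simp [Nat.card_eq_fintype_card]
  · rintro w ⟨t, rfl⟩
    refine ⟨Multiplicative.ofAdd (2 * Multiplicative.toAdd t), ?_⟩
    rw [eq_mul_inv_iff_mul_eq]
    show QuotientGroup.mk' _ (L27W_u (2 * Multiplicative.toAdd t)) * QuotientGroup.mk' _ L27W_h =
      QuotientGroup.mk' _ L27W_h * QuotientGroup.mk' _ (L27W_u (Multiplicative.toAdd t))
    rw [← map_mul, ← map_mul, L27W_h_u]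

end Cfsg.Agent.Helper46.SC3R
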