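import Mathlib

/-!
# Rank-one unipotent elements `1 + a ψ` of `SL_n` (general `n`)

`tv a ψ` is the element `1 + vecMulVec a ψ` of `SL_n(F)` when `ψ ⬝ᵥ a = 0` (and `1` otherwise).
API: inverse, products with the same axis / the same direction, conjugation, commutator formula.
`Full H a ψ` : the whole root group `{tv (s • a) ψ}` lies in `H`.
-/

open Matrix Matrix.SpecialLinearGroup
open scoped commutatorElement

namespace Cfsg.Agent.Helper46.Sln

variable {n : ℕ} {F : Type*} [CommRing F]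

theorem sl_ext {A B : SpecialLinearGroup (Fin n) F}
    (h : (A : Matrix (Fin n) (Fin n) F) = (B : Matrix (Fin n) (Fin n) F)) : A = B :=
  Subtype.ext h

/-- `1 + a ψ` as an element of `SL_n`, given `ψ ⬝ᵥ a = 0`. -/
def tvAux (a ψ : Fin n → F) (h : ψ ⬝ᵥ a = 0) : SpecialLinearGroup (Fin n) F :=
  ⟨1 + vecMulVec a ψ, by
    rw [vecMulVec_eq (Fin 1), det_one_add_replicateCol_mul_replicateRow, h, add_zero]⟩

/-- `1 + a ψ` as an element of `SL_n` (junk value `1` if `ψ ⬝ᵥ a ≠ 0`). -/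
noncomputable def tv (a ψ : Fin n → F) : SpecialLinearGroup (Fin n) F :=
  open Classical in
  if h : ψ ⬝ᵥ a = 0 then tvAux a ψ h else 1

theorem coe_tv {a ψ : Fin n → F} (h : ψ ⬝ᵥ a = 0) :
    ((tv a ψ : SpecialLinearGroup (Fin n) F) : Matrix (Fin n) (Fin n) F) = 1 + vecMulVec a ψ := by
  unfold tv
  rw [dif_pos h]
  rfl

theorem tv_zero_left (ψ : Fin n → F) : tv (0 : Fin n → F) ψ = 1 := by
  apply sl_ext
  rw [coe_tv (by simp)]
  simp

theorem tv_zero_right (a : Fin n → F) : tv a (0 : Fin n → F) = 1 := by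
  apply sl_ext
  rw [coe_tv (by simp)]
  simp

/-- product of two `tv` with the same axis `ψ` -/
theorem tv_mul_tv_axis {a b ψ : Fin n → F} (ha : ψ ⬝ᵥ a = 0) (hb : ψ ⬝ᵥ b = 0) :
    tv a ψ * tv b ψ = tv (a + b) ψ := by
  have hab : ψ ⬝ᵥ (a + b) = 0 := by rw [dotProduct_add, ha, hb, add_zero]
  apply sl_ext
  rw [coe_mul, coe_tv ha, coe_tv hb, coe_tv hab]
  have h0 : vecMulVec a ψ * vecMulVec b ψ = 0 := by
    rw [vecMulVec_mul_vecMulVec, hb, zero_smul, vecMulVec_zero]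
  simp only [mul_add, add_mul, Matrix.mul_one, Matrix.one_mul, h0, add_vecMulVec]
  abel

/-- product of two `tv` with the same direction `a` -/
theorem tv_mul_tv_dir {a ψ φ : Fin n → F} (hψ : ψ ⬝ᵥ a = 0) (hφ : φ ⬝ᵥ a = 0) :
    tv a ψ * tv a φ = tv a (ψ + φ) := by
  have hab : (ψ + φ) ⬝ᵥ a = 0 := by rw [add_dotProduct, hψ, hφ, add_zero]
  apply sl_ext
  rw [coe_mul, coe_tv hψ, coe_tv hφ, coe_tv hab]
  have h0 : vecMulVec a ψ * vecMulVec a φ = 0 := by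
    rw [vecMulVec_mul_vecMulVec, hψ, zero_smul, vecMulVec_zero]
  simp only [mul_add, add_mul, Matrix.mul_one, Matrix.one_mul, h0, vecMulVec_add]
  abel

theorem tv_inv {a ψ : Fin n → F} (h : ψ ⬝ᵥ a = 0) : (tv a ψ)⁻¹ = tv (-a) ψ := by
  have h' : ψ ⬝ᵥ (-a) = 0 := by rw [dotProduct_neg, h, neg_zero]
  rw [inv_eq_iff_mul_eq_one, tv_mul_tv_axis h h', add_neg_cancel, tv_zero_left]

/-- conjugation of `tv` -/
theorem conj_tv (g : SpecialLinearGroup (Fin n) F) {a ψ : Fin n → F} (h : ψ ⬝ᵥ a = 0) :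
    g * tv a ψ * g⁻¹ =
      tv ((g : Matrix (Fin n) (Fin n) F) *ᵥ a)
        (ψ ᵥ* ((g⁻¹ : SpecialLinearGroup (Fin n) F) : Matrix (Fin n) (Fin n) F)) := by
  have hinv : ((g⁻¹ : SpecialLinearGroup (Fin n) F) : Matrix (Fin n) (Fin n) F) *
      (g : Matrix (Fin n) (Fin n) F) = 1 := by
    rw [← coe_mul, inv_mul_cancel, coe_one]
  have hinv' : (g : Matrix (Fin n) (Fin n) F) *
      ((g⁻¹ : SpecialLinearGroup (Fin n) F) : Matrix (Fin n) (Fin n) F) = 1 := by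
    rw [← coe_mul, mul_inv_cancel, coe_one]
  have h' : (ψ ᵥ* ((g⁻¹ : SpecialLinearGroup (Fin n) F) : Matrix (Fin n) (Fin n) F)) ⬝ᵥ
      ((g : Matrix (Fin n) (Fin n) F) *ᵥ a) = 0 := by
    rw [← dotProduct_mulVec, mulVec_mulVec, hinv, one_mulVec, h]
  apply sl_ext
  rw [coe_mul, coe_mul, coe_tv h, coe_tv h']
  rw [mul_add, add_mul, Matrix.mul_one, hinv', mul_vecMulVec, vecMulVec_mul]

/-- the matrix `tv a ψ` applied to a vector -/
theorem tv_mulVec {a ψ : Fin n → F} (h : ψ ⬝ᵥ a = 0) (v : Fin n → F) :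
    ((tv a ψ : SpecialLinearGroup (Fin n) F) : Matrix (Fin n) (Fin n) F) *ᵥ v =
      v + (ψ ⬝ᵥ v) • a := by
  rw [coe_tv h, add_mulVec, one_mulVec, vecMulVec_mulVec, op_smul_eq_smul]

/-- a row vector times the matrix `tv a ψ` -/
theorem vecMul_tv {a ψ : Fin n → F} (h : ψ ⬝ᵥ a = 0) (φ : Fin n → F) :
    φ ᵥ* ((tv a ψ : SpecialLinearGroup (Fin n) F) : Matrix (Fin n) (Fin n) F) =
      φ + (φ ⬝ᵥ a) • ψ := by
  rw [coe_tv h, vecMul_add, vecMul_one, vecMul_vecMulVec]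

/-- commutator formula: if the direction `a` of the first lies on the axis `ν` of the second,
`⁅tv a μ, tv b ν⁆ = tv ((μ ⬝ᵥ b) • a) ν`. -/
theorem comm_tv {a μ b ν : Fin n → F} (ha : μ ⬝ᵥ a = 0) (hb : ν ⬝ᵥ b = 0) (hνa : ν ⬝ᵥ a = 0) :
    ⁅tv a μ, tv b ν⁆ = tv ((μ ⬝ᵥ b) • a) ν := by
  have hr : ν ⬝ᵥ ((μ ⬝ᵥ b) • a) = 0 := by rw [dotProduct_smul, hνa, smul_zero]
  rw [commutatorElement_def, conj_tv _ hb, tv_inv hb]
  have e1 : ((tv a μ : SpecialLinearGroup (Fin n) F) : Matrix (Fin n) (Fin n) F) *ᵥ b =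
      b + (μ ⬝ᵥ b) • a := tv_mulVec ha b
  have e2 : ν ᵥ* (((tv a μ)⁻¹ : SpecialLinearGroup (Fin n) F) : Matrix (Fin n) (Fin n) F) = ν := by
    have ha' : μ ⬝ᵥ (-a) = 0 := by rw [dotProduct_neg, ha, neg_zero]
    rw [tv_inv ha, vecMul_tv ha', dotProduct_neg, hνa, neg_zero, zero_smul, add_zero]
  rw [e1, e2]
  have hb' : ν ⬝ᵥ (-b) = 0 := by rw [dotProduct_neg, hb, neg_zero]
  have hsum : ν ⬝ᵥ (b + (μ ⬝ᵥ b) • a) = 0 := by rw [dotProduct_add, hb, hr, add_zero]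
  rw [tv_mul_tv_axis hsum hb']
  congr 1
  abel

/-- the full root group `{tv (s • a) ψ}` lies in `H` -/
def Full (H : Subgroup (SpecialLinearGroup (Fin n) F)) (a ψ : Fin n → F) : Prop :=
  ψ ⬝ᵥ a = 0 ∧ ∀ s : F, tv (s • a) ψ ∈ H

/-- `tv` only depends on the matrix `vecMulVec a ψ` -/
theorem tv_congr {a ψ b φ : Fin n → F} (ha : ψ ⬝ᵥ a = 0) (hb : φ ⬝ᵥ b = 0)
    (h : vecMulVec a ψ = vecMulVec b φ) : tv a ψ = tv b φ := by
  apply sl_ext
  rw [coe_tv ha, coe_tv hb, h]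

theorem tv_smul_comm {a ψ : Fin n → F} (h : ψ ⬝ᵥ a = 0) (s c : F) :
    tv (s • a) (c • ψ) = tv ((s * c) • a) ψ := by
  have h1 : (c • ψ) ⬝ᵥ (s • a) = 0 := by simp [h]
  have h2 : ψ ⬝ᵥ ((s * c) • a) = 0 := by simp [h]
  apply tv_congr h1 h2
  ext i j
  simp [vecMulVec_apply]
  ring

namespace Full

variable {H : Subgroup (SpecialLinearGroup (Fin n) F)} {a b ψ φ : Fin n → F}

theorem mem (h : Full H a ψ) : tv a ψ ∈ H := by
  have := h.2 1
  rwa [one_smul] at this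

theorem conj (h : Full H a ψ) {g : SpecialLinearGroup (Fin n) F} (hg : g ∈ H) :
    Full H ((g : Matrix (Fin n) (Fin n) F) *ᵥ a)
      (ψ ᵥ* ((g⁻¹ : SpecialLinearGroup (Fin n) F) : Matrix (Fin n) (Fin n) F)) := by
  have hinv : ((g⁻¹ : SpecialLinearGroup (Fin n) F) : Matrix (Fin n) (Fin n) F) *
      (g : Matrix (Fin n) (Fin n) F) = 1 := by
    rw [← coe_mul, inv_mul_cancel, coe_one]
  refine ⟨by rw [← dotProduct_mulVec, mulVec_mulVec, hinv, one_mulVec, h.1], fun s => ?_⟩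
  have hs : ψ ⬝ᵥ (s • a) = 0 := by rw [dotProduct_smul, h.1, smul_zero]
  have := H.mul_mem (H.mul_mem hg (h.2 s)) (H.inv_mem hg)
  rwa [conj_tv g hs, mulVec_smul] at this

theorem add_dir (h1 : Full H a ψ) (h2 : Full H b ψ) : Full H (a + b) ψ := by
  refine ⟨by rw [dotProduct_add, h1.1, h2.1, add_zero], fun s => ?_⟩
  have hs1 : ψ ⬝ᵥ (s • a) = 0 := by rw [dotProduct_smul, h1.1, smul_zero]
  have hs2 : ψ ⬝ᵥ (s • b) = 0 := by rw [dotProduct_smul, h2.1, smul_zero]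
  have := H.mul_mem (h1.2 s) (h2.2 s)
  rwa [tv_mul_tv_axis hs1 hs2, ← smul_add] at this

theorem add_axis (h1 : Full H a ψ) (h2 : Full H a φ) : Full H a (ψ + φ) := by
  refine ⟨by rw [add_dotProduct, h1.1, h2.1, add_zero], fun s => ?_⟩
  have hs1 : ψ ⬝ᵥ (s • a) = 0 := by rw [dotProduct_smul, h1.1, smul_zero]
  have hs2 : φ ⬝ᵥ (s • a) = 0 := by rw [dotProduct_smul, h2.1, smul_zero]
  have := H.mul_mem (h1.2 s) (h2.2 s)
  rwa [tv_mul_tv_dir hs1 hs2] at this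

theorem smul_dir (h : Full H a ψ) (c : F) : Full H (c • a) ψ := by
  refine ⟨by rw [dotProduct_smul, h.1, smul_zero], fun s => ?_⟩
  have := h.2 (s * c)
  rwa [mul_smul] at this

theorem smul_axis (h : Full H a ψ) (c : F) : Full H a (c • ψ) := by
  refine ⟨by rw [smul_dotProduct, h.1, smul_zero], fun s => ?_⟩
  rw [tv_smul_comm h.1]
  exact h.2 (s * c)

theorem neg_axis (h : Full H a ψ) : Full H a (-ψ) := by
  have := h.smul_axis (-1)
  rwa [neg_one_smul] at this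

theorem zero_axis (H : Subgroup (SpecialLinearGroup (Fin n) F)) (a : Fin n → F) :
    Full H a (0 : Fin n → F) :=
  ⟨by simp, fun s => by rw [tv_zero_right]; exact H.one_mem⟩

/-- commutator closure: direction of the first on the axis of the second -/
theorem comm (h1 : Full H a ψ) (h2 : Full H b φ) (hφa : φ ⬝ᵥ a = 0) :
    Full H ((ψ ⬝ᵥ b) • a) φ := by
  refine ⟨by rw [dotProduct_smul, hφa, smul_zero], fun s => ?_⟩
  have hs1 : ψ ⬝ᵥ (s • a) = 0 := by rw [dotProduct_smul, h1.1, smul_zero]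
  have hφsa : φ ⬝ᵥ (s • a) = 0 := by rw [dotProduct_smul, hφa, smul_zero]
  have hc : ⁅tv (s • a) ψ, tv b φ⁆ ∈ H := by
    rw [commutatorElement_def]
    exact H.mul_mem (H.mul_mem (H.mul_mem (h1.2 s) h2.mem) (H.inv_mem (h1.2 s))) (H.inv_mem h2.mem)
  rw [comm_tv hs1 h2.1 hφsa] at hc
  convert hc using 2
  rw [smul_smul, smul_smul, mul_comm]

end Full

/-- over a field: nonzero pairing gives the pure root group -/
theorem Full.comm' {K : Type*} [Field K] {H : Subgroup (SpecialLinearGroup (Fin n) K)}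
    {a b ψ φ : Fin n → K} (h1 : Full H a ψ) (h2 : Full H b φ) (hφa : φ ⬝ᵥ a = 0)
    (hne : ψ ⬝ᵥ b ≠ 0) : Full H a φ := by
  have := (h1.comm h2 hφa).smul_dir (ψ ⬝ᵥ b)⁻¹
  rwa [smul_smul, inv_mul_cancel₀ hne, one_smul] at this

end Cfsg.Agent.Helper46.Sln
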