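import Mathlib
import Cfsg.Agent.Helper46.SlnTv

/-!
# Orbit vectors `X u x j = u^j x`, functionals `Ψ u ψ j = ψ u^{-j}` and the pairing function `pr`
-/

open Matrix Matrix.SpecialLinearGroup

namespace Cfsg.Agent.Helper46.Sln

variable {n : ℕ} {F : Type*} [CommRing F]

/-- `X u x j = u^j x` for `j : ℤ` -/
def X (u : SpecialLinearGroup (Fin n) F) (x : Fin n → F) (j : ℤ) : Fin n → F :=
  ((u ^ j : SpecialLinearGroup (Fin n) F) : Matrix (Fin n) (Fin n) F) *ᵥ x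

/-- `Ψ u ψ j = ψ u^{-j}` for `j : ℤ` -/
def Ψ (u : SpecialLinearGroup (Fin n) F) (ψ : Fin n → F) (j : ℤ) : Fin n → F :=
  ψ ᵥ* ((u ^ (-j) : SpecialLinearGroup (Fin n) F) : Matrix (Fin n) (Fin n) F)

/-- the pairing function `pr d = ψ (u^d x)` -/
def pr (u : SpecialLinearGroup (Fin n) F) (x ψ : Fin n → F) (d : ℤ) : F :=
  ψ ⬝ᵥ X u x d

variable (u : SpecialLinearGroup (Fin n) F) (x ψ : Fin n → F)

theorem X_zero : X u x 0 = x := by
  simp [X]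

theorem Ψ_zero : Ψ u ψ 0 = ψ := by
  simp [Ψ]

theorem coe_zpow_mul (i j : ℤ) :
    ((u ^ i : SpecialLinearGroup (Fin n) F) : Matrix (Fin n) (Fin n) F) *
      ((u ^ j : SpecialLinearGroup (Fin n) F) : Matrix (Fin n) (Fin n) F) =
      ((u ^ (i + j) : SpecialLinearGroup (Fin n) F) : Matrix (Fin n) (Fin n) F) := by
  rw [← coe_mul, ← _root_.zpow_add]

theorem Ψ_dot_X (i j : ℤ) : Ψ u ψ i ⬝ᵥ X u x j = pr u x ψ (j - i) := by
  unfold Ψ X pr X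
  rw [← dotProduct_mulVec, mulVec_mulVec, coe_zpow_mul]
  have e : -i + j = j - i := by ring
  rw [e]

theorem zpow_mulVec_X (k j : ℤ) :
    ((u ^ k : SpecialLinearGroup (Fin n) F) : Matrix (Fin n) (Fin n) F) *ᵥ X u x j = X u x (j + k) := by
  unfold X
  rw [mulVec_mulVec, coe_zpow_mul, add_comm]

theorem Ψ_vecMul_zpow_inv (k j : ℤ) :
    Ψ u ψ j ᵥ* (((u ^ k)⁻¹ : SpecialLinearGroup (Fin n) F) : Matrix (Fin n) (Fin n) F) =
      Ψ u ψ (j + k) := by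
  unfold Ψ
  rw [vecMul_vecMul, ← _root_.zpow_neg, coe_zpow_mul]
  have e : -j + -k = -(j + k) := by ring
  rw [e]

/-- conjugating `tv (s • X j) (Ψ i)` by `u^k` shifts both indices by `k` -/
theorem conj_zpow_tv (s : F) (i j k : ℤ) (h : pr u x ψ (j - i) = 0) :
    u ^ k * tv (s • X u x j) (Ψ u ψ i) * (u ^ k)⁻¹ = tv (s • X u x (j + k)) (Ψ u ψ (i + k)) := by
  have h0 : Ψ u ψ i ⬝ᵥ (s • X u x j) = 0 := by
    rw [dotProduct_smul, Ψ_dot_X, h, smul_zero]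
  rw [conj_tv _ h0, mulVec_smul, zpow_mulVec_X, Ψ_vecMul_zpow_inv]

end Cfsg.Agent.Helper46.Sln
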