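import Mathlib
import Cfsg.Agent.Helper46.SlnDefs

/-!
# S2279 piece (CI): the universal commutator identity

`⁅y₀, ⁅y₀, y₁⁆⁆ = tv ((a b θ³) • x₂) ψ₀` for `y₀ = g₀ g₁⁻¹`, `y₁ = g₁ g₂⁻¹`, `g_i = tv (θ • x_i) ψ_i`
with strictly lower triangular pairing.  Computation in the "circle algebra" of 3×3 matrices:
`(1 + X M Y)(1 + X N Y) = 1 + X (M + N + M P N) Y`, `P = Y X`.
-/

set_option autoImplicit false
set_option linter.unusedSimpArgs false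
set_option linter.unusedVariables false

open Matrix Matrix.SpecialLinearGroup
open scoped commutatorElement
open Cfsg.Agent.Helper46.Sln

namespace Cfsg.Agent.Helper46.SlnCI

variable {n : ℕ} {K : Type*} [CommRing K]

section circle

variable (a b c : K)

/-- the pairing matrix -/
def Pm : Matrix (Fin 3) (Fin 3) K := !![0, 0, 0; a, 0, 0; c, b, 0]

/-- the circle operation -/
def circ (M N : Matrix (Fin 3) (Fin 3) K) : Matrix (Fin 3) (Fin 3) K := M + N + M * Pm a b c * N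

variable (θ : K)

theorem s_Y0 : circ a b c !![θ, 0, 0; 0, 0, 0; 0, 0, 0] !![0, 0, 0; 0, -θ, 0; 0, 0, 0] =
    !![θ, 0, 0; 0, -θ, 0; 0, 0, 0] := by
  ext i j
  fin_cases i <;> fin_cases j <;>
    simp [circ, Pm, Matrix.mul_apply, Fin.sum_univ_three, Matrix.add_apply]

theorem s_Y0i : circ a b c !![0, 0, 0; 0, θ, 0; 0, 0, 0] !![-θ, 0, 0; 0, 0, 0; 0, 0, 0] =
    !![-θ, 0, 0; -θ^2*a, θ, 0; 0, 0, 0] := by
  ext i j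
  fin_cases i <;> fin_cases j <;>
    simp [circ, Pm, Matrix.mul_apply, Fin.sum_univ_three, Matrix.add_apply] <;> ring

theorem s_Y1 : circ a b c !![0, 0, 0; 0, θ, 0; 0, 0, 0] !![0, 0, 0; 0, 0, 0; 0, 0, -θ] =
    !![0, 0, 0; 0, θ, 0; 0, 0, -θ] := by
  ext i j
  fin_cases i <;> fin_cases j <;>
    simp [circ, Pm, Matrix.mul_apply, Fin.sum_univ_three, Matrix.add_apply]

theorem s_Y1i : circ a b c !![0, 0, 0; 0, 0, 0; 0, 0, θ] !![0, 0, 0; 0, -θ, 0; 0, 0, 0] =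
    !![0, 0, 0; 0, -θ, 0; 0, -θ^2*b, θ] := by
  ext i j
  fin_cases i <;> fin_cases j <;>
    simp [circ, Pm, Matrix.mul_apply, Fin.sum_univ_three, Matrix.add_apply] <;> ring

theorem s_D1 : circ a b c !![θ, 0, 0; 0, -θ, 0; 0, 0, 0] !![0, 0, 0; 0, θ, 0; 0, 0, -θ] =
    !![θ, 0, 0; 0, 0, 0; 0, 0, -θ] := by
  ext i j
  fin_cases i <;> fin_cases j <;>
    simp [circ, Pm, Matrix.mul_apply, Fin.sum_univ_three, Matrix.add_apply]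

theorem s_D2 : circ a b c !![θ, 0, 0; 0, 0, 0; 0, 0, -θ] !![-θ, 0, 0; -θ^2*a, θ, 0; 0, 0, 0] =
    !![0, 0, 0; -θ^2*a, θ, 0; θ^2*c+θ^3*a*b, -θ^2*b, -θ] := by
  ext i j
  fin_cases i <;> fin_cases j <;>
    simp [circ, Pm, Matrix.mul_apply, Fin.sum_univ_three, Matrix.add_apply] <;> ring

theorem s_C1 : circ a b c !![0, 0, 0; -θ^2*a, θ, 0; θ^2*c+θ^3*a*b, -θ^2*b, -θ]
    !![0, 0, 0; 0, -θ, 0; 0, -θ^2*b, θ] =
    !![0, 0, 0; -θ^2*a, 0, 0; θ^2*c+θ^3*a*b, -θ^2*b, 0] := by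
  ext i j
  fin_cases i <;> fin_cases j <;>
    simp [circ, Pm, Matrix.mul_apply, Fin.sum_univ_three, Matrix.add_apply] <;> ring

theorem s_E1 : circ a b c !![0, 0, 0; 0, θ, 0; 0, 0, -θ] !![θ, 0, 0; 0, -θ, 0; 0, 0, 0] =
    !![θ, 0, 0; θ^2*a, 0, 0; -θ^2*c, θ^2*b, -θ] := by
  ext i j
  fin_cases i <;> fin_cases j <;>
    simp [circ, Pm, Matrix.mul_apply, Fin.sum_univ_three, Matrix.add_apply] <;> ring

theorem s_E2 : circ a b c !![θ, 0, 0; θ^2*a, 0, 0; -θ^2*c, θ^2*b, -θ]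
    !![0, 0, 0; 0, -θ, 0; 0, -θ^2*b, θ] =
    !![θ, 0, 0; θ^2*a, -θ, 0; -θ^2*c, θ^2*b, 0] := by
  ext i j
  fin_cases i <;> fin_cases j <;>
    simp [circ, Pm, Matrix.mul_apply, Fin.sum_univ_three, Matrix.add_apply] <;> ring

theorem s_C1i : circ a b c !![θ, 0, 0; θ^2*a, -θ, 0; -θ^2*c, θ^2*b, 0]
    !![-θ, 0, 0; -θ^2*a, θ, 0; 0, 0, 0] =
    !![0, 0, 0; θ^2*a, 0, 0; -θ^2*c-θ^3*a*b, θ^2*b, 0] := by
  ext i j
  fin_cases i <;> fin_cases j <;>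
    simp [circ, Pm, Matrix.mul_apply, Fin.sum_univ_three, Matrix.add_apply] <;> ring

theorem s_F1 : circ a b c !![θ, 0, 0; 0, -θ, 0; 0, 0, 0]
    !![0, 0, 0; -θ^2*a, 0, 0; θ^2*c+θ^3*a*b, -θ^2*b, 0] =
    !![θ, 0, 0; -θ^2*a, -θ, 0; θ^2*c+θ^3*a*b, -θ^2*b, 0] := by
  ext i j
  fin_cases i <;> fin_cases j <;>
    simp [circ, Pm, Matrix.mul_apply, Fin.sum_univ_three, Matrix.add_apply] <;> ring

theorem s_F2 : circ a b c !![θ, 0, 0; -θ^2*a, -θ, 0; θ^2*c+θ^3*a*b, -θ^2*b, 0]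
    !![-θ, 0, 0; -θ^2*a, θ, 0; 0, 0, 0] =
    !![0, 0, 0; -θ^2*a, 0, 0; θ^2*c+2*θ^3*a*b, -θ^2*b, 0] := by
  ext i j
  fin_cases i <;> fin_cases j <;>
    simp [circ, Pm, Matrix.mul_apply, Fin.sum_univ_three, Matrix.add_apply] <;> ring

theorem s_F3 : circ a b c !![0, 0, 0; -θ^2*a, 0, 0; θ^2*c+2*θ^3*a*b, -θ^2*b, 0]
    !![0, 0, 0; θ^2*a, 0, 0; -θ^2*c-θ^3*a*b, θ^2*b, 0] =
    !![0, 0, 0; 0, 0, 0; θ^3*a*b, 0, 0] := by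
  ext i j
  fin_cases i <;> fin_cases j <;>
    simp [circ, Pm, Matrix.mul_apply, Fin.sum_univ_three, Matrix.add_apply] <;> ring

end circle

section el

variable (x0 x1 x2 ψ0 ψ1 ψ2 : Fin n → K)

/-- the `n × 3` matrix with columns `x0, x1, x2` -/
def Xm : Matrix (Fin n) (Fin 3) K := Matrix.of fun i j => ![x0, x1, x2] j i

/-- the `3 × n` matrix with rows `ψ0, ψ1, ψ2` -/
def Ym : Matrix (Fin 3) (Fin n) K := Matrix.of fun j i => ![ψ0, ψ1, ψ2] j i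

/-- the element `1 + X M Y` -/
def el (M : Matrix (Fin 3) (Fin 3) K) : Matrix (Fin n) (Fin n) K :=
  1 + Xm x0 x1 x2 * M * Ym ψ0 ψ1 ψ2

theorem Ym_mul_Xm (a b c : K)
    (h00 : ψ0 ⬝ᵥ x0 = 0) (h01 : ψ0 ⬝ᵥ x1 = 0) (h02 : ψ0 ⬝ᵥ x2 = 0)
    (h11 : ψ1 ⬝ᵥ x1 = 0) (h12 : ψ1 ⬝ᵥ x2 = 0) (h22 : ψ2 ⬝ᵥ x2 = 0)
    (h10 : ψ1 ⬝ᵥ x0 = a) (h21 : ψ2 ⬝ᵥ x1 = b) (h20 : ψ2 ⬝ᵥ x0 = c) :
    Ym ψ0 ψ1 ψ2 * Xm x0 x1 x2 = Pm a b c := by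
  ext i j
  fin_cases i <;> fin_cases j <;>
    simp [Ym, Xm, Pm, Matrix.mul_apply, dotProduct] at * <;> assumption

theorem el_mul (a b c : K) (hP : Ym ψ0 ψ1 ψ2 * Xm x0 x1 x2 = Pm a b c)
    (M N : Matrix (Fin 3) (Fin 3) K) :
    el x0 x1 x2 ψ0 ψ1 ψ2 M * el x0 x1 x2 ψ0 ψ1 ψ2 N = el x0 x1 x2 ψ0 ψ1 ψ2 (circ a b c M N) := by
  unfold el circ
  have key : Xm x0 x1 x2 * M * Ym ψ0 ψ1 ψ2 * (Xm x0 x1 x2 * N * Ym ψ0 ψ1 ψ2) =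
      Xm x0 x1 x2 * (M * Pm a b c * N) * Ym ψ0 ψ1 ψ2 := by
    rw [← hP]
    simp only [Matrix.mul_assoc]
  rw [mul_add, add_mul, add_mul, Matrix.one_mul, Matrix.mul_one, Matrix.one_mul, key]
  simp only [Matrix.mul_add, Matrix.add_mul]
  abel

theorem el_single (i j : Fin 3) (t : K) :
    el x0 x1 x2 ψ0 ψ1 ψ2 (Matrix.single i j t) =
      1 + vecMulVec (t • ![x0, x1, x2] i) (![ψ0, ψ1, ψ2] j) := by
  unfold el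
  congr 1
  ext r s
  simp only [Matrix.mul_apply, Xm, Ym, Matrix.of_apply, Matrix.single_apply, vecMulVec_apply,
    Pi.smul_apply, smul_eq_mul]
  rw [Finset.sum_eq_single j]
  · rw [Finset.sum_eq_single i]
    · simp; ring
    · intro k _ hk
      simp [hk.symm]
    · simp
  · intro k _ hk
    rw [Finset.sum_eq_zero]
    · simp
    · intro l _
      simp [hk.symm]
  · simp

end el

theorem single00 (t : K) : (Matrix.single 0 0 t : Matrix (Fin 3) (Fin 3) K) =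
    !![t, 0, 0; 0, 0, 0; 0, 0, 0] := by
  ext i j; fin_cases i <;> fin_cases j <;> simp [Matrix.single_apply]

theorem single11 (t : K) : (Matrix.single 1 1 t : Matrix (Fin 3) (Fin 3) K) =
    !![0, 0, 0; 0, t, 0; 0, 0, 0] := by
  ext i j; fin_cases i <;> fin_cases j <;> simp [Matrix.single_apply]

theorem single22 (t : K) : (Matrix.single 2 2 t : Matrix (Fin 3) (Fin 3) K) =
    !![0, 0, 0; 0, 0, 0; 0, 0, t] := by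
  ext i j; fin_cases i <;> fin_cases j <;> simp [Matrix.single_apply]

theorem single20 (t : K) : (Matrix.single 2 0 t : Matrix (Fin 3) (Fin 3) K) =
    !![0, 0, 0; 0, 0, 0; t, 0, 0] := by
  ext i j; fin_cases i <;> fin_cases j <;> simp [Matrix.single_apply]

theorem comm_identity (x0 x1 x2 ψ0 ψ1 ψ2 : Fin n → K)
    (θ a b c : K)
    (h00 : ψ0 ⬝ᵥ x0 = 0) (h01 : ψ0 ⬝ᵥ x1 = 0) (h02 : ψ0 ⬝ᵥ x2 = 0)
    (h11 : ψ1 ⬝ᵥ x1 = 0) (h12 : ψ1 ⬝ᵥ x2 = 0) (h22 : ψ2 ⬝ᵥ x2 = 0)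
    (h10 : ψ1 ⬝ᵥ x0 = a) (h21 : ψ2 ⬝ᵥ x1 = b) (h20 : ψ2 ⬝ᵥ x0 = c) :
    ⁅tv (θ • x0) ψ0 * (tv (θ • x1) ψ1)⁻¹,
      ⁅tv (θ • x0) ψ0 * (tv (θ • x1) ψ1)⁻¹, tv (θ • x1) ψ1 * (tv (θ • x2) ψ2)⁻¹⁆⁆ =
      tv ((a * b * θ ^ 3) • x2) ψ0 := by
  have hP := Ym_mul_Xm x0 x1 x2 ψ0 ψ1 ψ2 a b c h00 h01 h02 h11 h12 h22 h10 h21 h20
  have hmul := el_mul x0 x1 x2 ψ0 ψ1 ψ2 a b c hP
  -- the generators
  have d0 : ψ0 ⬝ᵥ (θ • x0) = 0 := by rw [dotProduct_smul, h00, smul_zero]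
  have d1 : ψ1 ⬝ᵥ (θ • x1) = 0 := by rw [dotProduct_smul, h11, smul_zero]
  have d2 : ψ2 ⬝ᵥ (θ • x2) = 0 := by rw [dotProduct_smul, h22, smul_zero]
  have d0' : ψ0 ⬝ᵥ (-(θ • x0)) = 0 := by rw [dotProduct_neg, d0, neg_zero]
  have d1' : ψ1 ⬝ᵥ (-(θ • x1)) = 0 := by rw [dotProduct_neg, d1, neg_zero]
  have d2' : ψ2 ⬝ᵥ (-(θ • x2)) = 0 := by rw [dotProduct_neg, d2, neg_zero]
  have g0 : ((tv (θ • x0) ψ0 : SpecialLinearGroup (Fin n) K) : Matrix (Fin n) (Fin n) K) =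
      el x0 x1 x2 ψ0 ψ1 ψ2 !![θ, 0, 0; 0, 0, 0; 0, 0, 0] := by
    rw [coe_tv d0, ← single00, el_single]; rfl
  have g1 : ((tv (θ • x1) ψ1 : SpecialLinearGroup (Fin n) K) : Matrix (Fin n) (Fin n) K) =
      el x0 x1 x2 ψ0 ψ1 ψ2 !![0, 0, 0; 0, θ, 0; 0, 0, 0] := by
    rw [coe_tv d1, ← single11, el_single]; rfl
  have g2 : ((tv (θ • x2) ψ2 : SpecialLinearGroup (Fin n) K) : Matrix (Fin n) (Fin n) K) =
      el x0 x1 x2 ψ0 ψ1 ψ2 !![0, 0, 0; 0, 0, 0; 0, 0, θ] := by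
    rw [coe_tv d2, ← single22, el_single]; rfl
  have g0i : (((tv (θ • x0) ψ0)⁻¹ : SpecialLinearGroup (Fin n) K) : Matrix (Fin n) (Fin n) K) =
      el x0 x1 x2 ψ0 ψ1 ψ2 !![-θ, 0, 0; 0, 0, 0; 0, 0, 0] := by
    rw [tv_inv d0, coe_tv d0', ← single00, el_single, neg_smul]; rfl
  have g1i : (((tv (θ • x1) ψ1)⁻¹ : SpecialLinearGroup (Fin n) K) : Matrix (Fin n) (Fin n) K) =
      el x0 x1 x2 ψ0 ψ1 ψ2 !![0, 0, 0; 0, -θ, 0; 0, 0, 0] := by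
    rw [tv_inv d1, coe_tv d1', ← single11, el_single, neg_smul]; rfl
  have g2i : (((tv (θ • x2) ψ2)⁻¹ : SpecialLinearGroup (Fin n) K) : Matrix (Fin n) (Fin n) K) =
      el x0 x1 x2 ψ0 ψ1 ψ2 !![0, 0, 0; 0, 0, 0; 0, 0, -θ] := by
    rw [tv_inv d2, coe_tv d2', ← single22, el_single, neg_smul]; rfl
  set y0 := tv (θ • x0) ψ0 * (tv (θ • x1) ψ1)⁻¹ with hy0
  set y1 := tv (θ • x1) ψ1 * (tv (θ • x2) ψ2)⁻¹ with hy1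
  have hy0i : y0⁻¹ = tv (θ • x1) ψ1 * (tv (θ • x0) ψ0)⁻¹ := by
    rw [hy0, _root_.mul_inv_rev, inv_inv]
  have hy1i : y1⁻¹ = tv (θ • x2) ψ2 * (tv (θ • x1) ψ1)⁻¹ := by
    rw [hy1, _root_.mul_inv_rev, inv_inv]
  have Y0 : (y0 : Matrix (Fin n) (Fin n) K) = el x0 x1 x2 ψ0 ψ1 ψ2 !![θ, 0, 0; 0, -θ, 0; 0, 0, 0] := by
    rw [hy0, coe_mul, g0, g1i, hmul, s_Y0]
  have Y0i : ((y0⁻¹ : SpecialLinearGroup (Fin n) K) : Matrix (Fin n) (Fin n) K) =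
      el x0 x1 x2 ψ0 ψ1 ψ2 !![-θ, 0, 0; -θ^2*a, θ, 0; 0, 0, 0] := by
    rw [hy0i, coe_mul, g1, g0i, hmul, s_Y0i]
  have Y1 : (y1 : Matrix (Fin n) (Fin n) K) = el x0 x1 x2 ψ0 ψ1 ψ2 !![0, 0, 0; 0, θ, 0; 0, 0, -θ] := by
    rw [hy1, coe_mul, g1, g2i, hmul, s_Y1]
  have Y1i : ((y1⁻¹ : SpecialLinearGroup (Fin n) K) : Matrix (Fin n) (Fin n) K) =
      el x0 x1 x2 ψ0 ψ1 ψ2 !![0, 0, 0; 0, -θ, 0; 0, -θ^2*b, θ] := by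
    rw [hy1i, coe_mul, g2, g1i, hmul, s_Y1i]
  have C1 : ((⁅y0, y1⁆ : SpecialLinearGroup (Fin n) K) : Matrix (Fin n) (Fin n) K) =
      el x0 x1 x2 ψ0 ψ1 ψ2 !![0, 0, 0; -θ^2*a, 0, 0; θ^2*c+θ^3*a*b, -θ^2*b, 0] := by
    rw [commutatorElement_def, coe_mul, coe_mul, coe_mul, Y0, Y1, Y0i, Y1i, hmul, s_D1, hmul, s_D2,
      hmul, s_C1]
  have C1i : (((⁅y0, y1⁆)⁻¹ : SpecialLinearGroup (Fin n) K) : Matrix (Fin n) (Fin n) K) =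
      el x0 x1 x2 ψ0 ψ1 ψ2 !![0, 0, 0; θ^2*a, 0, 0; -θ^2*c-θ^3*a*b, θ^2*b, 0] := by
    rw [commutatorElement_inv, commutatorElement_def, coe_mul, coe_mul, coe_mul, Y0, Y1, Y0i, Y1i,
      hmul, s_E1, hmul, s_E2, hmul, s_C1i]
  have hr : ψ0 ⬝ᵥ ((a * b * θ ^ 3) • x2) = 0 := by rw [dotProduct_smul, h02, smul_zero]
  apply sl_ext
  rw [commutatorElement_def, coe_mul, coe_mul, coe_mul, Y0, C1, Y0i, C1i, hmul, s_F1, hmul, s_F2,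
    hmul, s_F3, coe_tv hr]
  have e : θ ^ 3 * a * b = a * b * θ ^ 3 := by ring
  rw [e, ← single20, el_single]
  rfl

end Cfsg.Agent.Helper46.SlnCI
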