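import Mathlib
import Cfsg.Agent.Helper46.SlnDefs

/-!
# S2279 piece (G12): the elements `y_j` and the starting transvection
-/

set_option autoImplicit false

open Matrix Matrix.SpecialLinearGroup
open scoped commutatorElement
open Cfsg.Agent.Helper46.Sln

namespace Cfsg.Agent.Helper46.SlnG

variable {n : ℕ} {K : Type*} [Field K] (u : SpecialLinearGroup (Fin n) K) (x ψ : Fin n → K) (θ : K)
  (H : Subgroup (SpecialLinearGroup (Fin n) K))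

/-- (G1) the elements `y_j = g_j g_{j+1}⁻¹`, `g_j = u^j t u^{-j}`, lie in `H = ⟨u, t u t⁻¹⟩` -/
theorem y_mem (h0 : pr u x ψ 0 = 0) (hu : u ∈ H)
    (hv : tv (θ • x) ψ * u * (tv (θ • x) ψ)⁻¹ ∈ H) (j : ℤ) :
    tv (θ • X u x j) (Ψ u ψ j) * (tv (θ • X u x (j + 1)) (Ψ u ψ (j + 1)))⁻¹ ∈ H := by
  have hg : ∀ i : ℤ, u ^ i * tv (θ • x) ψ * (u ^ i)⁻¹ = tv (θ • X u x i) (Ψ u ψ i) := by
    intro i
    have := conj_zpow_tv u x ψ θ 0 0 i (by rw [sub_self]; exact h0)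
    rwa [X_zero, Ψ_zero, zero_add] at this
  rw [← hg j, ← hg (j + 1)]
  have e : u ^ j * tv (θ • x) ψ * (u ^ j)⁻¹ * (u ^ (j + 1) * tv (θ • x) ψ * (u ^ (j + 1))⁻¹)⁻¹ =
      u ^ j * (tv (θ • x) ψ * u * (tv (θ • x) ψ)⁻¹ * u⁻¹) * (u ^ j)⁻¹ := by
    rw [_root_.zpow_add, zpow_one]
    group
  rw [e]
  exact H.mul_mem (H.mul_mem (H.zpow_mem hu _) (H.mul_mem hv (H.inv_mem hu)))
    (H.inv_mem (H.zpow_mem hu _))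

/-- (G2) the starting transvection, from the commutator identity `hCI` -/
theorem start_mem'
    (hCI : ∀ (x0 x1 x2 ψ0 ψ1 ψ2 : Fin n → K) (θ a b c : K),
      ψ0 ⬝ᵥ x0 = 0 → ψ0 ⬝ᵥ x1 = 0 → ψ0 ⬝ᵥ x2 = 0 → ψ1 ⬝ᵥ x1 = 0 → ψ1 ⬝ᵥ x2 = 0 → ψ2 ⬝ᵥ x2 = 0 →
      ψ1 ⬝ᵥ x0 = a → ψ2 ⬝ᵥ x1 = b → ψ2 ⬝ᵥ x0 = c →
      ⁅tv (θ • x0) ψ0 * (tv (θ • x1) ψ1)⁻¹,
        ⁅tv (θ • x0) ψ0 * (tv (θ • x1) ψ1)⁻¹, tv (θ • x1) ψ1 * (tv (θ • x2) ψ2)⁻¹⁆⁆ =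
        tv ((a * b * θ ^ 3) • x2) ψ0)
    (h0 : pr u x ψ 0 = 0) (h1 : pr u x ψ 1 = 0) (h2 : pr u x ψ 2 = 0)
    (hy : ∀ j : ℤ, tv (θ • X u x j) (Ψ u ψ j) * (tv (θ • X u x (j + 1)) (Ψ u ψ (j + 1)))⁻¹ ∈ H) :
    tv ((pr u x ψ (-1) * pr u x ψ (-1) * θ ^ 3) • X u x 2) ψ ∈ H := by
  have key := hCI (X u x 0) (X u x 1) (X u x 2) (Ψ u ψ 0) (Ψ u ψ 1) (Ψ u ψ 2) θ
    (pr u x ψ (-1)) (pr u x ψ (-1)) (pr u x ψ (-2))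
    (by rw [Ψ_dot_X]; simpa using h0) (by rw [Ψ_dot_X]; simpa using h1)
    (by rw [Ψ_dot_X]; simpa using h2) (by rw [Ψ_dot_X]; simpa using h0)
    (by rw [Ψ_dot_X]; norm_num; exact h1) (by rw [Ψ_dot_X]; simpa using h0)
    (by rw [Ψ_dot_X]; norm_num) (by rw [Ψ_dot_X]; norm_num) (by rw [Ψ_dot_X]; norm_num)
  have hy0 := hy 0
  have hy1 := hy 1
  rw [zero_add] at hy0
  have e12 : (1 : ℤ) + 1 = 2 := by norm_num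
  rw [e12] at hy1
  have hc1 : ⁅tv (θ • X u x 0) (Ψ u ψ 0) * (tv (θ • X u x 1) (Ψ u ψ 1))⁻¹,
      tv (θ • X u x 1) (Ψ u ψ 1) * (tv (θ • X u x 2) (Ψ u ψ 2))⁻¹⁆ ∈ H := by
    rw [commutatorElement_def]
    exact H.mul_mem (H.mul_mem (H.mul_mem hy0 hy1) (H.inv_mem hy0)) (H.inv_mem hy1)
  have hc2 : ⁅tv (θ • X u x 0) (Ψ u ψ 0) * (tv (θ • X u x 1) (Ψ u ψ 1))⁻¹,
      ⁅tv (θ • X u x 0) (Ψ u ψ 0) * (tv (θ • X u x 1) (Ψ u ψ 1))⁻¹,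
      tv (θ • X u x 1) (Ψ u ψ 1) * (tv (θ • X u x 2) (Ψ u ψ 2))⁻¹⁆⁆ ∈ H := by
    rw [commutatorElement_def]
    exact H.mul_mem (H.mul_mem (H.mul_mem hy0 hc1) (H.inv_mem hy0)) (H.inv_mem hc1)
  rw [key, Ψ_zero] at hc2
  exact hc2

end Cfsg.Agent.Helper46.SlnG
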