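import Mathlib
import Cfsg.Agent.Helper46.SlnDefs

/-!
# S2279 piece (G34): one step up, one step down
-/

set_option autoImplicit false

open Matrix Matrix.SpecialLinearGroup
open scoped commutatorElement
open Cfsg.Agent.Helper46.Sln

namespace Cfsg.Agent.Helper46.SlnG

variable {n : ℕ} {K : Type*} [Field K] (u : SpecialLinearGroup (Fin n) K) (x ψ : Fin n → K) (θ : K)
  (H : Subgroup (SpecialLinearGroup (Fin n) K))

theorem dot_X (d : ℤ) : ψ ⬝ᵥ X u x d = pr u x ψ d := rfl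

/-- (G4) one step down -/
theorem step_down (hu : u ∈ H) (N m k : ℤ) (s₁ s₂ : K)
    (hN : pr u x ψ N = 0) (hm : pr u x ψ m = 0) (hmk : pr u x ψ (m - k) = 0)
    (h₁ : tv (s₁ • X u x N) ψ ∈ H) (h₂ : tv (s₂ • X u x m) ψ ∈ H) :
    tv ((pr u x ψ (N + k) * s₁ * s₂) • X u x (m - k)) ψ ∈ H := by
  have hconj := conj_zpow_tv u x ψ s₂ 0 m (-k) (by rw [sub_zero]; exact hm)
  rw [Ψ_zero, zero_add] at hconj
  have e1 : m + -k = m - k := by ring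
  rw [e1] at hconj
  have h₂' : tv (s₂ • X u x (m - k)) (Ψ u ψ (-k)) ∈ H := by
    rw [← hconj]
    exact H.mul_mem (H.mul_mem (H.zpow_mem hu _) h₂) (H.inv_mem (H.zpow_mem hu _))
  have ha : Ψ u ψ (-k) ⬝ᵥ (s₂ • X u x (m - k)) = 0 := by
    rw [dotProduct_smul, Ψ_dot_X]
    have : m - k - -k = m := by ring
    rw [this, hm, smul_zero]
  have hb : ψ ⬝ᵥ (s₁ • X u x N) = 0 := by
    rw [dotProduct_smul, dot_X, hN, smul_zero]
  have hνa : ψ ⬝ᵥ (s₂ • X u x (m - k)) = 0 := by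
    rw [dotProduct_smul, dot_X, hmk, smul_zero]
  have hc : ⁅tv (s₂ • X u x (m - k)) (Ψ u ψ (-k)), tv (s₁ • X u x N) ψ⁆ ∈ H := by
    rw [commutatorElement_def]
    exact H.mul_mem (H.mul_mem (H.mul_mem h₂' h₁) (H.inv_mem h₂')) (H.inv_mem h₁)
  rw [comm_tv ha hb hνa] at hc
  convert hc using 2
  rw [dotProduct_smul, Ψ_dot_X, smul_smul, smul_eq_mul]
  have : N - -k = N + k := by ring
  rw [this]
  congr 1
  ring

/-- (G3) one step up -/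
theorem step_up (h0 : pr u x ψ 0 = 0) (h1 : pr u x ψ 1 = 0)
    (hy : ∀ j : ℤ, tv (θ • X u x j) (Ψ u ψ j) * (tv (θ • X u x (j + 1)) (Ψ u ψ (j + 1)))⁻¹ ∈ H)
    (k : ℤ) (s : K) (hk0 : pr u x ψ k = 0) (hk1 : pr u x ψ (k + 1) = 0)
    (hs : tv (s • X u x k) ψ ∈ H) :
    tv ((-(pr u x ψ (-1) * θ * s)) • X u x (k + 1)) ψ ∈ H := by
  -- pairings
  have hgk : Ψ u ψ k ⬝ᵥ (θ • X u x k) = 0 := by
    rw [dotProduct_smul, Ψ_dot_X, sub_self, h0, smul_zero]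
  have hgk1 : Ψ u ψ (k + 1) ⬝ᵥ (θ • X u x (k + 1)) = 0 := by
    rw [dotProduct_smul, Ψ_dot_X, sub_self, h0, smul_zero]
  have hgk1' : Ψ u ψ (k + 1) ⬝ᵥ (-(θ • X u x (k + 1))) = 0 := by
    rw [dotProduct_neg, hgk1, neg_zero]
  have hgk' : Ψ u ψ k ⬝ᵥ (-(θ • X u x k)) = 0 := by
    rw [dotProduct_neg, hgk, neg_zero]
  have hτ : ψ ⬝ᵥ (s • X u x k) = 0 := by
    rw [dotProduct_smul, dot_X, hk0, smul_zero]
  set y := tv (θ • X u x k) (Ψ u ψ k) * (tv (θ • X u x (k + 1)) (Ψ u ψ (k + 1)))⁻¹ with hydef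
  have hyH : y ∈ H := hy k
  have hyinv : y⁻¹ = tv (θ • X u x (k + 1)) (Ψ u ψ (k + 1)) * (tv (θ • X u x k) (Ψ u ψ k))⁻¹ := by
    rw [hydef, _root_.mul_inv_rev, inv_inv]
  -- y acting on s • X k
  have hyv : (y : Matrix (Fin n) (Fin n) K) *ᵥ (s • X u x k) =
      s • X u x k + (-(pr u x ψ (-1) * θ * s)) • X u x (k + 1) := by
    rw [hydef, coe_mul, ← mulVec_mulVec, tv_inv hgk1, tv_mulVec hgk1', tv_mulVec hgk]
    have e1 : Ψ u ψ (k + 1) ⬝ᵥ (s • X u x k) = s * pr u x ψ (-1) := by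
      rw [dotProduct_smul, Ψ_dot_X, smul_eq_mul]
      congr 2; ring
    have e2 : Ψ u ψ k ⬝ᵥ (s • X u x k + (s * pr u x ψ (-1)) • -(θ • X u x (k + 1))) = 0 := by
      rw [dotProduct_add, dotProduct_smul, dotProduct_smul, dotProduct_neg, dotProduct_smul,
        Ψ_dot_X, Ψ_dot_X, sub_self, h0]
      have : k + 1 - k = 1 := by ring
      rw [this, h1]
      simp
    rw [e1, e2, zero_smul, add_zero, smul_neg, smul_smul, neg_smul]
    have e3 : s * pr u x ψ (-1) * θ = pr u x ψ (-1) * θ * s := by ring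
    rw [e3]
  -- ψ is fixed by y⁻¹
  have hψy : ψ ᵥ* ((y⁻¹ : SpecialLinearGroup (Fin n) K) : Matrix (Fin n) (Fin n) K) = ψ := by
    rw [hyinv, coe_mul, ← vecMul_vecMul, tv_inv hgk, vecMul_tv hgk1, vecMul_tv hgk']
    have e1 : ψ ⬝ᵥ (θ • X u x (k + 1)) = 0 := by
      rw [dotProduct_smul, dot_X, hk1, smul_zero]
    rw [e1, zero_smul, add_zero]
    have e2 : ψ ⬝ᵥ (-(θ • X u x k)) = 0 := by
      rw [dotProduct_neg, dotProduct_smul, dot_X, hk0, smul_zero, neg_zero]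
    rw [e2, zero_smul, add_zero]
  have hc : y * tv (s • X u x k) ψ * y⁻¹ * (tv (s • X u x k) ψ)⁻¹ ∈ H :=
    H.mul_mem (H.mul_mem (H.mul_mem hyH hs) (H.inv_mem hyH)) (H.inv_mem hs)
  rw [conj_tv y hτ, hyv, hψy, tv_inv hτ] at hc
  have hτ' : ψ ⬝ᵥ (-(s • X u x k)) = 0 := by rw [dotProduct_neg, hτ, neg_zero]
  have hsum : ψ ⬝ᵥ (s • X u x k + (-(pr u x ψ (-1) * θ * s)) • X u x (k + 1)) = 0 := by
    rw [dotProduct_add, hτ, dotProduct_smul, dot_X, hk1, smul_zero, add_zero]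
  rw [tv_mul_tv_axis hsum hτ'] at hc
  convert hc using 2
  abel

end Cfsg.Agent.Helper46.SlnG
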