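import Mathlib
import Cfsg.Agent.Helper46.SlnDefs

/-!
# S2279 piece (TRI-1) (owner's fallback copy): the triangular pattern gives a dual family
-/

set_option autoImplicit false
set_option linter.unusedSimpArgs false
set_option linter.unusedVariables false

open Matrix Matrix.SpecialLinearGroup
open Cfsg.Agent.Helper46.Sln

namespace Cfsg.Agent.Helper46.SlnTri1

theorem exists_dual {n : ℕ} {K : Type*} [Field K] (hn : 3 ≤ n) (w φ : ℕ → Fin n → K)
    (hzero : ∀ i j, i < n → j < n → i ≤ j → ¬ (i = 0 ∧ j = n - 1) → φ i ⬝ᵥ w j = 0)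
    (hsub : ∀ i, 1 ≤ i → i < n → φ i ⬝ᵥ w (i - 1) ≠ 0)
    (hcorner : φ 0 ⬝ᵥ w (n - 1) ≠ 0) :
    ∃ v : ℕ → Fin n → K,
      (∀ j k, j < n → k < n → v k ⬝ᵥ w j = if j = k then 1 else 0) ∧
      (∀ μ : Fin n → K, μ = ∑ k ∈ Finset.range n, (μ ⬝ᵥ w k) • v k) := by
  set W : Matrix (Fin n) (Fin n) K := Matrix.of fun i j => w (j : ℕ) i with hW
  -- pairing of a functional with `W c`
  have hpair : ∀ (ψ : Fin n → K) (c : Fin n → K),
      ψ ⬝ᵥ (W *ᵥ c) = ∑ j : Fin n, (ψ ⬝ᵥ w (j : ℕ)) * c j := by
    intro ψ c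
    rw [dotProduct_mulVec]
    unfold dotProduct
    apply Finset.sum_congr rfl
    intro j _
    congr 1
  -- injectivity
  have hinj : Function.Injective W.mulVec := by
    intro c c' hcc
    have hd : W *ᵥ (c - c') = 0 := by rw [mulVec_sub, hcc, sub_self]
    suffices hz : c - c' = 0 by exact sub_eq_zero.1 hz
    set d := c - c' with hdd
    have hS : ∀ i : ℕ, ∑ j : Fin n, (φ i ⬝ᵥ w (j : ℕ)) * d j = 0 := by
      intro i
      rw [← hpair, hd, dotProduct_zero]
    -- the last coordinate
    have hlast : d ⟨n - 1, by omega⟩ = 0 := by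
      have h0 := hS 0
      rw [Finset.sum_eq_single (⟨n - 1, by omega⟩ : Fin n)] at h0
      · rcases mul_eq_zero.1 h0 with h | h
        · exact absurd h hcorner
        · exact h
      · intro j _ hj
        rw [hzero 0 j (by omega) j.isLt (Nat.zero_le _) ?_, zero_mul]
        rintro ⟨_, hj'⟩
        exact hj (Fin.ext hj')
      · simp
    -- the other coordinates
    have hrest : ∀ m : ℕ, ∀ hm : m < n - 1, d ⟨m, by omega⟩ = 0 := by
      intro m
      induction m using Nat.strong_induction_on with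
      | _ m ih =>
        intro hm
        have h1 := hS (m + 1)
        rw [Finset.sum_eq_single (⟨m, by omega⟩ : Fin n)] at h1
        · rcases mul_eq_zero.1 h1 with h | h
          · exact absurd h (hsub (m + 1) (by omega) (by omega))
          · exact h
        · intro j _ hj
          have hjm : (j : ℕ) ≠ m := fun hh => hj (Fin.ext hh)
          rcases Nat.lt_or_ge (j : ℕ) m with hlt | hge
          · have := ih (j : ℕ) hlt (by omega)
            have e : (⟨(j : ℕ), by omega⟩ : Fin n) = j := Fin.ext rfl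
            rw [e] at this
            rw [this, mul_zero]
          · rw [hzero (m + 1) j (by omega) j.isLt (by omega) (by omega), zero_mul]
        · simp
    funext j
    rcases Nat.lt_or_ge (j : ℕ) (n - 1) with hlt | hge
    · have := hrest (j : ℕ) hlt
      have e : (⟨(j : ℕ), by omega⟩ : Fin n) = j := Fin.ext rfl
      rw [e] at this
      rw [this]; rfl
    · have e : (⟨n - 1, by omega⟩ : Fin n) = j := Fin.ext (by have := j.isLt; simp; omega)
      rw [e] at hlast
      rw [hlast]; rfl
  have hunit : IsUnit W := Matrix.mulVec_injective_iff_isUnit.1 hinj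
  have hdet : IsUnit W.det := (Matrix.isUnit_iff_isUnit_det W).1 hunit
  have hWV : W * W⁻¹ = 1 := Matrix.mul_nonsing_inv W hdet
  have hVW : W⁻¹ * W = 1 := Matrix.nonsing_inv_mul W hdet
  refine ⟨fun k => if hk : k < n then fun i => W⁻¹ ⟨k, hk⟩ i else 0, ?_, ?_⟩
  · intro j k hj hk
    simp only [dif_pos hk]
    have := congrFun (congrFun hVW ⟨k, hk⟩) ⟨j, hj⟩
    rw [Matrix.mul_apply, Matrix.one_apply] at this
    simp only [hW, Matrix.of_apply] at this
    unfold dotProduct
    rw [this]
    by_cases hjk : j = k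
    · rw [if_pos hjk, if_pos (Fin.ext hjk.symm)]
    · rw [if_neg hjk, if_neg]
      intro hh
      exact hjk (Fin.ext_iff.1 hh).symm
  · intro μ
    rw [Finset.sum_range (fun k => (μ ⬝ᵥ w k) • (if hk : k < n then fun i => W⁻¹ ⟨k, hk⟩ i else 0))]
    have e1 : μ = (μ ᵥ* W) ᵥ* W⁻¹ := by
      rw [vecMul_vecMul, hWV, vecMul_one]
    conv_lhs => rw [e1]
    funext i
    simp only [vecMul, dotProduct, Finset.sum_apply, Pi.smul_apply, smul_eq_mul]
    apply Finset.sum_congr rfl
    intro k _
    rw [dif_pos k.isLt]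
    simp only [hW, Matrix.of_apply]
end Cfsg.Agent.Helper46.SlnTri1
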