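import Mathlib
import Cfsg.Agent.Helper46.SlnDefs
import Cfsg.Agent.Helper5.SLn

/-!
# S2279 piece (TRI-3) (owner's fallback copy): full root groups for a basis and its dual basis
generate `SL_n`
-/

set_option autoImplicit false
set_option linter.unusedSimpArgs false
set_option linter.unusedVariables false

open Matrix Matrix.SpecialLinearGroup
open scoped commutatorElement
open Cfsg.Agent.Helper46.Sln

namespace Cfsg.Agent.Helper46.SlnTri3

variable {n : ℕ} {K : Type*} [Field K]

/-- conjugation by a pair of mutually inverse matrices, as a map `SL_n → SL_n` -/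
def conjBy (W V : Matrix (Fin n) (Fin n) K) (hWV : W * V = 1)
    (g : SpecialLinearGroup (Fin n) K) : SpecialLinearGroup (Fin n) K :=
  ⟨W * (g : Matrix (Fin n) (Fin n) K) * V, by
    rw [det_mul, det_mul, g.2, mul_one, ← det_mul, hWV, det_one]⟩

theorem coe_conjBy (W V : Matrix (Fin n) (Fin n) K) (hWV : W * V = 1)
    (g : SpecialLinearGroup (Fin n) K) :
    ((conjBy W V hWV g : SpecialLinearGroup (Fin n) K) : Matrix (Fin n) (Fin n) K) =
      W * (g : Matrix (Fin n) (Fin n) K) * V := rfl

/-- `conjBy` as a monoid homomorphism -/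
def conjHom (W V : Matrix (Fin n) (Fin n) K) (hWV : W * V = 1) (hVW : V * W = 1) :
    SpecialLinearGroup (Fin n) K →* SpecialLinearGroup (Fin n) K where
  toFun := conjBy W V hWV
  map_one' := by
    apply sl_ext
    rw [coe_conjBy, coe_one, Matrix.mul_one, hWV]
  map_mul' := by
    intro g₁ g₂
    apply sl_ext
    rw [coe_mul, coe_conjBy, coe_conjBy, coe_conjBy, coe_mul]
    calc W * ((g₁ : Matrix (Fin n) (Fin n) K) * (g₂ : Matrix (Fin n) (Fin n) K)) * V
        = W * (g₁ : Matrix (Fin n) (Fin n) K) * 1 * (g₂ : Matrix (Fin n) (Fin n) K) * V := by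
          rw [Matrix.mul_one]; simp only [Matrix.mul_assoc]
      _ = W * (g₁ : Matrix (Fin n) (Fin n) K) * V * (W * (g₂ : Matrix (Fin n) (Fin n) K) * V) := by
          rw [← hVW]; simp only [Matrix.mul_assoc]

theorem eq_top_of_full_dual (hn : 2 ≤ n)
    (H : Subgroup (SpecialLinearGroup (Fin n) K)) (w v : ℕ → Fin n → K)
    (hdual : ∀ j k, j < n → k < n → v k ⬝ᵥ w j = if j = k then 1 else 0)
    (h : ∀ j k, j < n → k < n → j ≠ k → Full H (w j) (v k)) : H = ⊤ := by
  haveI : Nontrivial (Fin n) := Fin.nontrivial_iff_two_le.2 hn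
  set W : Matrix (Fin n) (Fin n) K := Matrix.of fun i j => w (j : ℕ) i with hW
  set V : Matrix (Fin n) (Fin n) K := Matrix.of fun k i => v (k : ℕ) i with hV
  have hVW : V * W = 1 := by
    ext k j
    rw [Matrix.mul_apply, Matrix.one_apply]
    have := hdual j k j.isLt k.isLt
    simp only [dotProduct] at this
    simp only [hW, hV, Matrix.of_apply]
    rw [this]
    by_cases hkj : k = j
    · rw [if_pos hkj, if_pos (by rw [hkj])]
    · rw [if_neg hkj, if_neg]
      intro hjk
      exact hkj (Fin.ext hjk.symm)
  have hWV : W * V = 1 := mul_eq_one_comm.1 hVW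
  -- the comap of `H` contains all transvections
  have hall : ∀ g : SpecialLinearGroup (Fin n) K, conjHom W V hWV hVW g ∈ H := by
    have htop : H.comap (conjHom W V hWV hVW) = ⊤ := by
      rw [eq_top_iff, ← Cfsg.Agent.Helper5.closure_transvection_eq_top, Subgroup.closure_le]
      rintro M ⟨i, j, hij, a, rfl⟩
      show conjHom W V hWV hVW (transvection hij a) ∈ H
      have hij' : (i : ℕ) ≠ (j : ℕ) := fun hh => hij (Fin.ext hh)
      have hF := h i j i.isLt j.isLt hij'
      have hmem := hF.2 a
      convert hmem using 1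
      apply sl_ext
      have hs : v (j : ℕ) ⬝ᵥ (a • w (i : ℕ)) = 0 := by
        rw [dotProduct_smul, hF.1, smul_zero]
      rw [coe_tv hs]
      show W * ((transvection hij a : SpecialLinearGroup (Fin n) K) : Matrix (Fin n) (Fin n) K) * V = _
      rw [transvection_coe, Matrix.mul_add, Matrix.add_mul, Matrix.mul_one, hWV]
      congr 1
      ext r s
      simp only [Matrix.mul_apply, Matrix.single_apply, vecMulVec_apply, Pi.smul_apply, smul_eq_mul,
        hW, hV, Matrix.of_apply]
      rw [Finset.sum_eq_single j]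
      · rw [Finset.sum_eq_single i]
        · rw [if_pos ⟨rfl, rfl⟩]; ring
        · intro k _ hk
          simp [hk.symm]
        · simp
      · intro k _ hk
        rw [Finset.sum_eq_zero]
        · simp
        · intro l _
          simp [hk.symm]
      · simp
    intro g
    have : g ∈ H.comap (conjHom W V hWV hVW) := by rw [htop]; exact Subgroup.mem_top g
    exact this
  rw [eq_top_iff]
  intro g _
  have := hall (conjBy V W hVW g)
  convert this using 1
  apply sl_ext
  show (g : Matrix (Fin n) (Fin n) K) = W * (V * (g : Matrix (Fin n) (Fin n) K) * W) * V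
  calc (g : Matrix (Fin n) (Fin n) K) = (W * V) * (g : Matrix (Fin n) (Fin n) K) * (W * V) := by
        rw [hWV, Matrix.one_mul, Matrix.mul_one]
    _ = _ := by simp only [Matrix.mul_assoc]

end Cfsg.Agent.Helper46.SlnTri3
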