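import Mathlib
import Cfsg.Agent.Helper46.SlnDefs
import Cfsg.Agent.Helper46.SlnTri1
import Cfsg.Agent.Helper46.SlnTri3
import Cfsg.Agent.Helper65.SlnTRI2

/-!
# S2279: the triangular-pairing lemma (glue of TRI-1, TRI-2, TRI-3)
-/

set_option autoImplicit false

open Matrix Matrix.SpecialLinearGroup
open scoped commutatorElement
open Cfsg.Agent.Helper46.Sln

namespace Cfsg.Agent.Helper46.SlnTri

theorem eq_top_of_tri {n : ℕ} {K : Type*} [Field K] (hn : 3 ≤ n)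
    (H : Subgroup (SpecialLinearGroup (Fin n) K)) (w φ : ℕ → Fin n → K)
    (hfull : ∀ j, j < n → Full H (w j) (φ j))
    (hzero : ∀ i j, i < n → j < n → i ≤ j → ¬ (i = 0 ∧ j = n - 1) → φ i ⬝ᵥ w j = 0)
    (hsub : ∀ i, 1 ≤ i → i < n → φ i ⬝ᵥ w (i - 1) ≠ 0)
    (hcorner : φ 0 ⬝ᵥ w (n - 1) ≠ 0) : H = ⊤ := by
  obtain ⟨v, hdual, hexp⟩ := Cfsg.Agent.Helper46.SlnTri1.exists_dual hn w φ hzero hsub hcorner
  exact Cfsg.Agent.Helper46.SlnTri3.eq_top_of_full_dual (by omega) H w v hdual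
    (Cfsg.Agent.Helper65.Sln.full_of_tri hn H w φ v hdual hexp hfull hzero hsub hcorner)

end Cfsg.Agent.Helper46.SlnTri
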