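import Mathlib
import Cfsg.Agent.Helper46.SlnG12
import Cfsg.Agent.Helper46.SlnG34
import Cfsg.Agent.Helper46.SlnCI
import Cfsg.Agent.Helper46.SlnTri
import Cfsg.Agent.Helper81.SlnFIELD

/-!
# S2279: assembly of the core theorem from the pieces
-/

set_option autoImplicit false

open Matrix Matrix.SpecialLinearGroup
open scoped commutatorElement
open Cfsg.Agent.Helper46.Sln
open Cfsg.Agent.Helper46.SlnG
open Cfsg.Agent.Helper46.SlnTri

namespace Cfsg.Agent.Helper46.SlnCore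

theorem pm_pow {K : Type*} [CommRing K] (c : K) (hc : c = 1 ∨ c = -1) (j : ℕ) :
    c ^ j = 1 ∨ c ^ j = -1 := by
  rcases hc with rfl | rfl
  · left; simp
  · rcases Nat.even_or_odd j with h | h
    · left; exact h.neg_one_pow
    · right; exact h.neg_one_pow

theorem core {n : ℕ} {K : Type*} [Field K] [Fintype K] (p : ℕ) [Fact p.Prime] [CharP K p]
    (hn : 4 ≤ n)
    (u : SpecialLinearGroup (Fin n) K) (x ψ : Fin n → K) (θ : K) (hθ0 : θ ≠ 0)
    (hθ : Subfield.closure ({θ} : Set K) = ⊤)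
    (hz : ∀ d : ℤ, 0 ≤ d → d ≤ (n : ℤ) - 2 → pr u x ψ d = 0)
    (h1 : pr u x ψ ((n : ℤ) - 1) = 1)
    (hm1 : pr u x ψ (-1) = 1 ∨ pr u x ψ (-1) = -1)
    (a : ℕ)
    (hmix : n = p ^ a ∨ (p ^ a + 3 ≤ n ∧
      ∃ m : ℕ, (m : K) ≠ 0 ∧ pr u x ψ ((n : ℤ) - 1 + ((p ^ a : ℕ) : ℤ)) = (m : K)))
    (H : Subgroup (SpecialLinearGroup (Fin n) K)) (hu : u ∈ H)
    (hv : tv (θ • x) ψ * u * (tv (θ • x) ψ)⁻¹ ∈ H) : H = ⊤ := by
  set ε : K := pr u x ψ (-1) with hε
  have hεε : ε * ε = 1 := by rcases hm1 with h | h <;> rw [h] <;> ring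
  have hε0 : ε ≠ 0 := by
    intro h; rw [h, mul_zero] at hεε; exact zero_ne_one hεε
  have hp0 : pr u x ψ 0 = 0 := hz 0 le_rfl (by omega)
  have hp1 : pr u x ψ 1 = 0 := hz 1 (by norm_num) (by omega)
  have hp2 : pr u x ψ 2 = 0 := hz 2 (by norm_num) (by omega)
  have hy := y_mem u x ψ θ H hp0 hu hv
  have hstart := start_mem' u x ψ θ H Cfsg.Agent.Helper46.SlnCI.comm_identity hp0 hp1 hp2 hy
  rw [← hε, hεε, one_mul] at hstart
  -- climbing
  have climb : ∀ j k : ℕ, k + j = n - 2 → ∀ s : K, tv (s • X u x (k : ℤ)) ψ ∈ H →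
      tv (((-(ε * θ)) ^ j * s) • X u x ((n : ℤ) - 2)) ψ ∈ H := by
    intro j
    induction j with
    | zero =>
      intro k hk s hs
      have : (k : ℤ) = (n : ℤ) - 2 := by omega
      rw [pow_zero, one_mul, ← this]
      exact hs
    | succ j ih =>
      intro k hk s hs
      have h := step_up u x ψ θ H hp0 hp1 hy (k : ℤ) s (hz _ (by omega) (by omega))
        (hz _ (by omega) (by omega)) hs
      have h' := ih (k + 1) (by omega) (-(ε * θ * s)) (by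
        have e : ((k + 1 : ℕ) : ℤ) = (k : ℤ) + 1 := by push_cast; ring
        rw [e]; exact h)
      have e : (-(ε * θ)) ^ (j + 1) * s = (-(ε * θ)) ^ j * -(ε * θ * s) := by ring
      rw [e]; exact h'
  have hN : pr u x ψ ((n : ℤ) - 2) = 0 := hz _ (by omega) le_rfl
  have hdot : ∀ s : K, ψ ⬝ᵥ (s • X u x ((n : ℤ) - 2)) = 0 := by
    intro s
    rw [dotProduct_smul]
    show s • pr u x ψ ((n : ℤ) - 2) = 0
    rw [hN, smul_zero]
  -- the additive subgroup of parameters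
  let S : AddSubgroup K :=
    { carrier := {s | tv (s • X u x ((n : ℤ) - 2)) ψ ∈ H}
      zero_mem' := by
        show tv ((0 : K) • X u x ((n : ℤ) - 2)) ψ ∈ H
        rw [zero_smul, tv_zero_left]; exact H.one_mem
      add_mem' := by
        intro s₁ s₂ h₁ h₂
        show tv ((s₁ + s₂) • X u x ((n : ℤ) - 2)) ψ ∈ H
        have := H.mul_mem h₁ h₂
        rwa [tv_mul_tv_axis (hdot s₁) (hdot s₂), ← add_smul] at this
      neg_mem' := by
        intro s h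
        show tv ((-s) • X u x ((n : ℤ) - 2)) ψ ∈ H
        have := H.inv_mem h
        rwa [tv_inv (hdot s), ← neg_smul] at this }
  have hSmem : ∀ s : K, s ∈ S ↔ tv (s • X u x ((n : ℤ) - 2)) ψ ∈ H := fun s => Iff.rfl
  -- sign removal
  have hsign : ∀ (j : ℕ) (s : K), (-(ε * θ)) ^ j * s ∈ S → θ ^ j * s ∈ S := by
    intro j s h
    have e : (-(ε * θ)) ^ j * s = (-ε) ^ j * (θ ^ j * s) := by
      rw [show -(ε * θ) = (-ε) * θ by ring, mul_pow]; ring
    rw [e] at h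
    have hc : (-ε) = 1 ∨ (-ε) = -1 := by
      rcases hm1 with h' | h'
      · right; show -ε = -1; rw [h']
      · left; show -ε = 1; rw [h']; ring
    rcases pm_pow (-ε) hc j with h' | h'
    · rwa [h', one_mul] at h
    · rw [h', neg_one_mul] at h
      have := S.neg_mem h
      rwa [neg_neg] at this
  -- σ = θ^(n-1) ∈ S
  have hσ : θ ^ (n - 1) ∈ S := by
    have h := climb (n - 4) 2 (by omega) (θ ^ 3) (by exact_mod_cast hstart)
    have h2 := hsign (n - 4) (θ ^ 3) ((hSmem _).2 h)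
    have e : θ ^ (n - 4) * θ ^ 3 = θ ^ (n - 1) := by
      rw [← pow_add]; congr 1; omega
    rwa [e] at h2
  -- general multiplicative closure
  have hgen : ∀ k : ℕ, 1 ≤ k → k + 2 ≤ n → ∀ s₁ ∈ S, ∀ s₂ ∈ S,
      θ ^ k * (pr u x ψ ((n : ℤ) - 2 + (k : ℤ)) * s₁ * s₂) ∈ S := by
    intro k hk1 hk2 s₁ hs₁ s₂ hs₂
    have h := step_down u x ψ H hu ((n : ℤ) - 2) ((n : ℤ) - 2) (k : ℤ) s₁ s₂ hN hN
      (hz _ (by omega) (by omega)) hs₁ hs₂
    have e : (n : ℤ) - 2 - (k : ℤ) = ((n - 2 - k : ℕ) : ℤ) := by omega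
    rw [e] at h
    have h' := climb k (n - 2 - k) (by omega) _ h
    exact hsign k _ ((hSmem _).2 h')
  have hmul : ∀ s₁ ∈ S, ∀ s₂ ∈ S, θ * s₁ * s₂ ∈ S := by
    intro s₁ hs₁ s₂ hs₂
    have h := hgen 1 le_rfl (by omega) s₁ hs₁ s₂ hs₂
    have e : (n : ℤ) - 2 + ((1 : ℕ) : ℤ) = (n : ℤ) - 1 := by push_cast; ring
    rw [e, h1, pow_one, one_mul] at h
    have e2 : θ * (s₁ * s₂) = θ * s₁ * s₂ := by ring
    rwa [e2] at h
  have hStop : S = ⊤ := by
    refine Cfsg.Agent.Helper81.Sln.field_lemma p S θ hθ0 hθ (n - 1) hσ hmul a ?_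
    rcases hmix with h | ⟨h3, m, hm0, hm⟩
    · left; omega
    · right
      refine ⟨m, hm0, fun s₁ hs₁ s₂ hs₂ => ?_⟩
      have h := hgen (p ^ a + 1) (by omega) (by omega) s₁ hs₁ s₂ hs₂
      have e : (n : ℤ) - 2 + ((p ^ a + 1 : ℕ) : ℤ) = (n : ℤ) - 1 + ((p ^ a : ℕ) : ℤ) := by
        push_cast; ring
      rw [e, hm] at h
      have e2 : θ ^ (p ^ a + 1) * ((m : K) * s₁ * s₂) = (m : K) * θ ^ (p ^ a + 1) * s₁ * s₂ := by
        ring
      rwa [e2] at h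
  -- the full central root group
  have hfullN : Full H (X u x ((n : ℤ) - 2)) ψ := by
    refine ⟨?_, fun s => ?_⟩
    · have := hdot 1; rwa [one_smul] at this
    · have : s ∈ S := by rw [hStop]; exact AddSubgroup.mem_top s
      exact (hSmem s).1 this
  -- the triangular family
  refine eq_top_of_tri (by omega) H (fun j => X u x ((n : ℤ) - 2 - (j : ℤ)))
    (fun j => Ψ u ψ (-(j : ℤ))) ?_ ?_ ?_ ?_
  · intro j _
    have hmem : u ^ (-(j : ℤ)) ∈ H := H.zpow_mem hu _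
    have := hfullN.conj hmem
    rw [zpow_mulVec_X] at this
    have e : ψ = Ψ u ψ 0 := (Ψ_zero u ψ).symm
    rw [e, Ψ_vecMul_zpow_inv, zero_add] at this
    have e2 : (n : ℤ) - 2 + -(j : ℤ) = (n : ℤ) - 2 - (j : ℤ) := by ring
    rw [e2] at this
    exact this
  · intro i j hi hj hij hc
    show Ψ u ψ (-(i : ℤ)) ⬝ᵥ X u x ((n : ℤ) - 2 - (j : ℤ)) = 0
    rw [Ψ_dot_X]
    apply hz
    · have : j - i ≤ n - 2 := by
        by_contra hcon
        apply hc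
        constructor <;> omega
      omega
    · omega
  · intro i hi1 hin
    show Ψ u ψ (-(i : ℤ)) ⬝ᵥ X u x ((n : ℤ) - 2 - ((i - 1 : ℕ) : ℤ)) ≠ 0
    rw [Ψ_dot_X]
    have e : (n : ℤ) - 2 - ((i - 1 : ℕ) : ℤ) - -(i : ℤ) = (n : ℤ) - 1 := by omega
    rw [e, h1]
    exact one_ne_zero
  · show Ψ u ψ (-((0 : ℕ) : ℤ)) ⬝ᵥ X u x ((n : ℤ) - 2 - ((n - 1 : ℕ) : ℤ)) ≠ 0
    rw [Ψ_dot_X]
    have e : (n : ℤ) - 2 - ((n - 1 : ℕ) : ℤ) - -((0 : ℕ) : ℤ) = -1 := by omega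
    rw [e]
    exact hε0

end Cfsg.Agent.Helper46.SlnCore
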