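import Mathlib
import Cfsg.Agent.Helper46.SlnDefs
import Cfsg.Agent.Helper83.RegUnip2

/-!
# S2279 pieces (JORD-A), (JORD-B): the Jordan block `J_n`
-/

set_option autoImplicit false
set_option linter.unusedSimpArgs false
set_option linter.unusedVariables false

open Matrix Matrix.SpecialLinearGroup
open scoped commutatorElement
open Cfsg.Agent.Helper46.Sln
open Cfsg.Agent.Helper83.RegUnip

namespace Cfsg.Agent.Helper46.SlnJ

/-- the upper Jordan block `1 + ∑ E_{i,i+1}` -/
def Jmat (n : ℕ) (K : Type*) [CommRing K] : Matrix (Fin n) (Fin n) K :=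
  Matrix.of fun i j => if (j : ℕ) = i ∨ (j : ℕ) = i + 1 then 1 else 0

theorem Jmat_det (n : ℕ) (K : Type*) [CommRing K] : (Jmat n K).det = 1 := by
  rw [Matrix.det_of_isUpperTriangular]
  · apply Finset.prod_eq_one
    intro i _
    simp [Jmat]
  · intro i j hij
    have hij' : (j : ℕ) < (i : ℕ) := hij
    simp only [Jmat, Matrix.of_apply]
    rw [if_neg]
    omega

/-- the Jordan block as an element of `SL_n` -/
def Jn (n : ℕ) (K : Type*) [CommRing K] : SpecialLinearGroup (Fin n) K :=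
  ⟨Jmat n K, Jmat_det n K⟩

/-- last standard basis vector (as a function, no proof of `0 < n` needed) -/
def eLast (n : ℕ) (K : Type*) [CommRing K] : Fin n → K := fun i => if (i : ℕ) + 1 = n then 1 else 0

/-- first standard basis vector -/
def eFirst (n : ℕ) (K : Type*) [CommRing K] : Fin n → K := fun i => if (i : ℕ) = 0 then 1 else 0

theorem coe_Jn (n : ℕ) (K : Type*) [CommRing K] :
    ((Jn n K : SpecialLinearGroup (Fin n) K) : Matrix (Fin n) (Fin n) K) = Jmat n K := rfl

theorem Jmat_eq (n : ℕ) (K : Type*) [Field K] : Jmat n K = 1 + SD n (fun _ => (1 : K)) := by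
  ext i j
  simp only [Jmat, SD, Matrix.of_apply, Matrix.add_apply, Matrix.one_apply, Fin.ext_iff]
  by_cases h1 : (i : ℕ) = j
  · rw [if_pos (Or.inl h1.symm), if_pos h1, if_neg (by omega), add_zero]
  · by_cases h2 : (j : ℕ) = i + 1
    · rw [if_pos (Or.inr h2), if_neg h1, if_pos h2, zero_add]
    · rw [if_neg (by omega), if_neg h1, if_neg h2, add_zero]

theorem Jn_sub_one (n : ℕ) (K : Type*) [Field K] :
    ((Jn n K : SpecialLinearGroup (Fin n) K) : Matrix (Fin n) (Fin n) K) - 1 =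
      SD n (fun _ => (1 : K)) := by
  rw [coe_Jn, Jmat_eq, add_sub_cancel_left]

theorem Jn_nilpotent (n : ℕ) (K : Type*) [Field K] :
    IsNilpotent (((Jn n K : SpecialLinearGroup (Fin n) K) : Matrix (Fin n) (Fin n) K) - 1) := by
  rw [Jn_sub_one]
  exact SD_isNilpotent n _

theorem Jn_pow_ne_zero (n : ℕ) (hn : 1 ≤ n) (K : Type*) [Field K] :
    (((Jn n K : SpecialLinearGroup (Fin n) K) : Matrix (Fin n) (Fin n) K) - 1) ^ (n - 1) ≠ 0 := by
  rw [Jn_sub_one]
  exact SD_pow_ne_zero n hn _ (fun _ _ => one_ne_zero)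

/-- regular unipotency is invariant under conjugation -/
theorem regular_conj {n : ℕ} {K : Type*} [Field K] (u g : SpecialLinearGroup (Fin n) K)
    (h1 : IsNilpotent ((u : Matrix (Fin n) (Fin n) K) - 1))
    (h2 : ((u : Matrix (Fin n) (Fin n) K) - 1) ^ (n - 1) ≠ 0) :
    IsNilpotent (((g * u * g⁻¹ : SpecialLinearGroup (Fin n) K) : Matrix (Fin n) (Fin n) K) - 1) ∧
      (((g * u * g⁻¹ : SpecialLinearGroup (Fin n) K) : Matrix (Fin n) (Fin n) K) - 1) ^ (n - 1) ≠ 0 := by
  have hgi : (g : Matrix (Fin n) (Fin n) K) *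
      ((g⁻¹ : SpecialLinearGroup (Fin n) K) : Matrix (Fin n) (Fin n) K) = 1 := by
    rw [← coe_mul, mul_inv_cancel, coe_one]
  have hig : ((g⁻¹ : SpecialLinearGroup (Fin n) K) : Matrix (Fin n) (Fin n) K) *
      (g : Matrix (Fin n) (Fin n) K) = 1 := by
    rw [← coe_mul, inv_mul_cancel, coe_one]
  have e : ((g * u * g⁻¹ : SpecialLinearGroup (Fin n) K) : Matrix (Fin n) (Fin n) K) - 1 =
      (g : Matrix (Fin n) (Fin n) K) * ((u : Matrix (Fin n) (Fin n) K) - 1) *
        ((g⁻¹ : SpecialLinearGroup (Fin n) K) : Matrix (Fin n) (Fin n) K) := by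
    rw [coe_mul, coe_mul, mul_sub, sub_mul, Matrix.mul_one, hgi]
  have hpow : ∀ k : ℕ, ((g : Matrix (Fin n) (Fin n) K) * ((u : Matrix (Fin n) (Fin n) K) - 1) *
        ((g⁻¹ : SpecialLinearGroup (Fin n) K) : Matrix (Fin n) (Fin n) K)) ^ k =
      (g : Matrix (Fin n) (Fin n) K) * ((u : Matrix (Fin n) (Fin n) K) - 1) ^ k *
        ((g⁻¹ : SpecialLinearGroup (Fin n) K) : Matrix (Fin n) (Fin n) K) := by
    intro k
    induction k with
    | zero => rw [pow_zero, pow_zero, Matrix.mul_one, hgi]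
    | succ k ih =>
      rw [pow_succ, ih, pow_succ]
      have e2 : ((g⁻¹ : SpecialLinearGroup (Fin n) K) : Matrix (Fin n) (Fin n) K) *
          ((g : Matrix (Fin n) (Fin n) K) * (((u : Matrix (Fin n) (Fin n) K) - 1) *
          ((g⁻¹ : SpecialLinearGroup (Fin n) K) : Matrix (Fin n) (Fin n) K))) =
          ((u : Matrix (Fin n) (Fin n) K) - 1) *
          ((g⁻¹ : SpecialLinearGroup (Fin n) K) : Matrix (Fin n) (Fin n) K) := by
        rw [← Matrix.mul_assoc, hig, Matrix.one_mul]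
      simp only [Matrix.mul_assoc]
      rw [e2]
  rw [e]
  constructor
  · obtain ⟨k, hk⟩ := h1
    exact ⟨k, by rw [hpow, hk, Matrix.mul_zero, Matrix.zero_mul]⟩
  · rw [hpow]
    intro h0
    apply h2
    have : ((g⁻¹ : SpecialLinearGroup (Fin n) K) : Matrix (Fin n) (Fin n) K) *
        ((g : Matrix (Fin n) (Fin n) K) * ((u : Matrix (Fin n) (Fin n) K) - 1) ^ (n - 1) *
        ((g⁻¹ : SpecialLinearGroup (Fin n) K) : Matrix (Fin n) (Fin n) K)) *
        (g : Matrix (Fin n) (Fin n) K) = 0 := by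
      rw [h0, Matrix.mul_zero, Matrix.zero_mul]
    rw [← this]
    simp only [Matrix.mul_assoc]
    rw [hig, Matrix.mul_one, ← Matrix.mul_assoc, hig, Matrix.one_mul]

/-! ### (JORD-B) the pairing function of `J_n` -/

/-- `eFirst ⬝ (M eLast)` is the entry `(0, n-1)` -/
theorem eFirst_dot_mulVec_eLast {n : ℕ} (hn : 1 ≤ n) {K : Type*} [CommRing K]
    (M : Matrix (Fin n) (Fin n) K) :
    eFirst n K ⬝ᵥ (M *ᵥ eLast n K) = M ⟨0, by omega⟩ ⟨n - 1, by omega⟩ := by
  unfold dotProduct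
  rw [Finset.sum_eq_single (⟨0, by omega⟩ : Fin n)]
  · simp only [eFirst, if_true, one_mul, mulVec, dotProduct]
    rw [Finset.sum_eq_single (⟨n - 1, by omega⟩ : Fin n)]
    · simp only [eLast]
      rw [if_pos (by show n - 1 + 1 = n; omega), mul_one]
    · intro j _ hj
      simp only [eLast]
      rw [if_neg, mul_zero]
      intro h
      apply hj
      apply Fin.ext
      simp
      omega
    · simp
  · intro i _ hi
    simp only [eFirst]
    rw [if_neg, zero_mul]
    intro h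
    apply hi
    exact Fin.ext h
  · simp

theorem SD_one_pow_apply (n : ℕ) (hn : 1 ≤ n) (K : Type*) [Field K] (k : ℕ) :
    ((SD n (fun _ => (1 : K))) ^ k) ⟨0, by omega⟩ ⟨n - 1, by omega⟩ = if k = n - 1 then 1 else 0 := by
  rw [SD_pow]
  simp only [Matrix.of_apply, zero_add, Finset.prod_const_one]
  by_cases h : k = n - 1
  · rw [if_pos h, if_pos h.symm]
  · rw [if_neg h, if_neg (fun h' => h h'.symm)]

theorem pr_Jn_nat (n : ℕ) (hn : 2 ≤ n) (K : Type*) [Field K] (d : ℕ) :
    pr (Jn n K) (eLast n K) (eFirst n K) (d : ℤ) = (Nat.choose d (n - 1) : K) := by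
  unfold pr X
  rw [eFirst_dot_mulVec_eLast (by omega), zpow_natCast, coe_pow, coe_Jn, Jmat_eq, add_comm,
    (Commute.one_right _).add_pow]
  rw [Matrix.sum_apply]
  have key : ∀ m ∈ Finset.range (d + 1),
      ((SD n (fun _ => (1 : K))) ^ m * 1 ^ (d - m) * ((d.choose m : ℕ) : Matrix (Fin n) (Fin n) K))
        ⟨0, by omega⟩ ⟨n - 1, by omega⟩ = if m = n - 1 then (d.choose m : K) else 0 := by
    intro m _
    rw [one_pow, mul_one, ← nsmul_eq_mul', Matrix.smul_apply, SD_one_pow_apply n (by omega),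
      nsmul_eq_mul]
    split_ifs <;> simp
  rw [Finset.sum_congr rfl key, Finset.sum_ite_eq']
  by_cases h : n - 1 ∈ Finset.range (d + 1)
  · rw [if_pos h]
  · rw [if_neg h, Nat.choose_eq_zero_of_lt, Nat.cast_zero]
    rw [Finset.mem_range] at h
    omega

/-- the inverse matrix from a right inverse -/
theorem coe_inv_eq_of_mul_eq_one {n : ℕ} {K : Type*} [CommRing K]
    (g : SpecialLinearGroup (Fin n) K) (M' : Matrix (Fin n) (Fin n) K)
    (h : (g : Matrix (Fin n) (Fin n) K) * M' = 1) :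
    ((g⁻¹ : SpecialLinearGroup (Fin n) K) : Matrix (Fin n) (Fin n) K) = M' := by
  have h1 : ((g⁻¹ : SpecialLinearGroup (Fin n) K) : Matrix (Fin n) (Fin n) K) *
      (g : Matrix (Fin n) (Fin n) K) = 1 := by
    rw [← coe_mul, inv_mul_cancel, coe_one]
  calc ((g⁻¹ : SpecialLinearGroup (Fin n) K) : Matrix (Fin n) (Fin n) K)
      = ((g⁻¹ : SpecialLinearGroup (Fin n) K) : Matrix (Fin n) (Fin n) K) *
          ((g : Matrix (Fin n) (Fin n) K) * M') := by rw [h, Matrix.mul_one]
    _ = M' := by rw [← Matrix.mul_assoc, h1, Matrix.one_mul]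

theorem pr_Jn_neg_one (n : ℕ) (hn : 2 ≤ n) (K : Type*) [Field K] :
    pr (Jn n K) (eLast n K) (eFirst n K) (-1) = (-1) ^ (n - 1) := by
  unfold pr X
  rw [eFirst_dot_mulVec_eLast (by omega), _root_.zpow_neg_one]
  have hN : (SD n (fun _ => (1 : K))) ^ n = 0 := by
    rw [SD_pow]
    ext i j
    have := j.isLt
    simp only [Matrix.of_apply, Matrix.zero_apply]
    rw [if_neg]
    omega
  have hinv : ((Jn n K : SpecialLinearGroup (Fin n) K) : Matrix (Fin n) (Fin n) K) *
      ∑ k ∈ Finset.range n, (-(SD n (fun _ => (1 : K)))) ^ k = 1 := by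
    rw [coe_Jn, Jmat_eq]
    have := mul_neg_geom_sum (-(SD n (fun _ => (1 : K)))) n
    rw [sub_neg_eq_add, neg_pow, hN, mul_zero, sub_zero] at this
    exact this
  rw [coe_inv_eq_of_mul_eq_one _ _ hinv, Matrix.sum_apply]
  have key : ∀ k ∈ Finset.range n, ((-(SD n (fun _ => (1 : K)))) ^ k) ⟨0, by omega⟩ ⟨n - 1, by omega⟩ =
      if k = n - 1 then (-1) ^ k else 0 := by
    intro k _
    have e : (-(SD n (fun _ => (1 : K)))) ^ k = ((-1 : K) ^ k) • (SD n (fun _ => (1 : K))) ^ k := by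
      rw [← neg_one_smul K (SD n (fun _ => (1 : K))), smul_pow]
    rw [e, Matrix.smul_apply, SD_one_pow_apply n (by omega), smul_eq_mul]
    split_ifs <;> simp
  rw [Finset.sum_congr rfl key, Finset.sum_ite_eq', if_pos (Finset.mem_range.2 (by omega))]

end Cfsg.Agent.Helper46.SlnJ
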