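import Mathlib
import Cfsg.Agent.Helper46.SlnCore
import Cfsg.Agent.Helper46.SlnJord
import Cfsg.Agent.Helper23.SlnLUCAS

/-!
# S2279: final assembly (helper46)
-/

set_option autoImplicit false

open Matrix Matrix.SpecialLinearGroup
open scoped commutatorElement
open Cfsg.Agent.Helper46.Sln
open Cfsg.Agent.Helper46.SlnJ
open Cfsg.Agent.Helper46.SlnCore

namespace Cfsg.Agent.Helper46.SlnFinal

variable {F : Type*} [Field F] [Fintype F]

theorem dot_eFirst_eLast (n : ℕ) (hn : 2 ≤ n) (θ : F) :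
    eFirst n F ⬝ᵥ (θ • eLast n F) = 0 := by
  rw [dotProduct_smul]
  have : eFirst n F ⬝ᵥ eLast n F = 0 := by
    unfold dotProduct eFirst eLast
    apply Finset.sum_eq_zero
    intro i _
    by_cases h : (i : ℕ) = 0
    · rw [if_pos h, if_neg (by omega), mul_zero]
    · rw [if_neg h, zero_mul]
  rw [this, smul_zero]

/-- the arithmetic of the mixing exponent -/
theorem exists_mix (p : ℕ) [Fact p.Prime] (n : ℕ) (hn : 4 ≤ n) :
    ∃ a n' : ℕ, n = p ^ a * n' ∧ ¬ p ∣ n' ∧ (n = p ^ a ∨ p ^ a + 3 ≤ n) := by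
  have hp : p.Prime := Fact.out
  obtain ⟨a, n', hn', hnn⟩ := Nat.exists_eq_pow_mul_and_not_dvd (n := n) (by omega) p hp.ne_one
  refine ⟨a, n', hnn, hn', ?_⟩
  have hP : 1 ≤ p ^ a := Nat.one_le_pow _ _ hp.pos
  rcases Nat.lt_or_ge n' 2 with h | h
  · left
    have : n' = 1 := by
      rcases Nat.eq_zero_or_pos n' with h0 | h0
      · subst h0; simp at hnn; omega
      · omega
    rw [hnn, this, mul_one]
  · right
    rcases Nat.lt_or_ge (p ^ a) 3 with h3 | h3
    · have h12 : p ^ a = 1 ∨ p ^ a = 2 := by omega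
      rcases h12 with h1 | h2
      · rw [h1]; omega
      · -- p = 2, n' odd ≥ 3
        have ha : a ≠ 0 := by
          intro h0; rw [h0, pow_zero] at h2; omega
        have hp2 : p ∣ 2 := by
          rw [← h2]; exact dvd_pow_self p ha
        have hp2' : p = 2 := (Nat.prime_dvd_prime_iff_eq hp Nat.prime_two).1 hp2
        have hn'3 : 3 ≤ n' := by
          by_contra hcon
          have : n' = 2 := by omega
          exact hn' (by rw [this, hp2'])
        rw [hnn, h2]; omega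
    · rw [hnn]; nlinarith

/-- the main generation statement for the pair `(J, t J t⁻¹)` -/
theorem closure_eq_top (n : ℕ) (hn : 4 ≤ n) (θ : F) (hθ0 : θ ≠ 0)
    (hθ : Subfield.closure ({θ} : Set F) = ⊤) :
    Subgroup.closure ({Jn n F, tv (θ • eLast n F) (eFirst n F) * Jn n F *
      (tv (θ • eLast n F) (eFirst n F))⁻¹} : Set (SpecialLinearGroup (Fin n) F)) = ⊤ := by
  obtain ⟨p, hchar⟩ := CharP.exists F
  haveI := hchar
  haveI : Fact p.Prime := ⟨CharP.char_is_prime F p⟩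
  obtain ⟨a, n', hnn, hn', hcase⟩ := exists_mix p n hn
  set H := Subgroup.closure ({Jn n F, tv (θ • eLast n F) (eFirst n F) * Jn n F *
      (tv (θ • eLast n F) (eFirst n F))⁻¹} : Set (SpecialLinearGroup (Fin n) F)) with hH
  have hu : Jn n F ∈ H := Subgroup.subset_closure (by simp)
  have hv : tv (θ • eLast n F) (eFirst n F) * Jn n F * (tv (θ • eLast n F) (eFirst n F))⁻¹ ∈ H :=
    Subgroup.subset_closure (by simp)
  have hprn := pr_Jn_nat n (by omega) F
  refine core p hn (Jn n F) (eLast n F) (eFirst n F) θ hθ0 hθ ?_ ?_ ?_ a ?_ H hu hv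
  · intro d hd0 hd
    obtain ⟨k, rfl⟩ := Int.eq_ofNat_of_zero_le hd0
    rw [hprn, Nat.choose_eq_zero_of_lt (by omega), Nat.cast_zero]
  · have e : (n : ℤ) - 1 = ((n - 1 : ℕ) : ℤ) := by omega
    rw [e, hprn, Nat.choose_self, Nat.cast_one]
  · rw [pr_Jn_neg_one n (by omega) F]
    exact pm_pow (-1) (Or.inr rfl) _
  · rcases hcase with h | h
    · exact Or.inl h
    · right
      refine ⟨h, Nat.choose (n - 1 + p ^ a) (n - 1), ?_, ?_⟩
      · rw [Ne, CharP.cast_eq_zero_iff F p]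
        have := Cfsg.Agent.Helper23.Sln.choose_not_dvd p a n' hn'
        rw [← hnn] at this
        exact this
      · have e : (n : ℤ) - 1 + ((p ^ a : ℕ) : ℤ) = ((n - 1 + p ^ a : ℕ) : ℤ) := by
          push_cast; omega
        rw [e, hprn]

theorem regular_Jn (n : ℕ) (hn : 4 ≤ n) :
    IsNilpotent (((Jn n F : SpecialLinearGroup (Fin n) F) : Matrix (Fin n) (Fin n) F) - 1) ∧
      (((Jn n F : SpecialLinearGroup (Fin n) F) : Matrix (Fin n) (Fin n) F) - 1) ^ (n - 1) ≠ 0 :=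
  ⟨Jn_nilpotent n F, Jn_pow_ne_zero n (by omega) F⟩

theorem exists_gen : ∃ θ : F, θ ≠ 0 ∧ Subfield.closure ({θ} : Set F) = ⊤ := by
  obtain ⟨g, hg⟩ := IsCyclic.exists_monoid_generator (α := Fˣ)
  refine ⟨(g : F), g.ne_zero, ?_⟩
  rw [eq_top_iff]
  intro y _
  by_cases hy : y = 0
  · rw [hy]; exact zero_mem _
  · obtain ⟨k, hk⟩ := (Submonoid.mem_powers_iff _ _).1 (hg (Units.mk0 y hy))
    have : (g : F) ^ k = y := by
      have := congrArg (fun x : Fˣ => (x : F)) hk
      simpa using this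
    rw [← this]
    exact pow_mem (Subfield.subset_closure (Set.mem_singleton _)) k

theorem closure_one_of_prime (hp : (Fintype.card F).Prime) :
    Subfield.closure ({(1 : F)} : Set F) = ⊤ := by
  rw [eq_top_iff]
  intro y _
  let e := ZMod.ringEquivOfPrime F hp rfl
  have : y = ((e.symm y).val : F) := by
    have h1 : e (e.symm y) = y := e.apply_symm_apply y
    haveI : NeZero (Fintype.card F) := ⟨hp.ne_zero⟩
    conv_lhs => rw [← h1, ← ZMod.natCast_zmod_val (e.symm y)]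
    rw [map_natCast]
  rw [this]
  exact natCast_mem _ _

theorem result (n : ℕ) (hn : 4 ≤ n) :
    (∃ u v : Matrix.SpecialLinearGroup (Fin n) F, (IsNilpotent ((u : Matrix (Fin n) (Fin n) F) - 1) ∧ ((u : Matrix (Fin n) (Fin n) F) - 1) ^ (n - 1) ≠ 0) ∧ (IsNilpotent ((v : Matrix (Fin n) (Fin n) F) - 1) ∧ ((v : Matrix (Fin n) (Fin n) F) - 1) ^ (n - 1) ≠ 0) ∧
      Subgroup.closure ({u, v} : Set (Matrix.SpecialLinearGroup (Fin n) F)) = ⊤) ∧
    ((Fintype.card F).Prime → ∃ u g : Matrix.SpecialLinearGroup (Fin n) F, (IsNilpotent ((u : Matrix (Fin n) (Fin n) F) - 1) ∧ ((u : Matrix (Fin n) (Fin n) F) - 1) ^ (n - 1) ≠ 0) ∧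
      Subgroup.closure ({u, g * u * g⁻¹} : Set (Matrix.SpecialLinearGroup (Fin n) F)) = ⊤) := by
  constructor
  · obtain ⟨θ, hθ0, hθ⟩ := exists_gen (F := F)
    refine ⟨Jn n F, tv (θ • eLast n F) (eFirst n F) * Jn n F * (tv (θ • eLast n F) (eFirst n F))⁻¹,
      regular_Jn n hn, ?_, closure_eq_top n hn θ hθ0 hθ⟩
    exact regular_conj _ _ (regular_Jn n hn).1 (regular_Jn n hn).2
  · intro hp
    exact ⟨Jn n F, tv ((1 : F) • eLast n F) (eFirst n F), regular_Jn n hn,
      closure_eq_top n hn 1 one_ne_zero (closure_one_of_prime hp)⟩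

end Cfsg.Agent.Helper46.SlnFinal
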