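import Cfsg.Agent.Helper94.Srg77.Facts9

set_option autoImplicit false
set_option linter.unusedSectionVars false
set_option linter.unusedVariables false

/-!
# S0429 farm (helper94 #15115), leaf (E): `e02` — a vertex off a line has 0 or 2 neighbours on it.
-/

namespace Cfsg.Agent.Helper46.Srg77

open Finset Cfsg.Agent.Helper94.Srg77

variable {V : Type*} [Fintype V] [DecidableEq V] {G : SimpleGraph V} [DecidableRel G.Adj]

/-- for `u` on the line `ℓ`, the sets `cn G u u'` (`u' ∈ ℓ \ {u}`) partition the neighbourhood of `u` -/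
theorem E_partition (h : Hyp G) (f : F4a G) {x y u : V} (hxy : x ≠ y) (nxy : ¬ G.Adj x y)
    (hu : u ∈ line G x y) :
    (∀ u' ∈ (line G x y).erase u, ∀ u'' ∈ (line G x y).erase u, u' ≠ u'' →
      Disjoint (cn G u u') (cn G u u'')) ∧
    ((line G x y).erase u).biUnion (fun u' => cn G u u') = G.neighborFinset u := by
  have hne : ∀ u' ∈ (line G x y).erase u, u ≠ u' ∧ ¬ G.Adj u u' ∧ u' ∈ line G x y := by
    intro u' hu'
    rw [mem_erase] at hu'
    exact ⟨fun e => hu'.1 e.symm, f.line_noEdges hxy nxy u hu u' hu'.2, hu'.2⟩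
  have hdisj : ∀ u' ∈ (line G x y).erase u, ∀ u'' ∈ (line G x y).erase u, u' ≠ u'' →
      Disjoint (cn G u u') (cn G u u'') := by
    intro u' hu' u'' hu'' hneq
    obtain ⟨h1, h2, h3⟩ := hne u' hu'
    obtain ⟨h1', h2', h3'⟩ := hne u'' hu''
    have hl : line G u u' = line G x y := f.line_eq hxy nxy hu h3 h1
    have hm : u'' ∈ mates G u u' := by
      have : u'' ∈ line G u u' := by rw [hl]; exact h3'
      rw [mem_line] at this
      rcases this with e | e | e
      · exact absurd e.symm h1'
      · exact absurd e.symm hneq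
      · exact e
    have hd := (mem_mates.1 hm).2.2.2.2
    rw [disjoint_left]
    intro t ht1 ht2
    have ht3 : t ∈ G.neighborFinset u'' := (G.mem_neighborFinset u'' t).2 (mem_cn.1 ht2).2
    exact (disjoint_left.1 hd) ht3 ht1
  refine ⟨hdisj, ?_⟩
  apply eq_of_subset_of_card_le
  · intro t ht
    rw [mem_biUnion] at ht
    obtain ⟨u', _, ht'⟩ := ht
    exact (G.mem_neighborFinset u t).2 (mem_cn.1 ht').1
  · rw [card_biUnion hdisj, h.deg u]
    have hc : ∀ u' ∈ (line G x y).erase u, (cn G u u').card = 4 := by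
      intro u' hu'
      obtain ⟨h1, h2, _⟩ := hne u' hu'
      exact h.nadj u u' h1 h2
    rw [sum_congr rfl hc, sum_const, card_erase_of_mem hu, f.line_card hxy nxy]
    simp

theorem e02 (h : Hyp G) (f : F4a G) {x y v : V} (hxy : x ≠ y) (nxy : ¬ G.Adj x y)
    (hv : v ∉ line G x y) :
    (G.neighborFinset v ∩ line G x y).card = 0 ∨ (G.neighborFinset v ∩ line G x y).card = 2 := by
  by_cases hemp : G.neighborFinset v ∩ line G x y = ∅
  · left
    rw [hemp, card_empty]
  · right
    obtain ⟨u, hu⟩ := nonempty_iff_ne_empty.2 hemp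
    rw [mem_inter, SimpleGraph.mem_neighborFinset] at hu
    obtain ⟨hvu, hul⟩ := hu
    obtain ⟨hdisj, hunion⟩ := E_partition h f hxy nxy hul
    have hvn : v ∈ G.neighborFinset u := (G.mem_neighborFinset u v).2 hvu.symm
    rw [← hunion, mem_biUnion] at hvn
    obtain ⟨u', hu', hvu'⟩ := hvn
    have hu'l : u' ∈ line G x y := mem_of_mem_erase hu'
    have hu'u : u' ≠ u := ne_of_mem_erase hu'
    have hadj' : G.Adj v u' := (mem_cn.1 hvu').2.symm
    have heq : G.neighborFinset v ∩ line G x y = {u, u'} := by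
      ext t
      rw [mem_inter, SimpleGraph.mem_neighborFinset, mem_insert, mem_singleton]
      constructor
      · rintro ⟨hvt, htl⟩
        by_cases htu : t = u
        · exact Or.inl htu
        · right
          by_contra htu'
          have ht : t ∈ (line G x y).erase u := mem_erase.2 ⟨htu, htl⟩
          have hd := hdisj t ht u' hu' htu'
          have hvt' : v ∈ cn G u t := mem_cn.2 ⟨hvu.symm, hvt.symm⟩
          exact (disjoint_left.1 hd) hvt' hvu'
      · rintro (rfl | rfl)
        · exact ⟨hvu, hul⟩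
        · exact ⟨hadj', hu'l⟩
    rw [heq, card_pair (fun e => hu'u e.symm)]

end Cfsg.Agent.Helper46.Srg77
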