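import Cfsg.Agent.Helper94.Srg77.Facts9

set_option autoImplicit false
set_option linter.unusedSectionVars false
set_option linter.unusedVariables false

/-!
# S0429 farm (helper94 #15115), leaf (LN): `line_card`, `line_noEdges`, `line_eq`.
-/

namespace Cfsg.Agent.Helper46.Srg77

open Finset Cfsg.Agent.Helper94.Srg77

variable {V : Type*} [Fintype V] [DecidableEq V] {G : SimpleGraph V} [DecidableRel G.Adj]

theorem LN_left_not_mem (x y : V) : x ∉ mates G x y := by
  intro hx
  exact (mem_mates.1 hx).1 rfl

theorem LN_right_not_mem (x y : V) : y ∉ mates G x y := by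
  intro hy
  exact (mem_mates.1 hy).2.1 rfl

theorem line_card (h : Hyp G) (f : F3 G) {x y : V} (hxy : x ≠ y) (nxy : ¬ G.Adj x y) :
    (line G x y).card = 5 := by
  unfold line
  rw [card_insert_of_notMem, card_insert_of_notMem (LN_right_not_mem x y), f.card_mates hxy nxy]
  rw [mem_insert]
  rintro (hx | hx)
  · exact hxy hx
  · exact LN_left_not_mem x y hx

theorem line_noEdges (h : Hyp G) (f : F3 G) {x y : V} (hxy : x ≠ y) (nxy : ¬ G.Adj x y) :
    NoEdges G (line G x y) (line G x y) := by
  intro u hu w hw
  rw [mem_line] at hu hw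
  rcases hu with rfl | rfl | hu
  · rcases hw with rfl | rfl | hw
    · exact G.loopless.irrefl _
    · exact nxy
    · exact fun hadj => (mem_mates.1 hw).2.2.1 hadj.symm
  · rcases hw with rfl | rfl | hw
    · exact fun hadj => nxy hadj.symm
    · exact G.loopless.irrefl _
    · exact fun hadj => (mem_mates.1 hw).2.2.2.1 hadj.symm
  · rcases hw with rfl | rfl | hw
    · exact (mem_mates.1 hu).2.2.1
    · exact (mem_mates.1 hu).2.2.2.1
    · exact f.mates_not_adj hxy nxy hu hw

/-- the definition of mates is symmetric in the three vertices -/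
theorem LN_mates_symm {x y z : V} (hxy : x ≠ y) (nxy : ¬ G.Adj x y) (hz : z ∈ mates G x y) :
    y ∈ mates G x z := by
  obtain ⟨h1, h2, h3, h4, h5⟩ := mem_mates.1 hz
  rw [mem_mates]
  refine ⟨fun e => hxy e.symm, fun e => h2 e.symm, fun hadj => nxy hadj.symm,
    fun hadj => h4 hadj.symm, ?_⟩
  rw [disjoint_left]
  intro t ht1 ht2
  rw [SimpleGraph.mem_neighborFinset] at ht1
  rw [mem_cn] at ht2
  have ht3 : t ∈ G.neighborFinset z := (G.mem_neighborFinset z t).2 ht2.2
  have ht4 : t ∈ cn G x y := mem_cn.2 ⟨ht2.1, ht1⟩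
  exact (disjoint_left.1 h5) ht3 ht4

/-- the line through `x` and a further vertex of `line G x y` is `line G x y` -/
theorem LN_claimA (h : Hyp G) (f : F3 G) {x y z : V} (hxy : x ≠ y) (nxy : ¬ G.Adj x y)
    (hz : z ∈ line G x y) (hzx : z ≠ x) : line G x z = line G x y := by
  rw [mem_line] at hz
  rcases hz with rfl | rfl | hz
  · exact absurd rfl hzx
  · rfl
  · obtain ⟨h1, h2, h3, h4, h5⟩ := mem_mates.1 hz
    have hxz : x ≠ z := fun e => h1 e.symm
    have nxz : ¬ G.Adj x z := fun hadj => h3 hadj.symm
    have hy : y ∈ mates G x z := LN_mates_symm hxy nxy hz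
    have hsub : insert y ((mates G x y).erase z) ⊆ mates G x z := by
      intro t ht
      rw [mem_insert] at ht
      rcases ht with rfl | ht
      · exact hy
      · rw [mem_erase] at ht
        exact f.mates_trans hxy nxy hz ht.2 (fun e => ht.1 e.symm)
    have hcard : (insert y ((mates G x y).erase z)).card = 3 := by
      rw [card_insert_of_notMem, card_erase_of_mem hz, f.card_mates hxy nxy]
      intro hy'
      exact LN_right_not_mem x y (mem_of_mem_erase hy')
    have heq : insert y ((mates G x y).erase z) = mates G x z := by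
      apply eq_of_subset_of_card_le hsub
      rw [hcard, f.card_mates hxz nxz]
    ext v
    rw [mem_line, mem_line, ← heq, mem_insert, mem_erase]
    constructor
    · rintro (rfl | rfl | rfl | ⟨_, hv⟩)
      · exact Or.inl rfl
      · exact Or.inr (Or.inr hz)
      · exact Or.inr (Or.inl rfl)
      · exact Or.inr (Or.inr hv)
    · rintro (rfl | rfl | hv)
      · exact Or.inl rfl
      · exact Or.inr (Or.inr (Or.inl rfl))
      · by_cases hvz : v = z
        · exact Or.inr (Or.inl hvz)
        · exact Or.inr (Or.inr (Or.inr ⟨hvz, hv⟩))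

theorem line_eq (h : Hyp G) (f : F3 G) {x y u w : V} (hxy : x ≠ y) (nxy : ¬ G.Adj x y)
    (hu : u ∈ line G x y) (hw : w ∈ line G x y) (huw : u ≠ w) : line G u w = line G x y := by
  by_cases hux : u = x
  · subst hux
    exact LN_claimA h f hxy nxy hw (fun e => huw e.symm)
  · have h1 : line G x u = line G x y := LN_claimA h f hxy nxy hu hux
    have nux : ¬ G.Adj u x := line_noEdges h f hxy nxy u hu x (left_mem_line x y)
    have h2 : line G u x = line G x y := by rw [line_comm]; exact h1
    have hw' : w ∈ line G u x := by rw [h2]; exact hw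
    rw [← h2]
    exact LN_claimA h f hux nux hw' (fun e => huw e.symm)

end Cfsg.Agent.Helper46.Srg77
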