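import Cfsg.Agent.Helper46.Amalgam
import Cfsg.Agent.Lib.Cores

set_option autoImplicit false

namespace Cfsg.Agent.Helper46

open Cfsg

section Basic

variable {G : Type*} [Group G] {p : ℕ}

theorem isSylIn_of_sylow_le (P : Sylow p G) {H : Subgroup G} (h : (P : Subgroup G) ≤ H) :
    IsSylIn p (P : Subgroup G) H :=
  ⟨P.subtype h, Subgroup.map_subgroupOf_eq_of_le h⟩

theorem conj_mem_normalizer_map {Q : Subgroup G} {x n : G}
    (hn : n ∈ Subgroup.normalizer (Q : Set G)) :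
    x * n * x⁻¹ ∈ Subgroup.normalizer ((Q.map (MulAut.conj x).toMonoidHom : Subgroup G) : Set G) := by
  rw [Subgroup.mem_normalizer_iff] at hn ⊢
  intro y
  rw [cg_mem_map_conj, cg_mem_map_conj]
  have := hn (x⁻¹ * y * x)
  rw [this]
  have e : n * (x⁻¹ * y * x) * n⁻¹ = x⁻¹ * (x * n * x⁻¹ * y * (x * n * x⁻¹)⁻¹) * x := by group
  rw [e]

/-- A subgroup with an element of order `p` does not have `p`-rank `≤ 0`. -/
theorem not_pRankLE_zero_of_mem [Fact p.Prime] {Q : Subgroup G} {b : G} (hb : b ∈ Q) (hb1 : b ≠ 1)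
    (hbp : b ^ p = 1) : ¬ PRankLE p 0 Q := by
  intro h
  have hcomm : IsMulCommutative (Subgroup.zpowers (⟨b, hb⟩ : Q)) := inferInstance
  have hexp : ∀ a ∈ Subgroup.zpowers (⟨b, hb⟩ : Q), a ^ p = 1 := by
    rintro _ ⟨k, rfl⟩
    have hb' : (⟨b, hb⟩ : Q) ^ p = 1 := Subtype.ext (by simpa using hbp)
    rw [← zpow_natCast, ← zpow_mul, mul_comm, zpow_mul, zpow_natCast, hb', one_zpow]
  have := h _ hcomm hexp
  rw [pow_zero, Nat.card_zpowers] at this
  have hord : orderOf (⟨b, hb⟩ : Q) = p := by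
    rw [← Subgroup.orderOf_coe]
    exact orderOf_eq_prime hbp hb1
  rw [hord] at this
  have := (Fact.out : p.Prime).one_lt
  omega

theorem exists_mem_of_not_pRankLE_zero {Q : Subgroup G} (h : ¬ PRankLE p 0 Q) :
    ∃ b : G, b ∈ Q ∧ b ≠ 1 ∧ b ^ p = 1 := by
  by_contra hcon
  push Not at hcon
  apply h
  intro A _ hA
  have : ∀ x : A, x = 1 := by
    intro x
    have h1 := hA x x.2
    have h2 : ((x : Q) : G) ^ p = 1 := by
      have := congrArg Subtype.val h1
      simpa using this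
    by_contra hx
    have hx' : ((x : Q) : G) ≠ 1 := by
      intro h3
      apply hx
      apply Subtype.ext
      apply Subtype.ext
      simpa using h3
    exact hcon ((x : Q) : G) (x : Q).2 hx' h2
  have hsub : Subsingleton A := ⟨fun x y => by rw [this x, this y]⟩
  rw [pow_zero]
  exact Finite.card_le_one_iff_subsingleton.2 hsub

/-- A nontrivial finite `p`-group has an element of order `p`. -/
theorem exists_order_p_of_pgroup [Fact p.Prime] {Q : Subgroup G} [Finite Q] (hp : IsPGroup p Q)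
    (hne : Q ≠ ⊥) : ∃ b : G, b ∈ Q ∧ b ≠ 1 ∧ b ^ p = 1 := by
  have hW : omegaOne p Q ≠ ⊥ := fun h => hne (eq_bot_of_omegaOne_eq_bot hp h)
  by_contra hcon
  push Not at hcon
  apply hW
  unfold omegaOne
  rw [eq_bot_iff, Subgroup.closure_le]
  intro x hx
  by_contra hx1
  exact hcon x hx.1 hx1 hx.2

theorem spe_intro {H : Type*} [Group H] (Y : Subgroup H) (hp : p ∣ Nat.card H)
    (hY : Y ≠ ⊤) (P : Sylow p H)
    (hN : ∀ Q : Subgroup H, Q ≤ P → Q ≠ ⊥ → Subgroup.normalizer (Q : Set H) ≤ Y) :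
    IsStronglyPEmbedded p Y := by
  refine ⟨hp, hY, P, ?_⟩
  unfold kGeneratedCore
  apply iSup_le
  rintro ⟨Q, hQP, hQr⟩
  apply hN Q hQP
  rintro rfl
  obtain ⟨b, hb, hb1, _⟩ := exists_mem_of_not_pRankLE_zero hQr
  exact hb1 (Subgroup.mem_bot.1 hb)

theorem spe_elim [Finite G] [Fact p.Prime] {X : Subgroup G} (hX : IsStronglyPEmbedded p X) :
    ∃ P₀ : Sylow p G, (P₀ : Subgroup G) ≤ X ∧ (P₀ : Subgroup G) ≠ ⊥ ∧
      ∀ Q : Subgroup G, Q ≤ X → IsPGroup p Q → Q ≠ ⊥ → Subgroup.normalizer (Q : Set G) ≤ X := by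
  obtain ⟨hpG, _, P₀, hΓ⟩ := hX
  have hP1 : (P₀ : Subgroup G) ≠ ⊥ := by
    intro h
    have h1 := P₀.card_eq_multiplicity
    rw [h, Subgroup.card_bot] at h1
    have : (Nat.card G).factorization p = 0 := by
      by_contra h0
      have : 1 < p ^ (Nat.card G).factorization p := Nat.one_lt_pow h0 (Fact.out : p.Prime).one_lt
      omega
    have hpos : 0 < (Nat.card G).factorization p :=
      (Fact.out : p.Prime).factorization_pos_of_dvd Nat.card_pos.ne' hpG
    omega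
  have hnorm : ∀ Q : Subgroup G, Q ≤ P₀ → Q ≠ ⊥ → Subgroup.normalizer (Q : Set G) ≤ X := by
    intro Q hQ hQ1
    have hQp : IsPGroup p Q := P₀.isPGroup'.to_le hQ
    obtain ⟨b, hb, hb1, hbp⟩ := exists_order_p_of_pgroup hQp hQ1
    refine le_trans ?_ hΓ
    unfold kGeneratedCore
    exact le_iSup (fun Q : {Q : Subgroup G // Q ≤ P₀ ∧ ¬ PRankLE p (1 - 1) Q} =>
      Subgroup.normalizer ((Q : Subgroup G) : Set G)) ⟨Q, hQ, by simpa using not_pRankLE_zero_of_mem hb hb1 hbp⟩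
  have hP₀X : (P₀ : Subgroup G) ≤ X := Subgroup.le_normalizer.trans (hnorm _ le_rfl hP1)
  refine ⟨P₀, hP₀X, hP1, ?_⟩
  intro Q hQX hQp hQ1
  have hP₀syl : IsSylIn p (P₀ : Subgroup G) X := isSylIn_of_sylow_le P₀ hP₀X
  obtain ⟨P', hP', hQP'⟩ := IsSylIn.exists_of_pgroup hQX hQp
  obtain ⟨x, hx, hconj⟩ := hP'.exists_conj hP₀syl
  have hQc : Q.map (MulAut.conj x).toMonoidHom ≤ P₀ := by
    rw [hconj]; exact Subgroup.map_mono hQP'
  have hQc1 : Q.map (MulAut.conj x).toMonoidHom ≠ ⊥ := by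
    intro h
    apply hQ1
    rw [eq_bot_iff]
    intro q hq
    have : (MulAut.conj x) q ∈ Q.map (MulAut.conj x).toMonoidHom := ⟨q, hq, rfl⟩
    rw [h, Subgroup.mem_bot] at this
    rw [Subgroup.mem_bot]
    exact (MulAut.conj x).injective (by rw [this, map_one])
  intro n hn
  have h1 := hnorm _ hQc hQc1 (conj_mem_normalizer_map (x := x) hn)
  have e : n = x⁻¹ * (x * n * x⁻¹) * x := by group
  rw [e]
  exact mul_mem (mul_mem (inv_mem hx) h1) hx


theorem map_subtype_normalizer_le {H : Subgroup G} (Q : Subgroup H) :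
    (Subgroup.normalizer (Q : Set H)).map H.subtype ≤
      Subgroup.normalizer ((Q.map H.subtype : Subgroup G) : Set G) := by
  apply le_normalizer_of_conj_mem
  rintro _ ⟨h, hh, rfl⟩ _ ⟨q, hq, rfl⟩
  exact ⟨h * q * h⁻¹, (Subgroup.mem_normalizer_iff.1 hh q).1 hq, by simp⟩

theorem map_subtype_ne_bot {H : Subgroup G} {Q : Subgroup H} (hQ : Q ≠ ⊥) :
    Q.map H.subtype ≠ ⊥ := by
  intro h
  apply hQ
  rw [eq_bot_iff]
  intro q hq
  have : (q : G) ∈ Q.map H.subtype := ⟨q, hq, rfl⟩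
  rw [h, Subgroup.mem_bot] at this
  rw [Subgroup.mem_bot]
  exact Subtype.ext this

/-- Part (1): strong `p`-embedding passes to `H ∩ X` in `H`. -/
theorem spe_inherit_subgroup [Finite G] [Fact p.Prime] {X : Subgroup G}
    (hX : IsStronglyPEmbedded p X) (H : Subgroup G) (hHX : ¬ H ≤ X)
    (hp : p ∣ Nat.card ↥(H ⊓ X)) : IsStronglyPEmbedded p ((H ⊓ X).subgroupOf H) := by
  obtain ⟨P₀, hP₀X, hP₀1, hB⟩ := spe_elim hX
  have hpH : p ∣ Nat.card H := hp.trans (Subgroup.card_dvd_of_le inf_le_left)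
  have hY : (H ⊓ X).subgroupOf H ≠ ⊤ := by
    intro h
    rw [Subgroup.subgroupOf_eq_top] at h
    exact hHX (h.trans inf_le_right)
  -- a Sylow subgroup R of H ⊓ X
  obtain ⟨R, hR⟩ : ∃ R : Subgroup G, IsSylIn p R (H ⊓ X) := by
    obtain ⟨S⟩ : Nonempty (Sylow p (H ⊓ X : Subgroup G)) := inferInstance
    exact ⟨_, S, rfl⟩
  have hR1 : R ≠ ⊥ := by
    intro h
    have h1 := hR.card
    rw [h, Subgroup.card_bot] at h1
    have hpos : 0 < (Nat.card (H ⊓ X : Subgroup G)).factorization p :=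
      (Fact.out : p.Prime).factorization_pos_of_dvd Nat.card_pos.ne' hp
    have : 1 < p ^ (Nat.card (H ⊓ X : Subgroup G)).factorization p :=
      Nat.one_lt_pow hpos.ne' (Fact.out : p.Prime).one_lt
    omega
  have hRX : R ≤ X := hR.le.trans inf_le_right
  have hRH : R ≤ H := hR.le.trans inf_le_left
  obtain ⟨P, hP, hRP⟩ := IsSylIn.exists_of_pgroup (p := p) hRH hR.isPGroup
  -- the centre of P
  have hPp : IsPGroup p P := hP.isPGroup
  have hP1 : P ≠ ⊥ := fun h => hR1 (eq_bot_iff.2 (h ▸ hRP))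
  set Z : Subgroup G := P ⊓ Subgroup.centralizer (P : Set G) with hZ
  have hZ1 : Z ≠ ⊥ := by
    haveI : Nontrivial ↥P := (Subgroup.nontrivial_iff_ne_bot P).2 hP1
    haveI : Finite ↥P := inferInstance
    have hc : Nontrivial ↥(Subgroup.center ↥P) := hPp.center_nontrivial
    rw [hZ, ← center_map_subtype]
    exact map_subtype_ne_bot ((Subgroup.nontrivial_iff_ne_bot (Subgroup.center ↥P)).1 hc)
  have hZX : Z ≤ X := by
    refine le_trans ?_ (hB R hRX hR.isPGroup hR1)
    refine inf_le_right.trans ((Subgroup.centralizer_le hRP).trans ?_)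
    exact Subgroup.centralizer_le_normalizer (R : Set G)
  have hPX : P ≤ X := by
    refine le_trans ?_ (hB Z hZX (hPp.to_le inf_le_left) hZ1)
    exact centralizer_normalized_of_normalized Subgroup.le_normalizer
  obtain ⟨S, hS⟩ := hP
  apply spe_intro _ hpH hY S
  intro Q hQS hQ1 h hh
  rw [Subgroup.mem_subgroupOf, Subgroup.mem_inf]
  refine ⟨h.2, ?_⟩
  have hQ' : Q.map H.subtype ≤ X := by
    refine le_trans ?_ hPX
    rw [← hS]
    exact Subgroup.map_mono hQS
  have hQp : IsPGroup p (Q.map H.subtype) := by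
    apply hPp.to_le
    rw [← hS]
    exact Subgroup.map_mono hQS
  apply hB _ hQ' hQp (map_subtype_ne_bot hQ1)
  exact map_subtype_normalizer_le Q ⟨h, hh, rfl⟩

theorem dvd_card_of_pgroup_ne_bot [Fact p.Prime] {Q : Subgroup G} (hp : IsPGroup p Q) (hne : Q ≠ ⊥) :
    p ∣ Nat.card Q := by
  rcases hp.card_eq_or_dvd with h | h
  · exact absurd (Subgroup.card_eq_one.1 h) hne
  · exact h

/-- Part (2): strong `p`-embedding passes to `O^{p'}(G) ∩ X`. -/
theorem spe_inherit_pElementClosure [Finite G] [Fact p.Prime] {X : Subgroup G}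
    (hX : IsStronglyPEmbedded p X) :
    IsStronglyPEmbedded p (X.subgroupOf (pElementClosure p (⊤ : Subgroup G))) := by
  obtain ⟨P₀, hP₀X, hP₀1, hB⟩ := spe_elim hX
  have hP₀R : (P₀ : Subgroup G) ≤ pElementClosure p (⊤ : Subgroup G) :=
    le_pElementClosure le_top P₀.isPGroup'
  have hRX : ¬ pElementClosure p (⊤ : Subgroup G) ≤ X := by
    intro hle
    apply hX.2.1
    rw [eq_top_iff]
    intro g _
    have hsyl : IsSylIn p (P₀ : Subgroup G) (pElementClosure p (⊤ : Subgroup G)) :=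
      isSylIn_of_sylow_le P₀ hP₀R
    obtain ⟨r, hr, n, hn, rfl⟩ := hsyl.frattini (H := ⊤) le_top
      (pElementClosure_normalized (p := p) (⊤ : Subgroup G)) (Subgroup.mem_top g)
    exact mul_mem (hle hr) (hB _ hP₀X P₀.isPGroup' hP₀1 hn.2)
  have hp : p ∣ Nat.card ↥(pElementClosure p (⊤ : Subgroup G) ⊓ X) := by
    have h1 : Nat.card (P₀ : Subgroup G) ∣ Nat.card ↥(pElementClosure p (⊤ : Subgroup G) ⊓ X) :=
      Subgroup.card_dvd_of_le (le_inf hP₀R hP₀X)
    exact (dvd_card_of_pgroup_ne_bot P₀.isPGroup' hP₀1).trans h1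
  have := spe_inherit_subgroup hX _ hRX hp
  rwa [Subgroup.inf_subgroupOf_left] at this

/-- Part (3): strong `p`-embedding passes to the quotient by `O_{p'}(G)`. -/
theorem spe_inherit_quotient [Finite G] [Fact p.Prime] {X : Subgroup G}
    (hX : IsStronglyPEmbedded p X) (hne : X ⊔ pPrimeCore p G ≠ ⊤) :
    IsStronglyPEmbedded p (X.map (QuotientGroup.mk' (pPrimeCore p G))) := by
  obtain ⟨P₀, hP₀X, hP₀1, hB⟩ := spe_elim hX
  have hsurj : Function.Surjective (QuotientGroup.mk' (pPrimeCore p G)) :=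
    QuotientGroup.mk'_surjective _
  have hNcop : (Nat.card (pPrimeCore p G)).Coprime p := Cfsg.Agent.Lib.card_pPrimeCore_coprime p
  have hpq : p ∣ Nat.card (G ⧸ pPrimeCore p G) := by
    have h1 := Subgroup.card_eq_card_quotient_mul_card_subgroup (pPrimeCore p G)
    have h2 : p ∣ Nat.card G := hX.1
    rw [h1] at h2
    exact (Nat.Coprime.dvd_mul_right hNcop.symm).1 h2
  have hY : X.map (QuotientGroup.mk' (pPrimeCore p G)) ≠ ⊤ := by
    intro h
    apply hne
    have := Subgroup.comap_map_eq (QuotientGroup.mk' (pPrimeCore p G)) X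
    rw [h, Subgroup.comap_top, QuotientGroup.ker_mk'] at this
    exact this.symm
  apply spe_intro _ hpq hY (P₀.mapSurjective hsurj)
  intro Qb hQb hQb1 gb hgb
  rw [Sylow.coe_mapSurjective] at hQb
  obtain ⟨g, rfl⟩ := hsurj gb
  -- the lift of `Qb`
  have hQmap : ((P₀ : Subgroup G) ⊓ Qb.comap (QuotientGroup.mk' (pPrimeCore p G))).map
      (QuotientGroup.mk' (pPrimeCore p G)) = Qb := by
    apply le_antisymm
    · rintro _ ⟨x, hx, rfl⟩
      exact (Subgroup.mem_inf.1 hx).2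
    · intro q hq
      obtain ⟨x, hx, rfl⟩ := hQb hq
      exact ⟨x, Subgroup.mem_inf.2 ⟨hx, hq⟩, rfl⟩
  set Q : Subgroup G := (P₀ : Subgroup G) ⊓ Qb.comap (QuotientGroup.mk' (pPrimeCore p G)) with hQ
  set L : Subgroup G := Qb.comap (QuotientGroup.mk' (pPrimeCore p G)) with hL
  have hQP₀ : Q ≤ P₀ := inf_le_left
  have hQL : Q ≤ L := inf_le_right
  have hQp : IsPGroup p Q := P₀.isPGroup'.to_le hQP₀
  have hQ1 : Q ≠ ⊥ := by
    intro h
    apply hQb1
    rw [← hQmap, h, Subgroup.map_bot]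
  -- `Q` is a Sylow subgroup of `L`
  obtain ⟨S, hS, hQS⟩ := IsSylIn.exists_of_pgroup (p := p) hQL hQp
  have hSQ : S ≤ Q := by
    intro s hs
    have hsL : s ∈ L := hS.le hs
    have : (QuotientGroup.mk' (pPrimeCore p G)) s ∈ Q.map (QuotientGroup.mk' (pPrimeCore p G)) := by
      rw [hQmap]; exact hsL
    obtain ⟨q, hq, hqs⟩ := this
    have hmem : q⁻¹ * s ∈ pPrimeCore p G := by
      rw [← QuotientGroup.eq_one_iff, QuotientGroup.mk_mul, QuotientGroup.mk_inv]
      have : ((q : G) : G ⧸ pPrimeCore p G) = (s : G ⧸ pPrimeCore p G) := hqs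
      rw [this, inv_mul_cancel]
    have hmemS : q⁻¹ * s ∈ S := mul_mem (inv_mem (hQS hq)) hs
    -- an element of a `p`-group lying in a `p'`-group is trivial
    have h1 : q⁻¹ * s = 1 := by
      obtain ⟨k, hk⟩ := (IsPGroup.iff_orderOf.1 hS.isPGroup) ⟨q⁻¹ * s, hmemS⟩
      rw [Subgroup.orderOf_mk] at hk
      have hd : orderOf (q⁻¹ * s) ∣ Nat.card (pPrimeCore p G) := by
        have := orderOf_dvd_natCard (⟨q⁻¹ * s, hmem⟩ : pPrimeCore p G)
        rwa [Subgroup.orderOf_mk] at this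
      have hc : (orderOf (q⁻¹ * s)).Coprime (Nat.card (pPrimeCore p G)) := by
        rw [hk]
        exact Nat.Coprime.pow_left k hNcop.symm
      have := Nat.Coprime.eq_one_of_dvd hc hd
      exact orderOf_eq_one_iff.1 this
    have : s = q := by
      have := congrArg (fun t => q * t) h1
      simpa using this
    rw [this]; exact hq
  have hSeq : S = Q := le_antisymm hSQ hQS
  rw [hSeq] at hS
  -- `g` normalizes `L`
  have hgL : g ∈ Subgroup.normalizer (L : Set G) := by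
    rw [Subgroup.mem_normalizer_iff]
    intro h
    rw [hL, Subgroup.mem_comap, Subgroup.mem_comap, map_mul, map_mul, map_inv]
    exact Subgroup.mem_normalizer_iff.1 hgb _
  obtain ⟨l, hl, n, hn, rfl⟩ := hS.frattini (H := Subgroup.normalizer (L : Set G))
    Subgroup.le_normalizer le_rfl hgL
  rw [map_mul]
  apply mul_mem
  · exact Subgroup.map_mono hP₀X (hQb hl)
  · exact ⟨n, hB Q (hQP₀.trans hP₀X) hQp hQ1 hn.2, rfl⟩

end Basic

end Cfsg.Agent.Helper46
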