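import Mathlib

set_option autoImplicit false

/-!
# A nilpotent element in a quaternion algebra and half-dimensional kernels

If `i, j` are anticommuting square roots of `-1` in an algebra over a field `K` of odd
characteristic in which `-1 = α² + β²`, then `a = α i + β j + i j` satisfies `a² = 0` and
`a b + b a = 1` for `b = -(1/2) i j`.  Hence on every module `ker a = im a`.
-/

namespace Cfsg.Agent.Helper46.Zn

section Alg

variable {K A : Type*} [Field K] [Ring A] [Algebra K A]

theorem quat_k_sq {i j : A} (hi : i * i = -1) (hj : j * j = -1) (hij : i * j = -(j * i)) :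
    (i * j) * (i * j) = -1 := by
  have h1 : (i * j) * (i * j) = i * (j * i) * j := by noncomm_ring
  have h2 : j * i = -(i * j) := by rw [hij, neg_neg]
  rw [h1, h2]
  have h3 : i * -(i * j) * j = -((i * i) * (j * j)) := by noncomm_ring
  rw [h3, hi, hj]
  noncomm_ring

theorem quat_ik {i j : A} (hi : i * i = -1) :
    i * (i * j) = -j := by
  rw [← mul_assoc, hi]; noncomm_ring

theorem quat_ki {i j : A} (hi : i * i = -1) (hij : i * j = -(j * i)) :
    (i * j) * i = j := by
  have h2 : j * i = -(i * j) := by rw [hij, neg_neg]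
  have h1 : (i * j) * i = i * (j * i) := by noncomm_ring
  rw [h1, h2]
  have h3 : i * -(i * j) = -((i * i) * j) := by noncomm_ring
  rw [h3, hi]; noncomm_ring

theorem quat_jk {i j : A} (hj : j * j = -1) (hij : i * j = -(j * i)) :
    j * (i * j) = i := by
  have h2 : j * i = -(i * j) := by rw [hij, neg_neg]
  have h1 : j * (i * j) = (j * i) * j := by noncomm_ring
  rw [h1, h2]
  have h3 : -(i * j) * j = -(i * (j * j)) := by noncomm_ring
  rw [h3, hj]; noncomm_ring

theorem quat_kj {i j : A} (hj : j * j = -1) :
    (i * j) * j = -i := by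
  rw [mul_assoc, hj]; noncomm_ring

/-- the pure quaternion `α i + β j + i j` squares to zero when `α² + β² = -1` -/
theorem quat_nilpotent {i j : A} (hi : i * i = -1) (hj : j * j = -1) (hij : i * j = -(j * i))
    {α β : K} (h : α ^ 2 + β ^ 2 = -1) :
    (α • i + β • j + i * j) * (α • i + β • j + i * j) = 0 := by
  have hji : j * i = -(i * j) := by rw [hij, neg_neg]
  have hexp : (α • i + β • j + i * j) * (α • i + β • j + i * j) =
      (α * α) • (i * i) + (α * β) • (i * j) + α • (i * (i * j)) +
      ((β * α) • (j * i) + (β * β) • (j * j) + β • (j * (i * j))) +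
      (α • ((i * j) * i) + β • ((i * j) * j) + (i * j) * (i * j)) := by
    simp only [add_mul, mul_add, smul_mul_assoc, mul_smul_comm, smul_add, smul_smul]
    rw [mul_comm β α]
    abel
  rw [hexp, hi, hj, hji, quat_ik hi, quat_ki hi hij, quat_jk hj hij, quat_kj hj,
    quat_k_sq hi hj hij]
  have h2 : (α * α + β * β + 1 : K) = 0 := by linear_combination h
  have h3 : (α * α) • (-1 : A) + (α * β) • (i * j) + α • -j +
      ((β * α) • -(i * j) + (β * β) • (-1 : A) + β • i) + (α • j + β • -i + -1) =
      -((α * α + β * β + 1 : K) • (1 : A)) := by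
    rw [mul_comm β α]
    simp only [smul_neg, add_smul, one_smul]
    abel
  rw [h3, h2, zero_smul, neg_zero]

/-- the anticommutator with `-(1/2) i j` is `1` -/
theorem quat_anticomm {i j : A} (hi : i * i = -1) (hj : j * j = -1) (hij : i * j = -(j * i))
    (α β : K) {c : K} (hc : 2 * c = -1) :
    (α • i + β • j + i * j) * (c • (i * j)) + (c • (i * j)) * (α • i + β • j + i * j) = 1 := by
  have hexp : (α • i + β • j + i * j) * (c • (i * j)) + (c • (i * j)) * (α • i + β • j + i * j) =
      (α * c) • (i * (i * j)) + (β * c) • (j * (i * j)) + c • ((i * j) * (i * j)) +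
      ((c * α) • ((i * j) * i) + (c * β) • ((i * j) * j) + c • ((i * j) * (i * j))) := by
    simp only [add_mul, mul_add, smul_mul_assoc, mul_smul_comm, smul_add, smul_smul]
    rw [mul_comm c α, mul_comm c β]
  rw [hexp, quat_ik hi, quat_ki hi hij, quat_jk hj hij, quat_kj hj, quat_k_sq hi hj hij]
  have h3 : (α * c) • -j + (β * c) • i + c • (-1 : A) + ((c * α) • j + (c * β) • -i + c • (-1 : A)) =
      (-(2 * c) : K) • (1 : A) := by
    rw [mul_comm c α, mul_comm c β]
    simp only [smul_neg, neg_smul, mul_smul, two_mul, add_smul]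
    abel
  rw [h3, hc, neg_neg, one_smul]

end Alg

section Ker

variable {K V : Type*} [Field K] [AddCommGroup V] [Module K V]

theorem ker_eq_range_of_sq_zero {a b : Module.End K V} (ha : a * a = 0) (hab : a * b + b * a = 1) :
    LinearMap.ker a = LinearMap.range a := by
  apply le_antisymm
  · intro v hv
    rw [LinearMap.mem_ker] at hv
    have h1 : (a * b + b * a) v = v := by rw [hab]; rfl
    rw [LinearMap.add_apply, Module.End.mul_apply, Module.End.mul_apply, hv, map_zero,
      add_zero] at h1
    exact ⟨b v, h1⟩
  · rintro _ ⟨w, rfl⟩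
    rw [LinearMap.mem_ker, ← Module.End.mul_apply, ha]
    rfl

theorem card_eq_sq_of_ker_eq_range [Finite V] {a : Module.End K V}
    (h : LinearMap.ker a = LinearMap.range a) :
    Nat.card V = Nat.card (LinearMap.ker a) ^ 2 := by
  have h1 : Nat.card V = Nat.card (V ⧸ LinearMap.ker a) * Nat.card (LinearMap.ker a) := by
    have := (LinearMap.ker a).toAddSubgroup.card_eq_card_quotient_mul_card_addSubgroup
    exact this
  have h2 : Nat.card (V ⧸ LinearMap.ker a) = Nat.card (LinearMap.range a) :=
    Nat.card_congr (a.quotKerEquivRange).toEquiv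
  rw [h1, h2, ← h, sq]

end Ker

end Cfsg.Agent.Helper46.Zn
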