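import Mathlib

set_option autoImplicit false

/-!
# The arithmetic of the exceptional nearfield orders
-/

namespace Cfsg.Agent.Helper46.Zn

theorem not_pow_119 {p j : ℕ} (hp : p.Prime) (h : 119 = p ^ j) : False := by
  have h7 : 7 ∣ p ^ j := by rw [← h]; norm_num
  have h7p : 7 ∣ p := (Nat.Prime.dvd_of_dvd_pow (by norm_num) h7)
  have hp7 : p = 7 := ((Nat.prime_dvd_prime_iff_eq (by norm_num) hp).mp h7p).symm
  subst hp7
  have h17 : 17 ∣ 7 ^ j := by rw [← h]; norm_num
  have := Nat.Prime.dvd_of_dvd_pow (by norm_num) h17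
  omega

theorem arith {p j m ε Q : ℕ} (hp : p.Prime) (hQ : Q = p ^ j) (hε : ε = 1 ∨ ε = 2)
    (hm30 : m.Coprime 30) (hmQ : m ∣ Q - 1) (hcard : ε * (120 * m) + 1 = Q ^ 2) :
    (Q = 11 ∧ ε = 1 ∧ m = 1) ∨ (Q = 29 ∧ ε = 1 ∧ m = 7) ∨ (Q = 59 ∧ ε = 1 ∧ m = 29) := by
  have hm0 : 0 < m := by
    rcases Nat.eq_zero_or_pos m with h | h
    · subst h; simp at hm30
    · exact h
  have hε0 : 0 < ε := by rcases hε with h | h <;> omega
  have hQ2 : 2 ≤ Q := by
    by_contra hlt
    have h1 : Q ≤ 1 := by omega
    have h2 : Q ^ 2 ≤ 1 := by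
      calc Q ^ 2 ≤ 1 ^ 2 := Nat.pow_le_pow_left h1 2
        _ = 1 := by norm_num
    have h3 : 0 < ε * (120 * m) := by positivity
    omega
  obtain ⟨d, hd⟩ := hmQ
  have hQd : Q = m * d + 1 := by omega
  have key : d * (Q + 1) = 120 * ε := by
    have h1 : m * (d * (Q + 1)) = m * (120 * ε) := by
      subst hQd
      nlinarith [hcard]
    exact Nat.eq_of_mul_eq_mul_left hm0 h1
  have hj : j ≠ 0 := by
    rintro rfl
    simp at hQ
    omega
  have hpQ : p ∣ Q := hQ ▸ dvd_pow_self p hj
  have hnp30 : ¬ p ∣ 30 := by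
    intro h
    have h1 : p ∣ ε * (120 * m) :=
      Dvd.dvd.mul_left (Dvd.dvd.mul_right (h.trans (by norm_num : 30 ∣ 120)) m) ε
    have h2 : p ∣ Q ^ 2 := dvd_pow hpQ two_ne_zero
    rw [← hcard] at h2
    have h3 := (Nat.dvd_add_right h1).mp h2
    exact hp.one_lt.ne' (Nat.dvd_one.mp h3)
  have hp30 : p.Coprime 30 := (Nat.Prime.coprime_iff_not_dvd hp).mpr hnp30
  have hQ30 : Q.Coprime 30 := hQ ▸ Nat.Coprime.pow_left j hp30
  have hd0 : 0 < d := by
    rcases Nat.eq_zero_or_pos d with h | h
    · subst h; omega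
    · exact h
  have hQle : Q ≤ 239 := by
    have h1 : Q + 1 ≤ d * (Q + 1) := Nat.le_mul_of_pos_left _ hd0
    rcases hε with h | h <;> omega
  have hdvd : (Q + 1) ∣ 240 := by
    have h1 : (Q + 1) ∣ 120 * ε := Dvd.intro_left d key
    rcases hε with h | h
    · subst h; exact h1.trans (by norm_num)
    · subst h; exact h1.trans (by norm_num)
  have hcases : Q = 7 ∨ Q = 11 ∨ Q = 19 ∨ Q = 23 ∨ Q = 29 ∨ Q = 47 ∨ Q = 59 ∨ Q = 79 ∨
      Q = 119 ∨ Q = 239 := by
    clear key hQd hd hcard hpQ hQ
    interval_cases Q <;> first | omega | (exfalso; revert hQ30; decide) | (exfalso; revert hdvd; decide)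
  rcases hcases with h | h | h | h | h | h | h | h | h | h <;> subst h
  · exfalso; rcases hε with h | h <;> subst h <;> omega
  · left
    rcases hε with h | h <;> subst h
    · have hd10 : d = 10 := by omega
      subst hd10
      exact ⟨rfl, rfl, by omega⟩
    · exfalso
      have hd20 : d = 20 := by omega
      subst hd20; omega
  · exfalso
    rcases hε with h | h <;> subst h
    · have hd' : d = 6 := by omega
      subst hd'
      have hm3 : m = 3 := by omega
      subst hm3; revert hm30; decide
    · have hd' : d = 12 := by omega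
      subst hd'; omega
  · exfalso; rcases hε with h | h <;> subst h <;> omega
  · rcases hε with h | h <;> subst h
    · right; left
      have hd' : d = 4 := by omega
      subst hd'
      exact ⟨rfl, rfl, by omega⟩
    · exfalso
      have hd' : d = 8 := by omega
      subst hd'; omega
  · exfalso; rcases hε with h | h <;> subst h
    · omega
    · have hd' : d = 5 := by omega
      subst hd'; omega
  · rcases hε with h | h <;> subst h
    · right; right
      have hd' : d = 2 := by omega
      subst hd'
      exact ⟨rfl, rfl, by omega⟩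
    · exfalso
      have hd' : d = 4 := by omega
      subst hd'; omega
  · exfalso; rcases hε with h | h <;> subst h
    · omega
    · have hd' : d = 3 := by omega
      subst hd'
      have hm' : m = 26 := by omega
      subst hm'; revert hm30; decide
  · exact (not_pow_119 hp hQ).elim
  · exfalso; rcases hε with h | h <;> subst h
    · omega
    · have hd' : d = 1 := by omega
      subst hd'
      have hm' : m = 238 := by omega
      subst hm'; revert hm30; decide

end Cfsg.Agent.Helper46.Zn
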