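import Mathlib
import Cfsg.Agent.Helper46.ZnA
import Cfsg.Agent.Helper12.NfBasic

set_option autoImplicit false

/-!
# Regular linear groups containing `SL(2,5) × M`

For a linear group `H` over `F_p` that is regular on the nonzero vectors of `V` and contains a copy
`S` of `SL(2,5)` centralized by a subgroup `M`, we have `|V| = Q²` with `Q` a power of `p` and
`|M|` dividing `Q - 1`.
-/

namespace Cfsg.Agent.Helper46.Zn

open Matrix
open Cfsg.Agent.S0684 (fpf_of_reg)
open Cfsg.Agent.Helper12

abbrev SL25 := Matrix.SpecialLinearGroup (Fin 2) (ZMod 5)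

def qI : SL25 := ⟨!![0, 1; -1, 0], by decide⟩
def qJ : SL25 := ⟨!![2, 0; 0, 3], by decide⟩

theorem qJ_sq : qJ * qJ = qI * qI := by decide
theorem qI_qJ : qI * qJ = (qI * qI) * (qJ * qI) := by decide
theorem qI_sq_ne : qI * qI ≠ 1 := by decide
theorem qI_sq_sq : (qI * qI) * (qI * qI) = 1 := by decide

/-- free actions: the order of the group divides the size of the set -/
theorem card_dvd_of_free_action {A X : Type*} [Group A] [MulAction A X]
    (h : ∀ a : A, ∀ x : X, a • x = x → a = 1) : Nat.card A ∣ Nat.card X := by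
  have h' : ∀ x : X, MulAction.stabilizer A x = ⊥ := by
    intro x
    rw [Subgroup.eq_bot_iff_forall]
    intro a ha
    exact h a x (MulAction.mem_stabilizer_iff.mp ha)
  rw [Nat.card_congr (MulAction.selfEquivOrbitsQuotientProd h'), Nat.card_prod]
  exact dvd_mul_left _ _

variable {p : ℕ} [Fact p.Prime] {V : Type*} [AddCommGroup V] [Module (ZMod p) V]

/-- the linear map of an element of `H` -/
def toEnd (H : Subgroup (V ≃ₗ[ZMod p] V)) (h : H) : Module.End (ZMod p) V :=
  ((h : V ≃ₗ[ZMod p] V) : V →ₗ[ZMod p] V)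

theorem toEnd_apply (H : Subgroup (V ≃ₗ[ZMod p] V)) (h : H) (v : V) :
    toEnd H h v = (h : V ≃ₗ[ZMod p] V) v := rfl

theorem toEnd_mul (H : Subgroup (V ≃ₗ[ZMod p] V)) (g h : H) :
    toEnd H (g * h) = toEnd H g * toEnd H h := by
  ext v
  rfl

theorem core [Finite V] [Nontrivial V] (H : Subgroup (V ≃ₗ[ZMod p] V))
    (hreg : ∀ v w : V, v ≠ 0 → w ≠ 0 → ∃! h : H, (h : V ≃ₗ[ZMod p] V) v = w)
    (S M : Subgroup H) (e : S ≃* SL25) (hcomm : ∀ s ∈ S, ∀ x ∈ M, s * x = x * s) :
    ∃ Q j : ℕ, Q = p ^ j ∧ Nat.card V = Q ^ 2 ∧ Nat.card M ∣ Q - 1 := by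
  classical
  -- the quaternion elements
  set I : H := ((e.symm qI : S) : H) with hI
  set J : H := ((e.symm qJ : S) : H) with hJ
  have hIS : I ∈ S := (e.symm qI).2
  have hJS : J ∈ S := (e.symm qJ).2
  have hJJ : J * J = I * I := by
    rw [hI, hJ, ← Subgroup.coe_mul, ← Subgroup.coe_mul, ← map_mul, ← map_mul, qJ_sq]
  have hIJ : I * J = (I * I) * (J * I) := by
    rw [hI, hJ, ← Subgroup.coe_mul, ← Subgroup.coe_mul, ← Subgroup.coe_mul, ← Subgroup.coe_mul,
      ← map_mul, ← map_mul, ← map_mul, ← map_mul, qI_qJ]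
  have hz1 : I * I ≠ 1 := by
    intro h
    apply qI_sq_ne
    have h1 : ((e.symm (qI * qI) : S) : H) = 1 := by rw [map_mul, Subgroup.coe_mul]; exact h
    have h2 : e.symm (qI * qI) = 1 := Subtype.ext h1
    have h3 := congrArg e h2
    rwa [MulEquiv.apply_symm_apply, map_one] at h3
  have hzz : (I * I) * (I * I) = 1 := by
    rw [hI, ← Subgroup.coe_mul, ← Subgroup.coe_mul, ← map_mul, ← map_mul, qI_sq_sq, map_one,
      Subgroup.coe_one]
  have hzneg : ∀ v : V, ((I * I : H) : V ≃ₗ[ZMod p] V) v = -v :=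
    NfBasic.involution_neg H hreg (I * I) hz1 hzz
  -- the operators
  set iL : Module.End (ZMod p) V := toEnd H I with hiL
  set jL : Module.End (ZMod p) V := toEnd H J with hjL
  have hii : iL * iL = -1 := by
    rw [hiL, ← toEnd_mul]
    ext v
    rw [toEnd_apply, hzneg]
    rfl
  have hjj : jL * jL = -1 := by
    rw [hjL, ← toEnd_mul, hJJ]
    ext v
    rw [toEnd_apply, hzneg]
    rfl
  have hij : iL * jL = -(jL * iL) := by
    rw [hiL, hjL, ← toEnd_mul, ← toEnd_mul, hIJ]
    ext v
    rw [toEnd_apply]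
    have : (((I * I) * (J * I) : H) : V ≃ₗ[ZMod p] V) v =
        ((I * I : H) : V ≃ₗ[ZMod p] V) (((J * I : H) : V ≃ₗ[ZMod p] V) v) := rfl
    rw [this, hzneg]
    rfl
  -- the characteristic is odd
  have h2 : (2 : ZMod p) ≠ 0 := by
    intro h
    apply hz1
    apply Subtype.ext
    ext v
    rw [hzneg]
    have h3 : (2 : ZMod p) • v = 0 := by rw [h, zero_smul]
    rw [two_smul] at h3
    have : -v = v := by
      rw [neg_eq_iff_add_eq_zero]; exact h3
    rw [this]; rfl
  obtain ⟨α, β, hαβ⟩ := ZMod.sq_add_sq p (-1)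
  set c : ZMod p := -(2 : ZMod p)⁻¹ with hc
  have hc2 : 2 * c = -1 := by
    rw [hc, mul_neg, mul_inv_cancel₀ h2]
  set a : Module.End (ZMod p) V := α • iL + β • jL + iL * jL with ha
  have haa : a * a = 0 := quat_nilpotent hii hjj hij hαβ
  have hab : a * (c • (iL * jL)) + (c • (iL * jL)) * a = 1 := quat_anticomm hii hjj hij α β hc2
  have hker := ker_eq_range_of_sq_zero haa hab
  have hcardV := card_eq_sq_of_ker_eq_range hker
  refine ⟨Nat.card (LinearMap.ker a), Module.finrank (ZMod p) (LinearMap.ker a), ?_, hcardV, ?_⟩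
  · have := Module.natCard_eq_pow_finrank (K := ZMod p) (V := LinearMap.ker a)
    rwa [Nat.card_zmod] at this
  · -- `M` acts freely on the nonzero vectors of `ker a`
    have hMa : ∀ m : H, m ∈ M → ∀ v : V, a v = 0 → a ((m : V ≃ₗ[ZMod p] V) v) = 0 := by
      intro m hm v hv
      have h1 : toEnd H m * iL = iL * toEnd H m := by
        rw [hiL, ← toEnd_mul, ← toEnd_mul, hcomm I hIS m hm]
      have h2 : toEnd H m * jL = jL * toEnd H m := by
        rw [hjL, ← toEnd_mul, ← toEnd_mul, hcomm J hJS m hm]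
      have h3 : a * toEnd H m = toEnd H m * a := by
        rw [ha]
        simp only [add_mul, mul_add, smul_mul_assoc, mul_smul_comm]
        rw [← h1, ← h2, mul_assoc iL jL, ← h2, ← mul_assoc iL, ← h1, mul_assoc]
      have h4 : a ((m : V ≃ₗ[ZMod p] V) v) = (a * toEnd H m) v := rfl
      rw [h4, h3, Module.End.mul_apply, hv, map_zero]
    let X := {v : V // a v = 0 ∧ v ≠ 0}
    let act : MulAction M X :=
      { smul := fun m x => ⟨((m : H) : V ≃ₗ[ZMod p] V) x.1, hMa m m.2 x.1 x.2.1, fun h0 =>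
          x.2.2 ((LinearEquiv.map_eq_zero_iff _).mp h0)⟩
        one_smul := fun x => Subtype.ext rfl
        mul_smul := fun m n x => Subtype.ext rfl }
    have hfree : ∀ m : M, ∀ x : X, m • x = x → m = 1 := by
      intro m x hx
      have h1 : ((m : H) : V ≃ₗ[ZMod p] V) x.1 = x.1 := congrArg Subtype.val hx
      exact Subtype.ext (fpf_of_reg H hreg (m : H) x.1 x.2.2 h1)
    have hdvd := card_dvd_of_free_action hfree
    have hX : Nat.card X = Nat.card (LinearMap.ker a) - 1 := by
      have e1 : X ≃ {u : LinearMap.ker a // u ≠ 0} :=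
        { toFun := fun x => ⟨⟨x.1, LinearMap.mem_ker.mpr x.2.1⟩, fun h => x.2.2 (by
            have := congrArg Subtype.val h
            exact this)⟩
          invFun := fun u => ⟨u.1.1, LinearMap.mem_ker.mp u.1.2, fun h => u.2 (Subtype.ext h)⟩
          left_inv := fun x => rfl
          right_inv := fun u => rfl }
      rw [Nat.card_congr e1]
      have h3 : Nat.card {u : LinearMap.ker a // u ≠ 0} =
          ({u : LinearMap.ker a | u ≠ 0} : Set _).ncard := by
        rw [← Nat.card_coe_set_eq]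
        rfl
      have h4 : ({u : LinearMap.ker a | u ≠ 0} : Set _) = (Set.univ : Set _) \ {0} := by
        ext x
        simp
      rw [h3, h4, Set.ncard_sdiff_singleton_of_mem (Set.mem_univ _), Set.ncard_univ]
    rwa [hX] at hdvd

end Cfsg.Agent.Helper46.Zn
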